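import Cfsg.Agent.Sigma.DerivedSigma

/-!
B&G 12.17: the action of a complement on `M_σ` and the intersections of `M_σ` with conjugates of `M`.
-/

set_option autoImplicit false
set_option linter.unusedSectionVars false
set_option linter.style.haveILetI false

namespace CfsgLib.SigmaGroups

open CfsgLib.BenderUnique CfsgLib.Uniq
open scoped commutatorElement

universe u

variable {G : Type u} [Group G] [Finite G] {M E : Subgroup G}

theorem le_normalizer_derived_sigma (M : Subgroup G) :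
    M ≤ Subgroup.normalizer ((⁅Cfsg.sigmaCore M, Cfsg.sigmaCore M⁆ : Subgroup G) : Set G) := by
  intro m hm
  rw [Subgroup.mem_normalizer_iff_map_conj_eq, Subgroup.map_commutator,
    Subgroup.mem_normalizer_iff_map_conj_eq.1 (le_normalizer_sigmaCore M hm)]

theorem le_normalizer_commutator_sigma (hE : Cfsg.IsComplIn E (Cfsg.sigmaCore M) M) :
    M ≤ Subgroup.normalizer ((⁅Cfsg.sigmaCore M, E⁆ : Subgroup G) : Set G) := by
  intro m hm
  obtain ⟨e, he, n, hn, rfl⟩ := hE.2.2.2 m hm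
  exact mul_mem (CoprimeAction.le_normalizer_commutator (hE.1.trans (le_normalizer_sigmaCore M)) he)
    (CoprimeAction.self_le_normalizer_commutator hn)

/-- `[M_σ, E] = M_σ`. -/
theorem commutator_sigma_complement (hG : Cfsg.IsMinSimpleOddOrder G) (hM : IsCoatom M)
    (hE : Cfsg.IsComplIn E (Cfsg.sigmaCore M) M) : ⁅Cfsg.sigmaCore M, E⁆ = Cfsg.sigmaCore M := by
  set S := Cfsg.sigmaCore M with hS
  set N := ⁅S, E⁆ with hN
  set D := ⁅S, S⁆ ⊔ N with hD
  have hSM : S ≤ M := Subgroup.map_subtype_le _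
  have hEn : E ≤ Subgroup.normalizer (S : Set G) := hE.1.trans (le_normalizer_sigmaCore M)
  have hNS : N ≤ S := CoprimeAction.commutator_le_of_normalizer hEn
  have hDS : D ≤ S := sup_le (Subgroup.commutator_le_self S) hNS
  have hMD : M ≤ Subgroup.normalizer (D : Set G) := fun m hm => by
    rw [Subgroup.mem_normalizer_iff_map_conj_eq, hD, Subgroup.map_sup,
      Subgroup.mem_normalizer_iff_map_conj_eq.1 (le_normalizer_derived_sigma M hm),
      Subgroup.mem_normalizer_iff_map_conj_eq.1 (le_normalizer_commutator_sigma hE hm)]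
  have hDn : ∀ g ∈ M, ∀ x ∈ D, g * x * g⁻¹ ∈ D := fun g hg x hx =>
    (Subgroup.mem_normalizer_iff.1 (hMD hg) x).1 hx
  have hMd : ⁅M, M⁆ ≤ ⁅E, E⁆ ⊔ D := by
    rw [Subgroup.commutator_le]
    intro a ha b hb
    obtain ⟨e, he, n, hn, rfl⟩ := hE.2.2.2 a ha
    obtain ⟨f, hf, m, hm, rfl⟩ := hE.2.2.2 b hb
    have h0 : ⁅n, f * m⁆ ∈ D := by
      rw [show ⁅n, f * m⁆ = ⁅n, f⁆ * (f * ⁅n, m⁆ * f⁻¹) by simp only [commutatorElement_def]; group]
      exact mul_mem (Subgroup.mem_sup_right (Subgroup.commutator_mem_commutator hn hf))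
        (hDn f (hE.1 hf) _ (Subgroup.mem_sup_left (Subgroup.commutator_mem_commutator hn hm)))
    have h1 : e * ⁅n, f * m⁆ * e⁻¹ ∈ D := hDn e (hE.1 he) _ h0
    have h2 : f * ⁅m, e⁆⁻¹ * f⁻¹ ∈ D :=
      hDn f (hE.1 hf) _ (inv_mem (Subgroup.mem_sup_right (Subgroup.commutator_mem_commutator hm he)))
    have h3 : ⁅e * n, f * m⁆ = (e * ⁅n, f * m⁆ * e⁻¹) * ⁅e, f⁆ * (f * ⁅m, e⁆⁻¹ * f⁻¹) := by
      simp only [commutatorElement_def]
      group
    rw [h3]
    exact mul_mem (mul_mem (Subgroup.mem_sup_right h1)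
      (Subgroup.mem_sup_left (Subgroup.commutator_mem_commutator he hf))) (Subgroup.mem_sup_right h2)
  have hSd : S ≤ ⁅M, M⁆ := by
    rw [← Subgroup.map_subtype_commutator]
    exact Subgroup.map_mono (piCore_le_commutator hG hM (subset_refl _))
  have hSD : S ≤ D := fun x hx => by
    have hx' : x ∈ (↑(D ⊔ ⁅E, E⁆) : Set G) := by rw [sup_comm]; exact hMd (hSd hx)
    rw [Subgroup.coe_mul_of_right_le_normalizer_left D ⁅E, E⁆
      (((Subgroup.commutator_le_self E).trans hE.1).trans hMD)] at hx'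
    obtain ⟨d, hd, e, he, rfl⟩ := Set.mem_mul.1 hx'
    have h1 : e ∈ E ⊓ S := ⟨Subgroup.commutator_le_self E he, by
      have := mul_mem (inv_mem (hDS hd)) hx
      rwa [inv_mul_cancel_left] at this⟩
    rw [hE.2.2.1, Subgroup.mem_bot] at h1
    rw [h1, mul_one]
    exact hd
  refine le_antisymm hNS ?_
  by_contra hlt
  haveI : (N.subgroupOf S).Normal :=
    Subgroup.normal_subgroupOf_of_le_normalizer (hSM.trans (le_normalizer_commutator_sigma hE))
  haveI : Group.IsSolvable ↥S :=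
    isSolvable_of_ne_top hG fun h => hM.1 (top_unique (h.symm.trans_le hSM))
  haveI : Nontrivial (↥S ⧸ N.subgroupOf S) :=
    QuotientGroup.nontrivial_iff.2 fun h => hlt (Subgroup.subgroupOf_eq_top.1 h)
  refine (Group.IsSolvable.commutator_lt_top_of_nontrivial (↥S ⧸ N.subgroupOf S)).ne ?_
  refine top_unique fun q _ => ?_
  obtain ⟨x, rfl⟩ := QuotientGroup.mk'_surjective _ q
  have hx' : (x : G) ∈ (↑(⁅S, S⁆ ⊔ N) : Set G) := hSD x.2
  rw [sup_comm, Subgroup.coe_mul_of_right_le_normalizer_left N ⁅S, S⁆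
    ((Subgroup.commutator_le_self S).trans (hSM.trans (le_normalizer_commutator_sigma hE)))] at hx'
  obtain ⟨n, hn, d, hd, hnd⟩ := Set.mem_mul.1 hx'
  rw [SetLike.mem_coe, ← Subgroup.map_subtype_commutator] at hd
  obtain ⟨d', hd', hdd⟩ := hd
  have heq : QuotientGroup.mk' (N.subgroupOf S) x = QuotientGroup.mk' (N.subgroupOf S) d' := by
    rw [QuotientGroup.mk'_eq_mk']
    refine ⟨x⁻¹ * d', ?_, mul_inv_cancel_left x d'⟩
    show (x : G)⁻¹ * d' ∈ N
    have hnx := hSM.trans (le_normalizer_commutator_sigma hE) (inv_mem x.2)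
    have : (x : G)⁻¹ * d' = (x : G)⁻¹ * n⁻¹ * (x : G) := by
      rw [show (d' : G) = n⁻¹ * x from (eq_inv_mul_iff_mul_eq.2 (by rw [show ((d' : ↥S) : G) = d from hdd]; exact hnd))]
      group
    rw [this]
    simpa using (Subgroup.mem_normalizer_iff.1 hnx n⁻¹).1 (inv_mem hn)
  rw [heq, commutator_def, ← Subgroup.map_top_of_surjective _ (QuotientGroup.mk'_surjective (N.subgroupOf S)),
    ← Subgroup.map_commutator]
  exact ⟨d', hd', rfl⟩

/-- `C_{M_σ}(E) ≤ M_σ'`. -/
theorem centralizer_complement_le_derived (hG : Cfsg.IsMinSimpleOddOrder G) (hM : IsCoatom M)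
    (hE : Cfsg.IsComplIn E (Cfsg.sigmaCore M) M) :
    Cfsg.sigmaCore M ⊓ Subgroup.centralizer (E : Set G) ≤ ⁅Cfsg.sigmaCore M, Cfsg.sigmaCore M⁆ := by
  set S := Cfsg.sigmaCore M with hS
  have hSM : S ≤ M := Subgroup.map_subtype_le _
  set D : Subgroup ↥M := (⁅S, S⁆ : Subgroup G).subgroupOf M with hD
  haveI : D.Normal := Subgroup.normal_subgroupOf_of_le_normalizer (le_normalizer_derived_sigma M)
  set φ := QuotientGroup.mk' D with hφ
  set V := (S.subgroupOf M).map φ with hV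
  set A := (E.subgroupOf M).map φ with hA
  haveI : IsMulCommutative ↥V := by
    refine Subgroup.le_centralizer_iff_isMulCommutative.1 (Subgroup.commutator_eq_bot_iff_le_centralizer.1 ?_)
    rw [hV, ← Subgroup.map_commutator, Subgroup.map_eq_bot_iff, hφ, QuotientGroup.ker_mk',
      Subgroup.commutator_le]
    exact fun a ha b hb => Subgroup.commutator_mem_commutator (H₁ := S) (H₂ := S) ha hb
  have hEn : E ≤ Subgroup.normalizer (S : Set G) := hE.1.trans (le_normalizer_sigmaCore M)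
  have hAV : A ≤ Subgroup.normalizer (V : Set _) := by
    haveI : (S.subgroupOf M).Normal := Subgroup.normal_subgroupOf_of_le_normalizer (le_normalizer_sigmaCore M)
    haveI : V.Normal := Subgroup.Normal.map inferInstance φ (QuotientGroup.mk'_surjective D)
    rw [Subgroup.normalizer_eq_top]
    exact le_top
  have hcop : (Nat.card A).Coprime (Nat.card V) := by
    refine Nat.Coprime.coprime_dvd_left (Subgroup.card_map_dvd _ φ) (Nat.Coprime.coprime_dvd_right
      (Subgroup.card_map_dvd _ φ) ?_)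
    rw [Nat.card_congr (Subgroup.subgroupOfEquivOfLe hE.1).toEquiv,
      Nat.card_congr (Subgroup.subgroupOfEquivOfLe hSM).toEquiv]
    exact Nat.coprime_of_dvd fun t ht h1 h2 =>
      not_dvd_card_complement hG hM hE ht (mem_sigma_of_dvd M ht h2) h1
  have hVA : ⁅V, A⁆ = V := by
    rw [hV, hA, ← Subgroup.map_commutator]
    congr 1
    refine Subgroup.map_injective M.subtype_injective ?_
    rw [Subgroup.map_commutator, Subgroup.map_subgroupOf_eq_of_le hSM, Subgroup.map_subgroupOf_eq_of_le hE.1]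
    exact commutator_sigma_complement hG hM hE
  rintro x ⟨hxS, hxE⟩
  have hbot := CoprimeAction.centralizer_inf_commutator_eq_bot hAV hcop
  rw [hVA] at hbot
  have hmem : φ ⟨x, hSM hxS⟩ ∈ (V ⊓ Subgroup.centralizer (A : Set (↥M ⧸ D))) ⊓ V := by
    refine ⟨⟨⟨_, hxS, rfl⟩, Subgroup.mem_centralizer_iff.2 ?_⟩, ⟨_, hxS, rfl⟩⟩
    rintro _ ⟨e, he, rfl⟩
    rw [← map_mul, ← map_mul]
    exact congrArg φ (Subtype.ext (Subgroup.mem_centralizer_iff.1 hxE e he))
  rw [hbot, Subgroup.mem_bot, hφ, QuotientGroup.mk'_apply, QuotientGroup.eq_one_iff] at hmem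
  exact hmem

/-- No element of prime order in `M_σ ∩ gMg⁻¹` lies in `M_σ'` or has order in `β(M)`. -/
theorem false_of_mem_inf_conj (hG : Cfsg.IsMinSimpleOddOrder G) (hM : IsCoatom M) {g : G} (hg : g ∉ M) {r : ℕ}
    [Fact r.Prime] {w : G} (hwo : orderOf w = r) (hwS : w ∈ Cfsg.sigmaCore M)
    (hwg : w ∈ M.map (MulAut.conj g).toMonoidHom)
    (h : r ∈ Cfsg.beta M ∨ w ∈ ⁅Cfsg.sigmaCore M, Cfsg.sigmaCore M⁆) : False := by
  have hwM : w ∈ M := (Subgroup.map_subtype_le _ : Cfsg.sigmaCore M ≤ M) hwS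
  have hs : r ∈ Cfsg.sigma M :=
    mem_sigma_of_dvd M Fact.out (hwo ▸ Subgroup.orderOf_dvd_natCard _ hwS)
  obtain ⟨-, hC, -⟩ := sigma_line_unique hG hM hs hwo hwM h
  refine hg ((inv_mem_iff (H := M)).1 (mem_of_conj_mem_of_elem hG hM hs hwo hwM hC (g := g⁻¹) ?_))
  obtain ⟨m, hm, rfl⟩ := hwg
  simpa [mul_assoc] using hm

/-- `M_σ ∩ gMg⁻¹` is cyclic. -/
theorem isCyclic_inf_conj (hG : Cfsg.IsMinSimpleOddOrder G) (hM : IsCoatom M) {g : G} (hg : g ∉ M) :
    IsCyclic ↥(Cfsg.sigmaCore M ⊓ M.map (MulAut.conj g).toMonoidHom) := by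
  set D := Cfsg.sigmaCore M ⊓ M.map (MulAut.conj g).toMonoidHom with hD
  have hbot : D ⊓ ⁅Cfsg.sigmaCore M, Cfsg.sigmaCore M⁆ = ⊥ := by
    by_contra hne
    obtain ⟨r, hr, hrd⟩ := Nat.exists_prime_and_dvd (fun e => hne (Subgroup.card_eq_one.1 e))
    haveI := Fact.mk hr
    obtain ⟨⟨w, hw⟩, hwo⟩ :=
      exists_prime_orderOf_dvd_card' (G := ↥(D ⊓ ⁅Cfsg.sigmaCore M, Cfsg.sigmaCore M⁆)) r hrd
    rw [Subgroup.orderOf_mk] at hwo
    exact false_of_mem_inf_conj hG hM hg hwo hw.1.1 hw.1.2 (Or.inr hw.2)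
  haveI : IsMulCommutative ↥D := by
    refine ⟨⟨fun a b => Subtype.ext (commutatorElement_eq_one_iff_mul_comm.1 ?_)⟩⟩
    rw [← Subgroup.mem_bot, ← hbot]
    refine ⟨?_, Subgroup.commutator_mem_commutator a.2.1 b.2.1⟩
    rw [commutatorElement_def]
    exact D.mul_mem (D.mul_mem (D.mul_mem a.2 b.2) (D.inv_mem a.2)) (D.inv_mem b.2)
  haveI : IsZGroup ↥D := by
    refine ⟨fun r hr P => ?_⟩
    haveI := Fact.mk hr
    by_contra hc
    set Q := (P : Subgroup ↥D).map D.subtype with hQ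
    have hQnc : ¬ IsCyclic Q := fun h =>
      hc (((P : Subgroup ↥D).equivMapOfInjective D.subtype D.subtype_injective).isCyclic.2 h)
    have hQp : IsPGroup r Q := P.isPGroup'.map _
    have hQ1 : Q ≠ ⊥ := fun h => hQnc (by rw [h]; exact isCyclic_of_subsingleton)
    have hQD : Q ≤ D := Subgroup.map_subtype_le _
    have hQM : Q ≤ M := hQD.trans (inf_le_left.trans (Subgroup.map_subtype_le _))
    have hs : r ∈ Cfsg.sigma M := mem_sigma_of_dvd M hr
      ((dvd_card_of_ne_bot hQp hQ1).trans (Subgroup.card_dvd_of_le (hQD.trans inf_le_left)))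
    refine hg ((inv_mem_iff (H := M)).1 (mem_of_conj_mem hG hM hs hQp hQ1 hQM
      (centralizer_le_of_noncyclic hG hM hQp hQM hQnc) (g := g⁻¹) ?_))
    rw [map_conj_le_iff, inv_inv]
    exact hQD.trans inf_le_right
  haveI : Group.IsNilpotent ↥D := by
    letI : CommGroup ↥D := { (inferInstance : Group ↥D) with mul_comm := fun a b => mul_comm' a b }
    exact CommGroup.isNilpotent
  infer_instance

end CfsgLib.SigmaGroups
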