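import Cfsg.Agent.Sigma.KappaLine

/-!
B&G 14.2: the structure of a maximal subgroup with nontrivial Hall `κ(M)`-subgroup.
-/

set_option autoImplicit false
set_option linter.unusedSectionVars false
set_option linter.style.haveILetI false

namespace CfsgLib.SigmaGroups

open CfsgLib.BenderUnique CfsgLib.Uniq
open scoped commutatorElement

universe u

variable {G : Type u} [Group G] [Finite G] {p q r : ℕ} [hp : Fact p.Prime] [hq : Fact q.Prime] [hr : Fact r.Prime]
  {M N E P X : Subgroup G}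

omit hp hq hr in
theorem le_of_prime_relIndex {J W : Subgroup G} (h : ∀ t : ℕ, t.Prime → t ∣ Nat.card W → ¬ t ∣ J.relIndex W) :
    W ≤ J := by
  rw [← Subgroup.relIndex_eq_one]
  by_contra hne
  obtain ⟨t, ht, hd⟩ := Nat.exists_prime_and_dvd hne
  exact h t ht (hd.trans (Subgroup.index_dvd_card (J.subgroupOf W))) hd

omit hp hq hr in
/-- With a nonfree `τ₃`-line, every prime of a complement lies in `τ₁ ∪ τ₃` and has rank one. -/
theorem tau13_of_dvd (hG : Cfsg.IsMinSimpleOddOrder G) (hM : IsCoatom M)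
    (hE : Cfsg.IsComplIn E (Cfsg.sigmaCore M) M) (h2 : Cfsg.tau2 M = ∅) {t : ℕ} (ht : t.Prime)
    (hd : t ∣ Nat.card E) :
    t ∉ Cfsg.sigma M ∧ Cfsg.PRankLE t 1 ↥M ∧ (t ∈ Cfsg.tau1 M ∨ t ∈ Cfsg.tau3 M) := by
  haveI := Fact.mk ht
  have hts : t ∉ Cfsg.sigma M := fun h => not_dvd_card_complement hG hM hE ht h hd
  rcases mem_tau13_or_tau2 hG hM (hd.trans (Subgroup.card_dvd_of_le hE.1)) hts with ⟨h13, hrk⟩ | h
  · exact ⟨hts, hrk, h13⟩
  · rw [h2] at h
    exact absurd h (Set.notMem_empty t)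

omit hq hr in
/-- A `τ₁`-line sharing the fixed points of a nonfree `τ₃`-line. -/
theorem exists_tau_one_partner (hG : Cfsg.IsMinSimpleOddOrder G) (hM : IsCoatom M)
    (hE : Cfsg.IsComplIn E (Cfsg.sigmaCore M) M) (hp3 : p ∈ Cfsg.tau3 M) (hP : Nat.card P = p) (hPE : P ≤ E)
    (hfix : Cfsg.sigmaCore M ⊓ Subgroup.centralizer (P : Set G) ≠ ⊥) :
    ∃ (N : Subgroup G) (t : ℕ) (R : Subgroup G), IsCoatom N ∧ Subgroup.normalizer (P : Set G) ≤ N ∧
      (∀ g : G, N ≠ M.map (MulAut.conj g).toMonoidHom) ∧ t.Prime ∧ t ∈ Cfsg.tau1 M ∧ Nat.card R = t ∧ R ≤ E ∧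
      R ≤ Cfsg.sigmaCore N ∧ Cfsg.sigmaCore M ⊓ Subgroup.centralizer (P : Set G) ≤ Subgroup.centralizer (R : Set G) := by
  have hPM : P ≤ M := hPE.trans hE.1
  have h2 := tau2_empty_of_tau3 hG hM hp3 hP hPM hfix
  haveI := isSolvable_of_ne_top hG (fun h => hM.1 (top_le_iff.1 (h ▸ hE.1)) : E ≠ ⊤)
  obtain ⟨E₃, hPE₃, hE₃, -⟩ := exists_hall_over (π := Cfsg.tau3 M) hPE fun t ht hd => by
    rw [hP] at hd
    exact (Nat.prime_dvd_prime_iff_eq ht hp.out).1 hd ▸ hp3
  obtain ⟨E₁, -, hE₁, -⟩ := exists_hall_over (π := Cfsg.tau1 M) (bot_le : (⊥ : Subgroup G) ≤ E) fun t ht hd =>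
    absurd ((Subgroup.card_bot (G := G)) ▸ hd) ht.not_dvd_one
  obtain ⟨hc3, -, hE₃n⟩ := (Cfsg.Agent.S1415.result hG M hM E hE).2.2 E₃ hE₃
  haveI := hc3
  haveI := (Cfsg.Agent.S1415.result hG M hM E hE).2.1 E₁ hE₁
  haveI : IsMulCommutative E₃ := IsCyclic.isMulCommutative
  haveI : IsMulCommutative E₁ := IsCyclic.isMulCommutative
  have hjoin : E ≤ E₃ ⊔ E₁ := le_of_prime_relIndex fun t ht hd hdi => by
    rcases (tau13_of_dvd hG hM hE h2 ht hd).2.2 with h | h
    · exact hE₁.2.2 t ht h (hdi.trans (Subgroup.relIndex_dvd_of_le_left E le_sup_right))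
    · exact hE₃.2.2 t ht h (hdi.trans (Subgroup.relIndex_dvd_of_le_left E le_sup_left))
  have hn31 : E₁ ≤ Subgroup.normalizer (E₃ : Set G) := hE₁.1.trans hE₃n
  -- some `τ₁`-subgroup moves `P`
  have hmove : ¬ E₁ ≤ Subgroup.centralizer (P : Set G) := by
    intro h
    have hcop : (Nat.card E₁).Coprime (Nat.card E₃) := Nat.coprime_of_dvd fun t ht h1 h3 =>
      (hE₁.2.1 t ht h1).2.2.2.1 (hE₃.2.1 t ht h3).2.2.1
    set C := E₃ ⊓ Subgroup.centralizer (E₁ : Set G) with hC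
    set K := ⁅E₃, E₁⁆ with hK
    have hK3 : K ≤ E₃ := CoprimeAction.commutator_le_of_normalizer hn31
    have hsup : K ⊔ C = E₃ :=
      CoprimeAction.commutator_sup_centralizer hn31 hcop (Or.inr (inferInstance : Group.IsSolvable E₃))
    have hPC : P ≤ C := le_inf hPE₃ (Subgroup.le_centralizer_iff.1 h)
    have hpK : ¬ p ∣ Nat.card K := fun hd => by
      obtain ⟨x, hx, hxo⟩ := exists_elem_prime (p := p) hd
      have hxP : x ∈ P := mem_of_pow_eq_one hc3 hPE₃ hP (hK3 hx) (hxo ▸ pow_orderOf_eq_one x)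
      have h0 : x ∈ C ⊓ K := ⟨hPC hxP, hx⟩
      rw [CoprimeAction.centralizer_inf_commutator_eq_bot hn31 hcop, Subgroup.mem_bot] at h0
      rw [h0, orderOf_one] at hxo
      exact hp.out.one_lt.ne hxo
    have hDc : ⁅C ⊔ E₁, C ⊔ E₁⁆ = ⊥ := by
      refine Subgroup.commutator_eq_bot_iff_le_centralizer.2 (sup_le ?_ ?_) <;>
        refine Subgroup.le_centralizer_iff.1 (sup_le ?_ ?_)
      · exact fun a ha => Subgroup.mem_centralizer_iff.2 fun b hb => setLike_mul_comm hb.1 ha.1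
      · exact Subgroup.le_centralizer_iff.1 inf_le_right
      · exact inf_le_right
      · exact fun a ha => Subgroup.mem_centralizer_iff.2 fun b hb => setLike_mul_comm hb ha
    refine not_dvd_derived_of_sup (p := p) (K := K) (D := C ⊔ E₁)
      (sup_le ((inf_le_left : C ≤ E₃).trans CoprimeAction.self_le_normalizer_commutator)
        (CoprimeAction.le_normalizer_commutator hn31)) (L := E) ?_ hpK ?_ ?_
    · exact hjoin.trans (sup_le (hsup ▸ sup_le le_sup_left (le_sup_left.trans le_sup_right))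
        (le_sup_right.trans le_sup_right))
    · rw [hDc, Subgroup.card_bot]
      exact hp.out.not_dvd_one
    · exact dvd_card_derived_complement hE hp.out hp3.2.1 hp3.2.2.1
  obtain ⟨t, ht, U, hU, hUE₁, hUP⟩ : ∃ t : ℕ, t.Prime ∧ ∃ U : Subgroup G,
      IsPGroup t U ∧ U ≤ E₁ ∧ ¬ U ≤ Subgroup.centralizer (P : Set G) := by
    by_contra hno
    push Not at hno
    exact hmove (le_of_prime_subgroups fun t ht U hU hUE => hno t ht U hU hUE)
  haveI := Fact.mk ht
  have hU1 : U ≠ ⊥ := fun h => hUP (h ▸ bot_le)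
  have ht1 : t ∈ Cfsg.tau1 M := hE₁.2.1 t ht ((dvd_card_of_ne_bot hU hU1).trans (Subgroup.card_dvd_of_le hUE₁))
  have htrk := ht1.2.2.2.2
  have hUE : U ≤ E := hUE₁.trans hE₁.1
  have hUM : U ≤ M := hUE.trans hE.1
  obtain ⟨y, hyU, hyo⟩ := exists_elem_prime (p := t) (dvd_card_of_ne_bot hU hU1)
  have hy1 : y ≠ 1 := fun h => ht.one_lt.ne (by rw [← hyo, h, orderOf_one])
  set R := Subgroup.zpowers y with hR
  have hRc : Nat.card R = t := by rw [hR, Nat.card_zpowers, hyo]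
  have hRE : R ≤ E := Subgroup.zpowers_le.2 (hUE hyU)
  have hRP := le_centralizer_tau3_line hG hM hE hp3 hP hPE hfix hRc hRE
  obtain ⟨N, hN, hNP, -, hnc, -⟩ := exists_max_normalizer hG hM hp3.2.1 hp3.2.2.2 hP
  have hEN : E ≤ N := (le_normalizer_tau3_line hG hM hE hp3 hP hPE).trans hNP
  have hPN : P ≤ N := hPE.trans hEN
  have hpN := mem_sigma_neighbour hG hM hp3.2.1 hp3.2.2.2 hP hPM hfix hN hNP
  have hPσ : P ≤ Cfsg.sigmaCore N := le_sigmaCore hG hN hpN (isPGroup_line hP) hPN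
  set Q := Cfsg.sigmaCore M ⊓ Subgroup.centralizer (P : Set G) with hQ
  have hQN : Q ≤ N := inf_le_right.trans ((Subgroup.centralizer_le_normalizer _).trans hNP)
  have hUN : U ≤ N := hUE.trans hEN
  suffices htN : t ∈ Cfsg.sigma N by
    have hRσ : R ≤ Cfsg.sigmaCore N := le_sigmaCore hG hN htN (isPGroup_line hRc) (hRE.trans hEN)
    exact ⟨N, t, R, hN, hNP, hnc, ht, ht1, hRc, hRE, hRσ, Subgroup.le_centralizer_iff.1
      ((le_inf hRσ (hRE.trans hE.1)).trans ((sigma_inf_commute hG hM hN hnc).trans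
        (Subgroup.centralizer_le (le_inf inf_le_left hQN : Q ≤ Cfsg.sigmaCore M ⊓ N))))⟩
  by_contra htN
  by_cases hrk : Cfsg.PRankLE t 1 ↥N
  · refine hUP (Subgroup.le_centralizer_iff.1 ((le_inf hPσ ?_).trans
      (prime_action_of_rank_one hG hN htN hrk hU hUN hyU hy1)))
    rw [← centralizer_zpowers]
    exact Subgroup.le_centralizer_iff.1 hRP
  -- an invariant line of fixed points
  have hUQ : U ≤ Subgroup.normalizer (Q : Set G) :=
    (le_inf (hUM.trans (le_normalizer_sigmaCore M)) (fun x hx => by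
      refine mem_normalizer_of_map_le ?_
      rintro _ ⟨c, hc, rfl⟩
      refine Subgroup.mem_centralizer_iff.2 fun b hb => ?_
      have hb' : x⁻¹ * b * x ∈ P := by
        have h := (Subgroup.mem_normalizer_iff.1
          ((le_normalizer_tau3_line hG hM hE hp3 hP hPE) (inv_mem (hUE hx))) b).1 hb
        rwa [inv_inv] at h
      have h := congrArg (fun a => x * a * x⁻¹) (Subgroup.mem_centralizer_iff.1 hc _ hb')
      show b * (x * c * x⁻¹) = x * c * x⁻¹ * b
      simpa [mul_assoc] using h)).trans Subgroup.inf_normalizer_le_normalizer_inf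
  obtain ⟨l, hl, hld⟩ := Nat.exists_prime_and_dvd fun h => hfix (Subgroup.card_eq_one.1 h)
  haveI := Fact.mk hl
  haveI : Group.IsSolvable Q := isSolvable_of_ne_top hG fun h => hN.1 (top_le_iff.1 (h ▸ hQN))
  have hcopQ : (Nat.card U).Coprime (Nat.card Q) := by
    obtain ⟨k, hk⟩ := hU.exists_card_eq
    rw [hk]
    exact ((Nat.Prime.coprime_iff_not_dvd ht).2 fun h =>
      ht1.2.1 (mem_sigma_of_dvd M ht (h.trans (Subgroup.card_dvd_of_le inf_le_left)))).pow_left k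
  obtain ⟨T₀, hUT⟩ := CoprimeAction.exists_invariant_sylow hUQ hcopQ (Or.inr inferInstance) l
  set T := (T₀ : Subgroup Q).map Q.subtype with hT
  have hTQ : T ≤ Q := Subgroup.map_subtype_le _
  obtain ⟨z, hzT, hzo⟩ := exists_elem_prime (p := l) (H := T) (by
    rw [hT, Subgroup.card_map_of_injective Q.subtype_injective]; exact T₀.dvd_card_of_dvd_card hld)
  obtain ⟨hlM, hlN, -, -, hlrk, -⟩ :=
    fixed_line_basic hG hM hp3.2.1 hp3.2.2.2 hP hPM hN hNP (hTQ hzT).1 (hTQ hzT).2 hzo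
  set Z := Subgroup.zpowers z with hZ
  have hZc : Nat.card Z = l := by rw [hZ, Nat.card_zpowers, hzo]
  haveI : IsCyclic T := isCyclic_of_prank_one hG hlrk (hTQ.trans hQN) (T₀.isPGroup'.map _)
  have hUZ : U ≤ Subgroup.normalizer (Z : Set G) :=
    hUT.trans (normalizer_le_normalizer_of_cyclic (Subgroup.zpowers_le.2 hzT))
  have hZN : Z ≤ N := Subgroup.zpowers_le.2 (hQN (hTQ hzT))
  by_cases hld' : l ∣ Nat.card ↥⁅N, N⁆
  · obtain ⟨F, hF', hF⟩ := exists_complement_ge hG hN (sup_le hUN hZN : U ⊔ Z ≤ N) fun s hs hd => by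
      have h3 : s ∣ Nat.card U * Nat.card Z := hd.trans (by
        rw [← ZJ.card_sup_mul_card_inf_of_le_normalizer hUZ]; exact dvd_mul_right _ _)
      rcases hs.dvd_mul.1 h3 with h | h
      · exact primes_of_pgroup ht hU s hs h ▸ htN
      · rw [hZc] at h
        exact (Nat.prime_dvd_prime_iff_eq hs hl).1 h ▸ hlN
    obtain ⟨A, hAF, hA, hAc⟩ := exists_elementary_in_complement hG hN hF htN hrk
    exact elementary_card_contra htrk (hAF.trans ((le_normalizer_tau3_line hG hN hF ⟨hl, hlN, hld', hlrk⟩ hZc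
      (le_sup_right.trans hF')).trans (normalizer_le_of_fixed hG hM hp3.2.1 hp3.2.2.2 hP hPM (hTQ hzT).1
        (hTQ hzT).2 hzo))) hA hAc
  have hyz : y ∈ Subgroup.centralizer (Z : Set G) :=
    mem_centralizer_of_not_dvd_derived hZc hZN hld' (hUN hyU) (hUZ hyU)
  have hfixR : Cfsg.sigmaCore M ⊓ Subgroup.centralizer (R : Set G) ≠ ⊥ := fun h =>
    line_ne_bot hZc (le_bot_iff.1 (h ▸ le_inf (Subgroup.zpowers_le.2 (hTQ hzT).1)
      (Subgroup.le_centralizer_iff.1 (Subgroup.zpowers_le.2 hyz))))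
  obtain ⟨F, -, hF⟩ := exists_complement_ge hG hN (bot_le : (⊥ : Subgroup G) ≤ N) fun s hs hd =>
    absurd ((Subgroup.card_bot (G := G)) ▸ hd) hs.not_dvd_one
  obtain ⟨A, hAN, hA, hAc⟩ := exists_elem_of_not_prank hrk
  obtain ⟨x, hxe, hxo⟩ := exists_gen_line hP
  obtain ⟨hCy, huniq⟩ := (Cfsg.Agent.S1420.result hG N hN F hF).2.2.2 y (hUN hyU) hy1 (fun s hs hd => by
    rw [hyo] at hd
    exact (Nat.prime_dvd_prime_iff_eq hs ht).1 hd ▸ mem_tau2_of_elementary hG hN htN hAN hA hAc)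
    ⟨hUN hyU, x, hPσ (hxe ▸ Subgroup.mem_zpowers x), fun h => hp.out.one_lt.ne (by rw [← hxo, h, orderOf_one]),
      (Subgroup.mem_centralizer_iff.1 (hRP (Subgroup.mem_zpowers y)) x (hxe ▸ Subgroup.mem_zpowers x)).symm⟩
  obtain ⟨L, hL, hNL⟩ := exists_coatom_ge (normalizer_zpowers_ne_top hG hy1)
  have hLN : L = N := huniq L hL (by
    rw [← centralizer_zpowers]; exact (Subgroup.centralizer_le_normalizer _).trans hNL)
  exact htN (hLN ▸ mem_sigma_neighbour hG hM ht1.2.1 htrk hRc (hRE.trans hE.1) hfixR hL hNL)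

omit hr in
/-- The fixed points of a nonfree `τ₃`-line are fixed by every line of the complement. -/
theorem fixed_le_of_tau3 (hG : Cfsg.IsMinSimpleOddOrder G) (hM : IsCoatom M)
    (hE : Cfsg.IsComplIn E (Cfsg.sigmaCore M) M) (hp3 : p ∈ Cfsg.tau3 M) (hP : Nat.card P = p) (hPE : P ≤ E)
    (hfix : Cfsg.sigmaCore M ⊓ Subgroup.centralizer (P : Set G) ≠ ⊥) (hX : Nat.card X = q) (hXE : X ≤ E) :
    Cfsg.sigmaCore M ⊓ Subgroup.centralizer (P : Set G) ≤ Subgroup.centralizer (X : Set G) := by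
  obtain ⟨N, t, R, hN, hNP, hnc, ht, ht1, hRc, hRE, hRσ, hQR⟩ := exists_tau_one_partner hG hM hE hp3 hP hPE hfix
  haveI := Fact.mk ht
  have hEP := le_normalizer_tau3_line hG hM hE hp3 hP hPE
  obtain ⟨hqs, -, h13⟩ := tau13_of_dvd hG hM hE (tau2_empty_of_tau3 hG hM hp3 hP (hPE.trans hE.1) hfix) hq.out
    (hX ▸ Subgroup.card_dvd_of_le hXE)
  have hXM : X ≤ M := hXE.trans hE.1
  have hXN : X ≤ N := hXE.trans (hEP.trans hNP)
  set Q := Cfsg.sigmaCore M ⊓ Subgroup.centralizer (P : Set G) with hQ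
  rcases h13 with hq1 | hq3
  · haveI := isSolvable_of_ne_top hG (fun h => hM.1 (top_le_iff.1 (h ▸ hE.1)) : E ≠ ⊤)
    obtain ⟨H, hRH, hH, hHc⟩ := exists_hall_over (π := Cfsg.tau1 M) hRE fun s hs hd => by
      rw [hRc] at hd
      exact (Nat.prime_dvd_prime_iff_eq hs ht).1 hd ▸ ht1
    obtain ⟨a, ha, hXa⟩ := hHc X hXE fun s hs hd => by
      rw [hX] at hd
      exact (Nat.prime_dvd_prime_iff_eq hs hq.out).1 hd ▸ hq1
    haveI := (Cfsg.Agent.S1415.result hG M hM E hE).2.1 H hH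
    haveI : IsMulCommutative H := IsCyclic.isMulCommutative
    set X' := X.map (MulAut.conj a).toMonoidHom with hX'
    have h4 := tau_one_centralizer_le hG hM ht1 hRc (hRE.trans hE.1) (hXa.trans (hH.1.trans hE.1))
      (fun x hx => Subgroup.mem_centralizer_iff.2 fun b hb => setLike_mul_comm (hRH hb) (hXa hx))
      (by rw [card_map_conj, hX] : Nat.card X' = q) hqs
    intro c hc
    have hc' : a * c * a⁻¹ ∈ Q := by
      refine ⟨(Subgroup.mem_normalizer_iff.1 (le_normalizer_sigmaCore M (hE.1 ha)) c).1 hc.1,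
        Subgroup.mem_centralizer_iff.2 fun b hb => ?_⟩
      have hb' : a⁻¹ * b * a ∈ P := by
        have h := (Subgroup.mem_normalizer_iff.1 (hEP (inv_mem ha)) b).1 hb
        rwa [inv_inv] at h
      have h := congrArg (fun x => a * x * a⁻¹) (Subgroup.mem_centralizer_iff.1 hc.2 _ hb')
      simpa [mul_assoc] using h
    refine Subgroup.mem_centralizer_iff.2 fun x hx => ?_
    have h := Subgroup.mem_centralizer_iff.1 (h4 ⟨hc'.1, hQR hc'⟩) (a * x * a⁻¹) ⟨x, hx, rfl⟩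
    have := congrArg (fun b => a⁻¹ * b * a) h
    simpa [mul_assoc] using this
  · by_cases hRX : R ≤ Subgroup.centralizer (X : Set G)
    · exact (le_inf inf_le_left hQR).trans (tau_one_centralizer_le hG hM ht1 hRc (hRE.trans hE.1) hXM
        (Subgroup.le_centralizer_iff.1 hRX) hX hqs)
    have hRn : R ≤ Subgroup.normalizer (X : Set G) := hRE.trans (le_normalizer_tau3_line hG hM hE hq3 hX hXE)
    have hXσ : X ≤ Cfsg.sigmaCore N := by
      rw [← commutator_eq_self_of_prime (by rw [hX]; exact hq.out) hRn fun h => hRX (Subgroup.le_centralizer_iff.1 h),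
        Subgroup.commutator_comm]
      exact (Subgroup.commutator_mono hRσ hXN).trans
        (CoprimeAction.commutator_le_of_normalizer (le_normalizer_sigmaCore N))
    exact Subgroup.le_centralizer_iff.1 ((le_inf hXσ hXM).trans ((sigma_inf_commute hG hM hN hnc).trans
      (Subgroup.centralizer_le
        (le_inf inf_le_left (inf_le_right.trans ((Subgroup.centralizer_le_normalizer _).trans hNP)) :
          Q ≤ Cfsg.sigmaCore M ⊓ N))))

omit hr in
/-- With a nonfree `τ₃`-line, all lines of the complement are normal and share their fixed points. -/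
theorem tau3_structure (hG : Cfsg.IsMinSimpleOddOrder G) (hM : IsCoatom M)
    (hE : Cfsg.IsComplIn E (Cfsg.sigmaCore M) M) (hp3 : p ∈ Cfsg.tau3 M) (hP : Nat.card P = p) (hPE : P ≤ E)
    (hfix : Cfsg.sigmaCore M ⊓ Subgroup.centralizer (P : Set G) ≠ ⊥) (hX : Nat.card X = q) (hXE : X ≤ E) :
    Cfsg.sigmaCore M ⊓ Subgroup.centralizer (X : Set G) = Cfsg.sigmaCore M ⊓ Subgroup.centralizer (P : Set G) ∧
      E ≤ Subgroup.normalizer (X : Set G) := by
  have hQX := fixed_le_of_tau3 hG hM hE hp3 hP hPE hfix hX hXE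
  have h2 := tau2_empty_of_tau3 hG hM hp3 hP (hPE.trans hE.1) hfix
  obtain ⟨hqs, -, h13⟩ := tau13_of_dvd hG hM hE h2 hq.out (hX ▸ Subgroup.card_dvd_of_le hXE)
  have hfixX : Cfsg.sigmaCore M ⊓ Subgroup.centralizer (X : Set G) ≠ ⊥ := fun h =>
    hfix (le_bot_iff.1 (h ▸ le_inf inf_le_left hQX))
  refine ⟨le_antisymm (le_inf inf_le_left ?_) (le_inf inf_le_left hQX), ?_⟩
  · rcases h13 with hq1 | hq3
    · exact tau_one_centralizer_le hG hM hq1 hX (hXE.trans hE.1) (hPE.trans hE.1) (Subgroup.le_centralizer_iff.1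
        (le_centralizer_tau3_line hG hM hE hp3 hP hPE hfix hX hXE)) hP hp3.2.1
    · exact fixed_le_of_tau3 hG hM hE hq3 hX hXE hfixX hP hPE
  rcases h13 with hq1 | hq3
  swap
  · exact le_normalizer_tau3_line hG hM hE hq3 hX hXE
  haveI := isSolvable_of_ne_top hG (fun h => hM.1 (top_le_iff.1 (h ▸ hE.1)) : E ≠ ⊤)
  obtain ⟨E₃, hPE₃, hE₃, -⟩ := exists_hall_over (π := Cfsg.tau3 M) hPE fun t ht hd => by
    rw [hP] at hd
    exact (Nat.prime_dvd_prime_iff_eq ht hp.out).1 hd ▸ hp3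
  obtain ⟨E₁, hXE₁, hE₁, -⟩ := exists_hall_over (π := Cfsg.tau1 M) hXE fun t ht hd => by
    rw [hX] at hd
    exact (Nat.prime_dvd_prime_iff_eq ht hq.out).1 hd ▸ hq1
  obtain ⟨hc3, -, hE₃n⟩ := (Cfsg.Agent.S1415.result hG M hM E hE).2.2 E₃ hE₃
  haveI := hc3
  haveI := (Cfsg.Agent.S1415.result hG M hM E hE).2.1 E₁ hE₁
  haveI : IsMulCommutative E₃ := IsCyclic.isMulCommutative
  haveI : IsMulCommutative E₁ := IsCyclic.isMulCommutative
  have hXn : X ≤ Subgroup.normalizer (E₃ : Set G) := hXE.trans hE₃n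
  have hcop : (Nat.card X).Coprime (Nat.card E₃) := by
    rw [hX]
    exact (Nat.Prime.coprime_iff_not_dvd hq.out).2 fun h => hq1.2.2.2.1 (hE₃.2.1 q hq.out h).2.2.1
  have hK : ⁅E₃, X⁆ = ⊥ := by
    by_contra hne
    obtain ⟨s, hs, hsd⟩ := Nat.exists_prime_and_dvd fun h => hne (Subgroup.card_eq_one.1 h)
    haveI := Fact.mk hs
    obtain ⟨w, hw, hwo⟩ := exists_elem_prime (p := s) hsd
    have hw3 : w ∈ E₃ := CoprimeAction.commutator_le_of_normalizer hXn hw
    have hwc : Nat.card (Subgroup.zpowers w) = s := by rw [Nat.card_zpowers, hwo]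
    have hwE : Subgroup.zpowers w ≤ E := Subgroup.zpowers_le.2 (hE₃.1 hw3)
    have hfw : Cfsg.sigmaCore M ⊓ Subgroup.centralizer (Subgroup.zpowers w : Set G) ≠ ⊥ := fun h =>
      hfix (le_bot_iff.1 (h ▸ le_inf inf_le_left (fixed_le_of_tau3 hG hM hE hp3 hP hPE hfix hwc hwE)))
    have hXw := le_centralizer_tau3_line hG hM hE
      (hE₃.2.1 s hs (hwo ▸ Subgroup.orderOf_dvd_natCard _ hw3)) hwc hwE hfw hX hXE
    have h0 : w ∈ E₃ ⊓ Subgroup.centralizer (X : Set G) ⊓ ⁅E₃, X⁆ :=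
      ⟨⟨hw3, Subgroup.le_centralizer_iff.1 hXw (Subgroup.mem_zpowers w)⟩, hw⟩
    rw [CoprimeAction.centralizer_inf_commutator_eq_bot hXn hcop, Subgroup.mem_bot] at h0
    rw [h0, orderOf_one] at hwo
    exact hs.one_lt.ne hwo
  refine (le_of_prime_relIndex (J := E₃ ⊔ E₁) fun t ht hd hdi => ?_).trans (sup_le ?_ ?_)
  · rcases (tau13_of_dvd hG hM hE h2 ht hd).2.2 with h | h
    · exact hE₁.2.2 t ht h (hdi.trans (Subgroup.relIndex_dvd_of_le_left E le_sup_right))
    · exact hE₃.2.2 t ht h (hdi.trans (Subgroup.relIndex_dvd_of_le_left E le_sup_left))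
  · exact (Subgroup.commutator_eq_bot_iff_le_centralizer.1 hK).trans (Subgroup.centralizer_le_normalizer _)
  · exact le_trans (fun e he => Subgroup.mem_centralizer_iff.2 fun x hx => setLike_mul_comm (hXE₁ hx) he)
      (Subgroup.centralizer_le_normalizer _)

omit hq hr in
/-- The basic properties of the primes in `κ(M)`. -/
theorem kappa_basic (hG : Cfsg.IsMinSimpleOddOrder G) (hM : IsCoatom M) (hk : p ∈ Cfsg.kappa M) :
    p ∉ Cfsg.sigma M ∧ Cfsg.PRankLE p 1 ↥M ∧ (p ∈ Cfsg.tau1 M ∨ p ∈ Cfsg.tau3 M) ∧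
      ∀ X : Subgroup G, X ≤ M → Nat.card X = p → Cfsg.sigmaCore M ⊓ Subgroup.centralizer (X : Set G) ≠ ⊥ := by
  obtain ⟨-, hpM, hps, hS⟩ := hk
  have hrk : Cfsg.PRankLE p 1 ↥M := by
    by_contra h
    obtain ⟨A, hAM, hA, hAc⟩ := exists_elem_of_not_prank h
    obtain ⟨S, hAS⟩ := exists_max_ge (isPGroup_of_elementary hA) hAM
    haveI := (hS S).1
    haveI : IsCyclic ↥((S : Subgroup M).map M.subtype) := isCyclic_of_surjective _
      (Subgroup.equivMapOfInjective (S : Subgroup M) _ M.subtype_injective).surjective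
    exact not_isCyclic_of_card_sq hA hAc
      (isCyclic_of_injective (Subgroup.inclusion hAS) (Subgroup.inclusion_injective _))
  refine ⟨hps, hrk, ?_, fun X hXM hX => ?_⟩
  · rcases mem_tau13_or_tau2 hG hM hpM hps with ⟨h13, -⟩ | h2
    · exact h13
    · exact absurd hrk h2.2.2.2
  obtain ⟨S, hXS⟩ := exists_max_ge (isPGroup_line hX) hXM
  obtain ⟨-, x, hxS, hx1, y, hy, hy1, hxy⟩ := hS S
  set T := (S : Subgroup M).map M.subtype with hT
  have hTc : IsCyclic T := isCyclic_of_prank_one hG hrk (Subgroup.map_subtype_le _) (S.isPGroup'.map _)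
  have hxT : (x : G) ∈ T := ⟨x, hxS, rfl⟩
  obtain ⟨n, hn⟩ := IsPGroup.iff_orderOf.1 (S.isPGroup'.map M.subtype) ⟨(x : G), hxT⟩
  rw [Subgroup.orderOf_mk] at hn
  rcases n with _ | n
  · exact absurd (orderOf_eq_one_iff.1 (by rw [hn, pow_zero])) (fun h => hx1 (Subtype.ext h))
  have hxe : (x : G) ^ p ^ n ≠ 1 := fun h => by
    have hd := orderOf_dvd_of_pow_eq_one h
    rw [hn, Nat.pow_dvd_pow_iff_le_right hp.out.one_lt] at hd
    omega
  have hxX : (x : G) ^ p ^ n ∈ X := mem_of_pow_eq_one hTc hXS hX (pow_mem hxT _) (by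
    rw [← pow_mul, ← pow_succ, ← hn, pow_orderOf_eq_one])
  have hXe : Subgroup.zpowers ((x : G) ^ p ^ n) = X := by
    refine Subgroup.eq_of_le_of_card_ge (Subgroup.zpowers_le.2 hxX) (le_of_eq ?_)
    rw [hX, Nat.card_zpowers]
    refine (orderOf_eq_prime ?_ hxe).symm
    rw [← pow_mul, ← pow_succ, ← hn, pow_orderOf_eq_one]
  intro h0
  refine hy1 (Subgroup.mem_bot.1 (h0 ▸ Subgroup.mem_inf.2 ⟨hy, ?_⟩))
  rw [← hXe, centralizer_zpowers]
  exact Subgroup.mem_centralizer_singleton_iff.2 ((show Commute (x : G) y from hxy).pow_left _).eq.symm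

omit hr in
/-- A `κ`-line and a line outside `σ ∪ κ` cannot share fixed points. -/
theorem false_of_kappa_pair (hG : Cfsg.IsMinSimpleOddOrder G) (hM : IsCoatom M) (hps : p ∉ Cfsg.sigma M)
    (hr1 : Cfsg.PRankLE p 1 ↥M) (hP : Nat.card P = p) (hPM : P ≤ M) {R : Subgroup G} (hR : Nat.card R = q)
    (hRM : R ≤ M) (hqs : q ∉ Cfsg.sigma M) (hqk : q ∉ Cfsg.kappa M)
    (hRP : R ≤ Subgroup.centralizer (P : Set G)) {z : G} (hzS : z ∈ Cfsg.sigmaCore M) (hz1 : z ≠ 1)
    (hzP : z ∈ Subgroup.centralizer (P : Set G)) (hzR : z ∈ Subgroup.centralizer (R : Set G)) : False := by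
  obtain ⟨y, hye, hyo⟩ := exists_gen_line hR
  have hy1 : y ≠ 1 := fun h => hq.out.one_lt.ne (by rw [← hyo, h, orderOf_one])
  have hyR : y ∈ R := hye ▸ Subgroup.mem_zpowers y
  by_cases hrk : Cfsg.PRankLE q 1 ↥M
  · refine hz1 (Subgroup.mem_bot.1 (free_of_not_kappa hG hqs hqk hrk (hRM hyR) hyo ▸
      Subgroup.mem_inf.2 ⟨hzS, ?_⟩))
    rw [← centralizer_zpowers, hye]
    exact hzR
  obtain ⟨A, hAM, hA, hAc⟩ := exists_elem_of_not_prank hrk
  obtain ⟨E, -, hE⟩ := exists_complement_ge hG hM (bot_le : (⊥ : Subgroup G) ≤ M) fun s hs hd =>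
    absurd ((Subgroup.card_bot (G := G)) ▸ hd) hs.not_dvd_one
  obtain ⟨hCy, huniq⟩ := (Cfsg.Agent.S1420.result hG M hM E hE).2.2.2 y (hRM hyR) hy1 (fun s hs hd => by
    rw [hyo] at hd
    exact (Nat.prime_dvd_prime_iff_eq hs hq.out).1 hd ▸ mem_tau2_of_elementary hG hM hqs hAM hA hAc)
    ⟨hRM hyR, z, hzS, hz1, Subgroup.mem_centralizer_iff.1 hzR y hyR⟩
  obtain ⟨L', hL', hNR⟩ := exists_coatom_ge (normalizer_zpowers_ne_top hG hy1)
  have hL'M : L' = M := huniq L' hL' (by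
    rw [← centralizer_zpowers]; exact (Subgroup.centralizer_le_normalizer _).trans hNR)
  rw [hye, hL'M] at hNR
  obtain ⟨L, hL, hNL, hne, hnc, -⟩ := exists_max_normalizer hG hM hps hr1 hP
  have hfix : Cfsg.sigmaCore M ⊓ Subgroup.centralizer (P : Set G) ≠ ⊥ := fun h =>
    hz1 (Subgroup.mem_bot.1 (h ▸ Subgroup.mem_inf.2 ⟨hzS, hzP⟩))
  have hpL := mem_sigma_neighbour hG hM hps hr1 hP hPM hfix hL hNL
  have hRL : R ≤ L := hRP.trans ((Subgroup.centralizer_le_normalizer _).trans hNL)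
  have hPσ : P ≤ Cfsg.sigmaCore L := le_sigmaCore hG hL hpL (isPGroup_line hP) (Subgroup.le_normalizer.trans hNL)
  by_cases hqL : q ∈ Cfsg.sigma L
  · obtain ⟨S, hS⟩ := exists_max_ge (isPGroup_line hR) (le_inf hRL hRM : R ≤ L ⊓ M)
    have h := (embedding_nonsigma hG hL hqL (isPGroup_line hR) (line_ne_bot hR) hM (Ne.symm hne) hNR S hS hqs).2.2.1
    exact hz1 (Subgroup.mem_bot.1 (h ▸ Subgroup.mem_inf.2
      ⟨hzS, hNL (Subgroup.centralizer_le_normalizer _ hzP)⟩))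
  by_cases hrkL : Cfsg.PRankLE q 1 ↥L
  · exact hqs (mem_sigma_neighbour hG hL hqL hrkL hR hRL
      (fun h => line_ne_bot hP (le_bot_iff.1 (h ▸ le_inf hPσ (Subgroup.le_centralizer_iff.1 hRP)))) hM hNR)
  obtain ⟨B, hBL, hB, hBc⟩ := exists_elem_of_not_prank hrkL
  obtain ⟨F, -, hF⟩ := exists_complement_ge hG hL (bot_le : (⊥ : Subgroup G) ≤ L) fun s hs hd =>
    absurd ((Subgroup.card_bot (G := G)) ▸ hd) hs.not_dvd_one
  obtain ⟨x, hxe, hxo⟩ := exists_gen_line hP
  obtain ⟨-, huniqL⟩ := (Cfsg.Agent.S1420.result hG L hL F hF).2.2.2 y (hRL hyR) hy1 (fun s hs hd => by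
    rw [hyo] at hd
    exact (Nat.prime_dvd_prime_iff_eq hs hq.out).1 hd ▸ mem_tau2_of_elementary hG hL hqL hBL hB hBc)
    ⟨hRL hyR, x, hPσ (hxe ▸ Subgroup.mem_zpowers x), fun h => hp.out.one_lt.ne (by rw [← hxo, h, orderOf_one]),
      (Subgroup.mem_centralizer_iff.1 (hRP hyR) x (hxe ▸ Subgroup.mem_zpowers x)).symm⟩
  exact hne (huniqL M hM hCy).symm

omit hp hq hr in
theorem exists_line_le {H : Subgroup G} (h : H ≠ ⊥) :
    ∃ (t : ℕ) (X : Subgroup G), t.Prime ∧ X ≤ H ∧ Nat.card X = t := by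
  obtain ⟨t, ht, hd⟩ := Nat.exists_prime_and_dvd fun e => h (Subgroup.card_eq_one.1 e)
  haveI := Fact.mk ht
  obtain ⟨x, hx, hxo⟩ := exists_elem_prime (p := t) hd
  exact ⟨t, Subgroup.zpowers x, ht, Subgroup.zpowers_le.2 hx, by rw [Nat.card_zpowers, hxo]⟩

omit hp hq hr in
/-- B&G 14.2 (a), (b): the structure of a complement containing a nontrivial Hall `κ(M)`-subgroup. -/
theorem kappa_structure_of_complement (hG : Cfsg.IsMinSimpleOddOrder G) (hM : IsCoatom M) {K : Subgroup G}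
    (hK : Cfsg.IsPiHallOf (Cfsg.kappa M) K M) (hK1 : K ≠ ⊥) (hE : Cfsg.IsComplIn E (Cfsg.sigmaCore M) M)
    (hKE : K ≤ E) :
    ∃ U : Subgroup G, IsMulCommutative U ∧ U ≤ E ∧
      Cfsg.IsPiHallOf {q | q.Prime ∧ q ∉ Cfsg.kappa M ∧ q ∉ Cfsg.sigma M} U M ∧
      E ≤ Subgroup.normalizer (U : Set G) ∧ E ≤ K ⊔ U ∧
      ∀ X : Subgroup G, X ≤ K → (Nat.card X).Prime →
        Cfsg.sigmaCore M ⊓ Subgroup.centralizer (X : Set G) = Cfsg.sigmaCore M ⊓ Subgroup.centralizer (K : Set G) ∧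
          K ≤ Subgroup.normalizer (X : Set G) ∧ U ⊓ Subgroup.centralizer (X : Set G) = ⊥ := by
  obtain ⟨hKM, hKπ, hKi⟩ := hK
  haveI hEs := isSolvable_of_ne_top hG (fun h => hM.1 (top_le_iff.1 (h ▸ hE.1)) : E ≠ ⊤)
  set π : Set ℕ := {q | q.Prime ∧ q ∉ Cfsg.kappa M ∧ q ∉ Cfsg.sigma M} with hπ
  have hEM : ∀ t : ℕ, t.Prime → t ∉ Cfsg.sigma M → ¬ t ∣ E.relIndex M := fun t ht hts =>
    (hallOf_of_isComplIn hG hM hE).2.2 t ht ⟨ht, hts⟩
  -- fixed points are shared once the lines of prime power subgroups are fixed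
  have hext : ∀ {Q : Subgroup G}, Q ≤ Cfsg.sigmaCore M →
      (∀ (t : ℕ) (Y : Subgroup G), t.Prime → Y ≤ K → Nat.card Y = t → Q ≤ Subgroup.centralizer (Y : Set G)) →
      Q ≤ Subgroup.centralizer (K : Set G) := fun {Q} hQ h => Subgroup.le_centralizer_iff.1
    (le_of_prime_subgroups fun t ht U hU hUK => by
      haveI := Fact.mk ht
      by_cases hU1 : U = ⊥
      · exact hU1 ▸ bot_le
      have hd : t ∣ Nat.card K := (dvd_card_of_ne_bot hU hU1).trans (Subgroup.card_dvd_of_le hUK)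
      obtain ⟨hts, htrk, -, -⟩ := kappa_basic hG hM (hKπ t ht hd)
      obtain ⟨y, hy, hyo⟩ := exists_elem_prime (p := t) (dvd_card_of_ne_bot hU hU1)
      have hQy := h t (Subgroup.zpowers y) ht (Subgroup.zpowers_le.2 (hUK hy)) (by rw [Nat.card_zpowers, hyo])
      rw [centralizer_zpowers] at hQy
      exact Subgroup.le_centralizer_iff.1 ((le_inf hQ hQy).trans (prime_action_of_rank_one hG hM hts htrk hU
        (hUK.trans hKM) hy (fun e => ht.one_lt.ne (by rw [← hyo, e, orderOf_one])))))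
  by_cases hcase : ∃ t ∈ Cfsg.kappa M, t ∈ Cfsg.tau3 M
  · obtain ⟨t, htk, ht3⟩ := hcase
    haveI := Fact.mk ht3.1
    have htK : t ∣ Nat.card K := by
      have h := hKi t ht3.1 htk
      rw [← Subgroup.relIndex_bot_left]
      have h2 := htk.2.1
      rw [← Subgroup.relIndex_bot_left, ← Subgroup.relIndex_mul_relIndex ⊥ K M bot_le hKM] at h2
      exact (ht3.1.dvd_mul.1 h2).resolve_right h
    obtain ⟨x, hx, hxo⟩ := exists_elem_prime (p := t) htK
    set P := Subgroup.zpowers x with hPdef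
    have hPc : Nat.card P = t := by rw [hPdef, Nat.card_zpowers, hxo]
    have hPE : P ≤ E := Subgroup.zpowers_le.2 (hKE hx)
    have hfix := (kappa_basic hG hM htk).2.2.2 P (hPE.trans hE.1) hPc
    set Q := Cfsg.sigmaCore M ⊓ Subgroup.centralizer (P : Set G) with hQ
    have h2 := tau2_empty_of_tau3 hG hM ht3 hPc (hPE.trans hE.1) hfix
    have hline : ∀ (s : ℕ) (Y : Subgroup G), s.Prime → Y ≤ E → Nat.card Y = s →
        Cfsg.sigmaCore M ⊓ Subgroup.centralizer (Y : Set G) = Q ∧ E ≤ Subgroup.normalizer (Y : Set G) :=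
      fun s Y hs hY hYc => by
        haveI := Fact.mk hs
        exact tau3_structure hG hM hE ht3 hPc hPE hfix hYc hY
    have hEk : ∀ s : ℕ, s.Prime → s ∣ Nat.card E → s ∈ Cfsg.kappa M := fun s hs hd => by
      haveI := Fact.mk hs
      obtain ⟨hss, hsrk, -⟩ := tau13_of_dvd hG hM hE h2 hs hd
      by_contra hk
      obtain ⟨w, hw, hwo⟩ := exists_elem_prime (p := s) hd
      have h := free_of_not_kappa hG hss hk hsrk (hE.1 hw) hwo
      rw [← centralizer_zpowers,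
        (hline s _ hs (Subgroup.zpowers_le.2 hw) (by rw [Nat.card_zpowers, hwo])).1] at h
      exact hfix h
    have hEK : E ≤ K := le_of_prime_relIndex fun s hs hd hdi => hKi s hs (hEk s hs hd)
      (hdi.trans (Dvd.intro _ (Subgroup.relIndex_mul_relIndex K E M hKE hE.1)))
    refine ⟨⊥, inferInstance, bot_le, ⟨bot_le, fun s hs hd => ?_, fun s hs hsπ hd => ?_⟩,
      fun _ _ => Subgroup.mem_normalizer_iff.2 fun y => by simp, hEK.trans le_sup_left, fun X hX hXp => ?_⟩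
    · rw [Subgroup.card_bot] at hd
      exact absurd hd hs.not_dvd_one
    · rw [Subgroup.relIndex_bot_left] at hd
      have hd' : s ∣ Nat.card E := by
        rw [← Subgroup.relIndex_bot_left, ← Subgroup.relIndex_mul_relIndex ⊥ E M bot_le hE.1] at hd
        rw [← Subgroup.relIndex_bot_left]
        exact (hs.dvd_mul.1 hd).resolve_right (hEM s hs hsπ.2.2)
      exact hsπ.2.1 (hEk s hs hd')
    · obtain ⟨hXQ, hXn⟩ := hline _ X hXp (hX.trans hKE) rfl
      refine ⟨le_antisymm (le_inf inf_le_left ?_) (inf_le_inf_left _ (Subgroup.centralizer_le hX)),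
        hKE.trans hXn, bot_inf_eq _⟩
      exact hext inf_le_left fun s Y hs hY hYc =>
        (hXQ.le.trans (hline s Y hs (hY.trans hKE) hYc).1.ge).trans inf_le_right
  · push Not at hcase
    have hk1 : ∀ t : ℕ, t.Prime → t ∈ Cfsg.kappa M → t ∈ Cfsg.tau1 M := fun t ht hk => by
      haveI := Fact.mk ht
      exact ((kappa_basic hG hM hk).2.2.1).resolve_right (hcase t hk)
    haveI hKc : IsCyclic K := isCyclic_of_tau_one_group hG hM hKM fun t ht hd => hk1 t ht (hKπ t ht hd)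
    haveI : IsMulCommutative K := IsCyclic.isMulCommutative
    obtain ⟨U, hdU, hU, -⟩ := exists_hall_over (π := π) (Subgroup.commutator_le_self E) fun t ht hd => by
      refine ⟨ht, fun hk => ?_, fun hs => not_dvd_card_complement hG hM hE ht hs
        (hd.trans (Subgroup.card_dvd_of_le (Subgroup.commutator_le_self E)))⟩
      exact (hk1 t ht hk).2.2.2.1 (hd.trans (Subgroup.card_dvd_of_le (Subgroup.commutator_mono hE.1 hE.1)))
    have hEU : E ≤ Subgroup.normalizer (U : Set G) := fun e he => by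
      refine mem_normalizer_of_map_le ?_
      rintro _ ⟨u, hu, rfl⟩
      have h : ⁅e, u⁆ * u ∈ U := mul_mem (hdU (Subgroup.commutator_mem_commutator he (hU.1 hu))) hu
      rw [commutatorElement_def, inv_mul_cancel_right] at h
      exact h
    have hUM : Cfsg.IsPiHallOf π U M := ⟨hU.1.trans hE.1, hU.2.1, fun t ht htπ hd => by
      rw [← Subgroup.relIndex_mul_relIndex U E M hU.1 hE.1] at hd
      exact (ht.dvd_mul.1 hd).elim (hU.2.2 t ht htπ) (hEM t ht htπ.2.2)⟩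
    have hcomm : ∀ {Y : Subgroup G}, Y ≤ K → ∀ {Z : Subgroup G}, Z ≤ K → Z ≤ Subgroup.centralizer (Y : Set G) :=
      fun {Y} hY {Z} hZ x hx => Subgroup.mem_centralizer_iff.2 fun y hy => setLike_mul_comm (hY hy) (hZ hx)
    have hlines : ∀ X : Subgroup G, X ≤ K → (Nat.card X).Prime →
        Cfsg.sigmaCore M ⊓ Subgroup.centralizer (X : Set G) = Cfsg.sigmaCore M ⊓ Subgroup.centralizer (K : Set G) ∧
          K ≤ Subgroup.normalizer (X : Set G) ∧ U ⊓ Subgroup.centralizer (X : Set G) = ⊥ := by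
      intro X hX hXp
      haveI := Fact.mk hXp
      have hXk := hKπ _ hXp (Subgroup.card_dvd_of_le hX)
      have hX1 := hk1 _ hXp hXk
      refine ⟨le_antisymm (le_inf inf_le_left (hext inf_le_left fun s Y hs hY hYc => ?_))
        (inf_le_inf_left _ (Subgroup.centralizer_le hX)),
        (hcomm hX le_rfl).trans (Subgroup.centralizer_le_normalizer _), ?_⟩
      · haveI := Fact.mk hs
        exact tau_one_centralizer_le hG hM hX1 rfl (hX.trans hKM) (hY.trans hKM) (hcomm hX hY) hYc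
          (hKπ s hs (hYc ▸ Subgroup.card_dvd_of_le hY)).2.2.1
      by_contra hne
      obtain ⟨s, R, hs, hR, hRc⟩ := exists_line_le hne
      haveI := Fact.mk hs
      obtain ⟨-, hsk, hss⟩ := hU.2.1 s hs (hRc ▸ Subgroup.card_dvd_of_le (hR.trans inf_le_left))
      have hRM : R ≤ M := (hR.trans inf_le_left).trans hUM.1
      obtain ⟨z, hz, hz1⟩ := (Subgroup.bot_or_exists_ne_one _).resolve_left
        ((kappa_basic hG hM hXk).2.2.2 X (hX.trans hKM) rfl)
      exact false_of_kappa_pair hG hM hX1.2.1 hX1.2.2.2.2 rfl (hX.trans hKM) hRc hRM hss hsk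
        (hR.trans inf_le_right) hz.1 hz1 hz.2
        (tau_one_centralizer_le hG hM hX1 rfl (hX.trans hKM) hRM (hR.trans inf_le_right) hRc hss hz)
    have hUc : IsMulCommutative U := by
      obtain ⟨t, X, ht, hX, hXc⟩ := exists_line_le hK1
      haveI := Fact.mk ht
      obtain ⟨x, hxe, hxo⟩ := exists_gen_line hXc
      have hxK : x ∈ K := hX (hxe ▸ Subgroup.mem_zpowers x)
      refine (Cfsg.Agent.S1420.result hG M hM E hE).1 U hUM.1 (isNilpotent_of_free_element (p := t)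
        (hEU (hKE hxK)) (hxo ▸ pow_orderOf_eq_one x) ?_) fun s hs hd => (hU.2.1 s hs hd).2.2
      rw [← centralizer_zpowers, hxe]
      exact (hlines X hX (by rw [hXc]; exact ht)).2.2
    refine ⟨U, hUc, hU.1, hUM, hEU, le_of_prime_relIndex fun t ht hd hdi => ?_, hlines⟩
    by_cases htk : t ∈ Cfsg.kappa M
    · exact hKi t ht htk ((hdi.trans (Subgroup.relIndex_dvd_of_le_left E le_sup_left)).trans
        (Dvd.intro _ (Subgroup.relIndex_mul_relIndex K E M hKE hE.1)))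
    · exact hU.2.2 t ht ⟨ht, htk, fun h => not_dvd_card_complement hG hM hE ht h hd⟩
        (hdi.trans (Subgroup.relIndex_dvd_of_le_left E le_sup_right))

omit hp hq hr in
theorem kappa_complement_structure (hG : Cfsg.IsMinSimpleOddOrder G) (hM : IsCoatom M) {K : Subgroup G}
    (hK : Cfsg.IsPiHallOf (Cfsg.kappa M) K M) (hK1 : K ≠ ⊥) :
    ∃ E U : Subgroup G, Cfsg.IsComplIn E (Cfsg.sigmaCore M) M ∧ K ≤ E ∧ IsMulCommutative U ∧ U ≤ E ∧
      Cfsg.IsPiHallOf {q | q.Prime ∧ q ∉ Cfsg.kappa M ∧ q ∉ Cfsg.sigma M} U M ∧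
      E ≤ Subgroup.normalizer (U : Set G) ∧ E ≤ K ⊔ U ∧
      ∀ X : Subgroup G, X ≤ K → (Nat.card X).Prime →
        Cfsg.sigmaCore M ⊓ Subgroup.centralizer (X : Set G) = Cfsg.sigmaCore M ⊓ Subgroup.centralizer (K : Set G) ∧
          K ≤ Subgroup.normalizer (X : Set G) ∧ U ⊓ Subgroup.centralizer (X : Set G) = ⊥ := by
  obtain ⟨E, hKE, hE⟩ := exists_complement_ge hG hM hK.1 fun t ht hd h => (hK.2.1 t ht hd).2.2.1 h
  obtain ⟨U, hU⟩ := kappa_structure_of_complement hG hM hK hK1 hE hKE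
  exact ⟨E, U, hE, hKE, hU⟩

omit hp hq hr in
/-- B&G 14.2 (c): normalizers in `M` of normal subgroups of `K`. -/
theorem normalizer_kappa_eq (hG : Cfsg.IsMinSimpleOddOrder G) (hM : IsCoatom M) {K Y : Subgroup G}
    (hK : Cfsg.IsPiHallOf (Cfsg.kappa M) K M) (hK1 : K ≠ ⊥) (hY : Y ≤ K) (hY1 : Y ≠ ⊥)
    (hKY : K ≤ Subgroup.normalizer (Y : Set G)) :
    M ⊓ Subgroup.normalizer (Y : Set G) = K ⊔ (Cfsg.sigmaCore M ⊓ Subgroup.centralizer (K : Set G)) := by
  obtain ⟨E, U, hE, hKE, -, hUE, hU, hEU, hEKU, hlines⟩ := kappa_complement_structure hG hM hK hK1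
  obtain ⟨t, X, ht, hXY, hXc⟩ := exists_line_le hY1
  obtain ⟨hXfix, -, hXU⟩ := hlines X (hXY.trans hY) (by rw [hXc]; exact ht)
  refine le_antisymm ?_ (sup_le (le_inf hK.1 hKY) (le_inf (inf_le_left.trans (Subgroup.map_subtype_le _))
    ((inf_le_right.trans (Subgroup.centralizer_le hY)).trans (Subgroup.centralizer_le_normalizer _))))
  rintro m ⟨hmM, hmY⟩
  obtain ⟨e, he, k, hk, rfl⟩ := hE.2.2.2 m hmM
  have hkY : k ∈ Subgroup.centralizer (Y : Set G) := Subgroup.mem_centralizer_iff.2 fun y hy => by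
    have h1 : (e * k) * y * (e * k)⁻¹ ∈ E := hKE (hY ((Subgroup.mem_normalizer_iff.1 hmY y).1 hy))
    have hyE : y ∈ E := hKE (hY hy)
    have h2 : k * y * k⁻¹ * y⁻¹ ∈ E ⊓ Cfsg.sigmaCore M := by
      refine Subgroup.mem_inf.2 ⟨?_, ?_⟩
      · rw [show k * y * k⁻¹ * y⁻¹ = e⁻¹ * (e * k * y * (e * k)⁻¹) * e * y⁻¹ by group]
        exact mul_mem (mul_mem (mul_mem (inv_mem he) h1) he) (inv_mem hyE)
      · rw [show k * y * k⁻¹ * y⁻¹ = k * (y * k⁻¹ * y⁻¹) by group]
        exact mul_mem hk ((Subgroup.mem_normalizer_iff.1 (le_normalizer_sigmaCore M (hE.1 hyE)) _).1 (inv_mem hk))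
    rw [hE.2.2.1, Subgroup.mem_bot, mul_inv_eq_one, mul_inv_eq_iff_eq_mul] at h2
    exact h2.symm
  have heY : e ∈ Subgroup.normalizer (Y : Set G) := by
    have h : e * k * k⁻¹ ∈ Subgroup.normalizer (Y : Set G) :=
      mul_mem hmY (inv_mem (Subgroup.centralizer_le_normalizer _ hkY))
    rwa [mul_inv_cancel_right] at h
  have hkK : k ∈ Cfsg.sigmaCore M ⊓ Subgroup.centralizer (K : Set G) :=
    hXfix ▸ Subgroup.mem_inf.2 ⟨hk, Subgroup.centralizer_le hXY hkY⟩
  refine mul_mem (Subgroup.mem_sup_left ?_) (Subgroup.mem_sup_right hkK)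
  obtain ⟨a, ha, u, hu, rfl⟩ := CoprimeAction.exists_mul_of_mem_sup (hKE.trans hEU) (hEKU he)
  suffices u = 1 by rw [this, mul_one]; exact ha
  have huY : u ∈ Subgroup.normalizer (Y : Set G) := (Subgroup.mul_mem_cancel_left _ (hKY ha)).1 heY
  refine Subgroup.mem_bot.1 (hXU ▸ Subgroup.mem_inf.2 ⟨hu, Subgroup.mem_centralizer_iff.2 fun y hy => ?_⟩)
  have h2 : u * y * u⁻¹ * y⁻¹ ∈ K ⊓ U := by
    refine Subgroup.mem_inf.2 ⟨mul_mem (hY ((Subgroup.mem_normalizer_iff.1 huY y).1 (hXY hy)))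
      (inv_mem (hY (hXY hy))), ?_⟩
    rw [show u * y * u⁻¹ * y⁻¹ = u * (y * u⁻¹ * y⁻¹) by group]
    exact mul_mem hu ((Subgroup.mem_normalizer_iff.1 (hEU (hKE (hY (hXY hy)))) _).1 (inv_mem hu))
  rw [Subgroup.inf_eq_bot_of_coprime (Nat.coprime_of_dvd fun s hs h1 h2' =>
    (hU.2.1 s hs h2').2.1 (hK.2.1 s hs h1)), Subgroup.mem_bot, mul_inv_eq_one, mul_inv_eq_iff_eq_mul] at h2
  exact h2.symm

end CfsgLib.SigmaGroups
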