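import Cfsg.Agent.Sigma.TauTwoCore

/-!
B&G 12.5 (c), (e): the `A`-invariant `σ(M)'`-subgroups of `M`, `M_σ A ⊴ M`, and `M_σ ∩ M* = 1`.
-/

set_option autoImplicit false
set_option linter.unusedSectionVars false
set_option linter.style.haveILetI false

namespace CfsgLib.SigmaGroups

open CfsgLib.BenderUnique CfsgLib.Uniq
open scoped commutatorElement

universe u

variable {G : Type u} [Group G] [Finite G] {p : ℕ} [hp : Fact p.Prime] {M A : Subgroup G}

theorem nilpotent_centralizer_inf_derived (hG : Cfsg.IsMinSimpleOddOrder G) (hM : IsCoatom M) :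
    Group.IsNilpotent ↥(Subgroup.centralizer (Cfsg.sigmaCore M : Set G) ⊓ ⁅M, M⁆) := by
  set Y := Subgroup.centralizer (Cfsg.sigmaCore M : Set G) ⊓ ⁅M, M⁆ with hY
  have hYM : Y ≤ M := inf_le_right.trans (Subgroup.commutator_le_self M)
  set φ : ↥Y →* ↥M ⧸ Cfsg.piCore (Cfsg.alpha M) ↥M :=
    (QuotientGroup.mk' (Cfsg.piCore (Cfsg.alpha M) ↥M)).comp (Subgroup.inclusion hYM) with hφ
  set N := (commutator ↥M).map (QuotientGroup.mk' (Cfsg.piCore (Cfsg.alpha M) ↥M)) with hN
  haveI : Group.IsNilpotent ↥N := nilpotent_map_commutator hG hM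
  have hle : φ.range ≤ N := by
    rintro _ ⟨⟨y, hy⟩, rfl⟩
    refine ⟨⟨y, hYM hy⟩, ?_, rfl⟩
    have h : y ∈ (commutator ↥M).map M.subtype := (Subgroup.map_subtype_commutator M).ge hy.2
    obtain ⟨x, hx, hxy⟩ := h
    exact (Subtype.ext hxy : x = ⟨y, hYM hy⟩) ▸ hx
  haveI : Group.IsNilpotent ↥φ.range :=
    Group.nilpotent_of_surjective (Subgroup.subgroupOfEquivOfLe hle).toMonoidHom
      (Subgroup.subgroupOfEquivOfLe hle).surjective
  refine Subgroup.isNilpotent_of_ker_le_center φ.rangeRestrict ?_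
  rw [MonoidHom.ker_rangeRestrict]
  intro y hy
  rw [hφ, MonoidHom.mem_ker, MonoidHom.comp_apply, QuotientGroup.mk'_apply, QuotientGroup.eq_one_iff] at hy
  have hyσ : (y : G) ∈ Cfsg.sigmaCore M :=
    alphaCore_le_sigmaCore hG hM ⟨Subgroup.inclusion hYM y, hy, rfl⟩
  exact Subgroup.mem_center_iff.2 fun z =>
    Subtype.ext (Subgroup.mem_centralizer_iff.1 z.2.1 y hyσ).symm

/-- B&G 12.5 (c), for the invariant subgroups. -/
theorem centralizes_of_not_sigma (hG : Cfsg.IsMinSimpleOddOrder G) (hM : IsCoatom M) (hps : p ∉ Cfsg.sigma M)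
    (hAM : A ≤ M) (hA : Cfsg.IsElementaryAbelian p A) (hAc : Nat.card A = p ^ 2) {q : ℕ} [Fact q.Prime]
    (hqs : q ∉ Cfsg.sigma M) (hqp : q ≠ p) {Q : Subgroup G} (hQ : IsPGroup q Q) (hQM : Q ≤ M)
    (hAQ : A ≤ Subgroup.normalizer (Q : Set G)) : Q ≤ Subgroup.centralizer (A : Set G) := by
  haveI := hA.1
  rw [← Subgroup.commutator_eq_bot_iff_le_centralizer]
  by_contra hne
  have hAsol : Group.IsSolvable A := Group.isSolvable_of_comm mul_comm'
  have hcopA : ∀ {R : Subgroup G}, IsPGroup q R → (Nat.card A).Coprime (Nat.card R) := fun hR => by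
    rw [hAc]
    exact ((card_coprime (p := p) hR hqp).pow_right 2).symm
  set C := Subgroup.centralizer (Cfsg.sigmaCore M : Set G) with hC
  set Y := C ⊓ ⁅M, M⁆ with hY
  have hMC : M ≤ Subgroup.normalizer (C : Set G) :=
    (le_normalizer_sigmaCore M).trans (Components.normalizer_le_normalizer_centralizer _)
  have hMd : M ≤ Subgroup.normalizer ((⁅M, M⁆ : Subgroup G) : Set G) :=
    CoprimeAction.self_le_normalizer_commutator
  have hMY : M ≤ Subgroup.normalizer (Y : Set G) := (le_inf hMC hMd).trans Subgroup.inf_normalizer_le_normalizer_inf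
  have hYM : Y ≤ M := inf_le_right.trans (Subgroup.commutator_le_self M)
  -- the invariant `q`-subgroups have their commutator with `A` in `Y`
  have hkey : ∀ R : Subgroup G, IsPGroup q R → R ≤ M → A ≤ Subgroup.normalizer (R : Set G) → ⁅R, A⁆ ≤ Y := by
    intro R hR hRM hAR
    refine le_inf ?_ (Subgroup.commutator_mono hRM hAM)
    by_cases hR1 : R = ⊥
    · rw [hR1, Subgroup.commutator_bot_left]; exact bot_le
    obtain ⟨A₀, hA₀A, hA₀c, hA₀N, -⟩ := exists_unique_line hG hM hps hAM hA hAc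
    obtain ⟨g, hgA, hgM⟩ := exists_normalizer_not_mem hG hM hps hAM hA hAc
    have hg2 : g ^ 2 ∈ Subgroup.normalizer (A : Set G) := pow_mem hgA 2
    have hg2M : g ^ 2 ∉ M := fun h => hgM (mem_of_sq_mem hG h)
    have hline : ∀ y ∈ Subgroup.normalizer (A : Set G), A₀.map (MulAut.conj y).toMonoidHom ≤ A := fun y hy =>
      (Subgroup.map_mono hA₀A).trans (map_conj_eq_of_normalizer hy).le
    have hfree : ∀ y ∈ Subgroup.normalizer (A : Set G), y ∉ M →
        ⁅R, A₀.map (MulAut.conj y).toMonoidHom⁆ ≤ C := fun y hy hyM =>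
      commutator_le_centralizer_of_free (p := p) (q := q)
        (ne_two hG ((dvd_card_of_ne_bot hR hR1).trans (Subgroup.card_subgroup_dvd_card R))) hqp hR
        ((card_map_conj A₀ y).trans hA₀c) ((hline y hy).trans hAR) (hRM.trans (le_normalizer_sigmaCore M))
        (((hline y hy).trans hAM).trans (le_normalizer_sigmaCore M))
        (fun h => hqs (mem_sigma_of_dvd M Fact.out h)) (not_dvd_card_sigmaCore hps)
        (haveI := isSolvable_of_ne_top hG hM.1;
          Group.isSolvable_of_isSolvable_injective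
            (Subgroup.inclusion_injective (Subgroup.map_subtype_le _ : Cfsg.sigmaCore M ≤ M)))
        (le_bot_iff.1 ((inf_le_inf_left _ (centralizer_conj_le hA₀N y)).trans
          (sigmaCore_inf_conj_eq_bot hG hM hps hAM hA hAc hy hyM).le))
    have hneq : A₀.map (MulAut.conj g).toMonoidHom ≠ A₀.map (MulAut.conj (g ^ 2)).toMonoidHom := fun h => by
      have h' := congrArg (Subgroup.map (MulAut.conj g⁻¹).toMonoidHom) h
      rw [map_conj_map, map_conj_map, inv_mul_cancel, map_conj_one, pow_two, inv_mul_cancel_left] at h'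
      exact hgM (hA₀N (Subgroup.mem_normalizer_iff_map_conj_eq.2 h'.symm))
    have hsup := sup_lines_eq hA hAc (hline g hgA) (hline _ hg2) ((card_map_conj A₀ g).trans hA₀c)
      ((card_map_conj A₀ _).trans hA₀c) hneq
    rw [Subgroup.commutator_le]
    intro k hk a ha
    rw [← hsup, ← SetLike.mem_coe, Subgroup.coe_mul_of_left_le_normalizer_right] at ha
    swap
    · exact le_normalizer_of_commute fun x hx => Subgroup.mem_centralizer_iff.2 fun y hy =>
        NormalEl.commute_of_elementary hA (hline _ hg2 hy) (hline g hgA hx)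
    obtain ⟨x, hx, y, hy, rfl⟩ := ha
    have h1 := hfree g hgA hgM (Subgroup.commutator_mem_commutator hk hx)
    have h2 := hfree _ hg2 hg2M (Subgroup.commutator_mem_commutator hk hy)
    have h3 : x * ⁅k, y⁆ * x⁻¹ ∈ C :=
      (Subgroup.mem_normalizer_iff.1 (hMC (hAM (hline g hgA hx))) _).1 h2
    have he : ⁅k, x * y⁆ = ⁅k, x⁆ * (x * ⁅k, y⁆ * x⁻¹) := by simp only [commutatorElement_def]; group
    rw [he]
    exact C.mul_mem h1 h3
  -- the normal Sylow `q`-subgroup of `Y`
  have hYn : Group.IsNilpotent ↥Y := nilpotent_centralizer_inf_derived hG hM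
  obtain ⟨S₀⟩ : Nonempty (Sylow q ↥Y) := inferInstance
  have hiff := (Group.isNilpotent_of_finite_tfae (G := ↥Y)).out 0 3
  have hS₀n : (S₀ : Subgroup ↥Y).Normal := hiff.1 hYn q inferInstance S₀
  letI := Sylow.unique_of_normal S₀ hS₀n
  haveI := Sylow.characteristic_of_normal S₀ hS₀n
  set Qn := (S₀ : Subgroup ↥Y).map Y.subtype with hQn
  have hQnp : IsPGroup q Qn := S₀.isPGroup'.map _
  have hQnM : Qn ≤ M := (Subgroup.map_subtype_le _).trans hYM
  have hQnmax : ∀ U : Subgroup G, IsPGroup q U → U ≤ Y → U ≤ Qn := fun U hU hUY => by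
    obtain ⟨V, hV⟩ := IsPGroup.exists_le_sylow (hU.of_equiv (Subgroup.subgroupOfEquivOfLe hUY).symm)
    rw [← Subgroup.map_subgroupOf_eq_of_le hUY]
    exact Subgroup.map_mono (hV.trans (le_of_eq (by rw [Subsingleton.elim V S₀])))
  have hMQn : M ≤ Subgroup.normalizer (Qn : Set G) :=
    hMY.trans (le_normalizer_map_subtype_of_char (S₀ : Subgroup ↥Y))
  have hQ1 : ⁅Q, A⁆ ≤ Qn := hQnmax _ (hQ.to_le (CoprimeAction.commutator_le_of_normalizer hAQ)) (hkey Q hQ hQM hAQ)
  have hQn1 : Qn ≠ ⊥ := fun h => hne (le_bot_iff.1 (hQ1.trans h.le))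
  haveI hQnc : IsCyclic Qn := by
    by_contra hc
    obtain ⟨B, hBQ, hB, hBc⟩ := exists_elem_sq
      (ne_two hG ((dvd_card_of_ne_bot hQnp hQn1).trans (Subgroup.card_subgroup_dvd_card Qn))) hQnp hc
    obtain ⟨S, hS⟩ := exists_max_ge hQnp hQnM
    have hO := mem_iff_pow_eq_one hG hM hqs hB hBc S (hBQ.trans hS)
    have hMB : M ≤ Subgroup.normalizer (B : Set G) := fun m hm => by
      refine mem_normalizer_of_map_le ?_
      rintro _ ⟨b, hb, rfl⟩
      exact (hO _ (hS ((Subgroup.mem_normalizer_iff.1 (hMQn hm) b).1 (hBQ hb)))).1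
        (by rw [← MulAut.conj_apply, ← map_pow, hB.2 b hb, map_one])
    have hNB : Subgroup.normalizer (B : Set G) = M := (hM.le_iff.1 hMB).resolve_left (normalizer_ne_top hG
      (ne_bot_of_card_sq hBc) (pgroup_ne_top hG (isPGroup_of_elementary hB)))
    refine hqs ⟨Fact.out, (dvd_card_of_ne_bot hQnp hQn1).trans (Subgroup.card_dvd_of_le hQnM), S,
      fun g hg => hNB.le (mem_normalizer_of_map_le ?_)⟩
    rintro _ ⟨b, hb, rfl⟩
    exact (hO _ ((Subgroup.mem_normalizer_iff.1 hg b).1 (hS (hBQ hb)))).1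
      (by rw [← MulAut.conj_apply, ← map_pow, hB.2 b hb, map_one])
  obtain ⟨z, hzQ, hzo, -⟩ := exists_elem_pow hQnp hQn1
  set Z := Subgroup.zpowers z with hZdef
  have hZQ : Z ≤ Qn := Subgroup.zpowers_le.2 hzQ
  have hZc : Nat.card Z = q := by rw [hZdef, Nat.card_zpowers, hzo]
  have hZp : IsPGroup q Z := hQnp.to_le hZQ
  have hZ1 : Z ≠ ⊥ := fun h => by
    rw [h, Subgroup.card_bot] at hZc
    exact (Fact.out : q.Prime).one_lt.ne hZc
  have hMZ : M ≤ Subgroup.normalizer (Z : Set G) := hMQn.trans (normalizer_le_normalizer_of_cyclic hZQ)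
  have hNZ : Subgroup.normalizer (Z : Set G) = M :=
    (hM.le_iff.1 hMZ).resolve_left (normalizer_ne_top hG hZ1 (pgroup_ne_top hG hZp))
  have hZM : Z ≤ M := hZQ.trans hQnM
  have hOZ : ∀ x ∈ Qn, x ^ q = 1 → x ∈ Z := fun x hx hxq => by
    by_cases hx1 : x = 1
    · exact hx1 ▸ one_mem _
    have he : Subgroup.zpowers x = Z := Chev.Ree.GL0.eq_of_card_eq (A := Qn) (Subgroup.zpowers_le.2 hx) hZQ
      (by rw [Nat.card_zpowers, orderOf_eq_prime hxq hx1, hZc])
    exact he ▸ Subgroup.mem_zpowers x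
  have hAZ : A ≤ Subgroup.normalizer (Z : Set G) := hAM.trans hMZ
  have hnC : ¬ Z ≤ Subgroup.centralizer (A : Set G) := by
    intro hZC
    haveI : IsMulCommutative Qn := IsCyclic.isMulCommutative
    have hAn : A ≤ Subgroup.centralizer (Qn : Set G) :=
      CoprimeAction.le_centralizer_of_fixes_prime_order (hAM.trans hMQn) (hcopA hQnp) fun v hv hvo a ha => by
        have hvq : v ^ q = 1 := by
          obtain ⟨n, hn⟩ := IsPGroup.iff_orderOf.1 hQnp ⟨v, hv⟩
          rw [Subgroup.orderOf_mk] at hn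
          rw [← (Nat.prime_dvd_prime_iff_eq hvo Fact.out).1 (hvo.dvd_of_dvd_pow (dvd_of_eq hn))]
          exact pow_orderOf_eq_one v
        exact Subgroup.mem_centralizer_iff.1 (hZC (hOZ v hv hvq)) a ha
    refine hne ?_
    rw [← CoprimeAction.commutator_commutator_eq hAQ (hcopA hQ) (Or.inl hAsol),
      Subgroup.commutator_eq_bot_iff_le_centralizer]
    exact hQ1.trans (Subgroup.le_centralizer_iff.1 hAn)
  have hpq : p < q := lt_of_moves_line hA hZc hAZ fun h => hnC (Subgroup.le_centralizer_iff.1 h)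
  obtain ⟨⟨-, hr1⟩, hni, -⟩ := normalizer_in_maximal hG hM hqs hZc hNZ.le
  have hq2 : q ≠ 2 := ne_two hG (hZc ▸ Subgroup.card_subgroup_dvd_card Z)
  -- an invariant elementary subgroup `B` of order `q ^ 2`
  set H := (Cfsg.pPrimeCore p ↥M).map M.subtype with hH
  haveI := PCore.pPrimeCore_characteristic p ↥M
  have hMH : M ≤ Subgroup.normalizer (H : Set G) :=
    Subgroup.le_normalizer.trans (le_normalizer_map_subtype_of_char _)
  obtain ⟨T₀, hZT, hAT⟩ := CoprimeAction.exists_invariant_sylow_ge (p := q) (hAM.trans hMH)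
    (coprime_card_of_not_dvd hAc (by
      rw [hH, Subgroup.card_map_of_injective M.subtype_injective]
      exact PCore.not_dvd_card_pPrimeCore p _)) (Or.inl hAsol)
    (le_pPrimeCore_of_lt hG hM hps hAM hAc hpq hZp hZM) hZp hAZ
  set T := (T₀ : Subgroup ↥H).map H.subtype with hT
  have hTp : IsPGroup q T := T₀.isPGroup'.map _
  have hTH : T ≤ H := Subgroup.map_subtype_le _
  have hTM : T ≤ M := hTH.trans (Subgroup.map_subtype_le _)
  obtain ⟨B, hBT, hB, hBc⟩ : ∃ B : Subgroup G, B ≤ T ∧ Cfsg.IsElementaryAbelian q B ∧ Nat.card B = q ^ 2 := by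
    obtain ⟨B', hB'M, hB', hB'c⟩ := exists_elem_of_not_prank hr1
    obtain ⟨T', hT'⟩ := exists_max_ge (isPGroup_of_elementary hB')
      (le_pPrimeCore_of_lt hG hM hps hAM hAc hpq (isPGroup_of_elementary hB') hB'M)
    obtain ⟨h, hhH, hhe⟩ := exists_conj_sylow T' T₀
    exact ⟨_, (Subgroup.map_mono hT').trans hhe.le, elementary_map_conj hB' h, (card_map_conj B' h).trans hB'c⟩
  have hTc := commute_of_not_sigma hG hM hqs hTp hTM
  have hOB : ∀ x ∈ T, x ^ q = 1 → x ∈ B := fun x hx hxq =>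
    mem_of_centralizer_pow hG hM hqs (hBT.trans hTM) hB hBc
      (Subgroup.mem_centralizer_iff.2 fun b hb => hTc b (hBT hb) x hx) hxq
  have hAB : A ≤ Subgroup.normalizer (B : Set G) := fun a ha => by
    refine mem_normalizer_of_map_le ?_
    rintro _ ⟨b, hb, rfl⟩
    exact hOB _ ((Subgroup.mem_normalizer_iff.1 (hAT ha) b).1 (hBT hb)) (by rw [← map_pow, hB.2 b hb, map_one])
  haveI := hB.1
  have hBp := isPGroup_of_elementary hB
  have hZB : Z ≤ B := Subgroup.zpowers_le.2
    (hOB z (hZT (Subgroup.mem_zpowers z)) (hzo ▸ pow_orderOf_eq_one z))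
  have hBA : ⁅B, A⁆ = Z := by
    have hleB : ⁅B, A⁆ ≤ B := CoprimeAction.commutator_le_of_normalizer hAB
    have hle : ⁅B, A⁆ ≤ Z := fun x hx =>
      hOZ x (hQnmax _ (hBp.to_le hleB) (hkey B hBp (hBT.trans hTM) hAB) hx) (hB.2 x (hleB hx))
    refine Subgroup.eq_of_le_of_card_ge hle ?_
    rcases (Nat.dvd_prime (Fact.out : q.Prime)).1 (hZc ▸ Subgroup.card_dvd_of_le hle) with h | h
    · exact absurd (hZB.trans ((Subgroup.commutator_eq_bot_iff_le_centralizer).1 (Subgroup.card_eq_one.1 h))) hnC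
    · exact (hZc.trans h.symm).le
  set Z' := B ⊓ Subgroup.centralizer (A : Set G) with hZ'
  have hZ'c : Nat.card Z' = q := by
    have hsup := CoprimeAction.commutator_sup_centralizer hAB (hcopA hBp) (Or.inl hAsol)
    rw [hBA] at hsup
    obtain ⟨n, hn⟩ := (hBp.to_le (inf_le_left : Z' ≤ B)).exists_card_eq
    have hn0 : n ≠ 0 := fun h => by
      rw [h, pow_zero, Subgroup.card_eq_one] at hn
      rw [hn, sup_bot_eq] at hsup
      rw [← hsup, hZc] at hBc
      exact (lt_self_pow₀ (Fact.out : q.Prime).one_lt one_lt_two).ne hBc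
    have hlt : Z' < B := lt_of_le_of_ne inf_le_left fun h => hnC (hZB.trans (h.ge.trans inf_le_right))
    have h1 := card_lt_of_lt hlt
    rw [hn, hBc] at h1
    have := (Nat.pow_lt_pow_iff_right (Fact.out : q.Prime).one_lt).1 h1
    rw [hn, show n = 1 by omega, pow_one]
  have hZ'p : IsPGroup q Z' := hBp.to_le inf_le_left
  have hZ'1 : Z' ≠ ⊥ := fun h => by
    rw [h, Subgroup.card_bot] at hZ'c
    exact (Fact.out : q.Prime).one_lt.ne hZ'c
  -- an element of `N(A)` outside `M` normalizing `Z'`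
  obtain ⟨g, hgA, hgM⟩ := exists_normalizer_not_mem hG hM hps hAM hA hAc
  have hCA := centralizer_le_maximal hG hM hAM hA hAc
  have hZ'g : Z'.map (MulAut.conj g).toMonoidHom ≤ Subgroup.centralizer (A : Set G) :=
    (Subgroup.map_mono inf_le_right).trans
      (map_conj_eq_of_normalizer (Components.normalizer_le_normalizer_centralizer _ hgA)).le
  obtain ⟨T₁, T₂, hT₁, -, hT₁M, -, hBT₁, hgT₂, -, c, hc, hce⟩ := exists_conj_invariant hG hM hps hAM hA hAc hpq
    hBp (hBT.trans hTM) hAB (hZ'p.map (MulAut.conj g).toMonoidHom) (hZ'g.trans hCA)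
    (le_normalizer_of_commute (Subgroup.le_centralizer_iff.1 hZ'g))
  have hT₁c := commute_of_not_sigma hG hM hqs hT₁ hT₁M
  set h := c⁻¹ * g with hh
  have hcM : c ∈ M := hCA hc
  have hhA : h ∈ Subgroup.normalizer (A : Set G) :=
    mul_mem (inv_mem (Subgroup.centralizer_le_normalizer _ hc)) hgA
  have hhM : h ∉ M := fun h' => hgM (by simpa [hh] using M.mul_mem hcM h')
  have hhZ' : h ∈ Subgroup.normalizer (Z' : Set G) := by
    refine mem_normalizer_of_map_le ?_
    rintro _ ⟨x, hx, rfl⟩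
    have h1 : c⁻¹ * (g * x * g⁻¹) * c ∈ T₁ := by
      obtain ⟨y, hy, hye⟩ := hce.ge (hgT₂ ⟨x, hx, rfl⟩)
      replace hye : c * y * c⁻¹ = g * x * g⁻¹ := hye
      rw [← hye]
      simpa [mul_assoc] using hy
    have h2 : (MulAut.conj h).toMonoidHom x = c⁻¹ * (g * x * g⁻¹) * c := by
      show h * x * h⁻¹ = _
      rw [hh]; group
    refine ⟨?_, (Subgroup.mem_normalizer_iff.1 (Components.normalizer_le_normalizer_centralizer _ hhA) x).1 hx.2⟩
    exact mem_of_centralizer_pow hG hM hqs (hBT.trans hTM) hB hBc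
      (Subgroup.mem_centralizer_iff.2 fun b hb => hT₁c b (hBT₁ hb) _ (h2 ▸ h1))
      (by rw [← map_pow, hB.2 x hx.1, map_one])
  obtain ⟨L, hL, hNL⟩ := exists_coatom_ge (normalizer_ne_top hG hZ'1 (pgroup_ne_top hG hZ'p))
  have hBL : B ≤ L := ((Subgroup.le_centralizer B).trans (Subgroup.centralizer_le inf_le_left)).trans
    ((Subgroup.centralizer_le_normalizer _).trans hNL)
  have hAL : A ≤ L :=
    (Subgroup.le_centralizer_iff.1 (inf_le_right : Z' ≤ _)).trans ((Subgroup.centralizer_le_normalizer _).trans hNL)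
  by_cases hpL : p ∈ Cfsg.sigma L
  · exact hnC (centralizes_of_not_beta hG hL hpL hAL hA hqp (fun hb => hni hb.2) hZp (hZB.trans hBL) hAZ)
  by_cases hqL : q ∈ Cfsg.sigma L
  · refine hZ'1 (le_bot_iff.1 ?_)
    exact (le_inf (le_sigmaCore hG hL hqL hZ'p (inf_le_left.trans hBL)) inf_le_right).trans
      (sigmaCore_inf_centralizer_eq_bot hG hL hpL hAL hA hAc).le
  -- now `h` can be taken normalizing `B`
  have hhL : h ∈ L := hNL hhZ'
  have hBh : B.map (MulAut.conj h).toMonoidHom ≤ L := (Subgroup.map_mono hBL).trans (map_conj_le_of_mem hhL)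
  have hABh : A ≤ Subgroup.normalizer ((B.map (MulAut.conj h).toMonoidHom : Subgroup G) : Set G) :=
    (map_conj_eq_of_normalizer hhA).ge.trans ((Subgroup.map_mono hAB).trans (Subgroup.le_normalizer_map _))
  obtain ⟨U₁, U₂, hU₁, -, hU₁L, -, hBU₁, hBU₂, -, d, hd, hde⟩ := exists_conj_invariant hG hL hpL hAL hA hAc hpq
    hBp hBL hAB (hBp.map (MulAut.conj h).toMonoidHom) hBh hABh
  have hU₁c := commute_of_not_sigma hG hL hqL hU₁ hU₁L
  set k := d⁻¹ * h with hk
  have hkA : k ∈ Subgroup.normalizer (A : Set G) :=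
    mul_mem (inv_mem (Subgroup.centralizer_le_normalizer _ hd)) hhA
  have hkB : k ∈ Subgroup.normalizer (B : Set G) := by
    refine mem_normalizer_of_map_le ?_
    rintro _ ⟨x, hx, rfl⟩
    have h1 : d⁻¹ * (h * x * h⁻¹) * d ∈ U₁ := by
      obtain ⟨y, hy, hye⟩ := hde.ge (hBU₂ ⟨x, hx, rfl⟩)
      replace hye : d * y * d⁻¹ = h * x * h⁻¹ := hye
      rw [← hye]
      simpa [mul_assoc] using hy
    have h2 : (MulAut.conj k).toMonoidHom x = d⁻¹ * (h * x * h⁻¹) * d := by
      show k * x * k⁻¹ = _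
      rw [hk]; group
    exact mem_of_centralizer_pow hG hL hqL hBL hB hBc
      (Subgroup.mem_centralizer_iff.2 fun b hb => hU₁c b (hBU₁ hb) _ (h2 ▸ h1))
      (by rw [← map_pow, hB.2 x hx, map_one])
  have hkZ : k ∈ Subgroup.normalizer (Z : Set G) := by
    rw [← hBA, Subgroup.mem_normalizer_iff_map_conj_eq]
    show (⁅B, A⁆ : Subgroup G).map (MulAut.conj k).toMonoidHom = _
    rw [Subgroup.map_commutator, map_conj_eq_of_normalizer hkB, map_conj_eq_of_normalizer hkA]
  exact hhM (by simpa [hk] using M.mul_mem (hCA hd) (hNZ.le hkZ))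

/-- B&G 12.5 (c). -/
theorem le_normalizer_sigmaCore_sup (hG : Cfsg.IsMinSimpleOddOrder G) (hM : IsCoatom M) (hps : p ∉ Cfsg.sigma M)
    (hAM : A ≤ M) (hA : Cfsg.IsElementaryAbelian p A) (hAc : Nat.card A = p ^ 2) :
    M ≤ Subgroup.normalizer ((Cfsg.sigmaCore M ⊔ A : Subgroup G) : Set G) := by
  haveI := hA.1
  haveI := isSolvable_of_ne_top hG hM.1
  haveI := PCore.pPrimeCore_characteristic p ↥M
  set X := Cfsg.sigmaCore M ⊔ A with hX
  set W := (M ⊓ Subgroup.normalizer (A : Set G)) ⊔ Cfsg.sigmaCore M with hW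
  have hWX : W ≤ Subgroup.normalizer (X : Set G) := by
    refine sup_le ?_ ((le_sup_left : _ ≤ X).trans Subgroup.le_normalizer)
    intro m hm
    refine mem_normalizer_of_map_le ?_
    rw [hX, Subgroup.map_sup]
    exact sup_le_sup (map_conj_eq_of_normalizer (le_normalizer_sigmaCore M hm.1)).le
      (map_conj_eq_of_normalizer hm.2).le
  set K := (Cfsg.pPrimeCore p ↥M).map M.subtype with hK
  have hKM : K ≤ M := Subgroup.map_subtype_le _
  have hAK : A ≤ Subgroup.normalizer (K : Set G) :=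
    (hAM.trans Subgroup.le_normalizer).trans (le_normalizer_map_subtype_of_char _)
  have hcop : (Nat.card A).Coprime (Nat.card K) := coprime_card_of_not_dvd hAc (by
    rw [hK, Subgroup.card_map_of_injective M.subtype_injective]
    exact PCore.not_dvd_card_pPrimeCore p _)
  have hKW : K ≤ W := by
    rw [← Subgroup.relIndex_eq_one]
    refine Nat.eq_one_iff_not_exists_prime_dvd.2 fun s hs hd => ?_
    haveI := Fact.mk hs
    have hsK : s ∣ Nat.card K := hd.trans (Subgroup.index_dvd_card _)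
    have hsp : s ≠ p := by
      rintro rfl
      rw [hK, Subgroup.card_map_of_injective M.subtype_injective] at hsK
      exact PCore.not_dvd_card_pPrimeCore _ _ hsK
    obtain ⟨T, hT⟩ := CoprimeAction.exists_invariant_sylow (p := s) hAK hcop
      (Or.inl (Group.isSolvable_of_comm mul_comm'))
    have hTW : (T : Subgroup ↥K).map K.subtype ≤ W := by
      by_cases hss : s ∈ Cfsg.sigma M
      · exact (le_sigmaCore hG hM hss (T.isPGroup'.map _) ((Subgroup.map_subtype_le _).trans hKM)).trans le_sup_right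
      · refine le_trans (le_inf ((Subgroup.map_subtype_le _).trans hKM) ?_) le_sup_left
        exact (centralizes_of_not_sigma hG hM hps hAM hA hAc hss hsp (T.isPGroup'.map _)
          ((Subgroup.map_subtype_le _).trans hKM) hT).trans (Subgroup.centralizer_le_normalizer _)
    exact T.not_dvd_index (hd.trans (Subgroup.index_dvd_of_le fun x hx =>
      Subgroup.mem_subgroupOf.2 (hTW ⟨x, hx, rfl⟩)))
  obtain ⟨S, hS⟩ := exists_max_ge (isPGroup_of_elementary hA) hAM
  have hpM : p ∣ Nat.card M := (dvd_card_of_ne_bot (isPGroup_of_elementary hA) (ne_bot_of_card_sq hAc)).trans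
    (Subgroup.card_dvd_of_le hAM)
  set N := Cfsg.pPrimePCore p ↥M with hN
  haveI : N.Normal := PCore.pPrimePCore_normal p ↥M
  have hSN : (S : Subgroup M) ≤ N := by
    intro x hx
    obtain ⟨k, hk⟩ := S.isPGroup' ⟨x, hx⟩
    exact OddFitting.mem_of_coprime_pow (H := N)
      ((Cfsg.Agent.S1450.result (odd_card hG M) p hpM (prankLE_two_of_not_sigma hG hM hps)).2.2.2.2.2.symm.pow_left k)
      (show x ^ p ^ k = 1 from congrArg Subtype.val hk) (N.pow_index_mem x)
  have hNS : ∀ x ∈ (Subgroup.normalizer (S : Set M)), (x : G) ∈ Subgroup.normalizer (A : Set G) := by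
    intro x hx
    refine mem_normalizer_of_map_le ?_
    rintro _ ⟨a, ha, rfl⟩
    obtain ⟨b, hb, hba⟩ := hS ha
    refine (mem_iff_pow_eq_one hG hM hps hA hAc S hS _ ?_).1 (by rw [← map_pow, hA.2 a ha, map_one])
    exact ⟨x * b * x⁻¹, (Subgroup.mem_normalizer_iff.1 hx b).1 hb, by rw [← hba]; rfl⟩
  intro m hm
  refine hWX ?_
  have htop := Sylow.normalizer_sup_eq_top (N := N) (S.subtype hSN)
  rw [Sylow.coe_subtype, Subgroup.map_subgroupOf_eq_of_le hSN] at htop
  have hmem : (⟨m, hm⟩ : M) ∈ Subgroup.normalizer ((S : Subgroup M) : Set M) ⊔ N := htop ▸ Subgroup.mem_top _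
  have hle : (Subgroup.normalizer ((S : Subgroup M) : Set M) ⊔ N).map M.subtype ≤ W := by
    rw [Subgroup.map_sup]
    refine sup_le ?_ ?_
    · rintro _ ⟨x, hx, rfl⟩
      exact Subgroup.mem_sup_left ⟨x.2, hNS x hx⟩
    · have hsyl := PCore.sylow_pPrimePCore_sup (S.subtype hSN)
      rw [Sylow.coe_subtype, Subgroup.map_subgroupOf_eq_of_le hSN] at hsyl
      rw [hN, ← hsyl, Subgroup.map_sup]
      refine sup_le hKW ?_
      refine le_trans (le_inf (Subgroup.map_subtype_le _) ?_) le_sup_left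
      exact (Subgroup.le_centralizer_iff.1 (le_centralizer_sylow hG hM hps hA hAc S hS)).trans
        (Subgroup.centralizer_le_normalizer _)
  exact hle ⟨⟨m, hm⟩, hmem, rfl⟩

theorem normalizer_eq_of_nilpotent (hG : Cfsg.IsMinSimpleOddOrder G) (hM : IsCoatom M)
    (hn : Group.IsNilpotent (Cfsg.sigmaCore M)) (hs : p ∈ Cfsg.sigma M) (P : Sylow p G)
    (hP1 : (P : Subgroup G) ≠ ⊥) (hPM : (P : Subgroup G) ≤ M) :
    Subgroup.normalizer ((P : Subgroup G) : Set G) = M := by
  have hPσ := le_sigmaCore hG hM hs P.isPGroup' hPM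
  have hiff := (Group.isNilpotent_of_finite_tfae (G := ↥(Cfsg.sigmaCore M))).out 0 3
  have hPn := hiff.1 hn p inferInstance (P.subtype hPσ)
  haveI := Sylow.characteristic_of_normal (P.subtype hPσ) hPn
  have h := le_normalizer_map_subtype_of_char ((P.subtype hPσ : Sylow p _) : Subgroup ↥(Cfsg.sigmaCore M))
  rw [Sylow.coe_subtype, Subgroup.map_subgroupOf_eq_of_le hPσ] at h
  exact (hM.le_iff.1 ((le_normalizer_sigmaCore M).trans h)).resolve_left
    (normalizer_ne_top hG hP1 (pgroup_ne_top hG P.isPGroup'))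

/-- B&G 12.5 (e). -/
theorem sigmaCore_inf_maximal_eq_bot (hG : Cfsg.IsMinSimpleOddOrder G) (hM : IsCoatom M) (hps : p ∉ Cfsg.sigma M)
    (hAM : A ≤ M) (hA : Cfsg.IsElementaryAbelian p A) (hAc : Nat.card A = p ^ 2) {Ms : Subgroup G}
    (hMs : IsCoatom Ms) (hne : Ms ≠ M) (hAMs : A ≤ Ms) : Cfsg.sigmaCore M ⊓ Ms = ⊥ := by
  haveI := hA.1
  set D := Cfsg.sigmaCore M ⊓ Ms with hD
  by_contra hD1
  obtain ⟨r, hr, hrd⟩ := Nat.exists_prime_and_dvd (fun e => hD1 (Subgroup.card_eq_one.1 e))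
  haveI := Fact.mk hr
  have hrs : r ∈ Cfsg.sigma M := mem_sigma_of_dvd M hr (hrd.trans (Subgroup.card_dvd_of_le inf_le_left))
  have hrp : r ≠ p := fun e => hps (e ▸ hrs)
  have hAD : A ≤ Subgroup.normalizer (D : Set G) :=
    (le_inf (hAM.trans (le_normalizer_sigmaCore M)) (hAMs.trans Subgroup.le_normalizer)).trans
      Subgroup.inf_normalizer_le_normalizer_inf
  obtain ⟨S, hAS⟩ := CoprimeAction.exists_invariant_sylow hAD (coprime_card_of_not_dvd hAc fun h =>
    not_dvd_card_sigmaCore hps (h.trans (Subgroup.card_dvd_of_le inf_le_left)))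
    (Or.inl (Group.isSolvable_of_comm mul_comm')) r
  set R := (S : Subgroup ↥D).map D.subtype with hR
  have hRp : IsPGroup r R := S.isPGroup'.map _
  have hRD : R ≤ D := Subgroup.map_subtype_le _
  have hRM : R ≤ M := hRD.trans (inf_le_left.trans (Subgroup.map_subtype_le _))
  have hRMs : R ≤ Ms := hRD.trans inf_le_right
  have hR1 : R ≠ ⊥ := fun h => by
    have := S.dvd_card_of_dvd_card hrd
    rw [← Subgroup.card_map_of_injective D.subtype_injective (K := (S : Subgroup ↥D)), ← hR, h,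
      Subgroup.card_bot] at this
    exact hr.one_lt.ne' (Nat.dvd_one.1 this)
  have hd := sigmaCore_inf_centralizer_eq_bot hG hM hps hAM hA hAc
  have hRnC : ¬ R ≤ Subgroup.centralizer (A : Set G) := fun h =>
    hR1 (le_bot_iff.1 ((le_inf (hRD.trans inf_le_left) h).trans hd.le))
  have hpsMs : p ∉ Cfsg.sigma Ms := fun h =>
    hRnC (centralizes_of_sigma hG hM hps hMs h hAMs hA hrs hRp hRMs hAS)
  have hrsMs : r ∈ Cfsg.sigma Ms := by
    by_contra h
    exact hRnC (centralizes_of_not_sigma hG hMs hpsMs hAMs hA hAc h hrp hRp hRMs hAS)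
  obtain ⟨P, hRP, hPM, -⟩ := exists_sylow hrs hRp hRM
  obtain ⟨P', hRP', hP'M, -⟩ := exists_sylow hrsMs hRp hRMs
  have hP1 : (P : Subgroup G) ≠ ⊥ := fun h => hR1 (le_bot_iff.1 (hRP.trans h.le))
  have hNP := normalizer_eq_of_nilpotent hG hM (sigmaCore_nilpotent hG hM hps hAM hA hAc) hrs P hP1 hPM
  have hNP' := normalizer_eq_of_nilpotent hG hMs (sigmaCore_nilpotent hG hMs hpsMs hAMs hA hAc) hrsMs P'
    (fun h => hR1 (le_bot_iff.1 (hRP'.trans h.le))) hP'M
  obtain ⟨h, hh⟩ := MulAction.exists_smul_eq G P' P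
  have hhP : (P' : Subgroup G).map (MulAut.conj h).toMonoidHom = (P : Subgroup G) :=
    congrArg Sylow.toSubgroup hh
  have hMsM : Ms.map (MulAut.conj h).toMonoidHom = M := by
    have h1 : (Subgroup.normalizer ((P' : Subgroup G) : Set G)).map (MulAut.conj h).toMonoidHom =
        Subgroup.normalizer (((P' : Subgroup G).map (MulAut.conj h).toMonoidHom : Subgroup G) : Set G) :=
      Subgroup.map_equiv_normalizer_eq _ (MulAut.conj h)
    rwa [hhP, hNP, hNP'] at h1
  have hCRM : ¬ Subgroup.centralizer (R : Set G) ≤ M := fun hC => by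
    have hhM : h ∈ M := mem_of_conj_mem hG hM hrs hRp hR1 hRM hC ((Subgroup.map_mono hRMs).trans hMsM.le)
    have := congrArg (Subgroup.map (MulAut.conj h⁻¹).toMonoidHom) hMsM
    rw [map_conj_map, inv_mul_cancel, map_conj_one, map_eq_of_mem_normalizer (inv_mem hhM)] at this
    exact hne this
  haveI hRc : IsCyclic R := by
    by_contra hc
    exact hCRM (centralizer_le_of_noncyclic hG hM hRp hRM hc)
  obtain ⟨z, hzR, hzo, -⟩ := exists_elem_pow hRp hR1
  set Z := Subgroup.zpowers z with hZdef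
  have hZR : Z ≤ R := Subgroup.zpowers_le.2 hzR
  have hZc : Nat.card Z = r := by rw [hZdef, Nat.card_zpowers, hzo]
  have hZp : IsPGroup r Z := hRp.to_le hZR
  have hZ1 : Z ≠ ⊥ := fun e => by
    rw [e, Subgroup.card_bot] at hZc
    exact hr.one_lt.ne hZc
  have hAZ : A ≤ Subgroup.normalizer (Z : Set G) := hAS.trans (normalizer_le_normalizer_of_cyclic hZR)
  have hnC : ¬ Z ≤ Subgroup.centralizer (A : Set G) := fun h' =>
    hZ1 (le_bot_iff.1 ((le_inf (hZR.trans (hRD.trans inf_le_left)) h').trans hd.le))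
  obtain ⟨L, hL, hNL⟩ := exists_coatom_ge (normalizer_ne_top hG hZ1 (pgroup_ne_top hG hZp))
  have hLM : L ≠ M := fun e => hCRM ((Subgroup.centralizer_le hZR).trans
    ((Subgroup.centralizer_le_normalizer _).trans (hNL.trans e.le)))
  have hAL : A ≤ L := hAZ.trans hNL
  have hpsL : p ∉ Cfsg.sigma L := fun h' =>
    hnC (centralizes_of_sigma hG hM hps hL h' hAL hA hrs hZp (Subgroup.le_normalizer.trans hNL) hAZ)
  by_cases hrL : r ∈ Cfsg.sigma L
  · set R' := (P : Subgroup G) ⊓ Subgroup.centralizer (Z : Set G) with hR'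
    have hR'p : IsPGroup r R' := P.isPGroup'.to_le inf_le_left
    have hCR' := centralizer_fixed_le hG hM P hPM hNP.le hZc (hZR.trans hRP)
    haveI : IsCyclic Z := isCyclic_of_prime_card hZc
    haveI : IsMulCommutative Z := IsCyclic.isMulCommutative
    have hR'1 : R' ≠ ⊥ := fun e =>
      hZ1 (le_bot_iff.1 ((le_inf (hZR.trans hRP) (Subgroup.le_centralizer Z)).trans e.le))
    obtain ⟨Q, hR'Q, -, hNQ⟩ := exists_sylow hrL hR'p
      ((inf_le_right : R' ≤ _).trans ((Subgroup.centralizer_le_normalizer _).trans hNL))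
    obtain ⟨m, hm⟩ := MulAction.exists_smul_eq G Q P
    have hmQ : (Q : Subgroup G).map (MulAut.conj m).toMonoidHom = (P : Subgroup G) :=
      congrArg Sylow.toSubgroup hm
    have hmM : m ∈ M := mem_of_conj_mem hG hM hrs hR'p hR'1 (inf_le_left.trans hPM) hCR'
      ((Subgroup.map_mono hR'Q).trans (hmQ.le.trans hPM))
    have hQP : (Q : Subgroup G) = (P : Subgroup G) := by
      have h1 := congrArg (Subgroup.map (MulAut.conj m⁻¹).toMonoidHom) hmQ
      rwa [map_conj_map, inv_mul_cancel, map_conj_one,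
        map_conj_eq_of_normalizer (hNP.ge (inv_mem hmM))] at h1
    rw [hQP, hNP] at hNQ
    exact hLM (eq_of_coatom_le hL hM hNQ).symm
  · exact hnC (centralizes_of_not_sigma hG hL hpsL hAL hA hAc hrL hrp hZp (Subgroup.le_normalizer.trans hNL) hAZ)

end CfsgLib.SigmaGroups
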