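import Cfsg.Agent.Sigma.TauTwoInvariant
import Cfsg.Agent.Sigma.Complement
import Cfsg.Agent.Hall.Pi
import Cfsg.Agent.S1418

/-!
Complements of `M_σ` around the subgroups `A` of order `p ^ 2` (`p ∈ τ₂(M)`).
-/

set_option autoImplicit false
set_option linter.unusedSectionVars false
set_option linter.style.haveILetI false

namespace CfsgLib.SigmaGroups

open CfsgLib.BenderUnique CfsgLib.Uniq
open scoped commutatorElement

universe u

variable {G : Type u} [Group G] [Finite G] {p : ℕ} [hp : Fact p.Prime] {M E A : Subgroup G}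

theorem isComplIn_of_hall (hG : Cfsg.IsMinSimpleOddOrder G) (hM : IsCoatom M)
    (hE : Cfsg.IsPiHallOf {q | q.Prime ∧ q ∉ Cfsg.sigma M} E M) : Cfsg.IsComplIn E (Cfsg.sigmaCore M) M := by
  set S := Cfsg.sigmaCore M with hS
  have hEn : E ≤ Subgroup.normalizer (S : Set G) := hE.1.trans (le_normalizer_sigmaCore M)
  have hinf : E ⊓ S = ⊥ := CoprimeAction.inf_eq_bot_of_coprime (Nat.coprime_of_dvd fun t ht h1 h2 =>
    (hE.2.1 t ht h1).2 (mem_sigma_of_dvd M ht h2))
  refine ⟨hE.1, Subgroup.map_subtype_le _, hinf, fun m hm => ?_⟩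
  have hle : M ≤ E ⊔ S := by
    rw [← Subgroup.relIndex_eq_one]
    refine Nat.eq_one_iff_not_exists_prime_dvd.2 fun t ht hd => ?_
    by_cases hts : t ∈ Cfsg.sigma M
    · exact (sigmaCore_hallOf hG hM).2.2 t ht hts (hd.trans (Subgroup.relIndex_dvd_of_le_left _ le_sup_right))
    · exact hE.2.2 t ht ⟨ht, hts⟩ (hd.trans (Subgroup.relIndex_dvd_of_le_left _ le_sup_left))
  have h := hle hm
  rw [← SetLike.mem_coe, Subgroup.coe_mul_of_left_le_normalizer_right _ _ hEn] at h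
  obtain ⟨a, ha, b, hb, rfl⟩ := h
  exact ⟨a, ha, b, hb, rfl⟩

theorem hallOf_of_isComplIn (hG : Cfsg.IsMinSimpleOddOrder G) (hM : IsCoatom M)
    (hE : Cfsg.IsComplIn E (Cfsg.sigmaCore M) M) :
    Cfsg.IsPiHallOf {q | q.Prime ∧ q ∉ Cfsg.sigma M} E M := by
  refine ⟨hE.1, fun t ht hd => ⟨ht, fun hs => not_dvd_card_complement hG hM hE ht hs hd⟩, fun t ht hts hd => ?_⟩
  rw [(TypeP.relIndex_eq_of_isComplIn hE).1] at hd
  exact hts.2 (mem_sigma_of_dvd M ht hd)

theorem exists_complement_ge (hG : Cfsg.IsMinSimpleOddOrder G) (hM : IsCoatom M) {Y : Subgroup G} (hYM : Y ≤ M)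
    (hY : ∀ t : ℕ, t.Prime → t ∣ Nat.card Y → t ∉ Cfsg.sigma M) :
    ∃ E : Subgroup G, Y ≤ E ∧ Cfsg.IsComplIn E (Cfsg.sigmaCore M) M := by
  haveI := isSolvable_of_ne_top hG hM.1
  obtain ⟨H, hH, hYH⟩ := Hall.exists_isPiHall_ge (π := {q | q.Prime ∧ q ∉ Cfsg.sigma M}) (K := Y.subgroupOf M)
    fun t ht hd => ⟨ht, hY t ht (by rwa [Nat.card_congr (Subgroup.subgroupOfEquivOfLe hYM).toEquiv] at hd)⟩
  refine ⟨H.map M.subtype, ?_, isComplIn_of_hall hG hM (Hall.isPiHallOf_map hH)⟩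
  rw [← Subgroup.map_subgroupOf_eq_of_le hYM]
  exact Subgroup.map_mono hYH

/-- Every `σ(M)'`-subgroup of `M` is conjugate into `E`. -/
theorem exists_conj_le_complement (hG : Cfsg.IsMinSimpleOddOrder G) (hM : IsCoatom M)
    (hE : Cfsg.IsComplIn E (Cfsg.sigmaCore M) M) {Y : Subgroup G} (hYM : Y ≤ M)
    (hY : ∀ t : ℕ, t.Prime → t ∣ Nat.card Y → t ∉ Cfsg.sigma M) :
    ∃ m ∈ M, Y.map (MulAut.conj m).toMonoidHom ≤ E := by
  haveI := isSolvable_of_ne_top hG hM.1
  obtain ⟨E', hYE, hE'⟩ := exists_complement_ge hG hM hYM hY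
  obtain ⟨m, hm, hme⟩ := Hall.piHallOf_conj (hallOf_of_isComplIn hG hM hE') (hallOf_of_isComplIn hG hM hE)
  refine ⟨m, hm, ?_⟩
  rintro _ ⟨y, hy, rfl⟩
  rw [← hme]
  exact Subgroup.smul_mem_pointwise_smul y (MulAut.conj m) E' (hYE hy)

theorem exists_elementary_in_complement (hG : Cfsg.IsMinSimpleOddOrder G) (hM : IsCoatom M)
    (hE : Cfsg.IsComplIn E (Cfsg.sigmaCore M) M) (hps : p ∉ Cfsg.sigma M) (hr1 : ¬ Cfsg.PRankLE p 1 ↥M) :
    ∃ A : Subgroup G, A ≤ E ∧ Cfsg.IsElementaryAbelian p A ∧ Nat.card A = p ^ 2 := by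
  obtain ⟨B, hBM, hB, hBc⟩ := exists_elem_of_not_prank hr1
  obtain ⟨m, -, hm⟩ := exists_conj_le_complement hG hM hE hBM fun t ht hd hts => by
    rw [hBc] at hd
    exact hps ((Nat.prime_dvd_prime_iff_eq ht hp.out).1 (ht.dvd_of_dvd_pow hd) ▸ hts)
  exact ⟨_, hm, elementary_map_conj hB m, (card_map_conj B m).trans hBc⟩

theorem mem_tau2_of_elementary (hG : Cfsg.IsMinSimpleOddOrder G) (hM : IsCoatom M) (hps : p ∉ Cfsg.sigma M)
    (hAM : A ≤ M) (hA : Cfsg.IsElementaryAbelian p A) (hAc : Nat.card A = p ^ 2) : p ∈ Cfsg.tau2 M :=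
  ⟨hp.out, hps, prankLE_two_of_not_sigma hG hM hps,
    not_prank_of_elem hAM hA (by rw [pow_one, hAc]; exact lt_self_pow₀ hp.out.one_lt one_lt_two)⟩

theorem le_normalizer_elementary (hG : Cfsg.IsMinSimpleOddOrder G) (hM : IsCoatom M)
    (hE : Cfsg.IsComplIn E (Cfsg.sigmaCore M) M) (hps : p ∉ Cfsg.sigma M) (hAE : A ≤ E)
    (hA : Cfsg.IsElementaryAbelian p A) (hAc : Nat.card A = p ^ 2) : E ≤ Subgroup.normalizer (A : Set G) :=
  (Cfsg.Agent.S1418.result hG M hM E hE p (mem_tau2_of_elementary hG hM hps (hAE.trans hE.1) hA hAc) A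
    ⟨hAE, hA, hAc⟩).1.1

/-- The `τ₂(M)`-elements of `E` centralize `A`. -/
theorem tau2_commute (hG : Cfsg.IsMinSimpleOddOrder G) (hM : IsCoatom M)
    (hE : Cfsg.IsComplIn E (Cfsg.sigmaCore M) M) (hps : p ∉ Cfsg.sigma M) (hAE : A ≤ E)
    (hA : Cfsg.IsElementaryAbelian p A) (hAc : Nat.card A = p ^ 2) {q : ℕ} [Fact q.Prime]
    (hq : q ∈ Cfsg.tau2 M) {W : Subgroup G} (hW : IsPGroup q W) (hWE : W ≤ E) :
    W ≤ Subgroup.centralizer (A : Set G) := by
  obtain ⟨-, hqs, -, hq1⟩ := hq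
  have hAM : A ≤ M := hAE.trans hE.1
  have hWA : W ≤ Subgroup.normalizer (A : Set G) := hWE.trans (le_normalizer_elementary hG hM hE hps hAE hA hAc)
  by_cases hqp : q = p
  · subst hqp
    have hc := commute_of_not_sigma hG hM hps (T := W ⊔ A)
      (hW.to_sup_of_normal_right' (isPGroup_of_elementary hA) hWA) (sup_le (hWE.trans hE.1) hAM)
    exact fun x hx => Subgroup.mem_centralizer_iff.2 fun a ha =>
      hc a (Subgroup.mem_sup_right ha) x (Subgroup.mem_sup_left hx)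
  obtain ⟨B, hBE, hB, hBc⟩ := exists_elementary_in_complement hG hM hE hqs hq1
  have hEB := le_normalizer_elementary hG hM hE hqs hBE hB hBc
  have hBp := isPGroup_of_elementary hB
  have hWB : W ≤ Subgroup.centralizer (B : Set G) := by
    have hc := commute_of_not_sigma hG hM hqs (T := W ⊔ B) (hW.to_sup_of_normal_right' hBp (hWE.trans hEB))
      (sup_le (hWE.trans hE.1) (hBE.trans hE.1))
    exact fun x hx => Subgroup.mem_centralizer_iff.2 fun a ha =>
      hc a (Subgroup.mem_sup_right ha) x (Subgroup.mem_sup_left hx)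
  have hBA := centralizes_of_not_sigma hG hM hps hAM hA hAc hqs hqp hBp (hBE.trans hE.1) (hAE.trans hEB)
  obtain ⟨L, hL, hNL⟩ := exists_coatom_ge (normalizer_ne_top hG (ne_bot_of_card_sq hBc) (pgroup_ne_top hG hBp))
  have hCL : Subgroup.centralizer (B : Set G) ≤ L := (Subgroup.centralizer_le_normalizer _).trans hNL
  have hqL := sigma_of_normalizer_elementary hG hB hBc hL hNL
  have hAL : A ≤ L := (Subgroup.le_centralizer_iff.1 hBA).trans hCL
  have hpL : p ∈ Cfsg.sigma L := by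
    by_contra hpL
    exact ne_bot_of_card_sq hBc (le_bot_iff.1 ((le_inf (le_sigmaCore hG hL hqL hBp
      (Subgroup.le_normalizer.trans hNL)) hBA).trans (sigmaCore_inf_centralizer_eq_bot hG hL hpL hAL hA hAc).le))
  have hni := not_ideal hG hM hps (mem_tau2_of_elementary hG hM hps hAM hA hAc).2.2.2
  refine le_centralizer_of_not_beta hG hL hpL (fun hb => hni hb.2) (isPGroup_of_elementary hA) hAL ?_
    (card_coprime (p := p) (q := q) hW hqp) hWA
  refine (le_sigmaCore hG hL hqL hW (hWB.trans hCL)).trans ?_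
  rw [Cfsg.sigmaCore, ← Subgroup.map_subtype_commutator]
  exact Subgroup.map_mono (piCore_le_commutator hG hL subset_rfl)

/-- A nilpotent `σ(M)'`-subgroup of `M` is abelian. -/
theorem le_centralizer_of_nilpotent (hG : Cfsg.IsMinSimpleOddOrder G) (hM : IsCoatom M) {N : Subgroup G}
    (hNM : N ≤ M) (hN : Group.IsNilpotent N) (hπ : ∀ t : ℕ, t.Prime → t ∣ Nat.card N → t ∉ Cfsg.sigma M) :
    N ≤ Subgroup.centralizer (N : Set G) := by
  haveI := hN
  refine le_of_prime_subgroups fun t ht T hT hTN => Subgroup.le_centralizer_iff.1 ?_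
  haveI := Fact.mk ht
  refine le_of_prime_subgroups fun s hs U hU hUN x hx => Subgroup.mem_centralizer_iff.2 fun y hy => ?_
  haveI := Fact.mk hs
  by_cases hst : t = s
  · subst hst
    by_cases hT1 : T = ⊥
    · have hy' : y ∈ (⊥ : Subgroup G) := hT1 ▸ hy
      rw [Subgroup.mem_bot.1 hy', one_mul, mul_one]
    have hts := hπ t ht ((dvd_card_of_ne_bot hT hT1).trans (Subgroup.card_dvd_of_le hTN))
    obtain ⟨S₀⟩ : Nonempty (Sylow t ↥N) := inferInstance
    have hiff := (Group.isNilpotent_of_finite_tfae (G := ↥N)).out 0 3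
    letI := Sylow.unique_of_normal S₀ (hiff.1 hN t inferInstance S₀)
    have hmax : ∀ V : Subgroup G, IsPGroup t V → V ≤ N → V ≤ (S₀ : Subgroup ↥N).map N.subtype := fun V hV hVN => by
      obtain ⟨V', hV'⟩ := IsPGroup.exists_le_sylow (hV.of_equiv (Subgroup.subgroupOfEquivOfLe hVN).symm)
      rw [← Subgroup.map_subgroupOf_eq_of_le hVN]
      exact Subgroup.map_mono (hV'.trans (le_of_eq (by rw [Subsingleton.elim V' S₀])))
    exact commute_of_not_sigma hG hM hts (S₀.isPGroup'.map N.subtype) ((Subgroup.map_subtype_le _).trans hNM)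
      y (hmax T hT hTN hy) x (hmax U hU hUN hx)
  · exact (Hall.commute_of_nilpotent_le N hst hTN hUN hT hU y hy x hx).eq

end CfsgLib.SigmaGroups
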