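import Cfsg.Agent.Sigma.SigmaDisjoint
import Cfsg.Agent.S1420

/-!
Lines outside `σ(M)` with nontrivial fixed points in `M_σ`: neighbours, and lines that move `τ₃`-lines.
-/

set_option autoImplicit false
set_option linter.unusedSectionVars false
set_option linter.style.haveILetI false

namespace CfsgLib.SigmaGroups

open CfsgLib.BenderUnique CfsgLib.Uniq
open scoped commutatorElement

universe u

variable {G : Type u} [Group G] [Finite G] {p q r : ℕ} [hp : Fact p.Prime] [hq : Fact q.Prime] [hr : Fact r.Prime]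
  {M N E P X : Subgroup G}

omit hq hr [Finite G] in
theorem line_ne_bot (hP : Nat.card P = p) : P ≠ ⊥ := fun h =>
  hp.out.one_lt.ne (by rw [← hP, h, Subgroup.card_bot])

omit hq hr in
theorem isPGroup_line (hP : Nat.card P = p) : IsPGroup p P := IsPGroup.of_card (n := 1) (by rw [hP, pow_one])

omit hq hr in
theorem exists_gen_line (hP : Nat.card P = p) : ∃ x : G, Subgroup.zpowers x = P ∧ orderOf x = p := by
  obtain ⟨⟨x, hx⟩, hxo⟩ := exists_prime_orderOf_dvd_card' (G := P) p (dvd_of_eq hP.symm)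
  rw [Subgroup.orderOf_mk] at hxo
  exact ⟨x, Subgroup.eq_of_le_of_card_ge (Subgroup.zpowers_le.2 hx) (by rw [Nat.card_zpowers, hxo, hP]), hxo⟩

omit hq hr in
theorem exists_elem_prime {H : Subgroup G} (hd : p ∣ Nat.card H) : ∃ x ∈ H, orderOf x = p := by
  obtain ⟨⟨x, hx⟩, hxo⟩ := exists_prime_orderOf_dvd_card' (G := H) p hd
  rw [Subgroup.orderOf_mk] at hxo
  exact ⟨x, hx, hxo⟩

omit hp hq hr in
/-- The `σ`-cores of nonconjugate maximal subgroups meet trivially. -/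
theorem sigmaCore_inf_sigmaCore (hG : Cfsg.IsMinSimpleOddOrder G) (hM : IsCoatom M) (hN : IsCoatom N)
    (hnc : ∀ g : G, N ≠ M.map (MulAut.conj g).toMonoidHom) : Cfsg.sigmaCore M ⊓ Cfsg.sigmaCore N = ⊥ := by
  by_contra h
  obtain ⟨t, ht, hd⟩ := Nat.exists_prime_and_dvd fun e => h (Subgroup.card_eq_one.1 e)
  haveI := Fact.mk ht
  exact sigma_disjoint hG hM hN hnc (mem_sigma_of_dvd M ht (hd.trans (Subgroup.card_dvd_of_le inf_le_left)))
    (mem_sigma_of_dvd N ht (hd.trans (Subgroup.card_dvd_of_le inf_le_right)))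

omit hp hq hr in
/-- `N_σ ∩ M` centralizes `M_σ ∩ N`. -/
theorem sigma_inf_commute (hG : Cfsg.IsMinSimpleOddOrder G) (hM : IsCoatom M) (hN : IsCoatom N)
    (hnc : ∀ g : G, N ≠ M.map (MulAut.conj g).toMonoidHom) :
    Cfsg.sigmaCore N ⊓ M ≤ Subgroup.centralizer ((Cfsg.sigmaCore M ⊓ N : Subgroup G) : Set G) := by
  refine Subgroup.commutator_eq_bot_iff_le_centralizer.1 (le_bot_iff.1 ?_)
  rw [← sigmaCore_inf_sigmaCore hG hM hN hnc]
  refine le_inf ?_ ?_
  · rw [Subgroup.commutator_comm]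
    exact (Subgroup.commutator_mono inf_le_left inf_le_right).trans
      (CoprimeAction.commutator_le_of_normalizer (le_normalizer_sigmaCore M))
  · exact (Subgroup.commutator_mono inf_le_left inf_le_right).trans
      (CoprimeAction.commutator_le_of_normalizer (le_normalizer_sigmaCore N))

omit hr in
/-- A fixed element of prime order of a line outside `σ(M)`, seen from a neighbour. -/
theorem fixed_line_basic (hG : Cfsg.IsMinSimpleOddOrder G) (hM : IsCoatom M) (hps : p ∉ Cfsg.sigma M)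
    (hr1 : Cfsg.PRankLE p 1 ↥M) (hP : Nat.card P = p) (hPM : P ≤ M) (hN : IsCoatom N)
    (hNP : Subgroup.normalizer (P : Set G) ≤ N) {z : G} (hzS : z ∈ Cfsg.sigmaCore M)
    (hzP : z ∈ Subgroup.centralizer (P : Set G)) (hzo : orderOf z = q) :
    q ∈ Cfsg.sigma M ∧ q ∉ Cfsg.sigma N ∧ p ∈ Cfsg.sigma N ∧
      (∀ g : G, N ≠ M.map (MulAut.conj g).toMonoidHom) ∧ Cfsg.PRankLE q 1 ↥N ∧
      ∀ L : Subgroup G, IsCoatom L → Subgroup.normalizer (Subgroup.zpowers z : Set G) ≤ L → L = M := by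
  have hqM : q ∈ Cfsg.sigma M := mem_sigma_of_dvd M hq.out (hzo ▸ Subgroup.orderOf_dvd_natCard _ hzS)
  have hz1 : z ≠ 1 := fun h => hq.out.one_lt.ne (by rw [← hzo, h, orderOf_one])
  have hfix : Cfsg.sigmaCore M ⊓ Subgroup.centralizer (P : Set G) ≠ ⊥ := fun h =>
    hz1 (Subgroup.mem_bot.1 (h ▸ Subgroup.mem_inf.2 ⟨hzS, hzP⟩))
  have hpN := mem_sigma_neighbour hG hM hps hr1 hP hPM hfix hN hNP
  have hnc : ∀ g : G, N ≠ M.map (MulAut.conj g).toMonoidHom := fun g e =>
    hps ((mem_sigma_conj_iff g).1 (e ▸ hpN))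
  have hNM : N ≠ M := fun e => hnc 1 (by rw [map_conj_one, e])
  have hqN := sigma_disjoint hG hM hN hnc hqM
  have hPN : P ≤ N := Subgroup.le_normalizer.trans hNP
  have hzN : z ∈ N := hNP (Subgroup.centralizer_le_normalizer _ hzP)
  have hzM : z ∈ M := (Subgroup.map_subtype_le _ : Cfsg.sigmaCore M ≤ M) hzS
  have hPσ : P ≤ Cfsg.sigmaCore N := le_sigmaCore hG hN hpN (isPGroup_line hP) hPN
  set Z := Subgroup.zpowers z with hZ
  have hZc : Nat.card Z = q := by rw [hZ, Nat.card_zpowers, hzo]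
  have hrkN : Cfsg.PRankLE q 1 ↥N := by
    by_contra hrk
    obtain ⟨A, hAN, hA, hAc⟩ := exists_elem_of_not_prank hrk
    obtain ⟨F, -, hF⟩ := exists_complement_ge hG hN (bot_le : (⊥ : Subgroup G) ≤ N) fun t ht hd =>
      absurd ((Subgroup.card_bot (G := G)) ▸ hd) ht.not_dvd_one
    have hhat : z ∈ Cfsg.sigmaHat N := by
      obtain ⟨x, hxe, hxo⟩ := exists_gen_line hP
      have hxP : x ∈ P := hxe ▸ Subgroup.mem_zpowers x
      exact ⟨hzN, x, hPσ hxP, fun h => hp.out.one_lt.ne (by rw [← hxo, h, orderOf_one]),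
        (Subgroup.mem_centralizer_iff.1 hzP x hxP).symm⟩
    obtain ⟨hCz, huniq⟩ := (Cfsg.Agent.S1420.result hG N hN F hF).2.2.2 z hzN hz1 (fun t ht hd => by
      rw [hzo] at hd
      exact (Nat.prime_dvd_prime_iff_eq ht hq.out).1 hd ▸ mem_tau2_of_elementary hG hN hqN hAN hA hAc) hhat
    obtain ⟨L, hL, hNL⟩ := exists_coatom_ge (normalizer_zpowers_ne_top hG hz1)
    have hCL : Subgroup.centralizer ({z} : Set G) ≤ L := by
      rw [← centralizer_zpowers]
      exact (Subgroup.centralizer_le_normalizer _).trans hNL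
    rw [huniq L hL hCL] at hNL
    have hZ' : Z ≤ M ⊓ N := le_inf (Subgroup.zpowers_le.2 hzM) (Subgroup.zpowers_le.2 hzN)
    obtain ⟨S, hS⟩ := exists_max_ge (isPGroup_line hZc) hZ'
    have h := (embedding_nonsigma hG hM hqM (isPGroup_line hZc) (line_ne_bot hZc) hN hNM hNL S hS hqN).2.2.1
    exact line_ne_bot hP (le_bot_iff.1 (h ▸ le_inf hPσ hPM))
  refine ⟨hqM, hqN, hpN, hnc, hrkN, fun L hL hNL => ?_⟩
  by_contra hLM
  have hfixN : Cfsg.sigmaCore N ⊓ Subgroup.centralizer (Z : Set G) ≠ ⊥ := fun h =>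
    line_ne_bot hP (le_bot_iff.1 (h ▸ le_inf hPσ (Subgroup.le_centralizer_iff.1 (Subgroup.zpowers_le.2 hzP))))
  have hqL := mem_sigma_neighbour hG hN hqN hrkN hZc (Subgroup.zpowers_le.2 hzN) hfixN hL hNL
  obtain ⟨S, hS⟩ := exists_max_ge (isPGroup_line hZc)
    (le_inf (Subgroup.zpowers_le.2 hzM) (Subgroup.le_normalizer.trans hNL) : Z ≤ M ⊓ L)
  exact sigma_disjoint hG hM hL
    (embedding_basic hG hM hqM (isPGroup_line hZc) (line_ne_bot hZc) hL hLM hNL S hS).1 hqM hqL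

omit hr in
theorem normalizer_le_of_fixed (hG : Cfsg.IsMinSimpleOddOrder G) (hM : IsCoatom M) (hps : p ∉ Cfsg.sigma M)
    (hr1 : Cfsg.PRankLE p 1 ↥M) (hP : Nat.card P = p) (hPM : P ≤ M) {z : G} (hzS : z ∈ Cfsg.sigmaCore M)
    (hzP : z ∈ Subgroup.centralizer (P : Set G)) (hzo : orderOf z = q) :
    Subgroup.normalizer (Subgroup.zpowers z : Set G) ≤ M := by
  obtain ⟨N, hN, hNP, -⟩ := exists_max_normalizer hG hM hps hr1 hP
  obtain ⟨L, hL, hNL⟩ := exists_coatom_ge (normalizer_zpowers_ne_top hG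
    fun h => hq.out.one_lt.ne (by rw [← hzo, h, orderOf_one]) : Subgroup.normalizer (Subgroup.zpowers z : Set G) ≠ ⊤)
  exact (fixed_line_basic hG hM hps hr1 hP hPM hN hNP hzS hzP hzo).2.2.2.2.2 L hL hNL ▸ hNL

omit hq hr in
/-- The centralizer of an element of `M_σ` fixed by a rank one line outside `σ(M)` lies in `M`. -/
theorem centralizer_le_of_fixed (hG : Cfsg.IsMinSimpleOddOrder G) (hM : IsCoatom M) (hps : p ∉ Cfsg.sigma M)
    (hr1 : Cfsg.PRankLE p 1 ↥M) (hP : Nat.card P = p) (hPM : P ≤ M) {x : G} (hxS : x ∈ Cfsg.sigmaCore M)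
    (hx1 : x ≠ 1) (hxP : x ∈ Subgroup.centralizer (P : Set G)) : Subgroup.centralizer ({x} : Set G) ≤ M := by
  obtain ⟨t, ht, hd⟩ := Nat.exists_prime_and_dvd fun h => hx1 (orderOf_eq_one_iff.1 h)
  haveI := Fact.mk ht
  obtain ⟨z, hz, hzo⟩ := exists_elem_prime (p := t) (H := Subgroup.zpowers x) (by rwa [Nat.card_zpowers])
  refine le_trans ?_ ((Subgroup.centralizer_le_normalizer _).trans
    (normalizer_le_of_fixed hG hM hps hr1 hP hPM (Subgroup.zpowers_le.2 hxS hz) (Subgroup.zpowers_le.2 hxP hz) hzo))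
  rw [← centralizer_zpowers x]
  exact Subgroup.centralizer_le (Subgroup.zpowers_le.2 hz)

omit hq in
/-- A line moving `P` whose fixed points in `M_σ` all centralize `P` makes `P` centralize `M_σ`. -/
theorem le_centralizer_sigmaCore_of_moves (hG : Cfsg.IsMinSimpleOddOrder G) (hM : IsCoatom M)
    (hps : p ∉ Cfsg.sigma M) (hrs : r ∉ Cfsg.sigma M) (hpr : p ≠ r) (hP : Nat.card P = p) (hPM : P ≤ M)
    (hX : Nat.card X = r) (hXM : X ≤ M) (hXP : X ≤ Subgroup.normalizer (P : Set G))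
    (hmove : ¬ X ≤ Subgroup.centralizer (P : Set G))
    (hfix : Cfsg.sigmaCore M ⊓ Subgroup.centralizer (X : Set G) ≤ Subgroup.centralizer (P : Set G)) :
    P ≤ Subgroup.centralizer (Cfsg.sigmaCore M : Set G) := by
  have hp2 : p ≠ 2 := ne_two hG (hP ▸ Subgroup.card_subgroup_dvd_card P)
  have he : ⁅P, X⁆ = P := commutator_eq_self_of_prime (by rw [hP]; exact hp.out) hXP
    fun h => hmove (Subgroup.le_centralizer_iff.1 h)
  set K := Cfsg.sigmaCore M with hK
  have hPK : P ≤ Subgroup.normalizer (K : Set G) := hPM.trans (le_normalizer_sigmaCore M)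
  have hXK : X ≤ Subgroup.normalizer (K : Set G) := hXM.trans (le_normalizer_sigmaCore M)
  haveI : Group.IsSolvable K := isSolvable_of_ne_top hG fun h =>
    hM.1 (top_le_iff.1 (h ▸ (Subgroup.map_subtype_le _ : Cfsg.sigmaCore M ≤ M)))
  have hcop : (Nat.card ↥(P ⊔ X)).Coprime (Nat.card K) := by
    refine Nat.coprime_of_dvd fun t ht h1 h2 => ?_
    have h3 : t ∣ Nat.card X * Nat.card P := h1.trans (by
      rw [sup_comm, ← ZJ.card_sup_mul_card_inf_of_le_normalizer hXP]; exact dvd_mul_right _ _)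
    rw [hX, hP] at h3
    rcases ht.dvd_mul.1 h3 with h | h
    · exact hrs ((Nat.prime_dvd_prime_iff_eq ht hr.out).1 h ▸ mem_sigma_of_dvd M ht h2)
    · exact hps ((Nat.prime_dvd_prime_iff_eq ht hp.out).1 h ▸ mem_sigma_of_dvd M ht h2)
  rw [Subgroup.le_centralizer_iff]
  refine le_of_invariant_subgroups (sup_le hPK hXK) hcop fun l hl hld T hT hTK hn => ?_
  have hlp : l ≠ p := fun e => hps (e ▸ mem_sigma_of_dvd M hl hld)
  have hlr : l ≠ r := fun e => hrs (e ▸ mem_sigma_of_dvd M hl hld)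
  have h := commutator_le_centralizer_of_fixed hl hp.out hr.out hlp hlr hpr hp2 (isPGroup_line hP) hX hT hXP
    (le_sup_left.trans hn) (le_sup_right.trans hn) ((inf_le_inf_right _ hTK).trans hfix)
  rw [he] at h
  exact Subgroup.le_centralizer_iff.1 h

omit hq hr in
/-- A line normal in a complement of `M_σ` cannot centralize `M_σ`. -/
theorem not_le_centralizer_sigmaCore (hG : Cfsg.IsMinSimpleOddOrder G) (hM : IsCoatom M) (hps : p ∉ Cfsg.sigma M)
    (hr1 : Cfsg.PRankLE p 1 ↥M) (hE : Cfsg.IsComplIn E (Cfsg.sigmaCore M) M) (hP : Nat.card P = p)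
    (hEP : E ≤ Subgroup.normalizer (P : Set G)) : ¬ P ≤ Subgroup.centralizer (Cfsg.sigmaCore M : Set G) := by
  intro h
  obtain ⟨N, hN, hNP, hne, -⟩ := exists_max_normalizer hG hM hps hr1 hP
  have hMN : M ≤ N := fun m hm => by
    obtain ⟨e, he, k, hk, rfl⟩ := hE.2.2.2 m hm
    exact hNP (mul_mem (hEP he) (Subgroup.centralizer_le_normalizer _ (Subgroup.le_centralizer_iff.1 h hk)))
  exact hne ((hM.le_iff_eq hN.1).1 hMN)

omit hq hr in
theorem le_normalizer_tau3_line (hG : Cfsg.IsMinSimpleOddOrder G) (hM : IsCoatom M)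
    (hE : Cfsg.IsComplIn E (Cfsg.sigmaCore M) M) (hp3 : p ∈ Cfsg.tau3 M) (hP : Nat.card P = p) (hPE : P ≤ E) :
    E ≤ Subgroup.normalizer (P : Set G) := by
  haveI := isSolvable_of_ne_top hG (fun h => hM.1 (top_le_iff.1 (h ▸ hE.1)) : E ≠ ⊤)
  obtain ⟨F, hPF, hF, -⟩ := exists_hall_over (π := Cfsg.tau3 M) hPE fun t ht hd => by
    rw [hP] at hd
    exact (Nat.prime_dvd_prime_iff_eq ht hp.out).1 hd ▸ hp3
  obtain ⟨hFc, -, hEF⟩ := (Cfsg.Agent.S1415.result hG M hM E hE).2.2 F hF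
  haveI := hFc
  exact hEF.trans (normalizer_le_normalizer_of_cyclic hPF)

omit hq hr in
/-- All `τ₃`-subgroups of a complement lie in its abelian Hall `τ₃`-subgroup. -/
theorem tau3_subgroups_commute (hG : Cfsg.IsMinSimpleOddOrder G) (hM : IsCoatom M)
    (hE : Cfsg.IsComplIn E (Cfsg.sigmaCore M) M) {U V : Subgroup G} (hUE : U ≤ E) (hVE : V ≤ E)
    (hU : ∀ t : ℕ, t.Prime → t ∣ Nat.card U → t ∈ Cfsg.tau3 M)
    (hV : ∀ t : ℕ, t.Prime → t ∣ Nat.card V → t ∈ Cfsg.tau3 M) : U ≤ Subgroup.centralizer (V : Set G) := by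
  haveI := isSolvable_of_ne_top hG (fun h => hM.1 (top_le_iff.1 (h ▸ hE.1)) : E ≠ ⊤)
  obtain ⟨F, hVF, hF, hFc⟩ := exists_hall_over (π := Cfsg.tau3 M) hVE hV
  obtain ⟨hcyc, -, hEF⟩ := (Cfsg.Agent.S1415.result hG M hM E hE).2.2 F hF
  obtain ⟨a, ha, hUa⟩ := hFc U hUE hU
  have hUF : U ≤ F := by
    rw [map_conj_le_iff, map_conj_eq_of_normalizer (hEF (inv_mem ha))] at hUa
    exact hUa
  haveI := hcyc
  haveI : IsMulCommutative F := IsCyclic.isMulCommutative
  exact fun x hx => Subgroup.mem_centralizer_iff.2 fun y hy => setLike_mul_comm (hVF hy) (hUF hx)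

omit hq hr in
/-- A nonfree `τ₃`-line empties `τ₂(M)`. -/
theorem tau2_empty_of_tau3 (hG : Cfsg.IsMinSimpleOddOrder G) (hM : IsCoatom M)
    (hp3 : p ∈ Cfsg.tau3 M) (hP : Nat.card P = p) (hPM : P ≤ M)
    (hfix : Cfsg.sigmaCore M ⊓ Subgroup.centralizer (P : Set G) ≠ ⊥) : Cfsg.tau2 M = ∅ := by
  refine Set.eq_empty_iff_forall_notMem.2 fun s hs => ?_
  haveI := Fact.mk hs.1
  obtain ⟨E, hPE, hE⟩ := exists_complement_ge hG hM hPM fun t ht hd => by
    rw [hP] at hd
    exact (Nat.prime_dvd_prime_iff_eq ht hp.out).1 hd ▸ hp3.2.1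
  obtain ⟨A, hAE, hA, hAc⟩ := exists_elementary_in_complement hG hM hE hs.2.1 hs.2.2.2
  have hAM : A ≤ M := hAE.trans hE.1
  have hps' : p ≠ s := fun e => hs.2.2.2 (e ▸ hp3.2.2.2)
  have hAn : A ≤ Subgroup.normalizer (P : Set G) := hAE.trans (le_normalizer_tau3_line hG hM hE hp3 hP hPE)
  have hAP : A ≤ Subgroup.centralizer (P : Set G) := Subgroup.le_centralizer_iff.1
    (centralizes_of_not_sigma hG hM hs.2.1 hAM hA hAc hp3.2.1 hps' (isPGroup_line hP) hPM hAn)
  obtain ⟨N, hN, hNP, -, hnc, -⟩ := exists_max_normalizer hG hM hp3.2.1 hp3.2.2.2 hP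
  have hCN : Subgroup.centralizer (P : Set G) ≤ N := (Subgroup.centralizer_le_normalizer _).trans hNP
  set Q := Cfsg.sigmaCore M ⊓ Subgroup.centralizer (P : Set G) with hQ
  have hQN : Q ≤ N := inf_le_right.trans hCN
  suffices h : Q ≤ Subgroup.centralizer (A : Set G) from
    hfix (le_bot_iff.1 (sigmaCore_inf_centralizer_eq_bot hG hM hs.2.1 hAM hA hAc ▸ le_inf inf_le_left h))
  have hAQ : A ≤ Subgroup.normalizer (Q : Set G) :=
    (le_inf (hAM.trans (le_normalizer_sigmaCore M)) (hAP.trans Subgroup.le_normalizer)).trans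
      Subgroup.inf_normalizer_le_normalizer_inf
  by_cases hsN : s ∈ Cfsg.sigma N
  · refine Subgroup.le_centralizer_iff.1 (le_trans ?_ ((sigma_inf_commute hG hM hN hnc).trans
      (Subgroup.centralizer_le (le_inf inf_le_left hQN : Q ≤ Cfsg.sigmaCore M ⊓ N))))
    exact le_inf (le_sigmaCore hG hN hsN (isPGroup_of_elementary hA) (hAP.trans hCN)) hAM
  haveI : Group.IsSolvable Q := isSolvable_of_ne_top hG fun h =>
    hN.1 (top_le_iff.1 (h ▸ hQN))
  have hcop : (Nat.card A).Coprime (Nat.card Q) := coprime_card_of_not_dvd hAc fun h =>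
    hs.2.1 (mem_sigma_of_dvd M hs.1 (h.trans (Subgroup.card_dvd_of_le inf_le_left)))
  refine le_of_invariant_subgroups hAQ hcop fun l hl hld T hT hTQ hn => ?_
  haveI := Fact.mk hl
  have hlM : l ∈ Cfsg.sigma M := mem_sigma_of_dvd M hl (hld.trans (Subgroup.card_dvd_of_le inf_le_left))
  exact centralizes_of_not_sigma hG hN hsN (hAP.trans hCN) hA hAc (sigma_disjoint hG hM hN hnc hlM)
    (fun e => hs.2.1 (e ▸ hlM)) hT (hTQ.trans hQN) hn

/-- No line outside `σ(M)` that normalizes a Sylow `q`-line of fixed points moves a `τ₃`-line. -/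
theorem false_of_fixed_mover (hG : Cfsg.IsMinSimpleOddOrder G) (hM : IsCoatom M)
    (hp3 : p ∈ Cfsg.tau3 M) (hP : Nat.card P = p) (hE : Cfsg.IsComplIn E (Cfsg.sigmaCore M) M) (hPE : P ≤ E)
    (hX : Nat.card X = r) (hr1 : r ∈ Cfsg.tau1 M) (hXE : X ≤ E) (hmove : ¬ X ≤ Subgroup.centralizer (P : Set G))
    {z : G} (hzS : z ∈ Cfsg.sigmaCore M) (hzP : z ∈ Subgroup.centralizer (P : Set G)) (hzo : orderOf z = q)
    (hzX : z ∈ Subgroup.centralizer (X : Set G)) : False := by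
  have hXP : X ≤ Subgroup.normalizer (P : Set G) := hXE.trans (le_normalizer_tau3_line hG hM hE hp3 hP hPE)
  have hPM : P ≤ M := hPE.trans hE.1
  have hXM : X ≤ M := hXE.trans hE.1
  have hpr : p ≠ r := fun e => hr1.2.2.2.1 (e ▸ hp3.2.2.1)
  have hp2 : p ≠ 2 := ne_two hG (hP ▸ Subgroup.card_subgroup_dvd_card P)
  have hq2 : q ≠ 2 := ne_two hG (hzo ▸ orderOf_dvd_natCard z)
  obtain ⟨N, hN, hNP, -⟩ := exists_max_normalizer hG hM hp3.2.1 hp3.2.2.2 hP
  obtain ⟨hqM, hqN, -, -, hrkN, -⟩ := fixed_line_basic hG hM hp3.2.1 hp3.2.2.2 hP hPM hN hNP hzS hzP hzo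
  have hCN : Subgroup.centralizer (P : Set G) ≤ N := (Subgroup.centralizer_le_normalizer _).trans hNP
  have hqp : q ≠ p := fun e => hp3.2.1 (e ▸ hqM)
  have hqr : q ≠ r := fun e => hr1.2.1 (e ▸ hqM)
  -- an invariant Sylow subgroup of `M_σ` through `z`
  set Z := Subgroup.zpowers z with hZ
  have hZc : Nat.card Z = q := by rw [hZ, Nat.card_zpowers, hzo]
  have hD : P ⊔ X ≤ Subgroup.centralizer (Z : Set G) := sup_le
    (Subgroup.le_centralizer_iff.1 (Subgroup.zpowers_le.2 hzP)) (Subgroup.le_centralizer_iff.1 (Subgroup.zpowers_le.2 hzX))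
  have hDK : P ⊔ X ≤ Subgroup.normalizer (Cfsg.sigmaCore M : Set G) :=
    (sup_le hPM hXM).trans (le_normalizer_sigmaCore M)
  have hcop : (Nat.card ↥(P ⊔ X)).Coprime (Nat.card ↥(Cfsg.sigmaCore M)) := by
    refine Nat.coprime_of_dvd fun t ht h1 h2 => ?_
    have h3 : t ∣ Nat.card X * Nat.card P := h1.trans (by
      rw [sup_comm, ← ZJ.card_sup_mul_card_inf_of_le_normalizer hXP]; exact dvd_mul_right _ _)
    rw [hX, hP] at h3
    rcases ht.dvd_mul.1 h3 with h | h
    · exact hr1.2.1 ((Nat.prime_dvd_prime_iff_eq ht hr.out).1 h ▸ mem_sigma_of_dvd M ht h2)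
    · exact hp3.2.1 ((Nat.prime_dvd_prime_iff_eq ht hp.out).1 h ▸ mem_sigma_of_dvd M ht h2)
  haveI : Group.IsSolvable ↥(Cfsg.sigmaCore M) := isSolvable_of_ne_top hG fun h =>
    hM.1 (top_le_iff.1 (h ▸ (Subgroup.map_subtype_le _ : Cfsg.sigmaCore M ≤ M)))
  obtain ⟨T₀, hZT, hDT⟩ := CoprimeAction.exists_invariant_sylow_ge (p := q) hDK hcop (Or.inr inferInstance)
    (Subgroup.zpowers_le.2 hzS : Z ≤ Cfsg.sigmaCore M) (isPGroup_line hZc)
    (hD.trans (Subgroup.centralizer_le_normalizer _))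
  obtain ⟨T, hT, hTM, hNT⟩ := exists_sylow_of_sigmaCore hG hM hqM T₀
  rw [← hT] at hZT hDT
  have hPT : P ≤ Subgroup.normalizer ((T : Subgroup G) : Set G) := le_sup_left.trans hDT
  have hXT : X ≤ Subgroup.normalizer ((T : Subgroup G) : Set G) := le_sup_right.trans hDT
  by_cases hb : q ∈ Cfsg.beta M
  · -- `T` has rank at least three
    have hc : ¬ IsCyclic (T : Subgroup G) := fun hc => by
      obtain ⟨A, hAM, hA, hAc⟩ := exists_elem_of_not_prank hb.1.2
      obtain ⟨A', hAA'⟩ := IsPGroup.exists_le_sylow (isPGroup_of_elementary hA)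
      obtain ⟨g, hg⟩ := MulAction.exists_smul_eq G A' T
      have hAT : A.map (MulAut.conj g).toMonoidHom ≤ (T : Subgroup G) :=
        (Subgroup.map_mono hAA').trans (by rw [← hg]; rfl)
      haveI := hc
      refine not_isCyclic_of_elementary (elementary_map_conj hA g) (p := q) ?_
        (isCyclic_of_injective (Subgroup.inclusion hAT) (Subgroup.inclusion_injective _))
      rw [card_map_conj, hAc]
      exact lt_self_pow₀ hq.out.one_lt (by norm_num)
    obtain ⟨B, hBT, hBexp, hBn, A, hAB, hA, hAc⟩ := exists_exponent_subgroup hq2 T.isPGroup' hc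
    haveI hW : IsCyclic ↥((T : Subgroup G) ⊓ Subgroup.centralizer (X : Set G)) :=
      isCyclic_centralizer_of_beta hG hM hb hr1.2.1 hr1.2.2.2.2 hX (T.isPGroup'.to_le inf_le_left) inf_le_right
    have hfix : B ⊓ Subgroup.centralizer (X : Set G) ≤ Subgroup.centralizer (P : Set G) := fun b hb' =>
      Subgroup.zpowers_le.2 hzP (mem_of_pow_eq_one hW (le_inf hZT (Subgroup.zpowers_le.2 hzX)) hZc
        ⟨hBT hb'.1, hb'.2⟩ (hBexp b hb'.1))
    have hBP : B ≤ Subgroup.centralizer (P : Set G) := by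
      have h := commutator_le_centralizer_of_fixed hq.out hp.out hr.out hqp hqr hpr hp2 (isPGroup_line hP) hX
        (T.isPGroup'.to_le hBT) hXP (hPT.trans hBn) (hXT.trans hBn) hfix
      rw [commutator_eq_self_of_prime (by rw [hP]; exact hp.out) hXP
        fun h' => hmove (Subgroup.le_centralizer_iff.1 h')] at h
      exact Subgroup.le_centralizer_iff.1 h
    exact elementary_card_contra hrkN (hAB.trans (hBP.trans hCN)) hA hAc
  -- `T` is cyclic, and its normalizer centralizes `z`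
  have hPd : P ≤ ⁅M, M⁆ :=
    le_derived_of_dvd hG hM hE hp3.2.1 hp3.2.2.2 hp3.2.2.1 (isPGroup_line hP) hPE
  have hPC : P ≤ Subgroup.centralizer ((T : Subgroup G) : Set G) :=
    le_centralizer_of_derived hG hM hb T.isPGroup' hTM hPd (card_coprime (p := q) (q := p) (isPGroup_line hP) hqp.symm) hPT
  haveI hTc : IsCyclic (T : Subgroup G) :=
    isCyclic_of_prank_one hG hrkN ((Subgroup.le_centralizer_iff.1 hPC).trans hCN) T.isPGroup'
  haveI : IsMulCommutative (T : Subgroup G) := IsCyclic.isMulCommutative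
  obtain ⟨V, hV⟩ := exists_normalizer_complement T
  have hZn : Subgroup.normalizer ((T : Subgroup G) : Set G) ≤ Subgroup.normalizer (Z : Set G) :=
    normalizer_le_normalizer_of_cyclic hZT
  have hVC : V ≤ Subgroup.centralizer (Z : Set G) := le_of_prime_subgroups fun t ht U hU hUV => by
    haveI := Fact.mk ht
    have hUn := hUV.trans hV.2.1
    have hUM : U ≤ M := hUn.trans hNT
    by_cases hU1 : U = ⊥
    · exact hU1 ▸ bot_le
    by_cases htq : t = q
    · subst htq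
      exact absurd (le_bot_iff.1 (hV.2.2.1 ▸ le_inf (le_sup_left.trans (T.is_maximal'
        (IsPGroup.to_sup_of_normal_right' hU T.isPGroup' hUn) le_sup_right).le) hUV)) hU1
    have htd : t ∣ Nat.card M := (dvd_card_of_ne_bot hU hU1).trans (Subgroup.card_dvd_of_le hUM)
    have hkill : U ≤ ⁅M, M⁆ → U ≤ Subgroup.centralizer (Z : Set G) := fun h =>
      (le_centralizer_of_derived hG hM hb T.isPGroup' hTM h (card_coprime (p := q) (q := t) hU htq) hUn).trans
        (Subgroup.centralizer_le hZT)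
    by_cases hts : t ∈ Cfsg.sigma M
    · exact hkill ((le_sigmaCore hG hM hts hU hUM).trans (sigmaCore_le_derived hG hM))
    obtain ⟨F, hUF, hF⟩ := exists_complement_ge hG hM hUM fun s hs hd => primes_of_pgroup ht hU s hs hd ▸ hts
    rcases mem_tau13_or_tau2 hG hM htd hts with ⟨h13, htrk⟩ | h2
    swap
    · have h0 : Cfsg.tau2 M = ∅ := tau2_empty_of_tau3 hG hM hp3 hP hPM fun h =>
        hq.out.one_lt.ne (by rw [← hzo, show z = 1 from Subgroup.mem_bot.1 (h ▸ Subgroup.mem_inf.2 ⟨hzS, hzP⟩), orderOf_one])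
      rw [h0] at h2
      exact absurd h2 (Set.notMem_empty t)
    rcases h13 with h1 | h3
    swap
    · exact hkill (le_derived_of_dvd hG hM hF hts htrk h3.2.2.1 hU hUF)
    -- move `U` to a cyclic subgroup containing `X`
    set W := M ⊓ Subgroup.normalizer (Z : Set G) with hW
    haveI : Group.IsSolvable W := isSolvable_of_ne_top hG fun h => hM.1 (top_le_iff.1 (h ▸ (inf_le_left : W ≤ M)))
    obtain ⟨H, hXH, hH, hHconj⟩ := exists_hall_over (π := Cfsg.tau1 M) (W := W)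
      (le_inf hXM ((Subgroup.le_centralizer_iff.1 (Subgroup.zpowers_le.2 hzX)).trans (Subgroup.centralizer_le_normalizer _)) : X ≤ W)
      fun s hs hd => by
        rw [hX] at hd
        exact (Nat.prime_dvd_prime_iff_eq hs hr.out).1 hd ▸ hr1
    haveI : IsCyclic H := isCyclic_of_tau_one_group hG hM (hH.1.trans inf_le_left) hH.2.1
    haveI : IsMulCommutative H := IsCyclic.isMulCommutative
    obtain ⟨a, ha, hUa⟩ := hHconj U (le_inf hUM (hUn.trans hZn)) fun s hs hd => primes_of_pgroup ht hU s hs hd ▸ h1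
    set U' := U.map (MulAut.conj a).toMonoidHom with hU'
    obtain ⟨y, hyU, hyo⟩ := exists_elem_prime (p := t) (H := U')
      (by rw [hU', card_map_conj]; exact dvd_card_of_ne_bot hU hU1)
    have hU'M : U' ≤ M := hUa.trans (hH.1.trans inf_le_left)
    have hyX : Subgroup.zpowers y ≤ Subgroup.centralizer (X : Set G) := Subgroup.zpowers_le.2
      (Subgroup.mem_centralizer_iff.2 fun b hb' => setLike_mul_comm (hXH hb') (hUa hyU))
    have hzy := tau_one_centralizer_le hG hM hr1 hX hXM (Subgroup.zpowers_le.2 (hU'M hyU)) hyX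
      (by rw [Nat.card_zpowers, hyo]) hts ⟨hzS, hzX⟩
    rw [centralizer_zpowers] at hzy
    have hzU : z ∈ Subgroup.centralizer (U' : Set G) :=
      prime_action_of_rank_one hG hM hts htrk (hU.map _) hU'M hyU
        (fun h => ht.one_lt.ne (by rw [← hyo, h, orderOf_one])) ⟨hzS, hzy⟩
    intro u hu
    refine Subgroup.mem_centralizer_iff.2 fun w hw => ?_
    have hw' : a * w * a⁻¹ ∈ Z := (Subgroup.mem_normalizer_iff.1 ha.2 w).1 hw
    have h1' := Subgroup.mem_centralizer_iff.1 (Subgroup.le_centralizer_iff.1 (Subgroup.zpowers_le.2 hzU)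
      (show a * u * a⁻¹ ∈ U' from ⟨u, hu, rfl⟩)) (a * w * a⁻¹) hw'
    have := congrArg (fun b => a⁻¹ * b * a) h1'
    simpa [mul_assoc] using this
  have hcopV : (Nat.card V).Coprime (Nat.card (T : Subgroup G)) := by
    obtain ⟨k, hk⟩ := T.isPGroup'.exists_card_eq
    rw [hk]
    refine Nat.Coprime.pow_right k ((Nat.Prime.coprime_iff_not_dvd hq.out).2 fun hd => ?_).symm
    obtain ⟨w, hw, hwo⟩ := exists_elem_prime (p := q) (H := V) hd
    have hwT : w ∈ (T : Subgroup G) := (le_sup_left.trans (T.is_maximal'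
      (IsPGroup.to_sup_of_normal_right' (isPGroup_line (by rw [Nat.card_zpowers, hwo]) : IsPGroup q (Subgroup.zpowers w))
        T.isPGroup' ((Subgroup.zpowers_le.2 hw).trans hV.2.1)) le_sup_right).le) (Subgroup.mem_zpowers w)
    exact hq.out.one_lt.ne (by rw [← hwo, show w = 1 from Subgroup.mem_bot.1 (hV.2.2.1 ▸ Subgroup.mem_inf.2 ⟨hwT, hw⟩), orderOf_one])
  have hz : z ∈ ((T : Subgroup G) ⊓ Subgroup.centralizer (V : Set G)) ⊓ ⁅(T : Subgroup G), V⁆ := by
    refine ⟨⟨hZT (Subgroup.mem_zpowers z), Subgroup.le_centralizer_iff.1 hVC (Subgroup.mem_zpowers z)⟩, ?_⟩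
    rw [← sylow_eq_commutator hG T V hV]
    exact hZT (Subgroup.mem_zpowers z)
  rw [CoprimeAction.centralizer_inf_commutator_eq_bot hV.2.1 hcopV, Subgroup.mem_bot] at hz
  exact hq.out.one_lt.ne (by rw [← hzo, hz, orderOf_one])

omit hq in
/-- No line of a complement outside `σ(M)` moves a nonfree `τ₃`-line. -/
theorem le_centralizer_tau3_line (hG : Cfsg.IsMinSimpleOddOrder G) (hM : IsCoatom M)
    (hE : Cfsg.IsComplIn E (Cfsg.sigmaCore M) M) (hp3 : p ∈ Cfsg.tau3 M) (hP : Nat.card P = p) (hPE : P ≤ E)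
    (hfix : Cfsg.sigmaCore M ⊓ Subgroup.centralizer (P : Set G) ≠ ⊥) (hX : Nat.card X = r) (hXE : X ≤ E) :
    X ≤ Subgroup.centralizer (P : Set G) := by
  by_contra hmove
  have hPM : P ≤ M := hPE.trans hE.1
  have hXM : X ≤ M := hXE.trans hE.1
  have hrd : r ∣ Nat.card E := hX ▸ Subgroup.card_dvd_of_le hXE
  have hrs : r ∉ Cfsg.sigma M := fun h => not_dvd_card_complement hG hM hE hr.out h hrd
  have hEP := le_normalizer_tau3_line hG hM hE hp3 hP hPE
  have hXP : X ≤ Subgroup.normalizer (P : Set G) := hXE.trans hEP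
  rcases mem_tau13_or_tau2 hG hM (hrd.trans (Subgroup.card_dvd_of_le hE.1)) hrs with ⟨h13, -⟩ | h2
  swap
  · rw [tau2_empty_of_tau3 hG hM hp3 hP hPM hfix] at h2
    exact absurd h2 (Set.notMem_empty r)
  rcases h13 with hr1 | hr3
  swap
  · exact hmove (tau3_subgroups_commute hG hM hE hXE hPE
      (fun t ht hd => (Nat.prime_dvd_prime_iff_eq ht hr.out).1 (hX ▸ hd) ▸ hr3)
      fun t ht hd => (Nat.prime_dvd_prime_iff_eq ht hp.out).1 (hP ▸ hd) ▸ hp3)
  have hpr : p ≠ r := fun e => hr1.2.2.2.1 (e ▸ hp3.2.2.1)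
  obtain ⟨N, hN, hNP, -, hnc, -⟩ := exists_max_normalizer hG hM hp3.2.1 hp3.2.2.2 hP
  have hCN : Subgroup.centralizer (P : Set G) ≤ N := (Subgroup.centralizer_le_normalizer _).trans hNP
  have hXN : X ≤ N := hXP.trans hNP
  have hPN : P ≤ N := Subgroup.le_normalizer.trans hNP
  set S := Cfsg.sigmaCore M with hS
  -- it suffices that the fixed points of `X` lie in `N`
  have hfinal : ¬ S ⊓ Subgroup.centralizer (X : Set G) ≤ N := fun h => by
    refine not_le_centralizer_sigmaCore hG hM hp3.2.1 hp3.2.2.2 hE hP hEP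
      (le_centralizer_sigmaCore_of_moves hG hM hp3.2.1 hrs hpr hP hPM hX hXM hXP hmove ?_)
    have hpN := mem_sigma_neighbour hG hM hp3.2.1 hp3.2.2.2 hP hPM hfix hN hNP
    exact (le_inf inf_le_left h).trans (Subgroup.le_centralizer_iff.1
      ((le_inf (le_sigmaCore hG hN hpN (isPGroup_line hP) hPN) hPM).trans (sigma_inf_commute hG hM hN hnc)))
  -- a line of common fixed points normalized by `X`
  set Q := S ⊓ Subgroup.centralizer (P : Set G) with hQ
  have hQN : Q ≤ N := inf_le_right.trans hCN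
  have hXQ : X ≤ Subgroup.normalizer (Q : Set G) :=
    (le_inf (hXM.trans (le_normalizer_sigmaCore M)) (fun x hx => by
      refine mem_normalizer_of_map_le ?_
      rintro _ ⟨c, hc, rfl⟩
      refine Subgroup.mem_centralizer_iff.2 fun y hy => ?_
      have hy' : x⁻¹ * y * x ∈ P := by
        have h := (Subgroup.mem_normalizer_iff.1 (hXP (inv_mem hx)) y).1 hy
        rwa [inv_inv] at h
      have h := congrArg (fun b => x * b * x⁻¹) (Subgroup.mem_centralizer_iff.1 hc _ hy')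
      show y * (x * c * x⁻¹) = x * c * x⁻¹ * y
      simpa [mul_assoc] using h)).trans Subgroup.inf_normalizer_le_normalizer_inf
  obtain ⟨t, ht, htd⟩ := Nat.exists_prime_and_dvd fun h => hfix (Subgroup.card_eq_one.1 h)
  haveI := Fact.mk ht
  haveI : Group.IsSolvable Q := isSolvable_of_ne_top hG fun h => hN.1 (top_le_iff.1 (h ▸ hQN))
  obtain ⟨T₀, hXT⟩ := CoprimeAction.exists_invariant_sylow hXQ
    (by rw [hX]; exact (Nat.Prime.coprime_iff_not_dvd hr.out).2 fun h =>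
      hrs (mem_sigma_of_dvd M hr.out (h.trans (Subgroup.card_dvd_of_le inf_le_left)))) (Or.inr inferInstance) t
  set T := (T₀ : Subgroup Q).map Q.subtype with hT
  have hTQ : T ≤ Q := Subgroup.map_subtype_le _
  obtain ⟨z, hzT, hzo⟩ := exists_elem_prime (p := t) (H := T) (by
    rw [hT, Subgroup.card_map_of_injective Q.subtype_injective]; exact T₀.dvd_card_of_dvd_card htd)
  obtain ⟨htM, htN, hpN, -, htrk, -⟩ :=
    fixed_line_basic hG hM hp3.2.1 hp3.2.2.2 hP hPM hN hNP (hTQ hzT).1 (hTQ hzT).2 hzo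
  set Z := Subgroup.zpowers z with hZ
  have hZc : Nat.card Z = t := by rw [hZ, Nat.card_zpowers, hzo]
  haveI : IsCyclic T := isCyclic_of_prank_one hG htrk (hTQ.trans hQN) (T₀.isPGroup'.map _)
  have hXZ : X ≤ Subgroup.normalizer (Z : Set G) :=
    hXT.trans (normalizer_le_normalizer_of_cyclic (Subgroup.zpowers_le.2 hzT))
  have hNZ : Subgroup.normalizer (Z : Set G) ≤ M :=
    normalizer_le_of_fixed hG hM hp3.2.1 hp3.2.2.2 hP hPM (hTQ hzT).1 (hTQ hzT).2 hzo
  have hZN : Z ≤ N := Subgroup.zpowers_le.2 (hQN (hTQ hzT))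
  have hzmove : ¬ X ≤ Subgroup.centralizer (Z : Set G) := fun h =>
    false_of_fixed_mover hG hM hp3 hP hE hPE hX hr1 hXE hmove (hTQ hzT).1 (hTQ hzT).2 hzo
      (Subgroup.le_centralizer_iff.1 h (Subgroup.mem_zpowers z))
  have htr : t ≠ r := fun e => hrs (e ▸ htM)
  have hrN : r ∉ Cfsg.sigma N := fun h => hzmove (((le_inf (le_sigmaCore hG hN h (isPGroup_line hX) hXN) hXM).trans
    (sigma_inf_commute hG hM hN hnc)).trans (Subgroup.centralizer_le
      (le_inf (Subgroup.zpowers_le.2 (hTQ hzT).1) hZN : Z ≤ Cfsg.sigmaCore M ⊓ N)))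
  have hZX : ⁅Z, X⁆ = Z :=
    commutator_eq_self_of_prime (by rw [hZc]; exact ht) hXZ fun h => hzmove (Subgroup.le_centralizer_iff.1 h)
  obtain ⟨F, hZXF, hF⟩ := exists_complement_ge hG hN (sup_le hXN hZN : X ⊔ Z ≤ N) fun s hs hd => by
    have h3 : s ∣ Nat.card X * Nat.card Z := hd.trans (by
      rw [← ZJ.card_sup_mul_card_inf_of_le_normalizer hXZ]; exact dvd_mul_right _ _)
    rw [hX, hZc] at h3
    rcases hs.dvd_mul.1 h3 with h | h
    · exact (Nat.prime_dvd_prime_iff_eq hs hr.out).1 h ▸ hrN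
    · exact (Nat.prime_dvd_prime_iff_eq hs ht).1 h ▸ htN
  have hXF : X ≤ F := le_sup_left.trans hZXF
  have hZF : Z ≤ F := le_sup_right.trans hZXF
  have hZd : Z ≤ ⁅F, F⁆ := hZX ▸ Subgroup.commutator_mono hZF hXF
  have hrrk : Cfsg.PRankLE r 1 ↥N := by
    by_contra hrk
    obtain ⟨A, hAF, hA, hAc⟩ := exists_elementary_in_complement hG hN hF hrN hrk
    obtain ⟨⟨hFA, hline⟩, -⟩ := Cfsg.Agent.S1418.result hG N hN F hF r
      (mem_tau2_of_elementary hG hN hrN (hAF.trans hF.1) hA hAc) A ⟨hAF, hA, hAc⟩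
    have hle : Z ≤ A := by
      rw [← hZX, Subgroup.commutator_comm]
      exact (Subgroup.commutator_mono (hline X hXF hX) le_rfl).trans
        (CoprimeAction.commutator_le_of_normalizer (hZF.trans hFA))
    have h := Subgroup.card_dvd_of_le hle
    rw [hZc, hAc] at h
    exact htr ((Nat.prime_dvd_prime_iff_eq ht hr.out).1 (ht.dvd_of_dvd_pow h))
  have hr1N : r ∈ Cfsg.tau1 N := by
    refine ⟨hr.out, hrN, hX ▸ Subgroup.card_dvd_of_le hXN, fun hd => hzmove ?_, hrrk⟩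
    have hXd : X ≤ ⁅F, F⁆ := le_commutator_of_cyclic hG hrrk hF.1
      (dvd_card_derived_complement hF hr.out hrN hd) (isPGroup_line hX) hXF
    haveI := (Cfsg.Agent.S1420.result hG N hN F hF).2.1
    exact fun x hx => Subgroup.mem_centralizer_iff.2 fun y hy => setLike_mul_comm (hZd hy) (hXd hx)
  have ht3 : t ∈ Cfsg.tau3 N := ⟨ht, htN,
    (hZc ▸ Subgroup.card_dvd_of_le hZd).trans (Subgroup.card_dvd_of_le (Subgroup.commutator_mono hF.1 hF.1)), htrk⟩
  -- fixed points of `X` in `N_σ`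
  have hfixN : Cfsg.sigmaCore N ⊓ Subgroup.centralizer (X : Set G) ≠ ⊥ := by
    intro h0
    haveI : Group.IsSolvable ↥(Cfsg.sigmaCore N) := isSolvable_of_ne_top hG fun h =>
      hN.1 (top_le_iff.1 (h ▸ (Subgroup.map_subtype_le _ : Cfsg.sigmaCore N ≤ N)))
    have h := commutator_le_centralizer_of_free (p := r) (q := t) (ne_two hG (hzo ▸ orderOf_dvd_natCard z)) htr
      (isPGroup_line hZc) hX hXZ (hZN.trans (le_normalizer_sigmaCore N)) (hXN.trans (le_normalizer_sigmaCore N))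
      (not_dvd_card_sigmaCore htN) (not_dvd_card_sigmaCore hrN) inferInstance h0
    rw [hZX] at h
    refine not_le_centralizer_sigmaCore hG hN htN htrk hF hZc (le_normalizer_tau3_line hG hN hF ht3 hZc hZF) h
  have hfixM : S ⊓ Subgroup.centralizer (X : Set G) ≠ ⊥ := fun h => hfinal (h ▸ bot_le)
  obtain ⟨u, hu, hud⟩ := Nat.exists_prime_and_dvd fun h => hfixM (Subgroup.card_eq_one.1 h)
  obtain ⟨v, hv, hvd⟩ := Nat.exists_prime_and_dvd fun h => hfixN (Subgroup.card_eq_one.1 h)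
  haveI := Fact.mk hu
  haveI := Fact.mk hv
  obtain ⟨w, hw, hwo⟩ := exists_elem_prime (p := u) hud
  obtain ⟨y, hy, hyo⟩ := exists_elem_prime (p := v) hvd
  obtain ⟨L, hL, hNL, -⟩ := exists_max_normalizer hG hM hrs hr1.2.2.2.2 hX
  obtain ⟨huM, huL, -, -, hurk, -⟩ := fixed_line_basic hG hM hrs hr1.2.2.2.2 hX hXM hL hNL hw.1 hw.2 hwo
  obtain ⟨hvN, hvL, -, -, hvrk, -⟩ := fixed_line_basic hG hN hrN hrrk hX hXN hL hNL hy.1 hy.2 hyo
  have hvM : v ∉ Cfsg.sigma M := sigma_disjoint hG hN hM (not_conj_symm hnc) hvN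
  have huN : u ∉ Cfsg.sigma N := sigma_disjoint hG hM hN hnc huM
  have hNw : Subgroup.normalizer (Subgroup.zpowers w : Set G) ≤ M :=
    normalizer_le_of_fixed hG hM hrs hr1.2.2.2.2 hX hXM hw.1 hw.2 hwo
  have hNy : Subgroup.normalizer (Subgroup.zpowers y : Set G) ≤ N :=
    normalizer_le_of_fixed hG hN hrN hrrk hX hXN hy.1 hy.2 hyo
  set C := Subgroup.centralizer (X : Set G) with hC
  have hCL : C ≤ L := (Subgroup.centralizer_le_normalizer _).trans hNL
  haveI : Group.IsSolvable C := isSolvable_of_ne_top hG fun h => hL.1 (top_le_iff.1 (h ▸ hCL))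
  obtain ⟨D, hwD, hD, hDconj⟩ := exists_hall_over (π := {s | s = u ∨ s = v})
    (Subgroup.zpowers_le.2 hw.2 : Subgroup.zpowers w ≤ C) fun s hs hd => by
      rw [Nat.card_zpowers, hwo] at hd
      exact Or.inl ((Nat.prime_dvd_prime_iff_eq hs hu).1 hd)
  obtain ⟨c, hc, hcD⟩ := hDconj (Subgroup.zpowers y) (Subgroup.zpowers_le.2 hy.2) fun s hs hd => by
    rw [Nat.card_zpowers, hyo] at hd
    exact Or.inr ((Nat.prime_dvd_prime_iff_eq hs hv).1 hd)
  set y₁ := c * y * c⁻¹ with hy₁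
  have hy₁D : y₁ ∈ D := hcD ⟨y, Subgroup.mem_zpowers y, rfl⟩
  have hy₁X : y₁ ∈ C := hD.1 hy₁D
  have hy₁o : orderOf y₁ = v := by rw [hy₁, ← hyo]; exact (MulAut.conj c).orderOf_eq y
  -- it is enough to find such an element in `M`
  suffices hy₁M : y₁ ∈ M by
    haveI : Group.IsSolvable ↥(M ⊓ C) :=
      isSolvable_of_ne_top hG fun h => hM.1 (top_le_iff.1 (h ▸ (inf_le_left : M ⊓ C ≤ M)))
    obtain ⟨H, hEH, hH, hHconj⟩ := exists_hall_over (π := {s | s ∉ Cfsg.sigma M})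
      (inf_le_inf_right C hE.1 : E ⊓ C ≤ M ⊓ C) fun s hs hd =>
        fun h => not_dvd_card_complement hG hM hE hs h (hd.trans (Subgroup.card_dvd_of_le inf_le_left))
    have hHE : H ≤ E := fun a ha => by
      obtain ⟨e, he, k, hk, rfl⟩ := hE.2.2.2 a (hH.1 ha).1
      have hxek : ∀ x ∈ X, x * e * x⁻¹ * (x * k * x⁻¹) = e * k := fun x hx => by
        rw [show x * e * x⁻¹ * (x * k * x⁻¹) = x * (e * k) * x⁻¹ by group,
          Subgroup.mem_centralizer_iff.1 (hH.1 ha).2 x hx, mul_inv_cancel_right]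
      have heC : e ∈ C := Subgroup.mem_centralizer_iff.2 fun x hx => by
        have h1 : e⁻¹ * (x * e * x⁻¹) ∈ E ⊓ Cfsg.sigmaCore M := by
          refine Subgroup.mem_inf.2 ⟨mul_mem (inv_mem he) (mul_mem (mul_mem (hXE hx) he) (inv_mem (hXE hx))), ?_⟩
          have : e⁻¹ * (x * e * x⁻¹) = k * (x * k * x⁻¹)⁻¹ := by
            rw [eq_mul_inv_iff_mul_eq, mul_assoc, hxek x hx, inv_mul_cancel_left]
          rw [this]
          exact mul_mem hk (inv_mem ((Subgroup.mem_normalizer_iff.1 (le_normalizer_sigmaCore M (hXM hx)) k).1 hk))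
        rw [hE.2.2.1, Subgroup.mem_bot, inv_mul_eq_one, eq_comm, mul_inv_eq_iff_eq_mul] at h1
        exact h1
      have hkH : k ∈ H := (Subgroup.mul_mem_cancel_left H (hEH ⟨he, heC⟩)).1 ha
      suffices k = 1 by rw [this, mul_one]; exact he
      by_contra hk1
      obtain ⟨s, hs, hsd⟩ := Nat.exists_prime_and_dvd fun h => hk1 (orderOf_eq_one_iff.1 h)
      exact hH.2.1 s hs (hsd.trans (Subgroup.orderOf_dvd_natCard H hkH))
        (mem_sigma_of_dvd M hs (hsd.trans (Subgroup.orderOf_dvd_natCard _ hk)))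
    obtain ⟨a, ha, haH⟩ := hHconj (Subgroup.zpowers y₁)
      (Subgroup.zpowers_le.2 ⟨hy₁M, hy₁X⟩) fun s hs hd => by
        rw [Nat.card_zpowers, hy₁o] at hd
        exact (Nat.prime_dvd_prime_iff_eq hs hv).1 hd ▸ hvM
    set y₂ := a * y₁ * a⁻¹ with hy₂
    have hy₂H : y₂ ∈ H := haH ⟨y₁, Subgroup.mem_zpowers y₁, rfl⟩
    have hy₂X : y₂ ∈ C := (hH.1 hy₂H).2
    have hy₂o : orderOf y₂ = v := by rw [hy₂, ← hy₁o]; exact (MulAut.conj a).orderOf_eq y₁
    have hy₂N : y₂ ∈ N := hNP (hEP (hHE hy₂H))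
    have hy₂c : Nat.card (Subgroup.zpowers y₂) = v := by rw [Nat.card_zpowers, hy₂o]
    have hy₂σ : y₂ ∈ Cfsg.sigmaCore N :=
      le_sigmaCore hG hN hvN (isPGroup_line hy₂c) (Subgroup.zpowers_le.2 hy₂N) (Subgroup.mem_zpowers y₂)
    have hCy := centralizer_le_of_fixed hG hN hrN hrrk hX hXN hy₂σ
      (fun h => hv.one_lt.ne (by rw [← hy₂o, h, orderOf_one])) hy₂X
    refine hfinal ?_
    have h4 := tau_one_centralizer_le hG hM hr1 hX hXM (Subgroup.zpowers_le.2 (hH.1 hy₂H).1)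
      (Subgroup.zpowers_le.2 hy₂X) hy₂c hvM
    rw [centralizer_zpowers] at h4
    exact h4.trans hCy
  have hwy : y₁ ∈ Subgroup.normalizer (Subgroup.zpowers w : Set G) → y₁ ∈ M := fun h => hNw h
  obtain ⟨FL, hDF, hFL⟩ := exists_complement_ge hG hL (hD.1.trans hCL) fun s hs hd => by
    rcases hD.2.1 s hs hd with rfl | rfl <;> assumption
  by_cases hdu : u ∣ Nat.card ↥⁅L, L⁆
  · exact hwy ((le_normalizer_tau3_line hG hL hFL ⟨hu, huL, hdu, hurk⟩ (by rw [Nat.card_zpowers, hwo])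
      (hwD.trans hDF)) (hDF hy₁D))
  by_cases hdv : v ∣ Nat.card ↥⁅L, L⁆
  · have hwn := (le_normalizer_tau3_line hG hL hFL ⟨hv, hvL, hdv, hvrk⟩ (by rw [Nat.card_zpowers, hy₁o])
      (Subgroup.zpowers_le.2 (hDF hy₁D))) (hDF (hwD (Subgroup.mem_zpowers w)))
    -- pull back by `c`
    set w₁ := c⁻¹ * w * c with hw₁
    have hw₁X : w₁ ∈ C := mul_mem (mul_mem (inv_mem hc) hw.2) hc
    have hw₁n : w₁ ∈ Subgroup.normalizer (Subgroup.zpowers y : Set G) := by
      refine mem_normalizer_of_map_le ?_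
      rintro _ ⟨b, hb, rfl⟩
      obtain ⟨i, rfl⟩ := Subgroup.mem_zpowers_iff.1 hb
      obtain ⟨j, hj⟩ := Subgroup.mem_zpowers_iff.1
        ((Subgroup.mem_normalizer_iff.1 hwn (y₁ ^ i)).1 (zpow_mem (Subgroup.mem_zpowers y₁) i))
      refine Subgroup.mem_zpowers_iff.2 ⟨j, ?_⟩
      have h2 : c * y ^ j * c⁻¹ = w * (c * y ^ i * c⁻¹) * w⁻¹ := by rw [← conj_zpow, ← conj_zpow, ← hy₁, hj]
      show y ^ j = w₁ * y ^ i * w₁⁻¹
      calc y ^ j = c⁻¹ * (c * y ^ j * c⁻¹) * c := by group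
        _ = c⁻¹ * (w * (c * y ^ i * c⁻¹) * w⁻¹) * c := by rw [h2]
        _ = w₁ * y ^ i * w₁⁻¹ := by rw [hw₁]; group
    have hw₁o : orderOf w₁ = u := by
      rw [hw₁, ← hwo]
      exact (congrArg orderOf (show c⁻¹ * w * c = MulAut.conj c⁻¹ w by simp)).trans ((MulAut.conj c⁻¹).orderOf_eq w)
    have h4 := tau_one_centralizer_le hG hN hr1N hX hXN (Subgroup.zpowers_le.2 (hNy hw₁n))
      (Subgroup.zpowers_le.2 hw₁X) (by rw [Nat.card_zpowers, hw₁o]) huN hy
    refine hwy (Subgroup.centralizer_le_normalizer _ ?_)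
    rw [centralizer_zpowers, Subgroup.mem_centralizer_singleton_iff]
    have h5 := Subgroup.mem_centralizer_iff.1 h4 w₁ (Subgroup.mem_zpowers w₁)
    calc y₁ * w = c * (y * w₁) * c⁻¹ := by rw [hy₁, hw₁]; group
      _ = c * (w₁ * y) * c⁻¹ := by rw [h5]
      _ = w * y₁ := by rw [hy₁, hw₁]; group
  haveI : IsCyclic D := isCyclic_of_tau_one_group hG hL (hD.1.trans hCL) fun s hs hd => by
    rcases hD.2.1 s hs hd with rfl | rfl
    · exact ⟨hs, huL, hd.trans (Subgroup.card_dvd_of_le (hD.1.trans hCL)), hdu, hurk⟩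
    · exact ⟨hs, hvL, hd.trans (Subgroup.card_dvd_of_le (hD.1.trans hCL)), hdv, hvrk⟩
  haveI : IsMulCommutative D := IsCyclic.isMulCommutative
  exact hwy (Subgroup.centralizer_le_normalizer _
    (Subgroup.mem_centralizer_iff.2 fun b hb => setLike_mul_comm (hwD hb) hy₁D))

end CfsgLib.SigmaGroups
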