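import Cfsg.Agent.Sigma.Support
import Cfsg.Agent.Sigma.KappaLine
import Cfsg.Agent.S1417
import Cfsg.Agent.S1420

/-!
Transitivity of `R(x)` on the conjugates of `M` with `x` in their `σ`-core, and the resulting count.
-/

set_option autoImplicit false
set_option linter.unusedSectionVars false
set_option linter.style.haveILetI false

namespace CfsgLib.SigmaGroups

open CfsgLib.BenderUnique CfsgLib.Uniq

universe u

variable {G : Type u} [Group G] [Finite G] {M : Subgroup G} {x : G}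

theorem sigmaCore_conj_ge (hG : Cfsg.IsMinSimpleOddOrder G) (hM : IsCoatom M) (g : G) :
    (Cfsg.sigmaCore M).map (MulAut.conj g).toMonoidHom ≤
      Cfsg.sigmaCore (M.map (MulAut.conj g).toMonoidHom) := by
  refine le_sigmaCore_of_sigma hG (isCoatom_map _ hM) (Subgroup.map_mono (Subgroup.map_subtype_le _)) fun t ht hd => ?_
  haveI := Fact.mk ht
  rw [card_map_conj] at hd
  exact mem_sigma_conj (mem_sigma_of_dvd M ht hd) g

theorem sigmaCore_conj (hG : Cfsg.IsMinSimpleOddOrder G) (hM : IsCoatom M) (g : G) :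
    Cfsg.sigmaCore (M.map (MulAut.conj g).toMonoidHom) =
      (Cfsg.sigmaCore M).map (MulAut.conj g).toMonoidHom := by
  refine le_antisymm ?_ (sigmaCore_conj_ge hG hM g)
  have h := sigmaCore_conj_ge hG (isCoatom_map (MulAut.conj g) hM) g⁻¹
  rw [map_conj_map, inv_mul_cancel, map_conj_one] at h
  rwa [map_conj_le_iff, inv_inv] at h

/-- A nilpotent `M_σ` lies in `M_F`. -/
theorem sigmaCore_le_fittingHallOf (hG : Cfsg.IsMinSimpleOddOrder G) (hM : IsCoatom M)
    (hn : Group.IsNilpotent (Cfsg.sigmaCore M)) : Cfsg.sigmaCore M ≤ Cfsg.fittingHallOf M := by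
  have hh := sigmaCore_hallOf hG hM
  set N := Cfsg.piCore (Cfsg.sigma M) ↥M with hN
  have hrel : N.index = (Cfsg.sigmaCore M).relIndex M := by
    rw [Cfsg.sigmaCore, Subgroup.relIndex, Subgroup.subgroupOf,
      Subgroup.comap_map_eq_self_of_injective M.subtype_injective]
  refine Subgroup.map_mono (le_sSup ⟨inferInstance, ?_, ?_⟩)
  · haveI : Group.IsNilpotent ↥(N.map M.subtype) := hn
    exact Group.nilpotent_of_surjective (Subgroup.equivMapOfInjective N _ M.subtype_injective).symm.toMonoidHom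
      (Subgroup.equivMapOfInjective N _ M.subtype_injective).symm.surjective
  · refine Nat.coprime_of_dvd fun t ht h1 h2 => hh.2.2 t ht ?_ (hrel ▸ h2)
    exact hh.2.1 t ht (by rwa [Cfsg.sigmaCore, Subgroup.card_map_of_injective M.subtype_injective])

/-- B&G 14.4: `R(x)` moves `M` to every conjugate containing `x` in its `σ`-core. -/
theorem exists_support_conj (hG : Cfsg.IsMinSimpleOddOrder G) (hM : IsCoatom M) (hx : x ∈ Cfsg.sigmaCore M)
    (hx1 : x ≠ 1) {g : G} (hxg : x ∈ M.map (MulAut.conj g).toMonoidHom) :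
    ∃ r ∈ Cfsg.supportR M x, M.map (MulAut.conj g).toMonoidHom = M.map (MulAut.conj r).toMonoidHom := by
  have hSM : Cfsg.sigmaCore M ≤ M := Subgroup.map_subtype_le _
  set N := M.map (MulAut.conj g).toMonoidHom with hN
  by_cases hNM : N = M
  · exact ⟨1, one_mem _, by rw [map_conj_one, hNM]⟩
  obtain ⟨p, hp, hpd⟩ := Nat.exists_prime_and_dvd fun h => hx1 (orderOf_eq_one_iff.1 h)
  haveI := Fact.mk hp
  obtain ⟨z, hz, hzo⟩ := exists_elem_prime (p := p) (H := Subgroup.zpowers x) (by rwa [Nat.card_zpowers])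
  have hz1 : z ≠ 1 := fun h => hp.one_lt.ne (by rw [← hzo, h, orderOf_one])
  have hzS : z ∈ Cfsg.sigmaCore M := Subgroup.zpowers_le.2 hx hz
  have hpM : p ∈ Cfsg.sigma M := mem_sigma_of_dvd M hp (hzo ▸ Subgroup.orderOf_dvd_natCard _ hzS)
  set Z := Subgroup.zpowers z with hZ
  have hZc : Nat.card Z = p := by rw [hZ, Nat.card_zpowers, hzo]
  have hxz : x ∈ Subgroup.centralizer (Z : Set G) := Subgroup.mem_centralizer_iff.2 fun a ha =>
    setLike_mul_comm (Subgroup.zpowers_le.2 hz ha : a ∈ Subgroup.zpowers x) (Subgroup.mem_zpowers x)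
  -- `N` is a conjugate by an element centralizing `z`
  have hzg : Z ≤ N := Subgroup.zpowers_le.2 (Subgroup.zpowers_le.2 hxg hz)
  obtain ⟨m, hm, c, hc, hgc⟩ := (sigma_group_trans hG hM hpM (isPGroup_line hZc) (line_ne_bot hZc)
    (Subgroup.zpowers_le.2 (hSM hzS))).2 g⁻¹ (by rw [map_conj_le_iff, inv_inv]; exact hzg)
  have hNc : N = M.map (MulAut.conj c⁻¹).toMonoidHom := by
    have hge : g = c⁻¹ * m⁻¹ := by rw [← inv_inv g, hgc, mul_inv_rev]
    rw [hN, hge, ← map_conj_map, map_eq_of_mem_normalizer (inv_mem hm)]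
  -- the neighbour over `N(⟨z⟩)`
  obtain ⟨L, hL, hNL⟩ := exists_coatom_ge (normalizer_zpowers_ne_top hG hz1)
  have hCL : Subgroup.centralizer (Z : Set G) ≤ L := (Subgroup.centralizer_le_normalizer _).trans hNL
  have hLM : L ≠ M := fun h => hNM (by
    rw [hNc, map_eq_of_mem_normalizer (h ▸ hCL (inv_mem hc))])
  obtain ⟨S, hS⟩ := exists_max_ge (isPGroup_line hZc)
    (le_inf (Subgroup.zpowers_le.2 (hSM hzS)) (Subgroup.le_normalizer.trans hNL) : Z ≤ M ⊓ L)
  have hncL := (embedding_basic hG hM hpM (isPGroup_line hZc) (line_ne_bot hZc) hL hLM hNL S hS).1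
  obtain ⟨-, -, hLbot, E, hE, hEM⟩ := embedding_nonsigma hG hM hpM (isPGroup_line hZc) (line_ne_bot hZc) hL hLM hNL
    S hS (sigma_disjoint hG hM hL hncL hpM)
  have hinE : ∀ a ∈ L, a ∈ M → a ∈ E := fun a haL haM => by
    obtain ⟨e, he, k, hk, rfl⟩ := hE.2.2.2 a haL
    have hk1 : k ∈ Cfsg.sigmaCore L ⊓ M := ⟨hk, (Subgroup.mul_mem_cancel_left _ (hEM he)).1 haM⟩
    rw [hLbot, Subgroup.mem_bot] at hk1
    rw [hk1, mul_one]; exact he
  obtain ⟨e, he, k₀, hk₀, hek⟩ := hE.2.2.2 c⁻¹ (hCL (inv_mem hc))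
  set k := e * k₀ * e⁻¹ with hkdef
  have hk : k ∈ Cfsg.sigmaCore L :=
    (Subgroup.mem_normalizer_iff.1 (le_normalizer_sigmaCore L (hE.1 he)) k₀).1 hk₀
  have hNk : N = M.map (MulAut.conj k).toMonoidHom := by
    rw [hNc, show c⁻¹ = k * e by rw [hek, hkdef]; group, ← map_conj_map, map_eq_of_mem_normalizer (hEM he)]
  have hxE : x ∈ E := hinE x (hCL hxz) (hSM hx)
  have hkx : x * k = k * x := by
    have h1 : k⁻¹ * x * k ∈ E := by
      refine hinE _ (mul_mem (mul_mem (inv_mem ((Subgroup.map_subtype_le _ : Cfsg.sigmaCore L ≤ L) hk)) (hCL hxz))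
        ((Subgroup.map_subtype_le _ : Cfsg.sigmaCore L ≤ L) hk)) ?_
      obtain ⟨a, ha, hae⟩ := hNk ▸ hxg
      rw [← hae]
      have h2 : k⁻¹ * (k * a * k⁻¹) * k = a := by group
      exact (congrArg (· ∈ M) h2).mpr ha
    have h2 : k⁻¹ * x * k * x⁻¹ ∈ E ⊓ Cfsg.sigmaCore L := by
      refine Subgroup.mem_inf.2 ⟨mul_mem h1 (inv_mem hxE), ?_⟩
      rw [show k⁻¹ * x * k * x⁻¹ = k⁻¹ * (x * k * x⁻¹) by group]
      exact mul_mem (inv_mem hk) ((Subgroup.mem_normalizer_iff.1 (le_normalizer_sigmaCore L (hE.1 hxE)) k).1 hk)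
    rw [hE.2.2.1, Subgroup.mem_bot, mul_inv_eq_one, mul_assoc, inv_mul_eq_iff_eq_mul] at h2
    exact h2
  have hkM : k ∉ M := fun h => hNM (by rw [hNk, map_eq_of_mem_normalizer h])
  have hk1 : k ≠ 1 := fun h => hkM (h ▸ one_mem M)
  -- every prime of `x` lies in `τ₂(L)`
  have htau : ∀ t : ℕ, t.Prime → t ∣ orderOf x → t ∈ Cfsg.tau2 L := fun t ht htd => by
    haveI := Fact.mk ht
    have htM : t ∈ Cfsg.sigma M := mem_sigma_of_dvd M ht (htd.trans (Subgroup.orderOf_dvd_natCard _ hx))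
    have htL := sigma_disjoint hG hM hL hncL htM
    by_cases hrk : Cfsg.PRankLE t 1 ↥L
    · exfalso
      obtain ⟨w, hw, hwo⟩ := exists_elem_prime (p := t) (H := Subgroup.zpowers x) (by rwa [Nat.card_zpowers])
      have hw1 : w ≠ 1 := fun h => ht.one_lt.ne (by rw [← hwo, h, orderOf_one])
      set W := Subgroup.zpowers w with hW
      have hWc : Nat.card W = t := by rw [hW, Nat.card_zpowers, hwo]
      have hWM : W ≤ M := Subgroup.zpowers_le.2 (hSM (Subgroup.zpowers_le.2 hx hw))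
      have hkW : k ∈ Subgroup.centralizer (W : Set G) := Subgroup.centralizer_le (Subgroup.zpowers_le.2 hw)
        (by rw [centralizer_zpowers]; exact Subgroup.mem_centralizer_singleton_iff.2 hkx.symm)
      obtain ⟨L', hL', hNL'⟩ := exists_coatom_ge (normalizer_zpowers_ne_top hG hw1)
      have htL' : t ∈ Cfsg.sigma L' := mem_sigma_neighbour hG hL htL hrk hWc
        (Subgroup.zpowers_le.2 (hE.1 (Subgroup.zpowers_le.2 hxE hw)))
        (fun h => hk1 (Subgroup.mem_bot.1 (h ▸ Subgroup.mem_inf.2 ⟨hk, hkW⟩))) hL' hNL'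
      by_cases hL'M : L' = M
      · exact hkM (hL'M ▸ hNL' (Subgroup.centralizer_le_normalizer _ hkW))
      obtain ⟨S', hS'⟩ := exists_max_ge (isPGroup_line hWc) (le_inf hWM (Subgroup.le_normalizer.trans hNL') : W ≤ M ⊓ L')
      exact sigma_disjoint hG hM hL'
        (embedding_basic hG hM htM (isPGroup_line hWc) (line_ne_bot hWc) hL' hL'M hNL' S' hS').1 htM htL'
    · obtain ⟨A, hAL, hA, hAc⟩ := exists_elem_of_not_prank hrk
      exact mem_tau2_of_elementary hG hL htL hAL hA hAc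
  have hxL : x ∈ L := hCL hxz
  obtain ⟨hCx, huniq⟩ := (Cfsg.Agent.S1420.result hG L hL E hE).2.2.2 x hxL hx1 htau
    ⟨hxL, k, hk, hk1, hkx⟩
  have hkC : k ∈ Subgroup.centralizer ({x} : Set G) := Subgroup.mem_centralizer_singleton_iff.2 hkx.symm
  have hnle : ¬ Subgroup.centralizer ({x} : Set G) ≤ M := fun h => hkM (h hkC)
  have hcond : ¬ Subgroup.centralizer ({x} : Set G) ≤ M ∧
      ∃! L' : Subgroup G, IsCoatom L' ∧ Subgroup.centralizer ({x} : Set G) ≤ L' :=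
    ⟨hnle, L, ⟨hL, hCx⟩, fun L' h => huniq L' h.1 h.2⟩
  refine ⟨k, ?_, hNk⟩
  rw [Cfsg.supportR, dif_pos hcond]
  have hch := Classical.choose_spec hcond.2.exists
  refine Subgroup.mem_inf.2 ⟨?_, hkC⟩
  rw [huniq _ hch.1 hch.2]
  obtain ⟨A, hAL, hA, hAc⟩ := exists_elem_of_not_prank (htau p hp hpd).2.2.2
  exact sigmaCore_le_fittingHallOf hG hL
    (Cfsg.Agent.S1417.result hG L hL p (htau p hp hpd) A ⟨hAL, hA, hAc⟩).1 hk

/-- The union of the sets `xR(x)` over the conjugates of `M`. -/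
def supportUnion (M : Subgroup G) : Set G :=
  {a | ∃ g : G, ∃ x ∈ Cfsg.sigmaCore (M.map (MulAut.conj g).toMonoidHom), x ≠ 1 ∧
    ∃ r ∈ Cfsg.supportR (M.map (MulAut.conj g).toMonoidHom) x, a = x * r}

theorem ncard_supportUnion (hG : Cfsg.IsMinSimpleOddOrder G) (hM : IsCoatom M) :
    Nat.card G * (Nat.card ↥(Cfsg.sigmaCore M) - 1) ≤ Nat.card M * (supportUnion M).ncard := by
  classical
  let c : G → Subgroup G := fun g => M.map (MulAut.conj g).toMonoidHom
  let J := {P : (G ⧸ M) × G // P.2 ∈ Cfsg.sigmaCore (c P.1.out) ∧ P.2 ≠ 1}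
  have hc : ∀ g : G, IsCoatom (c g) := fun g => isCoatom_map _ hM
  have hbase : ∀ x : G, ∃ g₀ : G, (∃ g, x ∈ Cfsg.sigmaCore (c g)) → x ∈ Cfsg.sigmaCore (c g₀) := fun x => by
    by_cases h : ∃ g, x ∈ Cfsg.sigmaCore (c g)
    · exact ⟨h.choose, fun _ => h.choose_spec⟩
    · exact ⟨1, fun h' => absurd h' h⟩
  choose b hb using hbase
  have hsel : ∀ P : J, ∃ r, r ∈ Cfsg.supportR (c (b P.1.2)) P.1.2 ∧
      c P.1.1.out = (c (b P.1.2)).map (MulAut.conj r).toMonoidHom := fun P => by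
    have hx := hb P.1.2 ⟨P.1.1.out, P.2.1⟩
    have he : c P.1.1.out = (c (b P.1.2)).map (MulAut.conj (P.1.1.out * (b P.1.2)⁻¹)).toMonoidHom := by
      simp only [c, map_conj_map, inv_mul_cancel_right]
    obtain ⟨r, hr, h⟩ := exists_support_conj hG (hc _) hx P.2.2
      (g := P.1.1.out * (b P.1.2)⁻¹) (he ▸ (Subgroup.map_subtype_le _ : Cfsg.sigmaCore _ ≤ _) P.2.1)
    exact ⟨r, hr, he.trans h⟩
  choose f hf hfe using hsel
  let F : J → ↥(supportUnion M) := fun P =>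
    ⟨P.1.2 * f P, b P.1.2, P.1.2, hb P.1.2 ⟨P.1.1.out, P.2.1⟩, P.2.2, f P, hf P, rfl⟩
  have hF : Function.Injective F := fun P Q h => by
    have h' : P.1.2 * f P = Q.1.2 * f Q := congrArg Subtype.val h
    have hxy : P.1.2 = Q.1.2 := by
      by_contra hne
      exact support_disjoint hG (hc _) (hc _) (hb P.1.2 ⟨P.1.1.out, P.2.1⟩) (hb Q.1.2 ⟨Q.1.1.out, Q.2.1⟩)
        P.2.2 Q.2.2 hne (hf P) (hf Q) h'
    rw [hxy] at h'
    have hcc : c P.1.1.out = c Q.1.1.out := by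
      rw [hfe P, hfe Q, hxy, mul_left_cancel h']
    refine Subtype.ext (Prod.ext ?_ hxy)
    have hmem : Q.1.1.out⁻¹ * P.1.1.out ∈ Subgroup.normalizer (M : Set G) := by
      rw [Subgroup.mem_normalizer_iff_map_conj_eq]
      have h2 := congrArg (fun X : Subgroup G => X.map (MulAut.conj Q.1.1.out⁻¹).toMonoidHom) hcc
      simp only [c, map_conj_map, inv_mul_cancel, map_conj_one] at h2
      exact h2
    rw [normalizer_coatom hG hM (fun h => sigmaCore_ne_bot hG hM (le_bot_iff.1 (h ▸ Subgroup.map_subtype_le _)))] at hmem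
    rw [← Quotient.out_eq' P.1.1, ← Quotient.out_eq' Q.1.1]
    exact (QuotientGroup.eq.2 hmem).symm
  have hle : Nat.card J ≤ (supportUnion M).ncard := Nat.card_le_card_of_injective F hF
  have hJ : Nat.card J = M.index * (Nat.card ↥(Cfsg.sigmaCore M) - 1) := by
    let e : J ≃ Σ q : G ⧸ M, {x : G // x ∈ Cfsg.sigmaCore (c q.out) ∧ x ≠ 1} :=
      { toFun := fun P => ⟨P.1.1, P.1.2, P.2⟩
        invFun := fun S => ⟨(S.1, S.2.1), S.2.2⟩
        left_inv := fun _ => rfl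
        right_inv := fun _ => rfl }
    haveI := Fintype.ofFinite (G ⧸ M)
    rw [Nat.card_congr e, Nat.card_sigma]
    have heach : ∀ q : G ⧸ M, Nat.card {x : G // x ∈ Cfsg.sigmaCore (c q.out) ∧ x ≠ 1} =
        Nat.card ↥(Cfsg.sigmaCore M) - 1 := fun q => by
      have h1 : Nat.card {x : G // x ∈ Cfsg.sigmaCore (c q.out) ∧ x ≠ 1} =
          ((Cfsg.sigmaCore (c q.out) : Set G) \ {1}).ncard := by
        rw [← Nat.card_coe_set_eq]; rfl
      rw [h1, Set.ncard_diff_singleton_of_mem (one_mem (Cfsg.sigmaCore (c q.out)))]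
      show ((Cfsg.sigmaCore (c q.out) : Set G)).ncard - 1 = _
      rw [← Nat.card_coe_set_eq]
      show Nat.card ↥(Cfsg.sigmaCore (c q.out)) - 1 = _
      rw [sigmaCore_conj hG hM, card_map_conj]
    rw [Finset.sum_congr rfl fun q _ => heach q, Finset.sum_const, Finset.card_univ, ← Nat.card_eq_fintype_card,
      smul_eq_mul, Subgroup.index]
  calc Nat.card G * (Nat.card ↥(Cfsg.sigmaCore M) - 1)
      = Nat.card M * (M.index * (Nat.card ↥(Cfsg.sigmaCore M) - 1)) := by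
        rw [← mul_assoc, Subgroup.card_mul_index]
    _ ≤ Nat.card M * (supportUnion M).ncard := Nat.mul_le_mul_left _ (hJ ▸ hle)

/-- Counting the conjugates of a set with trivial intersection off `Z`. -/
theorem ncard_conj_of_TI {Z : Subgroup G} {S : Set G} (hZS : ∀ z ∈ Z, ∀ s ∈ S, z * s * z⁻¹ ∈ S)
    (hTI : ∀ g : G, ∀ s ∈ S, g * s * g⁻¹ ∈ S → g ∈ Z) :
    Nat.card Z * {a : G | ∃ g : G, ∃ s ∈ S, a = g * s * g⁻¹}.ncard = S.ncard * Nat.card G := by
  classical
  set T := {a : G | ∃ g : G, ∃ s ∈ S, a = g * s * g⁻¹} with hT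
  have hsel : ∀ a : ↥T, ∃ g : G, g⁻¹ * (a : G) * g ∈ S := fun a => by
    obtain ⟨g, s, hs, he⟩ := a.2
    exact ⟨g, by rw [he, show g⁻¹ * (g * s * g⁻¹) * g = s by group]; exact hs⟩
  choose γ hγ using hsel
  let F : ↥T × Z → G × ↥S := fun P => (γ P.1 * (P.2 : G),
    ⟨(P.2 : G)⁻¹ * ((γ P.1)⁻¹ * (P.1 : G) * γ P.1) * P.2, by
      have := hZS _ (inv_mem P.2.2) _ (hγ P.1)
      rwa [inv_inv] at this⟩)
  have hFval : ∀ P : ↥T × Z, (F P).1 * ((F P).2 : G) * (F P).1⁻¹ = P.1 := fun P => by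
    show γ P.1 * (P.2 : G) * ((P.2 : G)⁻¹ * ((γ P.1)⁻¹ * (P.1 : G) * γ P.1) * P.2) * (γ P.1 * (P.2 : G))⁻¹ = P.1
    group
  have hF : Function.Bijective F := by
    refine ⟨fun P Q h => ?_, fun R => ?_⟩
    · have ha : P.1 = Q.1 := Subtype.ext (by rw [← hFval P, ← hFval Q, h])
      have h1 : γ P.1 * (P.2 : G) = γ Q.1 * (Q.2 : G) := congrArg Prod.fst h
      rw [ha] at h1
      exact Prod.ext ha (Subtype.ext (mul_left_cancel h1))
    · obtain ⟨g, s, hs⟩ := R
      let a : ↥T := ⟨g * s * g⁻¹, g, s, hs, rfl⟩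
      have hz : (γ a)⁻¹ * g ∈ Z := hTI _ s hs (by
        rw [show (γ a)⁻¹ * g * s * ((γ a)⁻¹ * g)⁻¹ = (γ a)⁻¹ * (g * s * g⁻¹) * γ a by group]
        exact hγ a)
      refine ⟨(a, ⟨(γ a)⁻¹ * g, hz⟩), ?_⟩
      have h1 : γ a * ((γ a)⁻¹ * g) = g := mul_inv_cancel_left _ _
      refine Prod.ext h1 (Subtype.ext ?_)
      show ((γ a)⁻¹ * g)⁻¹ * ((γ a)⁻¹ * (g * s * g⁻¹) * γ a) * ((γ a)⁻¹ * g) = s
      group
  have h := Nat.card_congr (Equiv.ofBijective F hF)
  rw [Nat.card_prod, Nat.card_prod, Nat.card_coe_set_eq, Nat.card_coe_set_eq] at h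
  rw [mul_comm, h, mul_comm]

end CfsgLib.SigmaGroups
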