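import Cfsg.Agent.Sigma.TauTwoAbelian
import Cfsg.Agent.Hall.StructBatch3
import Cfsg.Agent.S1420

/-!
B&G 12.11: a complement acting freely outside `τ₂(M)`.
-/

set_option autoImplicit false
set_option linter.unusedSectionVars false
set_option linter.style.haveILetI false

namespace CfsgLib.SigmaGroups

open CfsgLib.BenderUnique CfsgLib.Uniq
open scoped commutatorElement

universe u

variable {G : Type u} [Group G] [Finite G] {M E : Subgroup G}

/-- Elements of `E` with fixed points on `M_σ` are `τ₂(M)`-elements. -/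
theorem mem_tau2_of_fixed (hG : Cfsg.IsMinSimpleOddOrder G) (hM : IsCoatom M)
    (hE : Cfsg.IsComplIn E (Cfsg.sigmaCore M) M)
    (hreg : ∀ e ∈ E, e ≠ 1 → (∀ t : ℕ, t.Prime → t ∣ orderOf e → t ∈ Cfsg.tau1 M ∪ Cfsg.tau3 M) →
      Cfsg.sigmaCore M ⊓ Subgroup.centralizer ({e} : Set G) = ⊥) {e x : G} (he : e ∈ E)
    (hx : x ∈ Cfsg.sigmaCore M) (hx1 : x ≠ 1) (hex : e * x = x * e) :
    ∀ q : ℕ, q.Prime → q ∣ orderOf e → q ∈ Cfsg.tau2 M := by
  intro q hq hd
  haveI := Fact.mk hq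
  have hqE : q ∣ Nat.card E := hd.trans (Subgroup.orderOf_dvd_natCard E he)
  have hqs : q ∉ Cfsg.sigma M := fun h => not_dvd_card_complement hG hM hE hq h hqE
  rcases mem_tau13_or_tau2 hG hM (hqE.trans (Subgroup.card_dvd_of_le hE.1)) hqs with ⟨h13, -⟩ | h2
  swap
  · exact h2
  exfalso
  set f := e ^ (orderOf e / q) with hf
  have hfo : orderOf f = q := orderOf_pow_orderOf_div (orderOf_pos e).ne' hd
  refine hx1 (Subgroup.mem_bot.1 ?_)
  rw [← hreg f (pow_mem he _) (fun h => hq.one_lt.ne (by rw [← hfo, h, orderOf_one]))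
    (fun t ht htd => by rw [hfo] at htd; exact (Nat.prime_dvd_prime_iff_eq ht hq).1 htd ▸ h13)]
  exact ⟨hx, Subgroup.mem_centralizer_singleton_iff.2 ((show Commute e x from hex).pow_left _).eq.symm⟩

theorem frobenius_type_nonabelian (hG : Cfsg.IsMinSimpleOddOrder G) (hM : IsCoatom M)
    (hE : Cfsg.IsComplIn E (Cfsg.sigmaCore M) M)
    (hreg : ∀ e ∈ E, e ≠ 1 → (∀ t : ℕ, t.Prime → t ∣ orderOf e → t ∈ Cfsg.tau1 M ∪ Cfsg.tau3 M) →
      Cfsg.sigmaCore M ⊓ Subgroup.centralizer ({e} : Set G) = ⊥)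
    {p : ℕ} [hp : Fact p.Prime] (hp2 : p ∈ Cfsg.tau2 M)
    (hS : ∀ S : Sylow p G, ¬ IsMulCommutative (S : Subgroup G)) :
    (∃ A₀ : Subgroup G, A₀ ≤ E ∧ E ≤ Subgroup.normalizer (A₀ : Set G) ∧ IsMulCommutative A₀ ∧
        ∀ x ∈ Cfsg.sigmaCore M, x ≠ 1 → E ⊓ Subgroup.centralizer ({x} : Set G) ≤ A₀) ∧
      ∃ E₀ : Subgroup G, E₀ ≤ E ∧ Monoid.exponent E₀ = Monoid.exponent E ∧
        ∀ e ∈ E₀, e ≠ 1 → Cfsg.sigmaCore M ⊓ Subgroup.centralizer ({e} : Set G) = ⊥ := by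
  have hps := hp2.2.1
  obtain ⟨A, hAE, hA, hAc⟩ := exists_elementary_in_complement hG hM hE hps hp2.2.2.2
  haveI := hA.1
  have hAM : A ≤ M := hAE.trans hE.1
  have hAp := isPGroup_of_elementary hA
  obtain ⟨⟨hEA, hline⟩, -, hU⟩ := Cfsg.Agent.S1418.result hG M hM E hE p hp2 A ⟨hAE, hA, hAc⟩
  obtain ⟨B, hBA, hBc, hBdef, hfree, hτ, -⟩ := nonabelian_tau_two hG hM hps hAM hA hAc hS
  obtain ⟨⟨b, hbB⟩, hbo⟩ := exists_prime_orderOf_dvd_card' (G := B) p (dvd_of_eq hBc.symm)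
  rw [Subgroup.orderOf_mk] at hbo
  have hEB : E ≤ Subgroup.normalizer (B : Set G) := by
    rw [← hBdef]
    exact (le_inf hEA (((hE.1.trans (le_normalizer_sigmaCore M))).trans
      (Components.normalizer_le_normalizer_centralizer _))).trans Subgroup.inf_normalizer_le_normalizer_inf
  haveI hBcomm : IsMulCommutative B := (elementary_of_le hA hBA).1
  have hσB : Cfsg.sigmaCore M ≤ Subgroup.centralizer (B : Set G) :=
    Subgroup.le_centralizer_iff.1 (hBdef ▸ inf_le_right)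
  have hBfix : Cfsg.sigmaCore M ⊓ Subgroup.centralizer (B : Set G) ≠ ⊥ := by
    rw [inf_eq_left.2 hσB]
    exact sigmaCore_ne_bot hG hM
  have hCB : Subgroup.centralizer (B : Set G) ≤ M := (hU B hBA hBc hBfix).1
  -- the Sylow subgroup of `E` at `p`
  obtain ⟨S₀, hS₀⟩ := IsPGroup.exists_le_sylow (hAp.of_equiv (Subgroup.subgroupOfEquivOfLe hAE).symm)
  set T := (S₀ : Subgroup ↥E).map E.subtype with hT
  have hTE : T ≤ E := Subgroup.map_subtype_le _
  have hTp : IsPGroup p T := S₀.isPGroup'.map _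
  have hAT : A ≤ T := by
    rw [← Subgroup.map_subgroupOf_eq_of_le hAE]
    exact Subgroup.map_mono hS₀
  have hconj : ∀ U : Subgroup G, IsPGroup p U → U ≤ E → ∃ g ∈ E, U.map (MulAut.conj g).toMonoidHom ≤ T := by
    intro U hU hUE
    obtain ⟨V, hV⟩ := exists_max_ge hU hUE
    obtain ⟨g, hg, hge⟩ := exists_conj_sylow V S₀
    exact ⟨g, hg, (Subgroup.map_mono hV).trans hge.le⟩
  obtain ⟨S, hTS⟩ := exists_max_ge hTp (hTE.trans hE.1)
  have hcommT := sylow_commute_of_elementary hG hM hps hA hAc S (hAT.trans hTS)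
  haveI hTcomm : IsMulCommutative T :=
    ⟨⟨fun u v => Subtype.ext (hcommT u (hTS u.2) v (hTS v.2))⟩⟩
  have hΩ : ∀ u ∈ T, u ^ p = 1 → u ∈ A := fun u hu hup =>
    (mem_iff_pow_eq_one hG hM hps hA hAc S (hAT.trans hTS) u (hTS hu)).1 hup
  have hnot : ∀ u ∈ T, u ^ p ∈ B → u ^ p = 1 := fun u hu hub => by
    by_contra h1
    refine not_pow_of_centralizer_le hG hM hps hAM hA hAc hS S (hAT.trans hTS) (hBA hub) h1 ?_ (hTS hu) rfl
    have he : Subgroup.zpowers (u ^ p) = B := Subgroup.eq_of_le_of_card_ge (Subgroup.zpowers_le.2 hub)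
      (by rw [hBc, Nat.card_zpowers, orderOf_eq_prime (hA.2 _ (hBA hub)) h1])
    rw [← centralizer_zpowers, he]
    exact hCB
  have hfix : ∀ x ∈ Cfsg.sigmaCore M, x ≠ 1 → E ⊓ Subgroup.centralizer ({x} : Set G) ≤ B := by
    rintro x hx hx1 e ⟨heE, hex⟩
    have hprimes := mem_tau2_of_fixed hG hM hE hreg heE hx hx1 (Subgroup.mem_centralizer_singleton_iff.1 hex)
    have hep : IsPGroup p (Subgroup.zpowers e) := by
      refine IsPGroup.of_card (n := (orderOf e).primeFactorsList.length) ?_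
      rw [Nat.card_zpowers]
      exact Nat.eq_prime_pow_of_unique_prime_dvd (orderOf_pos e).ne' fun {d} hd hdd => by
        have := hprimes d hd hdd
        rw [hτ] at this
        exact this
    obtain ⟨n, hn⟩ := hep.exists_card_eq
    rw [Nat.card_zpowers] at hn
    have hlineB : ∀ w ∈ Subgroup.zpowers e, orderOf w = p → w ∈ B := by
      intro w hw hwo
      by_contra hwB
      have hwE : Subgroup.zpowers w ≤ E := Subgroup.zpowers_le.2 ((Subgroup.zpowers_le.2 heE) hw)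
      have hwc : Nat.card ↥(Subgroup.zpowers w) = p := by rw [Nat.card_zpowers, hwo]
      have h0 := (hfree _ (hline _ hwE hwc) hwc fun h => hwB (h ▸ Subgroup.mem_zpowers w)).1
      refine hx1 (Subgroup.mem_bot.1 (h0 ▸ ⟨hx, ?_⟩))
      rw [centralizer_zpowers]
      obtain ⟨i, rfl⟩ := Subgroup.mem_zpowers_iff.1 hw
      exact Subgroup.mem_centralizer_singleton_iff.2
        ((show Commute e x from Subgroup.mem_centralizer_singleton_iff.1 hex).zpow_left i).eq.symm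
    rcases n with _ | _ | n
    · rw [pow_zero, orderOf_eq_one_iff] at hn
      exact hn ▸ one_mem _
    · exact hlineB e (Subgroup.mem_zpowers e) (by rw [hn, zero_add, pow_one])
    exfalso
    obtain ⟨g, hg, hgT⟩ := hconj _ hep (Subgroup.zpowers_le.2 heE)
    set w := (g * e * g⁻¹) ^ p ^ n with hw
    have hwT : w ∈ T := pow_mem (hgT ⟨e, Subgroup.mem_zpowers e, rfl⟩) _
    have hwpo : orderOf (e ^ p ^ (n + 1)) = p := by
      rw [orderOf_pow, hn, Nat.gcd_eq_right (pow_dvd_pow p (by omega)), Nat.pow_div (by omega) hp.out.pos,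
        show n + 2 - (n + 1) = 1 by omega, pow_one]
    have hwp : w ^ p = g * e ^ p ^ (n + 1) * g⁻¹ := by rw [hw, ← pow_mul, ← pow_succ, conj_pow]
    have h1 : w ^ p ∈ B := by
      rw [hwp]
      exact (Subgroup.mem_normalizer_iff.1 (hEB hg) _).1 (hlineB _ (pow_mem (Subgroup.mem_zpowers e) _) hwpo)
    have h2 := hnot w hwT h1
    rw [hwp, conj_eq_one_iff] at h2
    rw [h2, orderOf_one] at hwpo
    exact hp.out.one_lt.ne hwpo
  refine ⟨⟨B, hBA.trans hAE, hEB, hBcomm, hfix⟩, ?_⟩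
  -- an element of largest order in `T` avoiding `B`
  obtain ⟨⟨y₀, hy₀⟩, hy₀max⟩ := Finite.exists_max fun u : ↥T => orderOf (u : G)
  have hord : ∀ u ∈ T, ∃ k : ℕ, orderOf u = p ^ k := fun u hu => by
    obtain ⟨k, hk⟩ := IsPGroup.iff_orderOf.1 hTp ⟨u, hu⟩
    exact ⟨k, by rwa [Subgroup.orderOf_mk] at hk⟩
  obtain ⟨k, hk⟩ := hord y₀ hy₀
  have hmax : ∀ u ∈ T, u ^ p ^ k = 1 := fun u hu => by
    obtain ⟨a, ha⟩ := hord u hu
    refine orderOf_dvd_iff_pow_eq_one.1 (ha ▸ pow_dvd_pow p ((Nat.pow_le_pow_iff_right hp.out.one_lt).1 ?_))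
    rw [← ha, ← hk]
    exact hy₀max ⟨u, hu⟩
  have hk1 : 1 ≤ k := by
    by_contra h
    have hb := hmax b (hAT (hBA hbB))
    rw [show k = 0 by omega, pow_zero, pow_one] at hb
    rw [hb, orderOf_one] at hbo
    exact hp.out.one_lt.ne hbo
  obtain ⟨y, hyT, hyo, hyB⟩ : ∃ y ∈ T, orderOf y = p ^ k ∧ Subgroup.zpowers y ⊓ B = ⊥ := by
    rcases eq_or_lt_of_le hk1 with h1 | h2
    · obtain ⟨a, ha, haB⟩ : ∃ a ∈ A, a ∉ B := SetLike.not_le_iff_exists.1 fun h => by
        have := Subgroup.card_le_of_le h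
        rw [hAc, hBc] at this
        exact absurd this (not_le.2 (lt_self_pow₀ hp.out.one_lt one_lt_two))
      have hao : orderOf a = p := orderOf_eq_prime (hA.2 a ha) fun h => haB (h ▸ one_mem _)
      refine ⟨a, hAT ha, by rw [hao, ← h1, pow_one], ?_⟩
      by_contra hne
      obtain ⟨u, hu, hu1⟩ := (Subgroup.bot_or_exists_ne_one _).resolve_left hne
      have he : Subgroup.zpowers u = Subgroup.zpowers a := Subgroup.eq_of_le_of_card_ge
        (Subgroup.zpowers_le.2 hu.1) (by rw [Nat.card_zpowers, Nat.card_zpowers, hao,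
          orderOf_eq_prime (hA.2 u (hBA hu.2)) hu1])
      exact haB ((Subgroup.zpowers_le.2 hu.2) (he ▸ Subgroup.mem_zpowers a))
    · refine ⟨y₀, hy₀, hk, ?_⟩
      by_contra hne
      obtain ⟨u, hu, hu1⟩ := (Subgroup.bot_or_exists_ne_one _).resolve_left hne
      set w := y₀ ^ p ^ (k - 2) with hw
      have hwo : orderOf (w ^ p) = p := by
        rw [hw, ← pow_mul, ← pow_succ, orderOf_pow, hk, Nat.gcd_eq_right (pow_dvd_pow p (by omega)),
          show k - 2 + 1 = k - 1 by omega, Nat.pow_div (by omega) hp.out.pos, show k - (k - 1) = 1 by omega, pow_one]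
      have he : Subgroup.zpowers u = Subgroup.zpowers (w ^ p) :=
        Chev.Ree.GL0.eq_of_card_eq (A := Subgroup.zpowers y₀) (Subgroup.zpowers_le.2 hu.1)
          (Subgroup.zpowers_le.2 (pow_mem (pow_mem (Subgroup.mem_zpowers y₀) _) _))
          (by rw [Nat.card_zpowers, Nat.card_zpowers, hwo, orderOf_eq_prime (hA.2 u (hBA hu.2)) hu1])
      have h1 := hnot w (pow_mem hy₀ _) ((Subgroup.zpowers_le.2 hu.2) (he ▸ Subgroup.mem_zpowers (w ^ p)))
      rw [h1, orderOf_one] at hwo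
      exact hp.out.one_lt.ne hwo
  set Y := Subgroup.zpowers y with hY
  have hYT : Y ≤ T := Subgroup.zpowers_le.2 hyT
  set z := y ^ p ^ (k - 1) with hz
  have hzo : orderOf z = p := by
    rw [hz, orderOf_pow, hyo, Nat.gcd_eq_right (pow_dvd_pow p (by omega)), Nat.pow_div (by omega) hp.out.pos,
      show k - (k - 1) = 1 by omega, pow_one]
  have hzY : z ∈ Y := pow_mem (Subgroup.mem_zpowers y) _
  have hzA : z ∈ A := hΩ z (hYT hzY) (hzo ▸ pow_orderOf_eq_one z)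
  have hsupA : Subgroup.zpowers z ⊔ B = A := by
    refine sup_lines_eq hA hAc (Subgroup.zpowers_le.2 hzA) hBA (by rw [Nat.card_zpowers, hzo]) hBc fun h => ?_
    have : z ∈ Y ⊓ B := ⟨hzY, h ▸ Subgroup.mem_zpowers z⟩
    rw [hyB, Subgroup.mem_bot] at this
    rw [this, orderOf_one] at hzo
    exact hp.out.one_lt.ne hzo
  -- `t ^ (p ^ i) = y ^ m` with `m` a multiple of `p ^ i`
  have hdiv : ∀ t ∈ T, ∀ i : ℕ, i ≤ k → ∀ m : ℤ, t ^ p ^ i = y ^ m → ∃ t' ∈ T, t' ^ p ^ i = 1 ∧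
      ∃ l : ℤ, t = t' * y ^ l := by
    intro t ht i hik m hm
    have h1 : (y ^ m) ^ p ^ (k - i) = 1 := by
      rw [← hm, ← pow_mul, ← pow_add, Nat.add_sub_cancel' hik]
      exact hmax t ht
    rw [← zpow_natCast (y ^ m), ← zpow_mul, ← orderOf_dvd_iff_zpow_eq_one, hyo] at h1
    obtain ⟨l, hl⟩ : ((p ^ i : ℕ) : ℤ) ∣ m := by
      have hsplit : ((p ^ k : ℕ) : ℤ) = ((p ^ i : ℕ) : ℤ) * ((p ^ (k - i) : ℕ) : ℤ) := by
        rw [← Nat.cast_mul, ← pow_add, Nat.add_sub_cancel' hik]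
      rw [hsplit] at h1
      exact (mul_dvd_mul_iff_right (by exact_mod_cast (pow_pos hp.out.pos _).ne')).1 h1
    refine ⟨t * y ^ (-l), mul_mem ht (zpow_mem hyT _), ?_, l, by rw [mul_assoc, ← zpow_add, neg_add_cancel, zpow_zero, mul_one]⟩
    rw [(show Commute t (y ^ (-l)) from setLike_mul_comm ht (zpow_mem hyT _)).mul_pow, hm,
      ← zpow_natCast (y ^ (-l)), ← zpow_mul, ← zpow_add, hl,
      show ((p ^ i : ℕ) : ℤ) * l + -l * ((p ^ i : ℕ) : ℤ) = 0 by ring, zpow_zero]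
  have hTsub : T ≤ B ⊔ Y := by
    intro t ht
    have hAY : A ≤ B ⊔ Y := hsupA ▸ sup_le ((Subgroup.zpowers_le.2 hzY).trans le_sup_right) le_sup_left
    -- every `p`-th power lies in `Y`
    have hpY : ∀ j, ∀ s ∈ T, s ^ p ^ (j + 1) ∈ Y → s ^ p ∈ Y := by
      intro j
      induction j with
      | zero => intro s _ h; rwa [zero_add, pow_one] at h
      | succ j ih =>
        intro s hs h
        have h' : (s ^ p ^ j) ^ p ^ 2 ∈ Y := by
          rw [← pow_mul, ← pow_add, show j + 2 = j + 1 + 1 by ring]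
          exact h
        refine ih s hs ?_
        rcases eq_or_lt_of_le hk1 with hk' | hk'
        · have := hmax (s ^ p ^ j) (pow_mem hs _)
          rw [← hk', pow_one, ← pow_mul, ← pow_succ] at this
          rw [this]
          exact one_mem _
        obtain ⟨m, hm⟩ := Subgroup.mem_zpowers_iff.1 h'
        obtain ⟨v, hv, hv1, l, hl⟩ := hdiv (s ^ p ^ j) (pow_mem hs _) 2 (by omega) m hm.symm
        have hvA : v ^ p ∈ A := hΩ _ (pow_mem hv _) (by rw [← pow_mul, ← pow_two]; exact hv1)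
        have hvY : v ^ p ∈ Y := by
          by_contra hvY
          -- both lines would consist of `p`-th powers
          have hzp : z = (y ^ p ^ (k - 2)) ^ p := by
            rw [hz, ← pow_mul, ← pow_succ, show k - 2 + 1 = k - 1 by omega]
          have hcz : Commute (v ^ p) z := setLike_mul_comm hvA hzA
          have hb : b ∈ Subgroup.zpowers z ⊔ Subgroup.zpowers (v ^ p) := by
            rw [sup_lines_eq hA hAc (Subgroup.zpowers_le.2 hzA) (Subgroup.zpowers_le.2 hvA)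
              (by rw [Nat.card_zpowers, hzo])
              (by rw [Nat.card_zpowers, orderOf_eq_prime (hA.2 _ hvA) fun h => hvY (h ▸ one_mem _)])
              fun h => hvY ((Subgroup.zpowers_le.2 hzY) (h.ge (Subgroup.mem_zpowers (v ^ p))))]
            exact hBA hbB
          rw [← SetLike.mem_coe, Subgroup.coe_mul_of_right_le_normalizer_left _ _
            (le_normalizer_of_commute (Subgroup.zpowers_le.2 (Subgroup.mem_centralizer_iff.2 fun u hu => by
              obtain ⟨i, rfl⟩ := Subgroup.mem_zpowers_iff.1 hu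
              exact (hcz.symm.zpow_left i).eq)))] at hb
          obtain ⟨u₁, hu₁, u₂, hu₂, hu⟩ := Set.mem_mul.1 hb
          obtain ⟨i₁, rfl⟩ := Subgroup.mem_zpowers_iff.1 hu₁
          obtain ⟨i₂, rfl⟩ := Subgroup.mem_zpowers_iff.1 hu₂
          have hbp : b = ((y ^ p ^ (k - 2)) ^ i₁ * v ^ i₂) ^ p := by
            rw [(show Commute ((y ^ p ^ (k - 2)) ^ i₁) (v ^ i₂) from
              setLike_mul_comm (zpow_mem (pow_mem hyT _) _) (zpow_mem hv _)).mul_pow, ← hu, hzp]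
            have e : ∀ (a : G) (i : ℤ), (a ^ p) ^ i = (a ^ i) ^ p := fun a i => by
              rw [← zpow_natCast a, ← zpow_mul, mul_comm, zpow_mul, zpow_natCast]
            rw [e, e]
          have h1 := hnot _ (mul_mem (zpow_mem (pow_mem hyT _) _) (zpow_mem hv _)) (hbp ▸ hbB)
          rw [← hbp] at h1
          rw [h1, orderOf_one] at hbo
          exact hp.out.one_lt.ne hbo
        rw [pow_succ, pow_mul, hl, (show Commute v (y ^ l) from setLike_mul_comm hv (zpow_mem hyT _)).mul_pow]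
        exact mul_mem hvY (pow_mem (zpow_mem (Subgroup.mem_zpowers y) _) _)
    obtain ⟨m, hm⟩ := Subgroup.mem_zpowers_iff.1 (hpY (k - 1) t ht (by
      rw [Nat.sub_add_cancel hk1, hmax t ht]; exact one_mem _))
    obtain ⟨v, hv, hv1, l, hl⟩ := hdiv t ht 1 hk1 m (by rw [pow_one]; exact hm.symm)
    rw [hl]
    exact mul_mem (hAY (hΩ v hv (by rwa [pow_one] at hv1)))
      (Subgroup.mem_sup_right (zpow_mem (Subgroup.mem_zpowers y) _))
  have hBYT : B ⊔ Y = T := le_antisymm (sup_le (hBA.trans hAT) hYT) hTsub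
  set K := B.subgroupOf E with hK
  haveI : K.Normal := Subgroup.normal_subgroupOf_of_le_normalizer hEB
  haveI : IsMulCommutative K := ⟨⟨fun u v => Subtype.ext (Subtype.ext (setLike_mul_comm (Subgroup.mem_subgroupOf.1 u.2) (Subgroup.mem_subgroupOf.1 v.2)))⟩⟩
  have hKU : K ≤ (S₀ : Subgroup ↥E) := fun u hu => by
    obtain ⟨v, hv, hvu⟩ := (hBA.trans hAT) hu
    exact Subtype.ext hvu ▸ hv
  obtain ⟨H, hH⟩ := Hall.Struct.gaschutz_existence K (S₀ : Subgroup ↥E) hKU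
    (by
      rw [hK, Nat.card_congr (Subgroup.subgroupOfEquivOfLe (hBA.trans hAE)).toEquiv, hBc]
      exact hp.out.coprime_iff_not_dvd.2 S₀.not_dvd_index)
    (Y.subgroupOf E) (fun u hu => by
      obtain ⟨v, hv, hvu⟩ := hYT hu
      exact Subtype.ext hvu ▸ hv)
    (by
      rw [eq_bot_iff]
      intro u hu
      exact Subgroup.mem_bot.2 (Subtype.ext (Subgroup.mem_bot.1 (hyB ▸ ⟨hu.1, hu.2⟩))))
    (by
      refine Subgroup.map_injective E.subtype_injective ?_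
      rw [Subgroup.map_sup, hK, Subgroup.map_subgroupOf_eq_of_le (hBA.trans hAE),
        Subgroup.map_subgroupOf_eq_of_le (hYT.trans hTE)]
      exact hBYT)
  refine ⟨H.map E.subtype, Subgroup.map_subtype_le _, ?_, ?_⟩
  · refine Nat.dvd_antisymm ?_ (Monoid.exponent_dvd.2 fun e => ?_)
    · exact Monoid.exponent_dvd_of_monoidHom (Subgroup.inclusion (Subgroup.map_subtype_le H))
        (Subgroup.inclusion_injective _)
    rw [← Monoid.exponent_eq_of_mulEquiv (H.equivMapOfInjective E.subtype E.subtype_injective)]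
    -- elements avoiding `B` keep their order in the complement
    have hkeep : ∀ e : ↥E, Subgroup.zpowers e ⊓ K = ⊥ → orderOf e ∣ Monoid.exponent H := by
      intro e he
      obtain ⟨⟨⟨a, ha⟩, ⟨h, hh⟩⟩, hah⟩ := hH.2 e
      have hah' : a * h = e := hah
      refine orderOf_dvd_of_pow_eq_one (Subgroup.mem_bot.1 ?_)
      rw [← he]
      refine ⟨pow_mem (Subgroup.mem_zpowers e) _, ?_⟩
      have hn : h ^ Monoid.exponent H = 1 := congrArg Subtype.val (Monoid.pow_exponent_eq_one (⟨h, hh⟩ : H))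
      show e ^ Monoid.exponent H ∈ K
      rw [← QuotientGroup.eq_one_iff, QuotientGroup.mk_pow, ← hah', QuotientGroup.mk_mul,
        (QuotientGroup.eq_one_iff a).2 ha, one_mul, ← QuotientGroup.mk_pow, hn, QuotientGroup.mk_one]
    have hyH : p ^ k ∣ Monoid.exponent H := by
      have h := hkeep ⟨y, hTE hyT⟩ (by
        rw [Subgroup.eq_bot_iff_forall]
        rintro u ⟨hu1, hu2⟩
        refine Subtype.ext (Subgroup.mem_bot.1 (hyB ▸ ⟨?_, hu2⟩))
        obtain ⟨i, rfl⟩ := Subgroup.mem_zpowers_iff.1 hu1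
        exact zpow_mem (Subgroup.mem_zpowers y) i)
      rwa [Subgroup.orderOf_mk, hyo] at h
    rw [← Nat.factorization_prime_le_iff_dvd (orderOf_pos e).ne' Monoid.exponent_ne_zero_of_finite]
    intro q hq
    haveI := Fact.mk hq
    set i := (orderOf e).factorization q with hi
    refine (hq.pow_dvd_iff_le_factorization Monoid.exponent_ne_zero_of_finite).1 ?_
    set w := e ^ (orderOf e / q ^ i) with hw
    have hwo : orderOf w = q ^ i := orderOf_pow_orderOf_div (orderOf_pos e).ne' (Nat.ordProj_dvd _ _)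
    by_cases hqp : q = p
    · subst hqp
      obtain ⟨g, -, hg⟩ := hconj (Subgroup.zpowers (w : G))
        (IsPGroup.of_card (n := i) (by rw [Nat.card_zpowers, Subgroup.orderOf_coe, hwo]))
        (Subgroup.zpowers_le.2 w.2)
      have h1 := hmax _ (hg ⟨(w : G), Subgroup.mem_zpowers _, rfl⟩)
      rw [← map_pow, map_eq_one_iff (MulAut.conj g).toMonoidHom (MulAut.conj g).injective, ← orderOf_dvd_iff_pow_eq_one,
        Subgroup.orderOf_coe, hwo] at h1
      exact h1.trans hyH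
    · rw [← hwo]
      refine hkeep w (Subgroup.eq_bot_iff_forall _ |>.2 fun u hu => orderOf_eq_one_iff.1 ?_)
      refine Nat.eq_one_of_dvd_coprimes (((Nat.coprime_primes hq hp.out).2 hqp).pow_left i)
        (hwo ▸ orderOf_dvd_of_mem_zpowers hu.1) ?_
      rw [← hBc, ← Nat.card_congr (Subgroup.subgroupOfEquivOfLe (hBA.trans hAE)).toEquiv, ← hK]
      exact Subgroup.orderOf_dvd_natCard _ hu.2
  · rintro _ ⟨e, he, rfl⟩ he1
    by_contra hne
    obtain ⟨x, hx, hx1⟩ := (Subgroup.bot_or_exists_ne_one _).resolve_left hne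
    refine he1 ?_
    have heB : e ∈ K := hfix x hx.1 hx1 ⟨e.2, Subgroup.mem_centralizer_singleton_iff.2
      (Subgroup.mem_centralizer_singleton_iff.1 hx.2).symm⟩
    have := hH.disjoint.le_bot (x := e) ⟨heB, he⟩
    rw [Subgroup.mem_bot.1 this]
    rfl

theorem frobenius_type_abelian (hG : Cfsg.IsMinSimpleOddOrder G) (hM : IsCoatom M)
    (hE : Cfsg.IsComplIn E (Cfsg.sigmaCore M) M)
    (hreg : ∀ e ∈ E, e ≠ 1 → (∀ t : ℕ, t.Prime → t ∣ orderOf e → t ∈ Cfsg.tau1 M ∪ Cfsg.tau3 M) →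
      Cfsg.sigmaCore M ⊓ Subgroup.centralizer ({e} : Set G) = ⊥)
    (hab : ∀ q ∈ Cfsg.tau2 M, ∀ _ : Fact q.Prime, ∃ P : Sylow q G, IsMulCommutative (P : Subgroup G)) :
    (∃ A₀ : Subgroup G, A₀ ≤ E ∧ E ≤ Subgroup.normalizer (A₀ : Set G) ∧ IsMulCommutative A₀ ∧
        ∀ x ∈ Cfsg.sigmaCore M, x ≠ 1 → E ⊓ Subgroup.centralizer ({x} : Set G) ≤ A₀) ∧
      ∃ E₀ : Subgroup G, E₀ ≤ E ∧ Monoid.exponent E₀ = Monoid.exponent E ∧
        ∀ e ∈ E₀, e ≠ 1 → Cfsg.sigmaCore M ⊓ Subgroup.centralizer ({e} : Set G) = ⊥ := by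
  classical
  haveI hEsol : Group.IsSolvable ↥E := isSolvable_of_ne_top hG fun h => hM.1 (top_unique (h.symm.trans_le hE.1))
  have hdata : ∀ q : {q // q ∈ Cfsg.tau2 M}, ∃ (P : Subgroup G) (y : G), y ∈ P ∧ P ≤ E ∧ IsPGroup (q : ℕ) P ∧
      IsMulCommutative P ∧ E ≤ Subgroup.normalizer (P : Set G) ∧
      (∀ T : Subgroup G, IsPGroup (q : ℕ) T → T ≤ E → T ≤ P) ∧
      (∀ x ∈ P, orderOf x ∣ orderOf y) ∧ E ≤ Subgroup.normalizer (Subgroup.zpowers y : Set G) ∧
      ∀ u ∈ Subgroup.zpowers y, orderOf u = q → Cfsg.sigmaCore M ⊓ Subgroup.centralizer ({u} : Set G) = ⊥ := by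
    rintro ⟨q, hq⟩
    haveI := Fact.mk hq.1
    obtain ⟨A, hAE, hA, hAc⟩ := exists_elementary_in_complement hG hM hE hq.2.1 hq.2.2.2
    obtain ⟨P₀, hP₀⟩ := hab q hq inferInstance
    obtain ⟨P₁, hAP₁⟩ := IsPGroup.exists_le_sylow (isPGroup_of_elementary hA)
    haveI hc : IsMulCommutative (P₁ : Subgroup G) := by
      obtain ⟨g, hg⟩ := MulAction.exists_smul_eq G P₀ P₁
      have hmap : (P₀ : Subgroup G).map (MulAut.conj g).toMonoidHom = (P₁ : Subgroup G) :=
        congrArg Sylow.toSubgroup hg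
      haveI := hP₀
      rw [← hmap]
      infer_instance
    obtain ⟨hPE, -, hNAP, -⟩ := abelian_sylow_basic hG hM hE hq.2.1 hAE hA hAc P₁ hAP₁ hc
    obtain ⟨y, hy, hymax, hyn, hyf⟩ := exists_free_cyclic hG hM hE hq.2.1 hAE hA hAc P₁ hAP₁ hc hreg
    have hEP : E ≤ Subgroup.normalizer ((P₁ : Subgroup G) : Set G) :=
      hNAP ▸ le_normalizer_elementary hG hM hE hq.2.1 hAE hA hAc
    exact ⟨P₁, y, hy, hPE, P₁.isPGroup', hc, hEP, fun T hT hTE =>
      le_sup_left.trans (P₁.is_maximal' (IsPGroup.to_sup_of_normal_right' hT P₁.isPGroup' (hTE.trans hEP))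
        le_sup_right).le, hymax, hyn, hyf⟩
  choose P y hyP hPE hPp hPc hEP hPmax hymax hyn hyf using hdata
  set A₀ := Cfsg.piCoreOf (Cfsg.tau2 M) E with hA₀
  have hA₀E : A₀ ≤ E := Subgroup.map_subtype_le _
  have hEA₀ : E ≤ Subgroup.normalizer (A₀ : Set G) := by
    rw [← Subgroup.normal_subgroupOf_iff_le_normalizer hA₀E, hA₀, Cfsg.piCoreOf, Subgroup.subgroupOf,
      Subgroup.comap_map_eq_self_of_injective E.subtype_injective]
    infer_instance
  have hPA₀ : ∀ q, P q ≤ A₀ := by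
    rintro ⟨q, hq⟩
    haveI := Fact.mk hq.1
    haveI := Subgroup.normal_subgroupOf_of_le_normalizer (hEP ⟨q, hq⟩)
    rw [hA₀, Cfsg.piCoreOf, ← Subgroup.map_subgroupOf_eq_of_le (hPE ⟨q, hq⟩)]
    refine Subgroup.map_mono (Hall.le_piCore fun t ht htd => ?_)
    rw [Nat.card_congr (Subgroup.subgroupOfEquivOfLe (hPE ⟨q, hq⟩)).toEquiv] at htd
    obtain ⟨n, hn⟩ := (hPp ⟨q, hq⟩).exists_card_eq
    rw [hn] at htd
    exact (Nat.prime_dvd_prime_iff_eq ht hq.1).1 (ht.dvd_of_dvd_pow htd) ▸ hq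
  have hA₀π : ∀ t : ℕ, t.Prime → t ∣ Nat.card A₀ → t ∈ (Cfsg.tau2 M) := fun t ht hd =>
    (Hall.isPiSubgroup_piCore : Cfsg.IsPiSubgroup (Cfsg.tau2 M) (Cfsg.piCore (Cfsg.tau2 M) ↥E)) t ht
      (by rwa [hA₀, Cfsg.piCoreOf, Subgroup.card_map_of_injective E.subtype_injective] at hd)
  haveI hA₀c : IsMulCommutative A₀ := by
    refine (Cfsg.Agent.S1420.result hG M hM E hE).1 A₀ (hA₀E.trans hE.1) ?_ fun t ht hd => (hA₀π t ht hd).2.1
    refine ((Group.isNilpotent_of_finite_tfae (G := ↥A₀)).out 0 3).2 fun q hq S => ?_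
    haveI : Fact q.Prime := hq
    by_cases hd : q ∣ Nat.card A₀
    · have hS : (S : Subgroup ↥A₀) = (P ⟨q, hA₀π q hq.out hd⟩).subgroupOf A₀ := by
        refine (S.is_maximal' ((hPp ⟨q, hA₀π q hq.out hd⟩).comap_subtype) fun u hu => ?_).symm
        exact hPmax ⟨q, hA₀π q hq.out hd⟩ _ (S.isPGroup'.map A₀.subtype)
          ((Subgroup.map_subtype_le _).trans hA₀E) ⟨u, hu, rfl⟩
      rw [hS]
      exact Subgroup.normal_subgroupOf_of_le_normalizer (hA₀E.trans (hEP _))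
    · obtain ⟨n, hn⟩ := S.isPGroup'.exists_card_eq
      have hS1 : (S : Subgroup ↥A₀) = ⊥ := by
        rw [← Subgroup.card_eq_one]
        by_contra h1
        obtain ⟨r, hr, hrd⟩ := Nat.exists_prime_and_dvd h1
        rw [hn] at hrd
        exact hd ((Nat.prime_dvd_prime_iff_eq hr hq.out).1 (hr.dvd_of_dvd_pow hrd) ▸
          (hn ▸ hrd.trans dvd_rfl : r ∣ Nat.card (S : Subgroup ↥A₀)).trans (Subgroup.card_subgroup_dvd_card _))
      rw [hS1]
      infer_instance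
  have hfix : ∀ x ∈ Cfsg.sigmaCore M, x ≠ 1 → E ⊓ Subgroup.centralizer ({x} : Set G) ≤ A₀ := by
    rintro x hx hx1 e ⟨heE, hex⟩
    have hprimes := mem_tau2_of_fixed hG hM hE hreg heE hx hx1 (Subgroup.mem_centralizer_singleton_iff.1 hex)
    refine (le_of_prime_subgroups fun t ht T hT hTe => ?_ : Subgroup.zpowers e ≤ A₀) (Subgroup.mem_zpowers e)
    haveI := Fact.mk ht
    by_cases hT1 : T = ⊥
    · exact hT1 ▸ bot_le
    have htd : t ∈ (Cfsg.tau2 M) := hprimes t ht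
      (Nat.card_zpowers e ▸ (dvd_card_of_ne_bot hT hT1).trans (Subgroup.card_dvd_of_le hTe))
    exact (hPmax ⟨t, htd⟩ T hT (hTe.trans (Subgroup.zpowers_le.2 heE))).trans (hPA₀ _)
  refine ⟨⟨A₀, hA₀E, hEA₀, hA₀c, hfix⟩, ?_⟩
  obtain ⟨H, hH⟩ := Hall.exists_isPiHallOf E {q | q.Prime ∧ q ∉ (Cfsg.tau2 M)}
  set Y : Subgroup G := ⨆ q : {q // q ∈ (Cfsg.tau2 M)}, Subgroup.zpowers (y q) with hY
  have hYA₀ : Y ≤ A₀ := iSup_le fun q => Subgroup.zpowers_le.2 (hPA₀ q (hyP q))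
  have hEY : E ≤ Subgroup.normalizer (Y : Set G) := fun g hg => by
    rw [Subgroup.mem_normalizer_iff_map_conj_eq, hY, Subgroup.map_iSup]
    exact iSup_congr fun q => map_conj_eq_of_normalizer (hyn q hg)
  have hHY : H ⊔ Y ≤ E := sup_le hH.1 (hYA₀.trans hA₀E)
  refine ⟨H ⊔ Y, hHY, ?_, ?_⟩
  · refine Nat.dvd_antisymm ?_ (Monoid.exponent_dvd.2 fun e => ?_)
    · exact Monoid.exponent_dvd_of_monoidHom (Subgroup.inclusion hHY) (Subgroup.inclusion_injective _)
    rw [← Nat.factorization_prime_le_iff_dvd (orderOf_pos e).ne' Monoid.exponent_ne_zero_of_finite]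
    intro q hq
    haveI := Fact.mk hq
    set i := (orderOf e).factorization q with hi
    refine (hq.pow_dvd_iff_le_factorization Monoid.exponent_ne_zero_of_finite).1 ?_
    set w := e ^ (orderOf e / q ^ i) with hw
    have hwo : orderOf (w : G) = q ^ i := by
      rw [Subgroup.orderOf_coe]
      exact orderOf_pow_orderOf_div (orderOf_pos e).ne' (Nat.ordProj_dvd _ _)
    have hwp : IsPGroup q (Subgroup.zpowers (w : G)) := IsPGroup.of_card (n := i) (by rw [Nat.card_zpowers, hwo])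
    have hkey : ∀ u ∈ H ⊔ Y, orderOf (w : G) ∣ orderOf u → q ^ i ∣ Monoid.exponent ↥(H ⊔ Y) := by
      intro u hu hdu
      refine (hwo ▸ hdu).trans ?_
      rw [← Subgroup.orderOf_mk u hu]
      exact Monoid.order_dvd_exponent _
    by_cases hq2 : q ∈ (Cfsg.tau2 M)
    · exact hkey (y ⟨q, hq2⟩) (Subgroup.mem_sup_right (Subgroup.mem_iSup_of_mem ⟨q, hq2⟩ (Subgroup.mem_zpowers _)))
        (hymax ⟨q, hq2⟩ _ (hPmax ⟨q, hq2⟩ _ hwp (Subgroup.zpowers_le.2 w.2) (Subgroup.mem_zpowers _)))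
    · obtain ⟨g, -, hg⟩ := Hall.piHallOf_dominance hH (Subgroup.zpowers_le.2 w.2) fun t ht htd => by
        rw [Nat.card_zpowers, hwo] at htd
        exact ⟨ht, (Nat.prime_dvd_prime_iff_eq ht hq).1 (ht.dvd_of_dvd_pow htd) ▸ hq2⟩
      obtain ⟨u, hu, huw⟩ := hg (Subgroup.mem_zpowers (w : G))
      refine hkey u (Subgroup.mem_sup_left hu) (dvd_of_eq ?_)
      rw [← huw]
      exact (MulAut.conj g).orderOf_eq u
  intro e he he1
  by_contra hne
  obtain ⟨x, hx, hx1⟩ := (Subgroup.bot_or_exists_ne_one _).resolve_left hne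
  obtain ⟨q, hq, hqd⟩ := Nat.exists_prime_and_dvd (fun h => he1 (orderOf_eq_one_iff.1 h))
  haveI := Fact.mk hq
  have hex : e * x = x * e := (Subgroup.mem_centralizer_singleton_iff.1 hx.2).symm
  have hq2 : q ∈ (Cfsg.tau2 M) := mem_tau2_of_fixed hG hM hE hreg (hHY he) hx.1 hx1 hex q hq hqd
  set f := e ^ (orderOf e / q) with hf
  have hfo : orderOf f = q := orderOf_pow_orderOf_div (orderOf_pos e).ne' hqd
  have hfY : f ∈ Y := by
    have hfs : f ∈ (↑(Y ⊔ H) : Set G) := by rw [sup_comm]; exact pow_mem he _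
    rw [Subgroup.coe_mul_of_right_le_normalizer_left Y H (hH.1.trans hEY)] at hfs
    obtain ⟨v, hv, u, hu, huv⟩ := Set.mem_mul.1 hfs
    have hfA : f ∈ A₀ := hfix x hx.1 hx1 ⟨pow_mem (hHY he) _,
      Subgroup.mem_centralizer_singleton_iff.2 ((show Commute e x from hex).pow_left _).eq⟩
    have hu1 : u ∈ A₀ := by
      rw [eq_inv_mul_of_mul_eq huv]
      exact mul_mem (inv_mem (hYA₀ hv)) hfA
    have : u = 1 := by
      rw [← orderOf_eq_one_iff]
      refine Nat.eq_one_iff_not_exists_prime_dvd.2 fun t ht htd => ?_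
      exact (hH.2.1 t ht (htd.trans (Subgroup.orderOf_dvd_natCard H hu))).2
        (hA₀π t ht (htd.trans (Subgroup.orderOf_dvd_natCard A₀ hu1)))
    rw [← huv, this, mul_one]
    exact hv
  -- `f` lies in the `q`-part of `Y`
  set N := ordCompl[q] (Nat.card A₀) with hN
  let K : Subgroup G :=
    { carrier := {v | v ∈ A₀ ∧ v ^ N = 1}
      one_mem' := ⟨one_mem _, one_pow _⟩
      mul_mem' := fun {a b} ha hb => ⟨mul_mem ha.1 hb.1, by
        rw [(show Commute a b from setLike_mul_comm ha.1 hb.1).mul_pow, ha.2, hb.2, one_mul]⟩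
      inv_mem' := fun {a} ha => ⟨inv_mem ha.1, by rw [inv_pow, ha.2, inv_one]⟩ }
  have hYK : Y ≤ Subgroup.zpowers (y ⟨q, hq2⟩) ⊔ K := by
    refine iSup_le fun r => ?_
    by_cases hr : r = ⟨q, hq2⟩
    · exact hr ▸ le_sup_left
    refine le_sup_of_le_right (Subgroup.zpowers_le.2 ⟨hPA₀ r (hyP r), orderOf_dvd_iff_pow_eq_one.1 ?_⟩)
    haveI := Fact.mk r.2.1
    obtain ⟨j, hj⟩ := IsPGroup.iff_orderOf.1 (hPp r) ⟨y r, hyP r⟩
    rw [Subgroup.orderOf_mk] at hj
    refine Nat.Coprime.dvd_of_dvd_mul_left (k := orderOf (y r)) (m := ordProj[q] (Nat.card A₀)) (n := N) ?_ ?_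
    · rw [hj]
      exact Nat.Coprime.pow _ _ ((Nat.coprime_primes r.2.1 hq).2 fun h => hr (Subtype.ext h))
    · rw [hN, Nat.ordProj_mul_ordCompl_eq_self]
      exact Subgroup.orderOf_dvd_natCard A₀ (hPA₀ r (hyP r))
  have hfz : f ∈ Subgroup.zpowers (y ⟨q, hq2⟩) := by
    have hfs : f ∈ (↑(Subgroup.zpowers (y ⟨q, hq2⟩) ⊔ K) : Set G) := hYK hfY
    rw [Subgroup.coe_mul_of_right_le_normalizer_left _ K (le_normalizer_of_commute fun v hv =>
      Subgroup.mem_centralizer_iff.2 fun u hu =>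
        setLike_mul_comm ((Subgroup.zpowers_le.2 (hPA₀ _ (hyP _))) hu) hv.1)] at hfs
    obtain ⟨u, hu, v, hv, huv⟩ := Set.mem_mul.1 hfs
    have hv1 : v = 1 := by
      rw [← orderOf_eq_one_iff]
      obtain ⟨j, hj⟩ := IsPGroup.iff_orderOf.1 (hPp ⟨q, hq2⟩)
        ⟨u, (Subgroup.zpowers_le.2 (hyP _)) hu⟩
      rw [Subgroup.orderOf_mk] at hj
      refine Nat.eq_one_of_dvd_coprimes (((Nat.coprime_ordCompl hq (Nat.card_pos (α := A₀)).ne').pow_left (j + 1)))
        (orderOf_dvd_of_pow_eq_one ?_) (orderOf_dvd_of_pow_eq_one hv.2)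
      have h1 : f ^ q ^ (j + 1) = 1 :=
        orderOf_dvd_iff_pow_eq_one.1 (by rw [hfo]; exact dvd_pow_self q (Nat.succ_ne_zero j))
      have h2 : u⁻¹ ^ q ^ (j + 1) = 1 :=
        orderOf_dvd_iff_pow_eq_one.1 (by rw [orderOf_inv, hj]; exact pow_dvd_pow q (Nat.le_succ j))
      rw [eq_inv_mul_of_mul_eq huv, (show Commute u⁻¹ f from setLike_mul_comm
        (inv_mem ((Subgroup.zpowers_le.2 (hPA₀ _ (hyP _))) hu)) (hYA₀ hfY)).mul_pow, h1, h2, mul_one]
    rw [← huv, hv1, mul_one]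
    exact hu
  refine hx1 (Subgroup.mem_bot.1 ?_)
  rw [← hyf ⟨q, hq2⟩ f hfz hfo]
  exact ⟨hx.1, Subgroup.mem_centralizer_singleton_iff.2 ((show Commute e x from hex).pow_left _).eq.symm⟩

/-- B&G 12.11. -/
theorem frobenius_type (hG : Cfsg.IsMinSimpleOddOrder G) (hM : IsCoatom M)
    (hE : Cfsg.IsComplIn E (Cfsg.sigmaCore M) M)
    (hreg : ∀ e ∈ E, e ≠ 1 → (∀ t : ℕ, t.Prime → t ∣ orderOf e → t ∈ Cfsg.tau1 M ∪ Cfsg.tau3 M) →
      Cfsg.sigmaCore M ⊓ Subgroup.centralizer ({e} : Set G) = ⊥) :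
    (∃ A₀ : Subgroup G, A₀ ≤ E ∧ E ≤ Subgroup.normalizer (A₀ : Set G) ∧ IsMulCommutative A₀ ∧
        ∀ x ∈ Cfsg.sigmaCore M, x ≠ 1 → E ⊓ Subgroup.centralizer ({x} : Set G) ≤ A₀) ∧
      ∃ E₀ : Subgroup G, E₀ ≤ E ∧ Monoid.exponent E₀ = Monoid.exponent E ∧
        ∀ e ∈ E₀, e ≠ 1 → Cfsg.sigmaCore M ⊓ Subgroup.centralizer ({e} : Set G) = ⊥ := by
  by_cases h : ∀ q ∈ Cfsg.tau2 M, ∀ _ : Fact q.Prime, ∃ P : Sylow q G, IsMulCommutative (P : Subgroup G)
  · exact frobenius_type_abelian hG hM hE hreg h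
  push Not at h
  obtain ⟨q, hq, hf, hS⟩ := h
  haveI := hf
  exact frobenius_type_nonabelian hG hM hE hreg hq hS

end CfsgLib.SigmaGroups
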