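import Cfsg.Agent.Sigma.KappaExistence
import Cfsg.Agent.S1421
import Cfsg.Agent.S1418

/-!
B&G 15.1: the standard factorisation `M = K U M_σ`.
-/

set_option autoImplicit false
set_option linter.unusedSectionVars false
set_option linter.style.haveILetI false

namespace CfsgLib.SigmaGroups

open CfsgLib.BenderUnique CfsgLib.Uniq
open scoped commutatorElement

universe u

variable {G : Type u} [Group G] [Finite G] {p q r : ℕ} {M N L K U X : Subgroup G}

theorem decomp_complement_card (hG : Cfsg.IsMinSimpleOddOrder G) (hM : IsCoatom M)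
    (h : Cfsg.IsSigmaDecomposition M K U) :
    Cfsg.IsComplIn (K ⊔ U) (Cfsg.sigmaCore M) M ∧
      Cfsg.IsPiHallOf {q | q.Prime ∧ q ∉ Cfsg.kappa M ∧ q ∉ Cfsg.sigma M} U M := by
  obtain ⟨hUM, -, -, hmul⟩ := h.compl
  have hKM := h.hall.1
  have hSM : Cfsg.sigmaCore M ≤ M := Subgroup.map_subtype_le _
  have hcard := CfsgLib.TypeP.card_eq_of_isComplIn h.compl
  set T := K ⊔ Cfsg.sigmaCore M with hT
  have hTM : T ≤ M := sup_le hKM hSM
  have hU' : Nat.card U = T.relIndex M := by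
    have h1 : Nat.card T * T.relIndex M = Nat.card M := by
      rw [← Subgroup.relIndex_bot_left, ← Subgroup.relIndex_bot_left]
      exact Subgroup.relIndex_mul_relIndex _ _ _ bot_le hTM
    rw [hcard, mul_comm (Nat.card U)] at h1
    exact (Nat.eq_of_mul_eq_mul_left Nat.card_pos h1).symm
  have hπ : ∀ t : ℕ, t.Prime → t ∣ Nat.card U → t ∈ {q | q.Prime ∧ q ∉ Cfsg.kappa M ∧ q ∉ Cfsg.sigma M} := by
    intro t ht hd
    rw [hU'] at hd
    exact ⟨ht, fun hk => h.hall.2.2 t ht hk (hd.trans (Subgroup.relIndex_dvd_of_le_left M le_sup_left)),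
      fun hs => (sigmaCore_hallOf hG hM).2.2 t ht hs (hd.trans (Subgroup.relIndex_dvd_of_le_left M le_sup_right))⟩
  have hKS : Nat.card T ∣ Nat.card K * Nat.card ↥(Cfsg.sigmaCore M) :=
    Dvd.intro _ (ZJ.card_sup_mul_card_inf_of_le_normalizer (hKM.trans (le_normalizer_sigmaCore M)))
  have hUi : ∀ t : ℕ, t.Prime → t ∈ {q | q.Prime ∧ q ∉ Cfsg.kappa M ∧ q ∉ Cfsg.sigma M} → ¬ t ∣ U.relIndex M := by
    intro t ht htπ hd
    have h1 : Nat.card U * U.relIndex M = Nat.card M := by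
      rw [← Subgroup.relIndex_bot_left, ← Subgroup.relIndex_bot_left]
      exact Subgroup.relIndex_mul_relIndex _ _ _ bot_le hUM
    rw [hcard] at h1
    rw [Nat.eq_of_mul_eq_mul_left Nat.card_pos h1] at hd
    rcases ht.dvd_mul.1 (hd.trans hKS) with h' | h'
    · exact htπ.2.1 (h.hall.2.1 t ht h')
    · exact htπ.2.2 (mem_sigma_of_dvd M ht h')
  refine ⟨⟨sup_le hKM hUM, hSM, ?_, fun m hm => ?_⟩, hUM, hπ, hUi⟩
  · have hKU : Nat.card ↥(K ⊔ U) ∣ Nat.card K * Nat.card U :=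
      Dvd.intro _ (ZJ.card_sup_mul_card_inf_of_le_normalizer h.normal)
    refine Subgroup.inf_eq_bot_of_coprime (Nat.coprime_of_dvd fun t ht h1 h2 => ?_)
    rcases ht.dvd_mul.1 (h1.trans hKU) with h' | h'
    · exact (h.hall.2.1 t ht h').2.2.1 (mem_sigma_of_dvd M ht h2)
    · exact (hπ t ht h').2.2 (mem_sigma_of_dvd M ht h2)
  · obtain ⟨a, ha, b, hb, rfl⟩ := hmul m hm
    obtain ⟨k, hk, s, hs, rfl⟩ := CoprimeAction.exists_mul_of_mem_sup (hKM.trans (le_normalizer_sigmaCore M)) hb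
    exact ⟨a * k, mul_mem (Subgroup.mem_sup_right ha) (Subgroup.mem_sup_left hk), s, hs, by group⟩

/-- The factor `U` is the one of B&G 14.2. -/
theorem decomp_kappa_structure (hG : Cfsg.IsMinSimpleOddOrder G) (hM : IsCoatom M)
    (h : Cfsg.IsSigmaDecomposition M K U) (hK1 : K ≠ ⊥) :
    IsMulCommutative U ∧ ∀ X : Subgroup G, X ≤ K → (Nat.card X).Prime →
      Cfsg.sigmaCore M ⊓ Subgroup.centralizer (X : Set G) = Cfsg.sigmaCore M ⊓ Subgroup.centralizer (K : Set G) ∧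
        K ≤ Subgroup.normalizer (X : Set G) ∧ U ⊓ Subgroup.centralizer (X : Set G) = ⊥ := by
  obtain ⟨hE, hU⟩ := decomp_complement_card hG hM h
  obtain ⟨U', hU'c, hU'E, hU', hEU', -, hlines⟩ :=
    kappa_structure_of_complement hG hM h.hall hK1 hE le_sup_left
  have hUU' : U ≤ U' := le_trans le_sup_left (le_of_prime_relIndex fun t ht hd hdi => by
    have hUn : U ≤ Subgroup.normalizer (U' : Set G) := le_sup_right.trans hEU'
    refine hU'.2.2 t ht ?_
      (hdi.trans (Dvd.intro _ (Subgroup.relIndex_mul_relIndex U' (U ⊔ U') M le_sup_right (sup_le hU.1 hU'.1))))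
    rcases ht.dvd_mul.1 (hd.trans (Dvd.intro _ (ZJ.card_sup_mul_card_inf_of_le_normalizer hUn))) with h' | h'
    · exact hU.2.1 t ht h'
    · exact hU'.2.1 t ht h' : U ⊔ U' ≤ U')
  have hU'U : U' ≤ U := le_of_prime_relIndex fun t ht hd hdi => hU.2.2 t ht (hU'.2.1 t ht hd)
    (hdi.trans (Dvd.intro _ (Subgroup.relIndex_mul_relIndex U U' M hUU' hU'.1)))
  rw [le_antisymm hUU' hU'U]
  exact ⟨hU'c, hlines⟩

theorem exists_decomp (hG : Cfsg.IsMinSimpleOddOrder G) (hM : IsCoatom M) (hKc : IsCyclic K)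
    (hK : Cfsg.IsPiHallOf (Cfsg.kappa M) K M) : ∃ U : Subgroup G, Cfsg.IsSigmaDecomposition M K U := by
  have hSM : Cfsg.sigmaCore M ≤ M := Subgroup.map_subtype_le _
  by_cases hK1 : K = ⊥
  · subst hK1
    obtain ⟨E, -, hE⟩ := exists_complement_ge hG hM (bot_le : (⊥ : Subgroup G) ≤ M) fun t ht hd =>
      absurd ((Subgroup.card_bot (G := G)) ▸ hd) ht.not_dvd_one
    exact ⟨E, hKc, hK, by rwa [bot_sup_eq], bot_le⟩
  obtain ⟨E, U, hE, hKE, -, hUE, hU, hEU, hEKU, -⟩ := kappa_complement_structure hG hM hK hK1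
  refine ⟨U, hKc, hK, ⟨hU.1, sup_le hK.1 hSM, ?_, fun m hm => ?_⟩, hKE.trans hEU⟩
  · refine Subgroup.inf_eq_bot_of_coprime (Nat.coprime_of_dvd fun t ht h1 h2 => ?_)
    rcases ht.dvd_mul.1 (h2.trans (Dvd.intro _
      (ZJ.card_sup_mul_card_inf_of_le_normalizer (hK.1.trans (le_normalizer_sigmaCore M))))) with h' | h'
    · exact (hU.2.1 t ht h1).2.1 (hK.2.1 t ht h')
    · exact (hU.2.1 t ht h1).2.2 (mem_sigma_of_dvd M ht h')
  · obtain ⟨e, he, s, hs, rfl⟩ := hE.2.2.2 m hm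
    obtain ⟨a, ha, u, hu, rfl⟩ := CoprimeAction.exists_mul_of_mem_sup (hKE.trans hEU) (hEKU he)
    exact ⟨a * u * a⁻¹, (Subgroup.mem_normalizer_iff.1 (hEU (hKE ha)) u).1 hu, a * s,
      mul_mem (Subgroup.mem_sup_left ha) (Subgroup.mem_sup_right hs), by group⟩

theorem decomp_sup_normal (hG : Cfsg.IsMinSimpleOddOrder G) (hM : IsCoatom M)
    (h : Cfsg.IsSigmaDecomposition M K U) :
    M ≤ Subgroup.normalizer ((U ⊔ Cfsg.sigmaCore M : Subgroup G) : Set G) := by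
  obtain ⟨hE, -⟩ := decomp_complement_card hG hM h
  intro m hm
  obtain ⟨e, he, s, hs, rfl⟩ := hE.2.2.2 m hm
  refine mul_mem ?_ (Subgroup.le_normalizer (Subgroup.mem_sup_right hs))
  have heU : e ∈ Subgroup.normalizer (U : Set G) := sup_le h.normal Subgroup.le_normalizer he
  have heS := le_normalizer_sigmaCore M (hE.1 he)
  rw [Subgroup.mem_normalizer_iff_map_conj_eq, Subgroup.map_sup]
  rw [Subgroup.mem_normalizer_iff_map_conj_eq] at heU heS
  rw [heU, heS]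

theorem decomp_free (hG : Cfsg.IsMinSimpleOddOrder G) (hM : IsCoatom M)
    (h : Cfsg.IsSigmaDecomposition M K U) {k : G} (hk : k ∈ K) (hk1 : k ≠ 1) :
    U ⊓ Subgroup.centralizer ({k} : Set G) = ⊥ := by
  obtain ⟨t, X, ht, hX, hXc, hC⟩ := exists_line_of_mem hk hk1
  rw [eq_bot_iff, ← ((decomp_kappa_structure hG hM h (fun e => hk1 (Subgroup.mem_bot.1 (e ▸ hk)))).2 X hX
    (by rw [hXc]; exact ht)).2.2]
  exact inf_le_inf_left _ hC

theorem kappa_empty_of_bot (hK : Cfsg.IsPiHallOf (Cfsg.kappa M) (⊥ : Subgroup G) M) : Cfsg.kappa M = ∅ :=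
  Set.eq_empty_iff_forall_notMem.2 fun t ht => hK.2.2 t ht.1 ht (by rw [Subgroup.relIndex_bot_left]; exact ht.2.1)

/-- Without `κ`-primes the complement is free outside `τ₂`. -/
theorem free_of_kappa_empty (hG : Cfsg.IsMinSimpleOddOrder G) (hM : IsCoatom M) {E : Subgroup G}
    (hE : Cfsg.IsComplIn E (Cfsg.sigmaCore M) M) (hk : Cfsg.kappa M = ∅) (e : G) (he : e ∈ E) (he1 : e ≠ 1)
    (h13 : ∀ t : ℕ, t.Prime → t ∣ orderOf e → t ∈ Cfsg.tau1 M ∪ Cfsg.tau3 M) :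
    Cfsg.sigmaCore M ⊓ Subgroup.centralizer ({e} : Set G) = ⊥ := by
  obtain ⟨t, ht, hd⟩ := Nat.exists_prime_and_dvd fun h => he1 (orderOf_eq_one_iff.1 h)
  haveI := Fact.mk ht
  obtain ⟨f, hf, hfo⟩ := exists_elem_prime (p := t) (H := Subgroup.zpowers e) (by rwa [Nat.card_zpowers])
  have hfM : f ∈ M := hE.1 (Subgroup.zpowers_le.2 he hf)
  have h1 : t ∉ Cfsg.sigma M ∧ Cfsg.PRankLE t 1 ↥M := by
    rcases h13 t ht hd with h | h
    · exact ⟨h.2.1, h.2.2.2.2⟩
    · exact ⟨h.2.1, h.2.2.2⟩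
  rw [eq_bot_iff, ← free_of_not_kappa hG h1.1 (by rw [hk]; exact Set.notMem_empty t) h1.2 hfM hfo,
    ← centralizer_zpowers e, ← centralizer_zpowers f]
  exact inf_le_inf_left _ (Subgroup.centralizer_le (Subgroup.zpowers_le.2 hf))

/-- An abelian normal subgroup of a complement holding all elements of `U` with fixed points. -/
theorem exists_fixed_cover (hG : Cfsg.IsMinSimpleOddOrder G) (hM : IsCoatom M)
    (h : Cfsg.IsSigmaDecomposition M K U) :
    ∃ A₀ : Subgroup G, A₀ ≤ K ⊔ U ∧ K ⊔ U ≤ Subgroup.normalizer (A₀ : Set G) ∧ IsMulCommutative A₀ ∧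
      ∀ x ∈ Cfsg.sigmaCore M, x ≠ 1 → U ⊓ Subgroup.centralizer ({x} : Set G) ≤ A₀ := by
  by_cases hK1 : K = ⊥
  · subst hK1
    obtain ⟨hE, -⟩ := decomp_complement_card hG hM h
    obtain ⟨⟨A₀, h1, h2, h3, h4⟩, -⟩ := Cfsg.Agent.S1421.result hG M hM _ hE
      (free_of_kappa_empty hG hM hE (kappa_empty_of_bot h.hall))
    exact ⟨A₀, h1, h2, h3, fun x hx hx1 => (inf_le_inf_right _ le_sup_right).trans (h4 x hx hx1)⟩
  · exact ⟨U, le_sup_right, sup_le h.normal Subgroup.le_normalizer, (decomp_kappa_structure hG hM h hK1).1,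
      fun _ _ _ => inf_le_left⟩

/-- B&G 15.1 (c): subgroups of `U` with fixed points have their centralizers in `M` only. -/
theorem decomp_centralizer_unique (hG : Cfsg.IsMinSimpleOddOrder G) (hM : IsCoatom M)
    (h : Cfsg.IsSigmaDecomposition M K U) (hXU : X ≤ U) (hX : X ≠ ⊥) {x : G} (hx : x ∈ Cfsg.sigmaCore M)
    (hx1 : x ≠ 1) (hxX : x ∈ Subgroup.centralizer (X : Set G)) :
    Subgroup.centralizer (X : Set G) ≤ M ∧
      ∀ L : Subgroup G, IsCoatom L → Subgroup.centralizer (X : Set G) ≤ L → L = M := by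
  obtain ⟨hE, hU⟩ := decomp_complement_card hG hM h
  set E := K ⊔ U with hEdef
  obtain ⟨A₀, hA₀E, hEA₀, hA₀c, hA₀x⟩ := exists_fixed_cover hG hM h
  haveI := hA₀c
  have hXA₀ : X ≤ A₀ := fun e he => hA₀x x hx hx1 ⟨hXU he,
    Subgroup.mem_centralizer_singleton_iff.2 (Subgroup.mem_centralizer_iff.1 hxX e he)⟩
  obtain ⟨q, hq, hqd⟩ := Nat.exists_prime_and_dvd fun e => hX (Subgroup.card_eq_one.1 e)
  haveI := Fact.mk hq
  obtain ⟨y, hy, hyo⟩ := exists_elem_prime (p := q) hqd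
  obtain ⟨-, hqk, hqs⟩ := hU.2.1 q hq (hqd.trans (Subgroup.card_dvd_of_le hXU))
  have hyM : y ∈ M := hU.1 (hXU hy)
  have hy1 : y ≠ 1 := fun e => hq.one_lt.ne (by rw [← hyo, e, orderOf_one])
  have hxy : x ∈ Cfsg.sigmaCore M ⊓ Subgroup.centralizer ({y} : Set G) :=
    Subgroup.mem_inf.2 ⟨hx, Subgroup.mem_centralizer_singleton_iff.2 (Subgroup.mem_centralizer_iff.1 hxX y hy).symm⟩
  rcases mem_tau13_or_tau2 hG hM (hqd.trans (Subgroup.card_dvd_of_le (hXU.trans hU.1))) hqs with ⟨-, hrk⟩ | h2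
  · exact absurd (Subgroup.mem_bot.1 (free_of_not_kappa hG hqs hqk hrk hyM hyo ▸ hxy)) hx1
  have hCy : Subgroup.centralizer ({y} : Set G) ≤ M :=
    ((Cfsg.Agent.S1420.result hG M hM E hE).2.2.2 y hyM hy1 (fun t ht hd => by
      rw [hyo] at hd
      exact (Nat.prime_dvd_prime_iff_eq ht hq).1 hd ▸ h2)
      ⟨hyM, x, hx, hx1, (Subgroup.mem_centralizer_singleton_iff.1 hxy.2).symm⟩).1
  have hCX : Subgroup.centralizer (X : Set G) ≤ M := by
    refine le_trans ?_ hCy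
    rw [← centralizer_zpowers y]
    exact Subgroup.centralizer_le (Subgroup.zpowers_le.2 hy)
  refine ⟨hCX, fun L hL hCL => ?_⟩
  obtain ⟨A, hAE, hA, hAc⟩ := exists_elementary_in_complement hG hM hE hqs h2.2.2.2
  obtain ⟨⟨hEA, hline⟩, -, -⟩ := Cfsg.Agent.S1418.result hG M hM E hE q h2 A ⟨hAE, hA, hAc⟩
  haveI := hA.1
  have hAX : X ≤ Subgroup.centralizer (A : Set G) := le_of_prime_subgroups fun t ht T hT hTX => by
    haveI := Fact.mk ht
    have hTE : T ≤ E := hTX.trans (hXU.trans le_sup_right)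
    by_cases htq : t = q
    · subst htq
      have hp : IsPGroup t ↥(T ⊔ A) := hT.to_sup_of_normal_right' (isPGroup_of_elementary hA) (hTE.trans hEA)
      haveI := (Cfsg.Agent.S1420.result hG M hM E hE).1 (T ⊔ A) (sup_le (hTE.trans hE.1) (hAE.trans hE.1))
        hp.isNilpotent (fun s hs hd => primes_of_pgroup ht hp s hs hd ▸ hqs)
      exact fun a ha => Subgroup.mem_centralizer_iff.2 fun b hb =>
        setLike_mul_comm (Subgroup.mem_sup_right hb : b ∈ T ⊔ A) (Subgroup.mem_sup_left ha)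
    intro e he
    refine Subgroup.mem_centralizer_iff.2 fun a ha => ?_
    have hee : e ∈ A₀ := hXA₀ (hTX he)
    set d := a * e * a⁻¹ * e⁻¹ with hd
    have hdA₀ : d ∈ A₀ := mul_mem ((Subgroup.mem_normalizer_iff.1 (hEA₀ (hAE ha)) e).1 hee) (inv_mem hee)
    have hdA : d ∈ A := by
      rw [hd, show a * e * a⁻¹ * e⁻¹ = a * (e * a⁻¹ * e⁻¹) by group]
      exact mul_mem ha ((Subgroup.mem_normalizer_iff.1 (hEA (hTE he)) _).1 (inv_mem ha))
    have hde : d * e = a * e * a⁻¹ := by rw [hd]; group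
    have hdn : d ^ orderOf e = 1 := by
      have h1 : (d * e) ^ orderOf e = 1 := by rw [hde, conj_pow, pow_orderOf_eq_one]; group
      rwa [(show Commute d e from setLike_mul_comm hdA₀ hee).mul_pow, pow_orderOf_eq_one, mul_one] at h1
    have hd1 : d = 1 := by
      rw [← orderOf_eq_one_iff]
      refine Nat.eq_one_of_dvd_coprimes (Nat.coprime_of_dvd fun s hs h1 h2 => htq ?_)
        (orderOf_dvd_of_pow_eq_one (hA.2 d hdA)) (orderOf_dvd_of_pow_eq_one hdn)
      rw [← (Nat.prime_dvd_prime_iff_eq hs hq).1 h1]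
      exact (primes_of_pgroup ht hT s hs (h2.trans (Subgroup.orderOf_dvd_natCard T he))).symm
    rw [hd, mul_inv_eq_one, mul_inv_eq_iff_eq_mul] at hd1
    exact hd1
  by_contra hne
  have hbot := (Cfsg.Agent.S1417.result hG M hM q h2 A ⟨hAE.trans hE.1, hA, hAc⟩).2.2.2.2.1 L hL hne
    ((Subgroup.le_centralizer_iff.1 hAX).trans hCL)
  exact hx1 (Subgroup.mem_bot.1 (hbot ▸ Subgroup.mem_inf.2 ⟨hx, hCL hxX⟩))

end CfsgLib.SigmaGroups
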