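import Cfsg.Agent.Sigma.KappaDecomp
import Cfsg.Agent.S1426

/-!
B&G 15.1-15.3: `U`, `M'` and `K*`.
-/

set_option autoImplicit false
set_option linter.unusedSectionVars false
set_option linter.style.haveILetI false

namespace CfsgLib.SigmaGroups

open CfsgLib.BenderUnique CfsgLib.Uniq
open scoped commutatorElement

universe u

variable {G : Type u} [Group G] [Finite G] {p q r : ℕ} {M N L K U X : Subgroup G}

/-- A nontrivial `U` acts on a nilpotent `M_σ` without fixed points. -/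
theorem decomp_fixed (hG : Cfsg.IsMinSimpleOddOrder G) (hM : IsCoatom M)
    (h : Cfsg.IsSigmaDecomposition M K U) (hU1 : U ≠ ⊥) :
    Group.IsNilpotent (Cfsg.sigmaCore M) ∧ Cfsg.sigmaCore M ⊓ Subgroup.centralizer (U : Set G) = ⊥ := by
  obtain ⟨hE, hU⟩ := decomp_complement_card hG hM h
  obtain ⟨q, hq, hqU⟩ := Nat.exists_prime_and_dvd fun e => hU1 (Subgroup.card_eq_one.1 e)
  haveI := Fact.mk hq
  obtain ⟨-, hqk, hqs⟩ := hU.2.1 q hq hqU
  have hqM : q ∣ Nat.card M := hqU.trans (Subgroup.card_dvd_of_le hU.1)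
  refine ⟨(omega_structure hG hM hqM hqs hqk (S := (Classical.arbitrary (Sylow q M))) rfl).2.2, eq_bot_iff.2 ?_⟩
  rcases mem_tau13_or_tau2 hG hM hqM hqs with ⟨-, hrk⟩ | h2
  · obtain ⟨w, hw, hwo⟩ := exists_elem_prime (p := q) hqU
    rw [← free_of_not_kappa hG hqs hqk hrk (hU.1 hw) hwo, ← centralizer_zpowers]
    exact inf_le_inf_left _ (Subgroup.centralizer_le (Subgroup.zpowers_le.2 hw))
  · obtain ⟨A, hAM, hA, hAc⟩ := exists_elem_of_not_prank h2.2.2.2
    haveI : Group.IsSolvable M := isSolvable_of_ne_top hG hM.1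
    obtain ⟨F, hUF, hF, hconj⟩ := exists_hall_over (π := {q | q.Prime ∧ q ∉ Cfsg.kappa M ∧ q ∉ Cfsg.sigma M})
      hU.1 hU.2.1
    have hFU : F ≤ U := le_of_prime_relIndex fun s hs hd hdi => hU.2.2 s hs (hF.2.1 s hs hd)
      (hdi.trans (Dvd.intro _ (Subgroup.relIndex_mul_relIndex U F M hUF hF.1)))
    obtain ⟨a, ha, hAU⟩ := hconj A hAM fun s hs hd => by
      rw [hAc] at hd
      rw [(Nat.prime_dvd_prime_iff_eq hs hq).1 (hs.dvd_of_dvd_pow hd)]
      exact ⟨hq, hqk, hqs⟩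
    rintro x ⟨hx, hxU⟩
    have h0 : a⁻¹ * x * a ∈ Cfsg.sigmaCore M ⊓ Subgroup.centralizer (A : Set G) := by
      refine Subgroup.mem_inf.2 ⟨?_, Subgroup.mem_centralizer_iff.2 fun b hb => ?_⟩
      · have h := (Subgroup.mem_normalizer_iff.1 (le_normalizer_sigmaCore M (inv_mem ha)) x).1 hx
        rwa [inv_inv] at h
      · have h := Subgroup.mem_centralizer_iff.1 hxU _ (hFU (hAU ⟨b, hb, rfl⟩))
        simp only [MulEquiv.coe_toMonoidHom, MulAut.conj_apply] at h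
        have h' := congrArg (fun c => a⁻¹ * c * a) h
        simpa [mul_assoc] using h'
    rw [sigmaCore_inf_centralizer_eq_bot hG hM hqs hAM hA hAc, Subgroup.mem_bot] at h0
    exact Subgroup.mem_bot.2 (conj_eq_one_iff.1 (show a⁻¹ * x * a⁻¹⁻¹ = 1 by rwa [inv_inv]))

theorem decomp_commutator_kappa (hG : Cfsg.IsMinSimpleOddOrder G) (hM : IsCoatom M)
    (h : Cfsg.IsSigmaDecomposition M K U) (hK1 : K ≠ ⊥) : ⁅U, K⁆ = U := by
  obtain ⟨-, hU⟩ := decomp_complement_card hG hM h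
  obtain ⟨k, hk, hk1⟩ := (Subgroup.bot_or_exists_ne_one _).resolve_left hK1
  haveI : Group.IsSolvable U := isSolvable_of_ne_top hG fun e => hM.1 (top_le_iff.1 (e ▸ hU.1))
  have hsup := CoprimeAction.commutator_sup_centralizer h.normal (Nat.coprime_of_dvd fun t ht h1 h2 =>
    (hU.2.1 t ht h2).2.1 (h.hall.2.1 t ht h1)) (Or.inr inferInstance)
  have h0 : U ⊓ Subgroup.centralizer (K : Set G) = ⊥ := by
    rw [eq_bot_iff, ← decomp_free hG hM h hk hk1, ← centralizer_zpowers]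
    exact inf_le_inf_left _ (Subgroup.centralizer_le (Subgroup.zpowers_le.2 hk))
  rwa [h0, sup_bot_eq] at hsup

theorem decomp_derived (hG : Cfsg.IsMinSimpleOddOrder G) (hM : IsCoatom M)
    (h : Cfsg.IsSigmaDecomposition M K U) (hK1 : K ≠ ⊥) :
    ⁅M, M⁆ = U ⊔ Cfsg.sigmaCore M := by
  obtain ⟨hE, hU⟩ := decomp_complement_card hG hM h
  have hSM : Cfsg.sigmaCore M ≤ M := Subgroup.map_subtype_le _
  refine le_antisymm ?_ (sup_le ?_ ?_)
  · set W := U ⊔ Cfsg.sigmaCore M with hW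
    haveI := Subgroup.normal_subgroupOf_of_le_normalizer (decomp_sup_normal hG hM h)
    haveI := h.cyclic
    haveI : IsMulCommutative K := IsCyclic.isMulCommutative
    set f := QuotientGroup.mk' (W.subgroupOf M) with hf
    have hrep : ∀ m : ↥M, ∃ k : ↥M, (k : G) ∈ K ∧ f m = f k := fun m => by
      obtain ⟨e, he, s, hs, hm⟩ := hE.2.2.2 m m.2
      obtain ⟨k, hk, u, hu, rfl⟩ := CoprimeAction.exists_mul_of_mem_sup h.normal he
      refine ⟨⟨k, h.hall.1 hk⟩, hk, (QuotientGroup.eq.2 ?_).symm⟩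
      rw [Subgroup.mem_subgroupOf]
      show k⁻¹ * (m : G) ∈ W
      rw [hm, show k⁻¹ * (k * u * s) = u * s by group]
      exact Subgroup.mul_mem_sup hu hs
    refine Subgroup.commutator_le.2 fun a ha b hb => ?_
    obtain ⟨k, hk, hka⟩ := hrep ⟨a, ha⟩
    obtain ⟨l, hl, hlb⟩ := hrep ⟨b, hb⟩
    have h1 : f ⁅(⟨a, ha⟩ : ↥M), ⟨b, hb⟩⁆ = 1 := by
      rw [map_commutatorElement, hka, hlb, ← map_commutatorElement,
        commutatorElement_eq_one_iff_mul_comm.2 (Subtype.ext (setLike_mul_comm hk hl) : k * l = l * k), map_one]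
    rw [hf, QuotientGroup.mk'_apply, QuotientGroup.eq_one_iff, Subgroup.mem_subgroupOf] at h1
    exact h1
  · rw [← decomp_commutator_kappa hG hM h hK1]
    exact Subgroup.commutator_mono hU.1 h.hall.1
  · conv_lhs => rw [← commutator_sigma_complement hG hM hE]
    exact Subgroup.commutator_mono hSM hE.1

theorem decomp_star_le_derived (hG : Cfsg.IsMinSimpleOddOrder G) (hM : IsCoatom M)
    (h : Cfsg.IsSigmaDecomposition M K U) (hU : U = ⊥) :
    Cfsg.sigmaCore M ⊓ Subgroup.centralizer (K : Set G) ≤ ⁅Cfsg.sigmaCore M, Cfsg.sigmaCore M⁆ := by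
  have hE := (decomp_complement_card hG hM h).1
  rw [hU, sup_bot_eq] at hE
  exact (Cfsg.Agent.S1426.result hG M hM K hE).1

/-- With `U ≠ 1` every prime of `M_σ` lies in `β(M)`. -/
theorem decomp_sigma_beta (hG : Cfsg.IsMinSimpleOddOrder G) (hM : IsCoatom M)
    (h : Cfsg.IsSigmaDecomposition M K U) (hK1 : K ≠ ⊥) (hU1 : U ≠ ⊥) [hq : Fact q.Prime]
    (hd : q ∣ Nat.card ↥(Cfsg.sigmaCore M)) : q ∈ Cfsg.beta M := by
  by_contra hb
  obtain ⟨hn, hfree⟩ := decomp_fixed hG hM h hU1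
  obtain ⟨hE, hU⟩ := decomp_complement_card hG hM h
  obtain ⟨R₀⟩ : Nonempty (Sylow q ↥(Cfsg.sigmaCore M)) := inferInstance
  have h4 : ∀ (s : ℕ) (_ : Fact s.Prime) (P : Sylow s ↥(Cfsg.sigmaCore M)), (P : Subgroup ↥(Cfsg.sigmaCore M)).Normal :=
    ((Group.isNilpotent_of_finite_tfae (G := ↥(Cfsg.sigmaCore M))).out 0 3).1 hn
  haveI : (R₀ : Subgroup ↥(Cfsg.sigmaCore M)).Normal := h4 q inferInstance R₀
  set R := (R₀ : Subgroup ↥(Cfsg.sigmaCore M)).map (Cfsg.sigmaCore M).subtype with hR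
  have hRS : R ≤ Cfsg.sigmaCore M := Subgroup.map_subtype_le _
  have hRp : IsPGroup q R := R₀.isPGroup'.map _
  have hMR : M ≤ Subgroup.normalizer (R : Set G) := fun m hm => by
    refine mem_normalizer_of_map_le ?_
    rintro _ ⟨a, ha, rfl⟩
    have haS := (Subgroup.mem_normalizer_iff.1 (le_normalizer_sigmaCore M hm) a).1 (hRS ha)
    set T := (R.map (MulAut.conj m).toMonoidHom).subgroupOf (Cfsg.sigmaCore M) with hT
    have hTp : IsPGroup q T := (hRp.map _).comap_subtype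
    obtain ⟨S', hS'⟩ := hTp.exists_le_sylow
    haveI := Sylow.unique_of_normal R₀ inferInstance
    rw [Subsingleton.elim S' R₀] at hS'
    exact ⟨⟨_, haS⟩, hS' (Subgroup.mem_subgroupOf.2 ⟨a, ha, rfl⟩), rfl⟩
  have hUM' : U ≤ ⁅M, M⁆ := (decomp_derived hG hM h hK1).ge.trans' le_sup_left
  have hUR := le_centralizer_of_not_beta (p := q) hG hM (mem_sigma_of_dvd M hq.out hd) hb hRp
    (hRS.trans (Subgroup.map_subtype_le _)) hUM'
    ((Nat.Prime.coprime_iff_not_dvd hq.out).2 fun hdU =>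
      (hU.2.1 q hq.out hdU).2.2 (mem_sigma_of_dvd M hq.out hd)).symm (hU.1.trans hMR)
  have hR1 : R ≠ ⊥ := fun e => by
    rw [Subgroup.map_eq_bot_iff_of_injective _ (Cfsg.sigmaCore M).subtype_injective] at e
    exact R₀.ne_bot_of_dvd_card hd e
  exact hR1 (le_bot_iff.1 (hfree ▸ le_inf hRS (Subgroup.le_centralizer_iff.1 hUR)))

theorem decomp_star_second_derived (hG : Cfsg.IsMinSimpleOddOrder G) (hM : IsCoatom M)
    (h : Cfsg.IsSigmaDecomposition M K U) (hK1 : K ≠ ⊥) :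
    Cfsg.sigmaCore M ⊓ Subgroup.centralizer (K : Set G) ≤ ⁅⁅M, M⁆, ⁅M, M⁆⁆ := by
  have hder := decomp_derived hG hM h hK1
  have hS' : Cfsg.sigmaCore M ≤ ⁅M, M⁆ := hder ▸ le_sup_right
  by_cases hU1 : U = ⊥
  · exact (decomp_star_le_derived hG hM h hU1).trans (Subgroup.commutator_mono hS' hS')
  obtain ⟨-, hfree⟩ := decomp_fixed hG hM h hU1
  obtain ⟨-, hU⟩ := decomp_complement_card hG hM h
  have hUn : U ≤ Subgroup.normalizer (Cfsg.sigmaCore M : Set G) := hU.1.trans (le_normalizer_sigmaCore M)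
  haveI : Group.IsSolvable (Cfsg.sigmaCore M) :=
    isSolvable_of_ne_top hG fun e => hM.1 (top_le_iff.1 (e ▸ Subgroup.map_subtype_le _))
  have hsup := CoprimeAction.commutator_sup_centralizer hUn (Nat.coprime_of_dvd fun t ht h1 h2 =>
    (hU.2.1 t ht h1).2.2 (mem_sigma_of_dvd M ht h2)) (Or.inr inferInstance)
  rw [hfree, sup_bot_eq] at hsup
  refine inf_le_left.trans (hsup.ge.trans (Subgroup.commutator_mono hS' ?_))
  exact hder ▸ le_sup_left

/-- B&G 14.7 (c): lines of `K*` determine `M`. -/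
theorem star_line_unique (hG : Cfsg.IsMinSimpleOddOrder G) (hM : IsCoatom M)
    (hK : Cfsg.IsPiHallOf (Cfsg.kappa M) K M) (hK1 : K ≠ ⊥) {x : G} (hx : (orderOf x).Prime)
    (hxS : x ∈ Cfsg.sigmaCore M ⊓ Subgroup.centralizer (K : Set G)) :
    Subgroup.centralizer ({x} : Set G) ≤ M ∧
      ∀ L : Subgroup G, IsCoatom L → Subgroup.centralizer ({x} : Set G) ≤ L → L = M := by
  haveI := Fact.mk hx
  obtain ⟨U, hU⟩ := exists_decomp hG hM (isCyclic_kappa_hall hG hM hK) hK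
  have hd : orderOf x ∣ Nat.card ↥(Cfsg.sigmaCore M) := Subgroup.orderOf_dvd_natCard _ hxS.1
  have hb : orderOf x ∈ Cfsg.beta M ∨ x ∈ ⁅Cfsg.sigmaCore M, Cfsg.sigmaCore M⁆ := by
    by_cases hU1 : U = ⊥
    · exact Or.inr (decomp_star_le_derived hG hM hU hU1 hxS)
    · exact Or.inl (decomp_sigma_beta hG hM hU hK1 hU1 hd)
  obtain ⟨huniq, hC, -⟩ := sigma_line_unique hG hM (mem_sigma_of_dvd M hx hd) rfl
    ((Subgroup.map_subtype_le _ : Cfsg.sigmaCore M ≤ M) hxS.1) hb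
  exact ⟨hC, fun L hL hCL => huniq.unique ⟨hL, hCL⟩ ⟨hM, hC⟩⟩

end CfsgLib.SigmaGroups
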