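import Cfsg.Agent.Sigma.KappaPair
import Cfsg.Agent.PrimeAction.FrobeniusNilpotent

/-!
B&G 14.6-14.7: existence of the partner `M*`, cyclicity of `K`, at most two classes with `κ ≠ ∅`.
-/

set_option autoImplicit false
set_option linter.unusedSectionVars false
set_option linter.style.haveILetI false

namespace CfsgLib.SigmaGroups

open CfsgLib.BenderUnique CfsgLib.Uniq
open scoped commutatorElement

universe u

variable {G : Type u} [Group G] [Finite G] {p q r : ℕ} {M N L K K₁ : Subgroup G}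

theorem kappaZ_coprime (hK : Cfsg.IsPiHallOf (Cfsg.kappa M) K M) :
    (Nat.card K).Coprime (Nat.card ↥(Cfsg.sigmaCore M ⊓ Subgroup.centralizer (K : Set G))) :=
  Nat.coprime_of_dvd fun t ht h1 h2 => (hK.2.1 t ht h1).2.2.1
    (mem_sigma_of_dvd M ht (h2.trans (Subgroup.card_dvd_of_le inf_le_left)))

theorem kappaZ_commute : K ≤ Subgroup.centralizer
    ((Cfsg.sigmaCore M ⊓ Subgroup.centralizer (K : Set G) : Subgroup G) : Set G) :=
  Subgroup.le_centralizer_iff.1 inf_le_right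

theorem kappaZ_decomp (hK : Cfsg.IsPiHallOf (Cfsg.kappa M) K M) {a : G}
    (ha : a ∈ K ⊔ (Cfsg.sigmaCore M ⊓ Subgroup.centralizer (K : Set G))) :
    ∃ u ∈ K, ∃ v ∈ Cfsg.sigmaCore M ⊓ Subgroup.centralizer (K : Set G),
      u * v = a ∧ Commute u v ∧ u ∈ Subgroup.zpowers a ∧ v ∈ Subgroup.zpowers a := by
  obtain ⟨u, hu, v, hv, rfl⟩ := CoprimeAction.exists_mul_of_mem_sup
    ((kappaZ_commute (M := M) (K := K)).trans (Subgroup.centralizer_le_normalizer _)) ha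
  have huv : Commute u v := (Subgroup.mem_centralizer_iff.1 (kappaZ_commute hu) v hv).symm
  have hc := orderOf_coprime_of_coprime (kappaZ_coprime hK) hu hv
  exact ⟨u, hu, v, hv, rfl, huv, mem_zpowers_mul_of_coprime huv hc, huv.eq ▸ mem_zpowers_mul_of_coprime huv.symm hc.symm⟩

theorem mem_star_of_sigma (hK : Cfsg.IsPiHallOf (Cfsg.kappa M) K M) {a : G}
    (ha : a ∈ K ⊔ (Cfsg.sigmaCore M ⊓ Subgroup.centralizer (K : Set G)))
    (hs : ∀ t : ℕ, t.Prime → t ∣ orderOf a → t ∈ Cfsg.sigma M) :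
    a ∈ Cfsg.sigmaCore M ⊓ Subgroup.centralizer (K : Set G) := by
  obtain ⟨u, hu, v, hv, rfl, -, huz, -⟩ := kappaZ_decomp hK ha
  suffices hu1 : u = 1 by rw [hu1, one_mul]; exact hv
  by_contra hu1
  obtain ⟨t, ht, hd⟩ := Nat.exists_prime_and_dvd fun e => hu1 (orderOf_eq_one_iff.1 e)
  exact (hK.2.1 t ht (hd.trans (Subgroup.orderOf_dvd_natCard K hu))).2.2.1
    (hs t ht (hd.trans (orderOf_dvd_of_mem_zpowers huz)))

theorem mem_kappa_of_nonsigma (hK : Cfsg.IsPiHallOf (Cfsg.kappa M) K M) {a : G}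
    (ha : a ∈ K ⊔ (Cfsg.sigmaCore M ⊓ Subgroup.centralizer (K : Set G)))
    (hs : ∀ t : ℕ, t.Prime → t ∣ orderOf a → t ∉ Cfsg.sigma M) : a ∈ K := by
  obtain ⟨u, hu, v, hv, rfl, -, -, hvz⟩ := kappaZ_decomp hK ha
  suffices hv1 : v = 1 by rw [hv1, mul_one]; exact hu
  by_contra hv1
  obtain ⟨t, ht, hd⟩ := Nat.exists_prime_and_dvd fun e => hv1 (orderOf_eq_one_iff.1 e)
  exact hs t ht (hd.trans (orderOf_dvd_of_mem_zpowers hvz)) (prime_mem_sigma M hv.1 ht hd)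

theorem kappaZ_card (hK : Cfsg.IsPiHallOf (Cfsg.kappa M) K M) :
    Nat.card ↥(K ⊔ (Cfsg.sigmaCore M ⊓ Subgroup.centralizer (K : Set G))) =
      Nat.card K * Nat.card ↥(Cfsg.sigmaCore M ⊓ Subgroup.centralizer (K : Set G)) :=
  CfsgLib.TypeP.card_sup_of_le_centralizer kappaZ_commute (Subgroup.inf_eq_bot_of_coprime (kappaZ_coprime hK))

/-- An element of `Z` outside both factors is conjugate into `Z` only inside `Z`. -/
theorem kappaZ_mem_of_conj (hG : Cfsg.IsMinSimpleOddOrder G) (hM : IsCoatom M)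
    (hK : Cfsg.IsPiHallOf (Cfsg.kappa M) K M) (hK1 : K ≠ ⊥) {a g : G}
    (ha : a ∈ K ⊔ (Cfsg.sigmaCore M ⊓ Subgroup.centralizer (K : Set G))) (haK : a ∉ K)
    (haS : a ∉ Cfsg.sigmaCore M ⊓ Subgroup.centralizer (K : Set G))
    (hg : g * a * g⁻¹ ∈ K ⊔ (Cfsg.sigmaCore M ⊓ Subgroup.centralizer (K : Set G))) :
    g ∈ K ⊔ (Cfsg.sigmaCore M ⊓ Subgroup.centralizer (K : Set G)) := by
  have hord : ∀ b : G, orderOf (g * b * g⁻¹) = orderOf b := fun b => (MulAut.conj g).orderOf_eq b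
  have hcz : ∀ {b : G}, b ∈ Subgroup.zpowers a →
      g * b * g⁻¹ ∈ K ⊔ (Cfsg.sigmaCore M ⊓ Subgroup.centralizer (K : Set G)) := fun {b} hb => by
    obtain ⟨i, rfl⟩ := Subgroup.mem_zpowers_iff.1 hb
    rw [← conj_zpow]
    exact zpow_mem hg _
  obtain ⟨u, hu, v, hv, he, -, huz, hvz⟩ := kappaZ_decomp hK ha
  have hu1 : u ≠ 1 := fun h => haS (by rw [← he, h, one_mul]; exact hv)
  have hv1 : v ≠ 1 := fun h => haK (by rw [← he, h, mul_one]; exact hu)
  obtain ⟨t, ht, htd⟩ := Nat.exists_prime_and_dvd fun h => hv1 (orderOf_eq_one_iff.1 h)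
  haveI := Fact.mk ht
  obtain ⟨z, hz, hzo⟩ := exists_elem_prime (p := t) (H := Subgroup.zpowers v) (by rwa [Nat.card_zpowers])
  have hzS : z ∈ Cfsg.sigmaCore M ⊓ Subgroup.centralizer (K : Set G) := Subgroup.zpowers_le.2 hv hz
  have hzZ := hcz (Subgroup.zpowers_le.2 hvz hz)
  have hts : t ∈ Cfsg.sigma M := mem_sigma_of_dvd M ht (hzo ▸ Subgroup.orderOf_dvd_natCard _ hzS.1)
  have hgzS := mem_star_of_sigma hK hzZ fun s hs hd => by
    rw [hord, hzo] at hd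
    exact (Nat.prime_dvd_prime_iff_eq hs ht).1 hd ▸ hts
  have hgM : g ∈ M := mem_of_conj_mem_of_elem hG hM hts hzo
    ((Subgroup.map_subtype_le _ : Cfsg.sigmaCore M ≤ M) hzS.1)
    (centralizer_le_kappaStar hG hM hK hK1 hzS fun h => ht.one_lt.ne (by rw [← hzo, h, orderOf_one]))
    ((Subgroup.map_subtype_le _ : Cfsg.sigmaCore M ≤ M) hgzS.1)
  refine mem_of_conj_kappa hG hM hK hK1 hgM hu hu1 (mem_kappa_of_nonsigma hK (hcz huz) fun s hs hd => ?_)
  rw [hord] at hd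
  exact (hK.2.1 s hs (hd.trans (Subgroup.orderOf_dvd_natCard K hu))).2.2.1

/-- B&G 14.6: if some prime of `M` lies outside `σ(M) ∪ κ(M)`, `K` has prime order. -/
theorem prime_card_of_dvd_non_kappa (hG : Cfsg.IsMinSimpleOddOrder G) (hM : IsCoatom M)
    (hK : Cfsg.IsPiHallOf (Cfsg.kappa M) K M) (hK1 : K ≠ ⊥) [hq : Fact q.Prime] (hqM : q ∣ Nat.card M)
    (hqs : q ∉ Cfsg.sigma M) (hqk : q ∉ Cfsg.kappa M) : (Nat.card K).Prime := by
  obtain ⟨E, U, hE, hKE, -, hUE, hU, hEU, -, hlines⟩ := kappa_complement_structure hG hM hK hK1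
  have hqU : q ∣ Nat.card U := by
    rw [← Subgroup.relIndex_bot_left, ← Subgroup.relIndex_mul_relIndex ⊥ U M bot_le hU.1] at hqM
    rw [← Subgroup.relIndex_bot_left]
    exact (hq.out.dvd_mul.1 hqM).resolve_right (hU.2.2 q hq.out ⟨hq.out, hqk, hqs⟩)
  have hU1 : U ≠ ⊥ := fun h => hq.out.not_dvd_one (by rwa [h, Subgroup.card_bot] at hqU)
  have hn : Group.IsNilpotent (Cfsg.sigmaCore M) :=
    (omega_structure hG hM hqM hqs hqk (S := (Classical.arbitrary (Sylow q M))) rfl).2.2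
  have hfree : Cfsg.sigmaCore M ⊓ Subgroup.centralizer (U : Set G) = ⊥ := by
    rw [eq_bot_iff]
    rcases mem_tau13_or_tau2 hG hM hqM hqs with ⟨-, hrk⟩ | h2
    · obtain ⟨w, hw, hwo⟩ := exists_elem_prime (p := q) hqU
      rw [← free_of_not_kappa hG hqs hqk hrk (hU.1 hw) hwo, ← centralizer_zpowers]
      exact inf_le_inf_left _ (Subgroup.centralizer_le (Subgroup.zpowers_le.2 hw))
    · obtain ⟨A, hAM, hA, hAc⟩ := exists_elem_of_not_prank h2.2.2.2
      haveI : Group.IsSolvable M := isSolvable_of_ne_top hG hM.1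
      obtain ⟨F, hUF, hF, hconj⟩ := exists_hall_over (π := {q | q.Prime ∧ q ∉ Cfsg.kappa M ∧ q ∉ Cfsg.sigma M})
        hU.1 hU.2.1
      have hFU : F ≤ U := le_of_prime_relIndex fun s hs hd hdi => hU.2.2 s hs (hF.2.1 s hs hd)
        (hdi.trans (Dvd.intro _ (Subgroup.relIndex_mul_relIndex U F M hUF hF.1)))
      obtain ⟨a, ha, hAU⟩ := hconj A hAM fun s hs hd => by
        rw [hAc] at hd
        rw [(Nat.prime_dvd_prime_iff_eq hs hq.out).1 (hs.dvd_of_dvd_pow hd)]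
        exact ⟨hq.out, hqk, hqs⟩
      rintro x ⟨hx, hxU⟩
      have h0 : a⁻¹ * x * a ∈ Cfsg.sigmaCore M ⊓ Subgroup.centralizer (A : Set G) := by
        refine Subgroup.mem_inf.2 ⟨?_, Subgroup.mem_centralizer_iff.2 fun b hb => ?_⟩
        · have h := (Subgroup.mem_normalizer_iff.1 (le_normalizer_sigmaCore M (inv_mem ha)) x).1 hx
          rwa [inv_inv] at h
        · have h := Subgroup.mem_centralizer_iff.1 hxU _ (hFU (hAU ⟨b, hb, rfl⟩))
          simp only [MulEquiv.coe_toMonoidHom, MulAut.conj_apply] at h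
          have h' := congrArg (fun c => a⁻¹ * c * a) h
          simpa [mul_assoc] using h'
      rw [sigmaCore_inf_centralizer_eq_bot hG hM hqs hAM hA hAc, Subgroup.mem_bot] at h0
      exact Subgroup.mem_bot.2 (conj_eq_one_iff.1 (show a⁻¹ * x * a⁻¹⁻¹ = 1 by rwa [inv_inv]))
  have hlineC : ∀ k ∈ K, k ≠ 1 → ∃ X : Subgroup G, X ≤ K ∧ (Nat.card X).Prime ∧
      Subgroup.centralizer ({k} : Set G) ≤ Subgroup.centralizer (X : Set G) := fun k hk hk1 => by
    obtain ⟨t, X, ht, hX, hXc, hC⟩ := exists_line_of_mem hk hk1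
    exact ⟨X, hX, by rw [hXc]; exact ht, hC⟩
  refine (PrimeAction.frobenius_on_nilpotent U K (Cfsg.sigmaCore M) hU1 hK1 ?_ (hKE.trans hEU) (fun k hk hk1 => ?_)
    (sigmaCore_ne_bot hG hM) hn (hU.1.trans (le_normalizer_sigmaCore M))
    (hK.1.trans (le_normalizer_sigmaCore M)) ?_ hfree fun k hk hk1 => ?_).1
  · exact Subgroup.inf_eq_bot_of_coprime (Nat.coprime_of_dvd fun s hs h1 h2 =>
      (hU.2.1 s hs h1).2.1 (hK.2.1 s hs h2))
  · obtain ⟨X, hX, hXp, hC⟩ := hlineC k hk hk1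
    exact eq_bot_iff.2 ((inf_le_inf_left _ hC).trans (hlines X hX hXp).2.2.le)
  · exact Nat.coprime_of_dvd fun s hs h1 h2 => not_dvd_card_complement hG hM hE hs (mem_sigma_of_dvd M hs h2)
      (h1.trans (Subgroup.card_dvd_of_le (sup_le hUE hKE)))
  · obtain ⟨X, hX, hXp, hC⟩ := hlineC k hk hk1
    refine le_antisymm ((inf_le_inf_left _ hC).trans (hlines X hX hXp).1.le) (inf_le_inf_left _ ?_)
    rw [← centralizer_zpowers]
    exact Subgroup.centralizer_le (Subgroup.zpowers_le.2 hk)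

/-- With all primes outside `σ(M)` in `κ(M)`, `K` is a complement. -/
theorem isComplIn_kappa (hG : Cfsg.IsMinSimpleOddOrder G) (hM : IsCoatom M)
    (hK : Cfsg.IsPiHallOf (Cfsg.kappa M) K M)
    (hall : ∀ t : ℕ, t.Prime → t ∣ Nat.card M → t ∉ Cfsg.sigma M → t ∈ Cfsg.kappa M) :
    Cfsg.IsComplIn K (Cfsg.sigmaCore M) M := by
  obtain ⟨E, hKE, hE⟩ := exists_complement_ge hG hM hK.1 fun t ht hd h => (hK.2.1 t ht hd).2.2.1 h
  have hEK : E ≤ K := le_of_prime_relIndex fun t ht hd hdi => hK.2.2 t ht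
    (hall t ht (hd.trans (Subgroup.card_dvd_of_le hE.1)) fun h => not_dvd_card_complement hG hM hE ht h hd)
    (hdi.trans (Dvd.intro _ (Subgroup.relIndex_mul_relIndex K E M hKE hE.1)))
  rwa [le_antisymm hKE hEK]

theorem isComplIn_of_not_prime (hG : Cfsg.IsMinSimpleOddOrder G) (hM : IsCoatom M)
    (hK : Cfsg.IsPiHallOf (Cfsg.kappa M) K M) (hK1 : K ≠ ⊥) (hp : ¬ (Nat.card K).Prime) :
    Cfsg.IsComplIn K (Cfsg.sigmaCore M) M :=
  isComplIn_kappa hG hM hK fun _t ht hd hs => by_contra fun hk =>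
    hp (@prime_card_of_dvd_non_kappa G _ _ _ M K hG hM hK hK1 ⟨ht⟩ hd hs hk)

/-- In the `P₁` case the fixed points of `K` are at most a third of `M_σ`. -/
theorem three_mul_star_le (hG : Cfsg.IsMinSimpleOddOrder G) (hM : IsCoatom M)
    (hK : Cfsg.IsPiHallOf (Cfsg.kappa M) K M) (hK1 : K ≠ ⊥) (hE : Cfsg.IsComplIn K (Cfsg.sigmaCore M) M) :
    3 * Nat.card ↥(Cfsg.sigmaCore M ⊓ Subgroup.centralizer (K : Set G)) ≤ Nat.card ↥(Cfsg.sigmaCore M) := by
  have hne : Cfsg.sigmaCore M ⊓ Subgroup.centralizer (K : Set G) ≠ Cfsg.sigmaCore M := fun h => by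
    obtain ⟨E', U', -, -, -, -, -, -, -, hlines⟩ := kappa_complement_structure hG hM hK hK1
    obtain ⟨s, X, hs, hX, hXc⟩ := exists_line_le hK1
    haveI := Fact.mk hs
    obtain ⟨hss, hsrk, -, -⟩ := kappa_basic hG hM (hK.2.1 s hs (hXc ▸ Subgroup.card_dvd_of_le hX))
    exact not_le_centralizer_sigmaCore hG hM hss hsrk hE hXc (hlines X hX (by rw [hXc]; exact hs)).2.1
      (Subgroup.le_centralizer_iff.1 ((h.ge.trans inf_le_right).trans (Subgroup.centralizer_le hX)))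
  set S := Cfsg.sigmaCore M ⊓ Subgroup.centralizer (K : Set G) with hS
  have hmul : Nat.card S * S.relIndex (Cfsg.sigmaCore M) = Nat.card ↥(Cfsg.sigmaCore M) := by
    rw [← Subgroup.relIndex_bot_left, ← Subgroup.relIndex_bot_left]
    exact Subgroup.relIndex_mul_relIndex _ _ _ bot_le inf_le_left
  have hi1 : S.relIndex (Cfsg.sigmaCore M) ≠ 1 := fun e => hne (le_antisymm inf_le_left (Subgroup.relIndex_eq_one.1 e))
  have hodd : Odd (Nat.card ↥(Cfsg.sigmaCore M)) := odd_card hG _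
  rw [← hmul, Nat.odd_mul] at hodd
  obtain ⟨m, hm⟩ := hodd.2
  rw [← hmul, mul_comm]
  exact Nat.mul_le_mul_left _ (by omega)

/-- A maximal subgroup sharing a prime order element of `σ` with `M` is `M` if the centralizer lies in `M`. -/
theorem eq_of_shared_elem (hG : Cfsg.IsMinSimpleOddOrder G) (hM : IsCoatom M) (hL : IsCoatom L) {w : G}
    (hw : (orderOf w).Prime) (hwM : w ∈ Cfsg.sigmaCore M) (hwL : w ∈ Cfsg.sigmaCore L)
    (hC : Subgroup.centralizer ({w} : Set G) ≤ M) : L = M := by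
  haveI := Fact.mk hw
  have hsM := prime_mem_sigma M hwM hw dvd_rfl
  obtain ⟨g, hg⟩ : ∃ g : G, L = M.map (MulAut.conj g).toMonoidHom := by
    by_contra hnc
    push Not at hnc
    exact sigma_disjoint hG hM hL hnc hsM (prime_mem_sigma L hwL hw dvd_rfl)
  have hwg : g⁻¹ * w * g⁻¹⁻¹ ∈ M := by
    obtain ⟨m, hm, he⟩ := hg ▸ (Subgroup.map_subtype_le _ : Cfsg.sigmaCore L ≤ L) hwL
    simp only [MulEquiv.coe_toMonoidHom, MulAut.conj_apply] at he
    rw [← he, inv_inv, show g⁻¹ * (g * m * g⁻¹) * g = m by group]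
    exact hm
  have hgM : g ∈ M := inv_mem_iff.1 (mem_of_conj_mem_of_elem hG hM hsM rfl
    ((Subgroup.map_subtype_le _ : Cfsg.sigmaCore M ≤ M) hwM) hC hwg)
  rw [hg]
  exact map_conj_eq_of_normalizer (Subgroup.le_normalizer hgM)

/-- The count: no family of two or more `P₁` maximal subgroups shares one `Z`. -/
theorem false_of_p1_family (hG : Cfsg.IsMinSimpleOddOrder G) {Z : Subgroup G} (I : Finset (Subgroup G))
    (Kf : Subgroup G → Subgroup G) (hI : 2 ≤ I.card)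
    (hL : ∀ L ∈ I, IsCoatom L ∧ Cfsg.IsPiHallOf (Cfsg.kappa L) (Kf L) L ∧ Kf L ≠ ⊥ ∧
      Cfsg.IsComplIn (Kf L) (Cfsg.sigmaCore L) L ∧
      Kf L ⊔ (Cfsg.sigmaCore L ⊓ Subgroup.centralizer (Kf L : Set G)) = Z)
    (hcov : ∀ w ∈ Z, (orderOf w).Prime → ∃ L ∈ I, w ∈ Cfsg.sigmaCore L) : False := by
  classical
  haveI := Fintype.ofFinite G
  have hzp : ∀ {a : G}, a ≠ 1 → ∃ w ∈ Subgroup.zpowers a, (orderOf w).Prime := fun {a} ha => by
    obtain ⟨t, ht, hd⟩ := Nat.exists_prime_and_dvd fun e => ha (orderOf_eq_one_iff.1 e)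
    haveI := Fact.mk ht
    obtain ⟨w, hw, hwo⟩ := exists_elem_prime (p := t) (H := Subgroup.zpowers a) (by rwa [Nat.card_zpowers])
    exact ⟨w, hw, by rw [hwo]; exact ht⟩
  set P : Subgroup G → Subgroup G := fun L => Cfsg.sigmaCore L ⊓ Subgroup.centralizer (Kf L : Set G) with hP
  have hmemP : ∀ L ∈ I, ∀ a ∈ Z, (∀ t : ℕ, t.Prime → t ∣ orderOf a → t ∈ Cfsg.sigma L) → a ∈ P L :=
    fun L hLI a ha hs => by
      obtain ⟨-, hK, -, -, hZ⟩ := hL L hLI
      exact mem_star_of_sigma hK (hZ.symm ▸ ha) hs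
  have hPZ : ∀ L ∈ I, P L ≤ Z := fun L hLI => (hL L hLI).2.2.2.2 ▸ le_sup_right
  have hnc : ∀ L ∈ I, ∀ L' ∈ I, L ≠ L' → ∀ g : G, L' ≠ L.map (MulAut.conj g).toMonoidHom := by
    intro L hLI L' hLI' hne g he
    obtain ⟨hLc, hK, hK1, -, -⟩ := hL L hLI
    obtain ⟨hLc', hK', hK1', -, -⟩ := hL L' hLI'
    obtain ⟨v, hv, hv1⟩ := (Subgroup.bot_or_exists_ne_one _).resolve_left (kappaStar_ne_bot hG hLc' hK' hK1')
    obtain ⟨w, hwv, hwp⟩ := hzp hv1
    haveI := Fact.mk hwp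
    have hwP' : w ∈ P L' := Subgroup.zpowers_le.2 hv hwv
    have hwP : w ∈ P L := hmemP L hLI w (hPZ L' hLI' hwP') fun t ht hd => by
      rw [(Nat.prime_dvd_prime_iff_eq ht hwp).1 hd]
      exact (mem_sigma_conj_iff g).1 (he ▸ prime_mem_sigma L' hwP'.1 hwp dvd_rfl)
    exact hne (eq_of_shared_elem hG hLc hLc' hwp hwP.1 hwP'.1
      (centralizer_le_kappaStar hG hLc hK hK1 hwP fun h => hwp.one_lt.ne (by rw [h, orderOf_one]))).symm
  -- the mixed elements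
  set T : Set G := {a | a ∈ Z ∧ a ≠ 1 ∧ ∀ L ∈ I, a ∉ Cfsg.sigmaCore L} with hT
  have hsplit : ∀ a ∈ T, ∀ L ∈ I, ∃ u ∈ Kf L, ∃ v ∈ P L, u * v = a ∧ Commute u v ∧ u ≠ 1 := by
    intro a ha L hLI
    obtain ⟨-, hK, -, -, hZ⟩ := hL L hLI
    obtain ⟨u, hu, v, hv, he, huv, -, -⟩ := kappaZ_decomp hK (hZ.symm ▸ ha.1)
    refine ⟨u, hu, v, hv, he, huv, fun h => ha.2.2 L hLI ?_⟩
    rw [← he, h, one_mul]
    exact hv.1
  have hTnorm : ∀ z ∈ Z, ∀ a ∈ T, z * a * z⁻¹ ∈ T := by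
    intro z hz a ha
    refine ⟨mul_mem (mul_mem hz ha.1) (inv_mem hz), fun h => ha.2.1 (conj_eq_one_iff.1 h), fun L hLI h => ?_⟩
    obtain ⟨hLc, hK, -, -, hZ⟩ := hL L hLI
    have hzL : z ∈ L := sup_le hK.1 (inf_le_left.trans (Subgroup.map_subtype_le _)) (hZ.symm ▸ hz)
    exact ha.2.2 L hLI ((Subgroup.mem_normalizer_iff.1 (le_normalizer_sigmaCore L hzL) a).2 h)
  have hTI : ∀ g : G, ∀ a ∈ T, g * a * g⁻¹ ∈ T → g ∈ Z := by
    intro g a ha hga
    obtain ⟨w, hwa, hwp⟩ := hzp ha.2.1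
    obtain ⟨L, hLI, hwL⟩ := hcov w (Subgroup.zpowers_le.2 ha.1 hwa) hwp
    obtain ⟨hLc, hK, hK1, -, hZ⟩ := hL L hLI
    rw [← hZ]
    refine kappaZ_mem_of_conj hG hLc hK hK1 (hZ.symm ▸ ha.1) (fun h => ?_) (fun h => ha.2.2 L hLI h.1)
      (hZ.symm ▸ hga.1)
    exact (hK.2.1 _ hwp (Subgroup.orderOf_dvd_natCard _ (Subgroup.zpowers_le.2 h hwa))).2.2.1
      (prime_mem_sigma L hwL hwp dvd_rfl)
  have hW := ncard_conj_of_TI hTnorm hTI
  set W := {a : G | ∃ g : G, ∃ s ∈ T, a = g * s * g⁻¹} with hWdef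
  have hdisjW : ∀ L ∈ I, Disjoint (supportUnion L) W := by
    intro L hLI
    obtain ⟨hLc, hK, hK1, -, -⟩ := hL L hLI
    refine Set.disjoint_left.2 fun b hb hbW => ?_
    obtain ⟨g, a, ha, rfl⟩ := hbW
    obtain ⟨u, hu, v, hv, he, huv, hu1⟩ := hsplit a ha L hLI
    have huσ : ∀ t : ℕ, t.Prime → t ∣ orderOf u → t ∉ Cfsg.sigma L := fun t ht hd =>
      (hK.2.1 t ht (hd.trans (Subgroup.orderOf_dvd_natCard _ hu))).2.2.1
    by_cases hv1 : v = 1
    · rw [← he, hv1, mul_one] at hb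
      obtain ⟨h, x, hx, hx1, r, hr, hxr⟩ := hb
      obtain ⟨hcomm, hrp⟩ := supportR_primes hG (isCoatom_map _ hLc) hx hx1 hr
      obtain ⟨t, ht, hd⟩ := Nat.exists_prime_and_dvd fun e => hx1 (orderOf_eq_one_iff.1 e)
      haveI := Fact.mk ht
      have hc : (orderOf x).Coprime (orderOf r) := Nat.coprime_of_dvd fun s hs h1 h2 =>
        hrp s hs h2 (prime_mem_sigma _ hx hs h1)
      have hd' : t ∣ orderOf (g * u * g⁻¹) :=
        hxr ▸ hd.trans (orderOf_dvd_of_mem_zpowers (mem_zpowers_mul_of_coprime hcomm hc))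
      rw [show orderOf (g * u * g⁻¹) = orderOf u from (MulAut.conj g).orderOf_eq u] at hd'
      exact huσ t ht hd' ((mem_sigma_conj_iff h).1 (prime_mem_sigma _ hx ht hd))
    · rw [← he] at hb
      exact not_mem_supportUnion hG hLc hK hK1 huv hv hv1 hu1 huσ g hb
  have hdisj : ∀ L ∈ I, ∀ L' ∈ I, L ≠ L' → Disjoint (supportUnion L) (supportUnion L') := by
    intro L hLI L' hLI' hne
    obtain ⟨hLc, -⟩ := hL L hLI
    obtain ⟨hLc', -⟩ := hL L' hLI'
    refine Set.disjoint_left.2 fun a ha hb => ?_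
    obtain ⟨g, x, hx, hx1, r, hr, rfl⟩ := ha
    obtain ⟨h, y, hy, hy1, s, hs, he⟩ := hb
    by_cases hxy : x = y
    · obtain ⟨l, hl, hld⟩ := Nat.exists_prime_and_dvd fun e => hx1 (orderOf_eq_one_iff.1 e)
      haveI := Fact.mk hl
      exact sigma_disjoint hG hLc hLc' (hnc L hLI L' hLI' hne)
        ((mem_sigma_conj_iff g).1 (prime_mem_sigma _ hx hl hld))
        ((mem_sigma_conj_iff h).1 (prime_mem_sigma _ hy hl (hxy ▸ hld)))
    · exact support_disjoint hG (isCoatom_map _ hLc) (isCoatom_map _ hLc') hx hy hx1 hy1 hxy hr hs he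
  have hsum : W.ncard + ∑ L ∈ I, (supportUnion L).ncard ≤ Nat.card G := by
    simp only [Set.ncard_eq_toFinset_card']
    rw [← Finset.card_biUnion fun L hL' L' hL'' hne =>
        Set.disjoint_toFinset.2 (hdisj L hL' L' hL'' hne),
      ← Finset.card_union_of_disjoint, Nat.card_eq_fintype_card]
    · exact Finset.card_le_univ _
    · rw [Finset.disjoint_biUnion_right]
      exact fun L hLI => Set.disjoint_toFinset.2 (hdisjW L hLI).symm
  -- size of `T`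
  have hTc : Nat.card Z + I.card ≤ T.ncard + 1 + ∑ L ∈ I, Nat.card (P L) := by
    have hsub : (Z : Set G).toFinset ⊆ insert 1 (T.toFinset ∪ I.biUnion fun L => (P L : Set G).toFinset.erase 1) := by
      intro a ha
      rw [Set.mem_toFinset] at ha
      by_cases ha1 : a = 1
      · exact Finset.mem_insert.2 (Or.inl ha1)
      refine Finset.mem_insert_of_mem (Finset.mem_union.2 ?_)
      by_cases hex : ∃ L ∈ I, a ∈ Cfsg.sigmaCore L
      · obtain ⟨L, hLI, haL⟩ := hex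
        exact Or.inr (Finset.mem_biUnion.2 ⟨L, hLI, Finset.mem_erase.2 ⟨ha1, Set.mem_toFinset.2
          (hmemP L hLI a ha fun t ht hd => prime_mem_sigma L haL ht hd)⟩⟩)
      · exact Or.inl (Set.mem_toFinset.2 ⟨ha, ha1, fun L hLI h => hex ⟨L, hLI, h⟩⟩)
    have h1 := (Finset.card_le_card hsub).trans ((Finset.card_insert_le _ _).trans (Nat.add_le_add_right
      ((Finset.card_union_le _ _).trans (Nat.add_le_add_left Finset.card_biUnion_le _)) _))
    have hPc : ∀ L, ((P L : Set G).toFinset.erase 1).card + 1 = Nat.card (P L) := fun L => by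
      rw [Finset.card_erase_of_mem (Set.mem_toFinset.2 (one_mem (P L))), ← Set.ncard_eq_toFinset_card',
        ← Nat.card_coe_set_eq]
      have : 0 < Nat.card (P L) := Nat.card_pos
      change Nat.card (P L) - 1 + 1 = Nat.card (P L)
      omega
    have h2 : ∑ L ∈ I, Nat.card (P L) = ∑ L ∈ I, ((P L : Set G).toFinset.erase 1).card + I.card := by
      rw [← Finset.sum_congr rfl fun L _ => hPc L, Finset.sum_add_distrib, Finset.sum_const, smul_eq_mul, mul_one]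
    rw [← Set.ncard_eq_toFinset_card', ← Set.ncard_eq_toFinset_card',
      show (Z : Set G).ncard = Nat.card Z from (Nat.card_coe_set_eq _).symm] at h1
    omega
  -- each member
  have hmem : ∀ L ∈ I, Nat.card G * (3 * Nat.card (P L) - 1) ≤ 3 * Nat.card Z * (supportUnion L).ncard := by
    intro L hLI
    obtain ⟨hLc, hK, hK1, hE, hZ⟩ := hL L hLI
    have h1 := ncard_supportUnion hG hLc
    have h2 : 3 * Nat.card (P L) ≤ Nat.card ↥(Cfsg.sigmaCore L) := three_mul_star_le hG hLc hK hK1 hE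
    have hcard : Nat.card L = Nat.card (Kf L) * Nat.card ↥(Cfsg.sigmaCore L) :=
      CfsgLib.TypeP.card_eq_of_isComplIn hE
    have hZc : Nat.card Z = Nat.card (Kf L) * Nat.card (P L) := by rw [← hZ]; exact kappaZ_card hK
    have hp0 : 0 < Nat.card (P L) := Nat.card_pos
    rw [hcard] at h1
    set n := Nat.card ↥(Cfsg.sigmaCore L) with hn
    set pp := Nat.card (P L) with hpp
    set k := Nat.card (Kf L) with hk
    have hn0 : 0 < n := by omega
    refine Nat.le_of_mul_le_mul_left (?_ : n * _ ≤ n * _) hn0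
    have e1 : n * (3 * pp - 1) ≤ 3 * pp * (n - 1) := by
      rw [Nat.mul_sub, Nat.mul_sub, mul_one, mul_one, mul_comm n]
      omega
    calc n * (Nat.card G * (3 * pp - 1)) = Nat.card G * (n * (3 * pp - 1)) := by ring
      _ ≤ Nat.card G * (3 * pp * (n - 1)) := Nat.mul_le_mul_left _ e1
      _ = 3 * pp * (Nat.card G * (n - 1)) := by ring
      _ ≤ 3 * pp * (k * n * (supportUnion L).ncard) := Nat.mul_le_mul_left _ h1
      _ = n * (3 * Nat.card Z * (supportUnion L).ncard) := by rw [hZc]; ring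
  have hS : Nat.card G * ∑ L ∈ I, (3 * Nat.card (P L) - 1) ≤ 3 * Nat.card Z * ∑ L ∈ I, (supportUnion L).ncard := by
    rw [Finset.mul_sum, Finset.mul_sum]
    exact Finset.sum_le_sum hmem
  have hS' : ∑ L ∈ I, (3 * Nat.card (P L) - 1) + I.card = 3 * ∑ L ∈ I, Nat.card (P L) := by
    rw [Finset.mul_sum, Finset.card_eq_sum_ones, ← Finset.sum_add_distrib]
    exact Finset.sum_congr rfl fun L _ => by have : 0 < Nat.card (P L) := Nat.card_pos; omega
  have key : Nat.card G * (3 * T.ncard + ∑ L ∈ I, (3 * Nat.card (P L) - 1)) ≤ Nat.card G * (3 * Nat.card Z) := by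
    calc Nat.card G * (3 * T.ncard + ∑ L ∈ I, (3 * Nat.card (P L) - 1))
        = 3 * (T.ncard * Nat.card G) + Nat.card G * ∑ L ∈ I, (3 * Nat.card (P L) - 1) := by ring
      _ ≤ 3 * (Nat.card Z * W.ncard) + 3 * Nat.card Z * ∑ L ∈ I, (supportUnion L).ncard := by
        rw [hW]; exact Nat.add_le_add_left hS _
      _ = 3 * Nat.card Z * (W.ncard + ∑ L ∈ I, (supportUnion L).ncard) := by ring
      _ ≤ 3 * Nat.card Z * Nat.card G := Nat.mul_le_mul_left _ hsum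
      _ = Nat.card G * (3 * Nat.card Z) := by ring
  have key' := Nat.le_of_mul_le_mul_left key Nat.card_pos
  omega

/-- The neighbour of a line of `K`: it shares `Z`. -/
theorem exists_neighbour (hG : Cfsg.IsMinSimpleOddOrder G) (hM : IsCoatom M)
    (hK : Cfsg.IsPiHallOf (Cfsg.kappa M) K M) (hK1 : K ≠ ⊥) {X : Subgroup G} {s : ℕ} (hs : s.Prime)
    (hXK : X ≤ K) (hXc : Nat.card X = s) :
    ∃ N K₁ : Subgroup G, IsCoatom N ∧ Cfsg.IsPiHallOf (Cfsg.kappa N) K₁ N ∧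
      Cfsg.sigmaCore M ⊓ Subgroup.centralizer (K : Set G) ≤ K₁ ∧
      Cfsg.sigmaCore N ⊓ Subgroup.centralizer (K₁ : Set G) ≤ K ∧
      X ≤ Cfsg.sigmaCore N ⊓ Subgroup.centralizer (K₁ : Set G) ∧
      K₁ ⊔ (Cfsg.sigmaCore N ⊓ Subgroup.centralizer (K₁ : Set G)) =
        K ⊔ (Cfsg.sigmaCore M ⊓ Subgroup.centralizer (K : Set G)) := by
  haveI := Fact.mk hs
  obtain ⟨hss, hsrk, -, -⟩ := kappa_basic hG hM (hK.2.1 s hs (hXc ▸ Subgroup.card_dvd_of_le hXK))
  have hXM : X ≤ M := hXK.trans hK.1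
  have hlines : ∀ (H : Subgroup G) (Kh : Subgroup G), IsCoatom H → Cfsg.IsPiHallOf (Cfsg.kappa H) Kh H →
      ∀ Y : Subgroup G, Y ≤ Kh → (Nat.card Y).Prime →
      Cfsg.sigmaCore H ⊓ Subgroup.centralizer (Y : Set G) = Cfsg.sigmaCore H ⊓ Subgroup.centralizer (Kh : Set G) ∧
        Kh ≤ Subgroup.normalizer (Y : Set G) := fun H Kh hH hKh Y hY hYp => by
    have hKh1 : Kh ≠ ⊥ := fun h => by
      rw [h, le_bot_iff] at hY
      rw [hY, Subgroup.card_bot] at hYp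
      exact Nat.not_prime_one hYp
    obtain ⟨E, U, -, -, -, -, -, -, -, h⟩ := kappa_complement_structure hG hH hKh hKh1
    exact ⟨(h Y hY hYp).1, (h Y hY hYp).2.1⟩
  set S := Cfsg.sigmaCore M ⊓ Subgroup.centralizer (K : Set G) with hS
  obtain ⟨hSX, hKX⟩ := hlines M K hM hK X hXK (by rw [hXc]; exact hs)
  obtain ⟨N, hN, hNX, -, hnc, -⟩ := exists_max_normalizer hG hM hss hsrk hXc
  have hSN : S ≤ N := hSX.ge.trans inf_le_right |>.trans ((Subgroup.centralizer_le_normalizer _).trans hNX)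
  have hsN : s ∈ Cfsg.sigma N := mem_sigma_neighbour hG hM hss hsrk hXc hXM
    (hSX.symm ▸ kappaStar_ne_bot hG hM hK hK1) hN hNX
  have hXN : X ≤ Cfsg.sigmaCore N := le_sigmaCore hG hN hsN (isPGroup_line hXc) (Subgroup.le_normalizer.trans hNX)
  obtain ⟨x, hxe, hxo⟩ := exists_gen_line hXc
  have hxX : x ∈ X := hxe ▸ Subgroup.mem_zpowers x
  have hx1 : x ≠ 1 := fun h => hs.one_lt.ne (by rw [← hxo, h, orderOf_one])
  have hSC : S ≤ Subgroup.centralizer (X : Set G) := hSX.ge.trans inf_le_right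
  -- `K*` is a `κ(N)`-group
  have hSk : ∀ l : ℕ, l.Prime → l ∣ Nat.card S → l ∈ Cfsg.kappa N := fun l hl hd => by
    haveI := Fact.mk hl
    obtain ⟨z, hz, hzo⟩ := exists_elem_prime (p := l) hd
    obtain ⟨-, hlN, -, -, hrk, -⟩ := fixed_line_basic hG hM hss hsrk hXc hXM hN hNX hz.1 (hSC hz) hzo
    by_contra hk
    refine hx1 (Subgroup.mem_bot.1 (free_of_not_kappa hG hlN hk hrk (hSN hz) hzo ▸ Subgroup.mem_inf.2 ⟨hXN hxX, ?_⟩))
    exact Subgroup.mem_centralizer_singleton_iff.2 (Subgroup.mem_centralizer_iff.1 (hSC hz) x hxX)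
  haveI : Group.IsSolvable N := isSolvable_of_ne_top hG hN.1
  obtain ⟨K₁, hSK₁, hK₁, -⟩ := exists_hall_over hSN hSk
  obtain ⟨v, hv, hv1⟩ := (Subgroup.bot_or_exists_ne_one _).resolve_left (kappaStar_ne_bot hG hM hK hK1)
  obtain ⟨l, hl, hld⟩ := Nat.exists_prime_and_dvd fun e => hv1 (orderOf_eq_one_iff.1 e)
  haveI := Fact.mk hl
  obtain ⟨z, hzv, hzo⟩ := exists_elem_prime (p := l) (H := Subgroup.zpowers v) (by rwa [Nat.card_zpowers])
  have hzS : z ∈ S := Subgroup.zpowers_le.2 hv hzv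
  have hz1 : z ≠ 1 := fun h => hl.one_lt.ne (by rw [← hzo, h, orderOf_one])
  have hzK₁ : z ∈ K₁ := hSK₁ hzS
  have hK₁1 : K₁ ≠ ⊥ := fun h => hz1 (Subgroup.mem_bot.1 (h ▸ hzK₁))
  have hZc : Nat.card (Subgroup.zpowers z) = l := by rw [Nat.card_zpowers, hzo]
  obtain ⟨hS₁z, hK₁z⟩ := hlines N K₁ hN hK₁ _ (Subgroup.zpowers_le.2 hzK₁) (by rw [hZc]; exact hl)
  set S₁ := Cfsg.sigmaCore N ⊓ Subgroup.centralizer (K₁ : Set G) with hS₁
  have hXS₁ : X ≤ S₁ := hS₁z ▸ le_inf hXN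
    (Subgroup.le_centralizer_iff.1 ((Subgroup.zpowers_le.2 hzS).trans hSC))
  have hCz : Subgroup.centralizer (Subgroup.zpowers z : Set G) ≤ M := by
    rw [centralizer_zpowers]
    exact centralizer_le_kappaStar hG hM hK hK1 hzS hz1
  have hNz : Subgroup.normalizer (Subgroup.zpowers z : Set G) ≤ M :=
    normalizer_le_of_fixed hG hM hss hsrk hXc hXM hzS.1 (hSC hzS) hzo
  obtain ⟨hlN, hrkN⟩ : l ∉ Cfsg.sigma N ∧ Cfsg.PRankLE l 1 ↥N := by
    obtain ⟨-, h1, -, -, h2, -⟩ := fixed_line_basic hG hM hss hsrk hXc hXM hN hNX hzS.1 (hSC hzS) hzo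
    exact ⟨h1, h2⟩
  have hS₁M : S₁ ≤ M := (hS₁z ▸ inf_le_right : S₁ ≤ _).trans hCz
  have hS₁k : ∀ w : ℕ, w.Prime → w ∣ Nat.card S₁ → w ∈ Cfsg.kappa M := fun w hw hd => by
    haveI := Fact.mk hw
    obtain ⟨y, hy, hyo⟩ := exists_elem_prime (p := w) hd
    have hyz : y ∈ Subgroup.centralizer (Subgroup.zpowers z : Set G) := (hS₁z ▸ inf_le_right : S₁ ≤ _) hy
    obtain ⟨-, hwM, -, -, hrk, -⟩ := fixed_line_basic hG hN hlN hrkN hZc
      (Subgroup.zpowers_le.2 (hK₁.1 hzK₁)) hM hNz hy.1 hyz hyo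
    by_contra hk
    refine hz1 (Subgroup.mem_bot.1 (free_of_not_kappa hG hwM hk hrk (hS₁M hy) hyo ▸
      Subgroup.mem_inf.2 ⟨hzS.1, ?_⟩))
    exact Subgroup.mem_centralizer_singleton_iff.2
      (Subgroup.mem_centralizer_iff.1 hyz z (Subgroup.mem_zpowers z))
  haveI : Group.IsSolvable M := isSolvable_of_ne_top hG hM.1
  obtain ⟨K', hS₁K', hK', -⟩ := exists_hall_over hS₁M hS₁k
  have hK'1 : K' ≠ ⊥ := fun h => hx1 (Subgroup.mem_bot.1 (h ▸ hS₁K' (hXS₁ hxX)))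
  obtain ⟨hS'X, hK'X⟩ := hlines M K' hM hK' X (hXS₁.trans hS₁K') (by rw [hXc]; exact hs)
  have hS' : Cfsg.sigmaCore M ⊓ Subgroup.centralizer (K' : Set G) = S := hS'X.symm.trans hSX
  have hupper : ∀ {Kh : Subgroup G}, Kh ≤ Subgroup.normalizer (X : Set G) → S ≤ Subgroup.centralizer (Kh : Set G) →
      Kh ≤ K₁ ⊔ S₁ := fun {Kh} hKh hc k hk => mem_of_conj_kappa hG hN hK₁ hK₁1 (hNX (hKh hk)) hzK₁ hz1 (by
    rw [Subgroup.mem_centralizer_iff.1 (hc hzS) k hk, mul_inv_cancel_right]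
    exact hzK₁)
  have hK₁M : K₁ ≤ M := hK₁z.trans hNz
  have hlow : K₁ ≤ K' ⊔ S := fun k hk => by
    have h := mem_of_conj_kappa hG hM hK' hK'1 (hK₁M hk) (hS₁K' (hXS₁ hxX)) hx1 (g := k) (by
      rw [Subgroup.mem_centralizer_iff.1 ((hXS₁ hxX).2) k hk, mul_inv_cancel_right]
      exact hS₁K' (hXS₁ hxX))
    rwa [hS'] at h
  have hKK' : K ≤ K' := fun k hk => mem_kappa_of_nonsigma hK'
    (hS'.symm ▸ (sup_le hlow (hS₁K'.trans le_sup_left) (hupper hKX (inf_le_right : S ≤ _) hk)))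
    fun t ht hd => (hK.2.1 t ht (hd.trans (Subgroup.orderOf_dvd_natCard K hk))).2.2.1
  have hK'K : K' ≤ K := le_of_prime_relIndex fun t ht hd hdi => hK.2.2 t ht (hK'.2.1 t ht hd)
    (hdi.trans (Dvd.intro _ (Subgroup.relIndex_mul_relIndex K K' M hKK' hK'.1)))
  have hS₁K : S₁ ≤ K := hS₁K'.trans hK'K
  exact ⟨N, K₁, hN, hK₁, hSK₁, hS₁K, hXS₁, le_antisymm
    (sup_le (hlow.trans (sup_le_sup_right hK'K _)) (hS₁K.trans le_sup_left))
    (sup_le (hupper hKX inf_le_right) (hSK₁.trans le_sup_left))⟩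

/-- B&G 14.7: the partner `M*` exists. -/
theorem exists_kappaPair (hG : Cfsg.IsMinSimpleOddOrder G) (hM : IsCoatom M)
    (hK : Cfsg.IsPiHallOf (Cfsg.kappa M) K M) (hK1 : K ≠ ⊥) :
    ∃ Ms : Subgroup G, IsCoatom Ms ∧ KappaPair M Ms K := by
  classical
  set S := Cfsg.sigmaCore M ⊓ Subgroup.centralizer (K : Set G) with hS
  obtain ⟨s, X, hs, hXK, hXc⟩ := exists_line_le hK1
  obtain ⟨N, K₁, hN, hK₁, hSK₁, hS₁K, hXS₁, hZ⟩ := exists_neighbour hG hM hK hK1 hs hXK hXc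
  have hsigma : ∀ {H Kh : Subgroup G}, Kh ≤ Cfsg.sigmaCore H → ∀ a ∈ Kh, ∀ t : ℕ, t.Prime → t ∣ orderOf a →
      t ∈ Cfsg.sigma H := fun {H Kh} h a ha t ht hd => prime_mem_sigma H (h ha) ht hd
  by_cases hK₁S : K₁ ≤ S
  · have hKS₁ : K ≤ Cfsg.sigmaCore N ⊓ Subgroup.centralizer (K₁ : Set G) := fun k hk => by
      obtain ⟨u, hu, v, hv, he, -, huz, -⟩ := kappaZ_decomp hK₁ (hZ.symm ▸ Subgroup.mem_sup_left hk)
      have hu0 : u = 1 := Subgroup.mem_bot.1 (Subgroup.inf_eq_bot_of_coprime (kappaZ_coprime hK) ▸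
        Subgroup.mem_inf.2 ⟨Subgroup.zpowers_le.2 hk huz, hK₁S hu⟩)
      rw [← he, hu0, one_mul]
      exact hv
    have heq : K₁ = S := le_antisymm hK₁S hSK₁
    refine ⟨N, hN, hK, hK1, ?_, (congrArg (fun W : Subgroup G => Cfsg.IsPiHallOf (Cfsg.kappa N) W N) heq).mp hK₁⟩
    have h := le_antisymm hKS₁ hS₁K
    rw [heq] at h
    exact h
  exfalso
  set Z := K ⊔ S with hZdef
  have hK₁1 : K₁ ≠ ⊥ := fun h => hK₁S (h ▸ bot_le)
  -- facts on other neighbours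
  let Good : Subgroup G → Subgroup G → Prop := fun L Kl => IsCoatom L ∧
    Cfsg.IsPiHallOf (Cfsg.kappa L) Kl L ∧ Kl ≠ ⊥ ∧ Cfsg.IsComplIn Kl (Cfsg.sigmaCore L) L ∧
    Kl ⊔ (Cfsg.sigmaCore L ⊓ Subgroup.centralizer (Kl : Set G)) = Z
  have hKprime : ¬ (Nat.card K).Prime := fun hp => by
    have hKX : X = K := Subgroup.eq_of_le_of_card_ge hXK
      ((Nat.prime_dvd_prime_iff_eq hs hp).1 (hXc ▸ Subgroup.card_dvd_of_le hXK) ▸ hXc.ge)
    refine hK₁S fun a ha => ?_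
    obtain ⟨u, hu, v, hv, he, -, huz, -⟩ := kappaZ_decomp hK (hZ ▸ Subgroup.mem_sup_left ha : a ∈ Z)
    have hu0 : u = 1 := Subgroup.mem_bot.1 (Subgroup.inf_eq_bot_of_coprime (kappaZ_coprime hK₁) ▸
      Subgroup.mem_inf.2 ⟨Subgroup.zpowers_le.2 ha huz, hXS₁ (hKX.symm ▸ hu)⟩)
    rw [← he, hu0, one_mul]
    exact hv
  have hgoodM : Good M K := ⟨hM, hK, hK1, isComplIn_of_not_prime hG hM hK hK1 hKprime, rfl⟩
  haveI := Fact.mk hs
  obtain ⟨x, hxe, hxo⟩ := exists_gen_line hXc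
  have hxX : x ∈ X := hxe ▸ Subgroup.mem_zpowers x
  have hgood : ∀ w ∈ K, (orderOf w).Prime → ∃ L Kl, Good L Kl ∧ w ∈ Cfsg.sigmaCore L := by
    intro w hw hwp
    haveI := Fact.mk hwp
    have hWc : Nat.card (Subgroup.zpowers w) = orderOf w := Nat.card_zpowers w
    obtain ⟨L, Kl, hL, hKl, hSKl, hSlK, hwSl, hZl⟩ :=
      exists_neighbour hG hM hK hK1 hwp (Subgroup.zpowers_le.2 hw) hWc
    have hKl1 : Kl ≠ ⊥ := fun h => kappaStar_ne_bot hG hM hK hK1 (le_bot_iff.1 (h ▸ hSKl))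
    refine ⟨L, Kl, ⟨hL, hKl, hKl1, isComplIn_of_not_prime hG hL hKl hKl1 fun hp => ?_, hZl⟩,
      (hwSl (Subgroup.mem_zpowers w)).1⟩
    -- `K_L` of prime order gives `K_L = K*`
    have hSeq : S = Kl := Subgroup.eq_of_le_of_card_ge hSKl (le_of_eq ((hp.eq_one_or_self_of_dvd _
      (Subgroup.card_dvd_of_le hSKl)).resolve_left fun e =>
        kappaStar_ne_bot hG hM hK hK1 (Subgroup.card_eq_one.1 e)).symm)
    have hKL : K ≤ Cfsg.sigmaCore L := fun k hk => by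
      obtain ⟨u, hu, v, hv, he, -, huz, -⟩ := kappaZ_decomp hKl (hZl.symm ▸ Subgroup.mem_sup_left hk)
      have hu0 : u = 1 := Subgroup.mem_bot.1 (Subgroup.inf_eq_bot_of_coprime (kappaZ_coprime hK) ▸
        Subgroup.mem_inf.2 ⟨Subgroup.zpowers_le.2 hk huz, (hSeq ▸ hu : u ∈ S)⟩)
      rw [← he, hu0, one_mul]
      exact hv.1
    haveI := Fact.mk hs
    have hxS₁ := hXS₁ hxX
    have hLN : L = N := eq_of_shared_elem hG hN hL (by rw [hxo]; exact hs) hxS₁.1 (hKL (hXK hxX))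
      (centralizer_le_kappaStar hG hN hK₁ hK₁1 hxS₁ fun h => hs.one_lt.ne (by rw [← hxo, h, orderOf_one]))
    refine hK₁S fun a ha => ?_
    obtain ⟨u, hu, v, hv, he, -, huz, -⟩ := kappaZ_decomp hK (hZ ▸ Subgroup.mem_sup_left ha : a ∈ Z)
    have hu0 : u = 1 := by
      by_contra hu1
      obtain ⟨t, ht, hd⟩ := Nat.exists_prime_and_dvd fun e => hu1 (orderOf_eq_one_iff.1 e)
      exact (hK₁.2.1 t ht ((hd.trans (orderOf_dvd_of_mem_zpowers huz)).trans
        (Subgroup.orderOf_dvd_natCard K₁ ha))).2.2.1 (hLN ▸ prime_mem_sigma L (hKL hu) ht hd)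
    rw [← he, hu0, one_mul]
    exact hv
  haveI := Fintype.ofFinite (Subgroup G)
  let I : Finset (Subgroup G) :=
    Finset.univ.filter fun L => ∃ Kl, Good L Kl
  let Kf : Subgroup G → Subgroup G := fun L => if h : ∃ Kl, Good L Kl then h.choose else ⊥
  have hKf : ∀ L ∈ I, Good L (Kf L) := fun L hL => by
    have h := (Finset.mem_filter.1 hL).2
    simp only [Kf, dif_pos h]
    exact h.choose_spec
  have hMI : M ∈ I := Finset.mem_filter.2 ⟨Finset.mem_univ _, K, hgoodM⟩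
  obtain ⟨L, Kl, hgL, hxL⟩ := hgood x (hXK hxX) (by rw [hxo]; exact hs)
  have hLI : L ∈ I := Finset.mem_filter.2 ⟨Finset.mem_univ _, Kl, hgL⟩
  haveI := Fact.mk hs
  have hLM : M ≠ L := fun e => (hK.2.1 s hs (hXc ▸ Subgroup.card_dvd_of_le hXK)).2.2.1
    (e ▸ prime_mem_sigma L hxL hs (hxo ▸ dvd_rfl))
  refine false_of_p1_family hG I Kf (Z := Z) (Finset.one_lt_card.2 ⟨M, hMI, L, hLI, hLM⟩) hKf fun w hw hwp => ?_
  obtain ⟨u, hu, v, hv, he, -, -, hvz⟩ := kappaZ_decomp hK hw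
  haveI := Fact.mk hwp
  by_cases hv1 : v = 1
  · rw [hv1, mul_one] at he
    obtain ⟨L, Kl, hgL, hwL⟩ := hgood w (he ▸ hu) hwp
    exact ⟨L, Finset.mem_filter.2 ⟨Finset.mem_univ _, Kl, hgL⟩, hwL⟩
  · refine ⟨M, hMI, ?_⟩
    have : Subgroup.zpowers v = Subgroup.zpowers w := Subgroup.eq_of_le_of_card_ge (Subgroup.zpowers_le.2 hvz)
      (le_of_eq (by
        rw [Nat.card_zpowers, Nat.card_zpowers]
        exact ((hwp.eq_one_or_self_of_dvd _ (orderOf_dvd_of_mem_zpowers hvz)).resolve_left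
          fun e => hv1 (orderOf_eq_one_iff.1 e)).symm))
    exact (Subgroup.zpowers_le.2 hv.1 : Subgroup.zpowers v ≤ _) (this ▸ Subgroup.mem_zpowers w)

/-- B&G 14.7 (a): a Hall `κ(M)`-subgroup is cyclic. -/
theorem isCyclic_kappa_hall (hG : Cfsg.IsMinSimpleOddOrder G) (hM : IsCoatom M)
    (hK : Cfsg.IsPiHallOf (Cfsg.kappa M) K M) : IsCyclic K := by
  by_cases hK1 : K = ⊥
  · subst hK1
    infer_instance
  obtain ⟨Ms, hMs, P⟩ := exists_kappaPair hG hM hK hK1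
  haveI : IsMulCommutative K := by
    have h := (P.symm hG hM hMs).star_commutative hG hMs hM
    rwa [P.star_eq hG hM hMs] at h
  haveI : IsZGroup K := ⟨fun t ht S => by
    haveI := Fact.mk ht
    by_cases hS1 : ((S : Subgroup K).map K.subtype) = ⊥
    · rw [Subgroup.map_eq_bot_iff_of_injective _ K.subtype_injective] at hS1
      rw [hS1]
      infer_instance
    have hSp : IsPGroup t ↥((S : Subgroup K).map K.subtype) := S.isPGroup'.map _
    have htk : t ∈ Cfsg.kappa M := hK.2.1 t ht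
      ((dvd_card_of_ne_bot hSp hS1).trans (Subgroup.card_dvd_of_le (Subgroup.map_subtype_le _)))
    have hSM : (S : Subgroup K).map K.subtype ≤ M := (Subgroup.map_subtype_le _).trans hK.1
    obtain ⟨T, hT⟩ := (hSp.comap_subtype (K := M)).exists_le_sylow
    haveI := (htk.2.2.2 T).1
    haveI : IsCyclic ↥(((S : Subgroup K).map K.subtype).subgroupOf M) := Subgroup.isCyclic_of_le hT
    haveI : IsCyclic ↥((S : Subgroup K).map K.subtype) :=
      isCyclic_of_surjective _ (Subgroup.subgroupOfEquivOfLe hSM).surjective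
    exact isCyclic_of_surjective _ ((S : Subgroup K).equivMapOfInjective _ K.subtype_injective).symm.surjective⟩
  letI : CommGroup K := { (inferInstance : Group K) with mul_comm := fun a b => mul_comm' a b }
  infer_instance

/-- At most two classes of maximal subgroups have `κ ≠ ∅`. -/
theorem kappa_two_classes (hG : Cfsg.IsMinSimpleOddOrder G) {Ms H : Subgroup G} (hM : IsCoatom M)
    (hMs : IsCoatom Ms) (P : KappaPair M Ms K) (hH : IsCoatom H) (hk : (Cfsg.kappa H).Nonempty) :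
    ∃ g : G, H = M.map (MulAut.conj g).toMonoidHom ∨ H = Ms.map (MulAut.conj g).toMonoidHom := by
  haveI : Group.IsSolvable H := isSolvable_of_ne_top hG hH.1
  obtain ⟨Kh, -, hKh, -⟩ := exists_hall_over (π := Cfsg.kappa H) (bot_le : (⊥ : Subgroup G) ≤ H)
    fun t ht hd => absurd ((Subgroup.card_bot (G := G)) ▸ hd) ht.not_dvd_one
  obtain ⟨t, ht⟩ := hk
  have hKh1 : Kh ≠ ⊥ := fun h => by
    have h1 := hKh.2.2 t ht.1 ht
    rw [h, Subgroup.relIndex_bot_left] at h1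
    exact h1 ht.2.1
  obtain ⟨Hs, hHs, Q⟩ := exists_kappaPair hG hH hKh hKh1
  obtain ⟨a, ⟨g, z, hz, hza⟩, ⟨h, z', hz', hza'⟩⟩ : ∃ a,
      (∃ g : G, ∃ z ∈ ((↑(K ⊔ (Cfsg.sigmaCore M ⊓ Subgroup.centralizer (K : Set G))) : Set G) \
        ((K : Set G) ∪ ↑(Cfsg.sigmaCore M ⊓ Subgroup.centralizer (K : Set G)))), a = g * z * g⁻¹) ∧
      (∃ g : G, ∃ z ∈ ((↑(Kh ⊔ (Cfsg.sigmaCore H ⊓ Subgroup.centralizer (Kh : Set G))) : Set G) \
        ((Kh : Set G) ∪ ↑(Cfsg.sigmaCore H ⊓ Subgroup.centralizer (Kh : Set G)))), a = g * z * g⁻¹) := by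
    have h1 := P.lt_ncard_conj hG hM hMs
    have h2 := Q.lt_ncard_conj hG hH hHs
    by_contra hno
    push Not at hno
    have hd : Disjoint
        {a : G | ∃ g : G, ∃ z ∈ ((↑(K ⊔ (Cfsg.sigmaCore M ⊓ Subgroup.centralizer (K : Set G))) : Set G) \
          ((K : Set G) ∪ ↑(Cfsg.sigmaCore M ⊓ Subgroup.centralizer (K : Set G)))), a = g * z * g⁻¹}
        {a : G | ∃ g : G, ∃ z ∈ ((↑(Kh ⊔ (Cfsg.sigmaCore H ⊓ Subgroup.centralizer (Kh : Set G))) : Set G) \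
          ((Kh : Set G) ∪ ↑(Cfsg.sigmaCore H ⊓ Subgroup.centralizer (Kh : Set G)))), a = g * z * g⁻¹} :=
      Set.disjoint_left.2 fun a ⟨g, z, hz, e⟩ ⟨g', z', hz', e'⟩ => hno a ⟨g, z, hz, e⟩ g' z' hz' e'
    have h3 := Set.ncard_le_ncard (Set.subset_univ _) (ht := Set.toFinite _) (s :=
      {a : G | ∃ g : G, ∃ z ∈ ((↑(K ⊔ (Cfsg.sigmaCore M ⊓ Subgroup.centralizer (K : Set G))) : Set G) \
          ((K : Set G) ∪ ↑(Cfsg.sigmaCore M ⊓ Subgroup.centralizer (K : Set G)))), a = g * z * g⁻¹} ∪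
        {a : G | ∃ g : G, ∃ z ∈ ((↑(Kh ⊔ (Cfsg.sigmaCore H ⊓ Subgroup.centralizer (Kh : Set G))) : Set G) \
          ((Kh : Set G) ∪ ↑(Cfsg.sigmaCore H ⊓ Subgroup.centralizer (Kh : Set G)))), a = g * z * g⁻¹})
    rw [Set.ncard_union_eq hd, Set.ncard_univ] at h3
    omega
  obtain ⟨u, hu, v, hv, he, -, -, hvz⟩ := kappaZ_decomp hKh hz'.1
  have hv1 : v ≠ 1 := fun e => hz'.2 (Or.inl (by rw [← he, e, mul_one]; exact hu))
  obtain ⟨l, hl, hld⟩ := Nat.exists_prime_and_dvd fun e => hv1 (orderOf_eq_one_iff.1 e)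
  haveI := Fact.mk hl
  have hlH : l ∈ Cfsg.sigma H := prime_mem_sigma H hv.1 hl hld
  have hlz : l ∣ orderOf z := by
    have h1 : orderOf z = orderOf z' := by
      have e1 : orderOf (g * z * g⁻¹) = orderOf z := (MulAut.conj g).orderOf_eq z
      have e2 : orderOf (h * z' * h⁻¹) = orderOf z' := (MulAut.conj h).orderOf_eq z'
      rw [← e1, ← e2, ← hza, ← hza']
    exact h1 ▸ hld.trans (orderOf_dvd_of_mem_zpowers hvz)
  have hl2 := hlz.trans (Subgroup.orderOf_dvd_natCard _ hz.1)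
  rw [kappaZ_card P.hall] at hl2
  have hconj : ∀ {L : Subgroup G}, IsCoatom L → l ∈ Cfsg.sigma L → ∃ g : G, H = L.map (MulAut.conj g).toMonoidHom :=
    fun {L} hL hlL => by
      by_contra hnc
      push Not at hnc
      exact sigma_disjoint hG hL hH hnc hlL hlH
  rcases hl.dvd_mul.1 hl2 with h' | h'
  · obtain ⟨g, hg⟩ := hconj hMs (mem_sigma_of_dvd Ms hl (h'.trans
      (Subgroup.card_dvd_of_le (P.eq_star.le.trans inf_le_left))))
    exact ⟨g, Or.inr hg⟩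
  · obtain ⟨g, hg⟩ := hconj hM (mem_sigma_of_dvd M hl (h'.trans (Subgroup.card_dvd_of_le inf_le_left)))
    exact ⟨g, Or.inl hg⟩

end CfsgLib.SigmaGroups
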