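import Cfsg.Agent.Sigma.NonabelianUnique
import Cfsg.Agent.Sigma.TauTwoComplement
import Cfsg.Agent.S1414
import Cfsg.Agent.S3939

/-!
B&G 12.14, 12.15 and 12.16: embedding of `σ(M)`-subgroups.
-/

set_option autoImplicit false
set_option linter.unusedSectionVars false
set_option linter.style.haveILetI false

namespace CfsgLib.SigmaGroups

open CfsgLib.BenderUnique CfsgLib.Uniq
open scoped commutatorElement

universe u

variable {G : Type u} [Group G] [Finite G] {p : ℕ} [hp : Fact p.Prime] {M : Subgroup G}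

theorem eq_of_normalizer_le {P T : Subgroup G} (hP : IsPGroup p P) (hTP : T ≤ P)
    (h : P ⊓ Subgroup.normalizer (T : Set G) ≤ T) : T = P :=
  eq_of_le_of_not_lt hTP fun hlt => not_lt_of_ge h (exists_lt_mem_normalizer hP hlt)

theorem nilpotent_commutator_quotient_beta (hG : Cfsg.IsMinSimpleOddOrder G) (hM : IsCoatom M) :
    Group.IsNilpotent ↥(commutator (↥M ⧸ Cfsg.piCore (Cfsg.beta M) ↥M)) := by
  set N := Cfsg.piCore (Cfsg.beta M) ↥M with hN
  refine nilpotent_of_complements fun r hr hd => ?_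
  haveI := Fact.mk hr
  have hrN : r ∣ N.index := hd.trans (Subgroup.card_subgroup_dvd_card _)
  have hrM : r ∣ Nat.card M := hrN.trans (Subgroup.index_dvd_card _)
  have hrb : r ∉ Cfsg.beta M := fun hb => by
    have h1 := (betaCore_hallOf hG hM).2.2 r hr hb
    rw [Cfsg.piCoreOf, Subgroup.relIndex, Subgroup.subgroupOf,
      Subgroup.comap_map_eq_self_of_injective M.subtype_injective] at h1
    exact h1 hrN
  have hmap : (commutator ↥M).map (QuotientGroup.mk' N) = commutator (↥M ⧸ N) := by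
    rw [commutator_def, Subgroup.map_commutator, Subgroup.map_top_of_surjective _ (QuotientGroup.mk'_surjective N),
      ← commutator_def]
  rw [← hmap]
  exact Transfer.hasNormalPComplement_of_surjective ((QuotientGroup.mk' N).subgroupMap (commutator ↥M))
    ((QuotientGroup.mk' N).subgroupMap_surjective _) (structure_of_not_beta hG hM hrM hrb).2.1

/-- `M = M_β N_M(S)` for a Sylow subgroup `S` at a prime of `σ(M)`. -/
theorem le_betaCore_sup_normalizer (hG : Cfsg.IsMinSimpleOddOrder G) (hM : IsCoatom M) (hs : p ∈ Cfsg.sigma M)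
    (S : Sylow p M) :
    M ≤ Cfsg.piCoreOf (Cfsg.beta M) M ⊔
      (M ⊓ Subgroup.normalizer (((S : Subgroup M).map M.subtype : Subgroup G) : Set G)) := by
  set N := Cfsg.piCore (Cfsg.beta M) ↥M with hN
  set K := Cfsg.pCore p (↥M ⧸ N) with hK
  have h1 : (S : Subgroup M).map (QuotientGroup.mk' N) ≤ K := by
    refine le_pCore_of_le_fitting (S.isPGroup'.map _)
      (le_trans ?_ (Components.le_fittingSubgroup inferInstance (nilpotent_commutator_quotient_beta hG hM)))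
    refine (Subgroup.map_mono (sylow_le_commutator hG hM hs S)).trans ?_
    rw [commutator_def, Subgroup.map_commutator]
    exact Subgroup.commutator_mono le_top le_top
  have h2 : K ≤ (S : Subgroup M).map (QuotientGroup.mk' N) :=
    ((S.mapSurjective (QuotientGroup.mk'_surjective N)).is_maximal' (Components.pCore_isPGroup p)
      (by simpa using h1)).le.trans (le_of_eq (by simp))
  set T := N ⊔ (S : Subgroup M) with hT
  haveI hTn : T.Normal := by
    haveI : K.Normal := Cfsg.pCore_normal p _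
    have hTe : T = K.comap (QuotientGroup.mk' N) := by
      rw [← le_antisymm h1 h2, Subgroup.comap_map_eq, QuotientGroup.ker_mk', hT, sup_comm]
    rw [hTe]
    infer_instance
  have htop : Subgroup.normalizer ((S : Subgroup M) : Set M) ⊔ T = ⊤ :=
    Sylow.normalizer_sup_eq_top' S le_sup_right
  have htop' : N ⊔ Subgroup.normalizer ((S : Subgroup M) : Set M) = ⊤ :=
    top_unique (htop.symm.trans_le (sup_le le_sup_right (sup_le le_sup_left (Subgroup.le_normalizer.trans le_sup_right))))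
  conv_lhs => rw [← M.range_subtype, MonoidHom.range_eq_map, ← htop', Subgroup.map_sup]
  refine sup_le_sup le_rfl (le_inf (Subgroup.map_subtype_le _) ?_)
  exact Subgroup.le_normalizer_map _

theorem ne_top_of_sigma (hG : Cfsg.IsMinSimpleOddOrder G) (hM : IsCoatom M) {Y : Subgroup G}
    (hY : ∀ t : ℕ, t.Prime → t ∣ Nat.card Y → t ∈ Cfsg.sigma M) : Y ≠ ⊤ := by
  rintro rfl
  obtain ⟨q, hq, hqM, hqs⟩ := exists_nonsigma_prime hG hM (coatom_ne_bot hG hM)
  exact hqs (hY q hq (by rw [Subgroup.card_top]; exact hqM.trans (Subgroup.card_subgroup_dvd_card M)))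

theorem le_sigmaCore_of_sigma (hG : Cfsg.IsMinSimpleOddOrder G) (hM : IsCoatom M) {Y : Subgroup G} (hYM : Y ≤ M)
    (hY : ∀ t : ℕ, t.Prime → t ∣ Nat.card Y → t ∈ Cfsg.sigma M) : Y ≤ Cfsg.sigmaCore M := by
  refine le_of_prime_subgroups fun t ht T hT hTY => ?_
  haveI := Fact.mk ht
  by_cases hT1 : T = ⊥
  · exact hT1 ▸ bot_le
  exact le_sigmaCore hG hM (hY t ht ((dvd_card_of_ne_bot hT hT1).trans (Subgroup.card_dvd_of_le hTY))) hT
    (hTY.trans hYM)

section Embedding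

variable {X L T : Subgroup G}

/-- B&G 12.15 (a), (b), (c). -/
theorem embedding_basic (hG : Cfsg.IsMinSimpleOddOrder G) (hM : IsCoatom M) (hs : p ∈ Cfsg.sigma M)
    (hX : IsPGroup p X) (hX1 : X ≠ ⊥) (hL : IsCoatom L) (hne : L ≠ M)
    (hNX : Subgroup.normalizer (X : Set G) ≤ L) (S : Sylow p ↥(M ⊓ L))
    (hXS : X ≤ (S : Subgroup ↥(M ⊓ L)).map (M ⊓ L).subtype) :
    (∀ g : G, L ≠ M.map (MulAut.conj g).toMonoidHom) ∧
      Subgroup.normalizer (((S : Subgroup ↥(M ⊓ L)).map (M ⊓ L).subtype : Subgroup G) : Set G) ≤ M ∧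
      ∀ U : Subgroup G, IsPGroup p U → U ≤ L → (S : Subgroup ↥(M ⊓ L)).map (M ⊓ L).subtype ≤ U →
        U = (S : Subgroup ↥(M ⊓ L)).map (M ⊓ L).subtype := by
  set T := (S : Subgroup ↥(M ⊓ L)).map (M ⊓ L).subtype with hT
  have hTp : IsPGroup p T := S.isPGroup'.map _
  have hTM : T ≤ M := (Subgroup.map_subtype_le _).trans inf_le_left
  have hTL : T ≤ L := (Subgroup.map_subtype_le _).trans inf_le_right
  have hT1 : T ≠ ⊥ := ne_bot_of_le_ne_bot hX1 hXS
  have hgrow : ∀ U : Subgroup G, IsPGroup p U → T ≤ U → U ⊓ Subgroup.normalizer (T : Set G) ≤ M ⊓ L → U = T := by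
    intro U hU hTU hle
    exact (eq_of_normalizer_le hU hTU
      (sylow_map_max S _ (hU.to_le inf_le_left) hle (le_inf hTU Subgroup.le_normalizer)).le).symm
  have hb : Subgroup.normalizer (T : Set G) ≤ M := by
    by_cases hc : IsCyclic T
    · obtain ⟨P, hTP, hPM, hNP⟩ := exists_sylow hs hTp hTM
      have hPT : (P : Subgroup G) = T := hgrow P P.isPGroup' hTP
        (le_inf (inf_le_left.trans hPM) ((inf_le_right.trans (normalizer_le_normalizer_of_cyclic hXS)).trans hNX))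
      rwa [hPT] at hNP
    · exact normalizer_le_of_noncyclic hG hM hs hTp hTM hc
  have hc : ∀ U : Subgroup G, IsPGroup p U → U ≤ L → T ≤ U → U = T := fun U hU hUL hTU =>
    hgrow U hU hTU (le_inf (inf_le_right.trans hb) (inf_le_left.trans hUL))
  refine ⟨fun g hg => hne ?_, hb, hc⟩
  have hsL : p ∈ Cfsg.sigma L := by rw [hg]; exact mem_sigma_conj hs g
  obtain ⟨P, hTP, hPL, -⟩ := exists_sylow hsL hTp hTL
  have hPT : (P : Subgroup G) = T := hc P P.isPGroup' hPL hTP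
  -- `T` and its conjugate are Sylow subgroups of `G` inside `M`
  have hT' : T.map (MulAut.conj g⁻¹).toMonoidHom ≤ M := by
    rw [map_conj_le_iff, inv_inv, ← hg]
    exact hTL
  obtain ⟨m, hm, c, hc', hgm⟩ := (sigma_group_trans hG hM hs hTp hT1 hTM).2 g⁻¹ hT'
  have hgM : g⁻¹ ∈ M := hgm ▸ mul_mem hm (hb (Subgroup.centralizer_le_normalizer _ hc'))
  rw [hg, map_eq_of_mem_normalizer ((inv_mem_iff (H := M)).1 hgM)]

/-- B&G 12.15 (e). -/
theorem embedding_nonsigma (hG : Cfsg.IsMinSimpleOddOrder G) (hM : IsCoatom M) (hs : p ∈ Cfsg.sigma M)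
    (hX : IsPGroup p X) (hX1 : X ≠ ⊥) (hL : IsCoatom L) (hne : L ≠ M)
    (hNX : Subgroup.normalizer (X : Set G) ≤ L) (S : Sylow p ↥(M ⊓ L))
    (hXS : X ≤ (S : Subgroup ↥(M ⊓ L)).map (M ⊓ L).subtype) (hsL : p ∉ Cfsg.sigma L) :
    p ∈ Cfsg.tau2 L ∧ (∀ r : ℕ, r ∈ Cfsg.sigma L → r ∉ Cfsg.sigma M) ∧
      Cfsg.sigmaCore L ⊓ M = ⊥ ∧ ∃ E : Subgroup G, Cfsg.IsComplIn E (Cfsg.sigmaCore L) L ∧ E ≤ M := by
  obtain ⟨ha, -, hc⟩ := embedding_basic hG hM hs hX hX1 hL hne hNX S hXS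
  set T := (S : Subgroup ↥(M ⊓ L)).map (M ⊓ L).subtype with hT
  have hTp : IsPGroup p T := S.isPGroup'.map _
  have hTM : T ≤ M := (Subgroup.map_subtype_le _).trans inf_le_left
  have hTL : T ≤ L := (Subgroup.map_subtype_le _).trans inf_le_right
  have hT1 : T ≠ ⊥ := ne_bot_of_le_ne_bot hX1 hXS
  have hpL : p ∣ Nat.card L := (dvd_card_of_ne_bot hTp hT1).trans (Subgroup.card_dvd_of_le hTL)
  have hTnc : ¬ IsCyclic T := by
    intro h
    obtain ⟨U, hU⟩ := exists_max_ge hTp hTL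
    have hUe := hc _ (U.isPGroup'.map _) (Subgroup.map_subtype_le _) hU
    exact hsL ⟨hp.out, hpL, U, by rw [hUe]; exact (normalizer_le_normalizer_of_cyclic hXS).trans hNX⟩
  obtain ⟨A, hAT, hA, hAc⟩ := exists_elem_sq (ne_two hG (hpL.trans (Subgroup.card_subgroup_dvd_card L))) hTp hTnc
  have hAM := hAT.trans hTM
  have hAL := hAT.trans hTL
  have ht2 := mem_tau2_of_elementary hG hL hsL hAL hA hAc
  have hAp := isPGroup_of_elementary hA
  obtain ⟨E, hAE, hE⟩ := exists_complement_ge hG hL hAL fun t ht hd => by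
    rw [hAc] at hd
    exact (Nat.prime_dvd_prime_iff_eq ht hp.out).1 (ht.dvd_of_dvd_pow hd) ▸ hsL
  have hEM : E ≤ M := (le_normalizer_elementary hG hL hE hsL hAE hA hAc).trans
    (normalizer_le_of_noncyclic hG hM hs hAp hAM (not_isCyclic_of_card_sq hA hAc))
  refine ⟨ht2, fun r hrL hrM => ?_, sigmaCore_inf_maximal_eq_bot hG hL hsL hAL hA hAc hM hne.symm hAM, E, hE, hEM⟩
  have hrp : r ≠ p := fun e => hsL (e ▸ hrL)
  haveI := Fact.mk hrM.1
  have hrb : r ∉ Cfsg.beta M := fun hb => by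
    obtain ⟨B, -, hB, hBc⟩ := exists_elem_of_not_prank hb.1.2
    obtain ⟨g, hg⟩ := exists_conj_eq_of_alpha hG hM hL hb.1 (mem_alpha_of_elementary hrL hB hBc)
    exact ha g hg
  have hpb : p ∉ Cfsg.beta M := fun hb => not_ideal hG hL hsL ht2.2.2.2 hb.2
  obtain ⟨-, -, -, ⟨H, hH, hHn⟩, -⟩ := Cfsg.Agent.S1414.result hG M hM
  haveI : Group.IsSolvable ↥(Cfsg.sigmaCore M) :=
    isSolvable_of_ne_top hG fun h => hM.1 (top_unique (h.symm.trans_le (Subgroup.map_subtype_le _)))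
  have hAσ : A ≤ Cfsg.sigmaCore M := le_sigmaCore hG hM hs hAp hAM
  obtain ⟨g, -, hAH⟩ := Hall.piHallOf_dominance hH hAσ fun t ht hd => by
    rw [hAc] at hd
    obtain rfl := (Nat.prime_dvd_prime_iff_eq ht hp.out).1 (ht.dvd_of_dvd_pow hd)
    exact ⟨ht, hpb⟩
  -- `r` divides the order of `H`
  have hrH : r ∣ Nat.card H := by
    have h1 : r ∣ Nat.card ↥(Cfsg.sigmaCore M) := by
      obtain ⟨P, -, hPM, -⟩ := exists_sylow hrM (IsPGroup.of_bot (p := r) (G := G)) bot_le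
      have hPσ := le_sigmaCore hG hM hrM P.isPGroup' hPM
      refine (dvd_card_of_ne_bot P.isPGroup' ?_).trans (Subgroup.card_dvd_of_le hPσ)
      exact P.ne_bot_of_dvd_card (hrM.2.1.trans (Subgroup.card_subgroup_dvd_card M))
    rw [← Subgroup.relIndex_bot_left, ← Subgroup.relIndex_mul_relIndex ⊥ H _ bot_le hH.1,
      Subgroup.relIndex_bot_left] at h1
    exact ((Nat.Prime.dvd_mul hrM.1).1 h1).resolve_right (hH.2.2 r hrM.1 ⟨hrM.1, hrb⟩)
  obtain ⟨z, hz⟩ := exists_prime_orderOf_dvd_card' (G := H) r hrH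
  set y := g * (z : G) * g⁻¹ with hy
  have hyo : orderOf y = r := by
    rw [hy, ← MulAut.conj_apply, MulEquiv.orderOf_eq, Subgroup.orderOf_coe, hz]
  have hyA : y ∈ Subgroup.centralizer (A : Set G) := by
    refine Subgroup.mem_centralizer_iff.2 fun a ha' => ?_
    obtain ⟨b, hb, hba⟩ := hAH ha'
    haveI := hHn
    have hbp : b ^ p = 1 := by
      have := hA.2 a ha'
      rw [← hba] at this
      exact (MulAut.conj g).injective (by rw [map_pow, map_one]; exact this)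
    have hco : (orderOf (⟨b, hb⟩ : H)).Coprime (orderOf z) := by
      rw [hz, Subgroup.orderOf_mk]
      exact Nat.Coprime.coprime_dvd_left (orderOf_dvd_of_pow_eq_one hbp)
        ((Nat.coprime_primes hp.out hrM.1).2 hrp.symm)
    have hcomm : b * (z : G) = (z : G) * b :=
      congrArg Subtype.val (Cfsg.Agent.S3939.commute_of_coprime_nilpotent hco)
    calc a * y = (g * b * g⁻¹) * (g * (z : G) * g⁻¹) := by rw [← hba, hy]; rfl
      _ = g * (b * (z : G)) * g⁻¹ := by group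
      _ = g * ((z : G) * b) * g⁻¹ := by rw [hcomm]
      _ = (g * (z : G) * g⁻¹) * (g * b * g⁻¹) := by group
      _ = y * a := by rw [← hba, hy]; rfl
  have hyL : y ∈ L := centralizer_le_maximal hG hL hAL hA hAc hyA
  have hyσ : Subgroup.zpowers y ≤ Cfsg.sigmaCore L ⊓ Subgroup.centralizer (A : Set G) :=
    le_inf (le_sigmaCore hG hL hrL (IsPGroup.of_card (n := 1) (by rw [Nat.card_zpowers, hyo, pow_one]))
      (Subgroup.zpowers_le.2 hyL)) (Subgroup.zpowers_le.2 hyA)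
  rw [sigmaCore_inf_centralizer_eq_bot hG hL hsL hAL hA hAc, le_bot_iff, Subgroup.zpowers_eq_bot] at hyσ
  rw [hyσ, orderOf_one] at hyo
  exact hrM.1.ne_one hyo.symm

/-- B&G 12.15 (d). -/
theorem embedding_sigma (hG : Cfsg.IsMinSimpleOddOrder G) (hM : IsCoatom M) (hs : p ∈ Cfsg.sigma M)
    (hX : IsPGroup p X) (hX1 : X ≠ ⊥) (hL : IsCoatom L) (hne : L ≠ M)
    (hNX : Subgroup.normalizer (X : Set G) ≤ L) (S : Sylow p ↥(M ⊓ L))
    (hXS : X ≤ (S : Subgroup ↥(M ⊓ L)).map (M ⊓ L).subtype) (hsL : p ∈ Cfsg.sigma L) :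
    L ≤ Cfsg.piCoreOf (Cfsg.beta L) L ⊔ (M ⊓ L) ∧
      ∀ r : ℕ, r ∈ Cfsg.beta L → r ∉ Cfsg.sigma M := by
  obtain ⟨ha, hb, hc⟩ := embedding_basic hG hM hs hX hX1 hL hne hNX S hXS
  set T := (S : Subgroup ↥(M ⊓ L)).map (M ⊓ L).subtype with hT
  obtain ⟨U, hU⟩ := exists_max_ge (S.isPGroup'.map (M ⊓ L).subtype)
    ((Subgroup.map_subtype_le _).trans inf_le_right : T ≤ L)
  have hUe := hc _ (U.isPGroup'.map _) (Subgroup.map_subtype_le _) hU
  refine ⟨(le_betaCore_sup_normalizer hG hL hsL U).trans (sup_le_sup le_rfl ?_), fun r hr hrM => ?_⟩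
  · rw [hUe, inf_comm M L]
    exact inf_le_inf le_rfl hb
  · haveI := Fact.mk hrM.1
    obtain ⟨B, -, hB, hBc⟩ := exists_elem_of_not_prank hr.1.2
    obtain ⟨g, hg⟩ := exists_conj_eq_of_alpha hG hM hL (mem_alpha_of_elementary hrM hB hBc) hr.1
    exact ha g hg

end Embedding

theorem exists_pCoreOf_ne_bot {Y : Subgroup G} [Group.IsSolvable Y] (hY : Y ≠ ⊥) :
    ∃ q : ℕ, q.Prime ∧ q ∣ Nat.card Y ∧ Cfsg.pCoreOf q Y ≠ ⊥ := by
  have hF : Cfsg.fittingOf Y ≠ ⊥ := fun h => by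
    refine hY (le_bot_iff.1 fun y hy => ?_)
    rw [← h]
    refine mem_fittingOf_of_centralizer hy (Subgroup.mem_centralizer_iff.2 fun t ht => ?_)
    rw [SetLike.mem_coe, h, Subgroup.mem_bot] at ht
    rw [ht, one_mul, mul_one]
  obtain ⟨q, hq, hqd⟩ := Nat.exists_prime_and_dvd (fun e => hF (Subgroup.card_eq_one.1 e))
  haveI := Fact.mk hq
  exact ⟨q, hq, hqd.trans (Subgroup.card_dvd_of_le (fittingOf_le Y)),
    ne_bot_of_le_ne_bot (centerPart_ne_bot Y hqd) inf_le_left⟩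

/-- B&G 12.16. -/
theorem sigma_conj_le (hG : Cfsg.IsMinSimpleOddOrder G) (hM : IsCoatom M) {Y : Subgroup G} (hY1 : Y ≠ ⊥)
    (hY : ∀ t : ℕ, t.Prime → t ∣ Nat.card Y → t ∈ Cfsg.sigma M) :
    ∃ g : G, Y.map (MulAut.conj g).toMonoidHom ≤ Cfsg.sigmaCore M := by
  have hYπ : ∀ h : G, ∀ t : ℕ, t.Prime → t ∣ Nat.card ↥(Y.map (MulAut.conj h).toMonoidHom) → t ∈ Cfsg.sigma M :=
    fun h t ht hd => hY t ht (by rwa [card_map_conj] at hd)
  suffices h : ∃ g : G, Y.map (MulAut.conj g).toMonoidHom ≤ M by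
    obtain ⟨g, hg⟩ := h
    exact ⟨g, le_sigmaCore_of_sigma hG hM hg (hYπ g)⟩
  haveI := isSolvable_of_ne_top hG (ne_top_of_sigma hG hM hY)
  obtain ⟨q, hq, hqd, hX₀⟩ := exists_pCoreOf_ne_bot hY1
  haveI := Fact.mk hq
  have hqs := hY q hq hqd
  obtain ⟨P₀, hP₀⟩ := IsPGroup.exists_le_sylow (isPGroup_pCoreOf q Y)
  obtain ⟨P, -, hPM, -⟩ := exists_sylow hqs (IsPGroup.of_bot (p := q) (G := G)) bot_le
  obtain ⟨h, hh⟩ := MulAction.exists_smul_eq G P₀ P
  set X := (Cfsg.pCoreOf q Y).map (MulAut.conj h).toMonoidHom with hXdef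
  set Y₁ := Y.map (MulAut.conj h).toMonoidHom with hY₁
  have hXp : IsPGroup q X := (isPGroup_pCoreOf q Y).map _
  have hX1 : X ≠ ⊥ := by
    rwa [hXdef, Ne, Subgroup.map_eq_bot_iff_of_injective _ (MulAut.conj h).injective]
  have hXM : X ≤ M := by
    refine le_trans ?_ hPM
    rw [← congrArg Sylow.toSubgroup hh]
    exact Subgroup.map_mono hP₀
  have hY₁N : Y₁ ≤ Subgroup.normalizer (X : Set G) :=
    (Subgroup.map_mono (Subgroup.le_normalizer.trans (normalizer_le_normalizer_pCoreOf q Y))).trans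
      (Subgroup.le_normalizer_map _)
  suffices hs : ∃ g : G, Y₁.map (MulAut.conj g).toMonoidHom ≤ M by
    obtain ⟨g, hg⟩ := hs
    exact ⟨g * h, by rwa [hY₁, map_conj_map] at hg⟩
  obtain ⟨L, hL, hNL⟩ := exists_coatom_ge (normalizer_ne_top hG hX1 (pgroup_ne_top hG hXp))
  by_cases hne : L = M
  · exact ⟨1, by rw [map_conj_one]; exact hne ▸ hY₁N.trans hNL⟩
  obtain ⟨S, hXS⟩ := exists_max_ge hXp (le_inf hXM (Subgroup.le_normalizer.trans hNL))
  have hY₁L := hY₁N.trans hNL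
  by_cases hsL : q ∈ Cfsg.sigma L
  · obtain ⟨hsup, hβ⟩ := embedding_sigma hG hM hqs hXp hX1 hL hne hNL S hXS hsL
    haveI := isSolvable_of_ne_top hG hL.1
    haveI : Group.IsSolvable ↥(M ⊓ L : Subgroup G) :=
      isSolvable_of_ne_top hG fun e => hL.1 (top_unique (e.symm.trans_le inf_le_right))
    obtain ⟨H, hH⟩ := Hall.exists_isPiHallOf (M ⊓ L) {r | r.Prime ∧ r ∉ Cfsg.beta L}
    have hdvd : (M ⊓ L).relIndex L ∣ Nat.card ↥(Cfsg.piCoreOf (Cfsg.beta L) L) := by
      set N := Cfsg.piCore (Cfsg.beta L) ↥L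
      set D := (M ⊓ L).subgroupOf L
      have htop : N ⊔ D = ⊤ := by
        refine Subgroup.map_injective L.subtype_injective (le_antisymm ?_ ?_)
        · rw [← MonoidHom.range_eq_map, L.range_subtype]
          exact Subgroup.map_subtype_le _
        · rw [← MonoidHom.range_eq_map, L.range_subtype, Subgroup.map_sup,
            Subgroup.map_subgroupOf_eq_of_le inf_le_right]
          exact hsup
      have h1 := Hall.card_sup_mul_card_inf N D
      rw [htop, Subgroup.card_top, ← Subgroup.card_mul_index D] at h1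
      rw [Cfsg.piCoreOf, Subgroup.card_map_of_injective L.subtype_injective]
      show D.index ∣ Nat.card N
      refine ⟨Nat.card ↥(N ⊓ D), Nat.eq_of_mul_eq_mul_left (Nat.card_pos (α := D)) ?_⟩
      rw [mul_comm (Nat.card D) (Nat.card N), ← h1, mul_assoc]
    have hHL : Cfsg.IsPiHallOf {r | r.Prime ∧ r ∉ Cfsg.beta L} H L := by
      refine ⟨hH.1.trans inf_le_right, hH.2.1, fun r hr hrb hd => ?_⟩
      rw [← Subgroup.relIndex_mul_relIndex H (M ⊓ L) L hH.1 inf_le_right] at hd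
      rcases (Nat.Prime.dvd_mul hr).1 hd with h1 | h1
      · exact hH.2.2 r hr hrb h1
      · refine hrb.2 ((Hall.isPiSubgroup_piCore : Cfsg.IsPiSubgroup (Cfsg.beta L) (Cfsg.piCore (Cfsg.beta L) ↥L)) r hr ?_)
        have h2 := h1.trans hdvd
        rwa [Cfsg.piCoreOf, Subgroup.card_map_of_injective L.subtype_injective] at h2
    obtain ⟨g, -, hg⟩ := Hall.piHallOf_dominance hHL hY₁L fun r hr hd => ⟨hr, fun hb => hβ r hb (hYπ h r hr hd)⟩
    refine ⟨g⁻¹, ?_⟩
    rw [map_conj_le_iff, inv_inv]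
    exact hg.trans (Subgroup.map_mono (hH.1.trans inf_le_left))
  · obtain ⟨-, hdis, -, E, hE, hEM⟩ := embedding_nonsigma hG hM hqs hXp hX1 hL hne hNL S hXS hsL
    obtain ⟨m, -, hm⟩ := exists_conj_le_complement hG hL hE hY₁L fun r hr hd hrL => hdis r hrL (hYπ h r hr hd)
    exact ⟨m, hm.trans hEM⟩

end CfsgLib.SigmaGroups
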