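import Cfsg.Agent.Sigma.KappaStructure

/-!
B&G 14.2 (d)–(f): elements of `K` and of `K* = C_{M_σ}(K)`.
-/

set_option autoImplicit false
set_option linter.unusedSectionVars false
set_option linter.style.haveILetI false

namespace CfsgLib.SigmaGroups

open CfsgLib.BenderUnique CfsgLib.Uniq
open scoped commutatorElement

universe u

variable {G : Type u} [Group G] [Finite G] {p q : ℕ} [hp : Fact p.Prime] [hq : Fact q.Prime]
  {M E X K : Subgroup G}

omit hp hq in
/-- Elements of `M` moving a nontrivial element of `K` into `K` lie in `K ⊔ K*`. -/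
theorem mem_of_conj_kappa (hG : Cfsg.IsMinSimpleOddOrder G) (hM : IsCoatom M)
    (hK : Cfsg.IsPiHallOf (Cfsg.kappa M) K M) (hK1 : K ≠ ⊥) {g x : G} (hg : g ∈ M) (hx : x ∈ K) (hx1 : x ≠ 1)
    (hgx : g * x * g⁻¹ ∈ K) : g ∈ K ⊔ (Cfsg.sigmaCore M ⊓ Subgroup.centralizer (K : Set G)) := by
  obtain ⟨E, U, hE, hKE, -, -, hU, hEU, hEKU, hlines⟩ := kappa_complement_structure hG hM hK hK1
  obtain ⟨t, X, ht, hXx, hXc⟩ := exists_line_le (H := Subgroup.zpowers x) fun h => hx1 (Subgroup.zpowers_eq_bot.1 h)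
  obtain ⟨hXfix, -, hXU⟩ := hlines X (hXx.trans (Subgroup.zpowers_le.2 hx)) (by rw [hXc]; exact ht)
  have hxX : Subgroup.centralizer ({x} : Set G) ≤ Subgroup.centralizer (X : Set G) := by
    rw [← centralizer_zpowers]; exact Subgroup.centralizer_le hXx
  obtain ⟨e, he, k, hk, rfl⟩ := hE.2.2.2 g hg
  have hxE : x ∈ E := hKE hx
  have hkx : k * x = x * k := by
    have h2 : k * x * k⁻¹ * x⁻¹ ∈ E ⊓ Cfsg.sigmaCore M := by
      refine Subgroup.mem_inf.2 ⟨?_, ?_⟩
      · rw [show k * x * k⁻¹ * x⁻¹ = e⁻¹ * (e * k * x * (e * k)⁻¹) * e * x⁻¹ by group]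
        exact mul_mem (mul_mem (mul_mem (inv_mem he) (hKE hgx)) he) (inv_mem hxE)
      · rw [show k * x * k⁻¹ * x⁻¹ = k * (x * k⁻¹ * x⁻¹) by group]
        exact mul_mem hk ((Subgroup.mem_normalizer_iff.1 (le_normalizer_sigmaCore M (hE.1 hxE)) _).1 (inv_mem hk))
    rw [hE.2.2.1, Subgroup.mem_bot, mul_inv_eq_one, mul_inv_eq_iff_eq_mul] at h2
    exact h2
  have hkK : k ∈ Cfsg.sigmaCore M ⊓ Subgroup.centralizer (K : Set G) :=
    hXfix ▸ Subgroup.mem_inf.2 ⟨hk, hxX (Subgroup.mem_centralizer_singleton_iff.2 hkx)⟩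
  refine mul_mem (Subgroup.mem_sup_left ?_) (Subgroup.mem_sup_right hkK)
  obtain ⟨a, ha, u, hu, rfl⟩ := CoprimeAction.exists_mul_of_mem_sup (hKE.trans hEU) (hEKU he)
  suffices u = 1 by rw [this, mul_one]; exact ha
  have hux : u * x * u⁻¹ ∈ K := by
    have h : a * u * k * x * (a * u * k)⁻¹ ∈ K := hgx
    rw [show a * u * k * x * (a * u * k)⁻¹ = a * (u * (k * x) * k⁻¹ * u⁻¹) * a⁻¹ by group, hkx] at h
    rw [show a * (u * (x * k) * k⁻¹ * u⁻¹) * a⁻¹ = a * (u * x * u⁻¹) * a⁻¹ by group] at h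
    have h' := mul_mem (mul_mem (inv_mem ha) h) ha
    rwa [show a⁻¹ * (a * (u * x * u⁻¹) * a⁻¹) * a = u * x * u⁻¹ by group] at h'
  refine Subgroup.mem_bot.1 (hXU ▸ Subgroup.mem_inf.2 ⟨hu, hxX (Subgroup.mem_centralizer_singleton_iff.2 ?_)⟩)
  have h2 : u * x * u⁻¹ * x⁻¹ ∈ K ⊓ U := by
    refine Subgroup.mem_inf.2 ⟨mul_mem hux (inv_mem hx), ?_⟩
    rw [show u * x * u⁻¹ * x⁻¹ = u * (x * u⁻¹ * x⁻¹) by group]
    exact mul_mem hu ((Subgroup.mem_normalizer_iff.1 (hEU hxE) _).1 (inv_mem hu))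
  rw [Subgroup.inf_eq_bot_of_coprime (Nat.coprime_of_dvd fun s hs h1 h2' =>
    (hU.2.1 s hs h2').2.1 (hK.2.1 s hs h1)), Subgroup.mem_bot, mul_inv_eq_one, mul_inv_eq_iff_eq_mul] at h2
  exact h2

omit hp in
/-- No abelian Sylow subgroup of `G` outside `β(M)` meets `K*`. -/
theorem false_of_abelian_fixed (hG : Cfsg.IsMinSimpleOddOrder G) (hM : IsCoatom M)
    (hK : Cfsg.IsPiHallOf (Cfsg.kappa M) K M) (hK1 : K ≠ ⊥) {z : G}
    (hz : z ∈ Cfsg.sigmaCore M ⊓ Subgroup.centralizer (K : Set G)) (hzo : orderOf z = q) (hb : q ∉ Cfsg.beta M)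
    (S : Sylow q G) (hS : IsMulCommutative (S : Subgroup G)) : False := by
  have hqM : q ∈ Cfsg.sigma M := mem_sigma_of_dvd M hq.out (hzo ▸ Subgroup.orderOf_dvd_natCard _ hz.1)
  obtain ⟨t, X, ht, hXK, hXc⟩ := exists_line_le hK1
  haveI := Fact.mk ht
  obtain ⟨hts, htrk, -, -⟩ := kappa_basic hG hM (hK.2.1 t ht (hXc ▸ Subgroup.card_dvd_of_le hXK))
  have hXM : X ≤ M := hXK.trans hK.1
  have hzX : z ∈ Subgroup.centralizer (X : Set G) := Subgroup.centralizer_le hXK hz.2
  obtain ⟨N, hN, hNX, -⟩ := exists_max_normalizer hG hM hts htrk hXc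
  obtain ⟨-, -, -, -, hqrk, -⟩ := fixed_line_basic hG hM hts htrk hXc hXM hN hNX hz.1 hzX hzo
  set Z := Subgroup.zpowers z with hZ
  have hZc : Nat.card Z = q := by rw [hZ, Nat.card_zpowers, hzo]
  have hKZ : K ≤ Subgroup.centralizer (Z : Set G) :=
    Subgroup.le_centralizer_iff.1 (Subgroup.zpowers_le.2 hz.2)
  haveI : Group.IsSolvable ↥(Cfsg.sigmaCore M) := isSolvable_of_ne_top hG fun h =>
    hM.1 (top_le_iff.1 (h ▸ (Subgroup.map_subtype_le _ : Cfsg.sigmaCore M ≤ M)))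
  have hcopX : (Nat.card X).Coprime (Nat.card ↥(Cfsg.sigmaCore M)) := by
    rw [hXc]
    exact (Nat.Prime.coprime_iff_not_dvd ht).2 fun h => hts (mem_sigma_of_dvd M ht h)
  obtain ⟨T₀, hZT, hXT⟩ := CoprimeAction.exists_invariant_sylow_ge (p := q)
    (hXM.trans (le_normalizer_sigmaCore M)) hcopX (Or.inr inferInstance)
    (Subgroup.zpowers_le.2 hz.1 : Z ≤ Cfsg.sigmaCore M) (isPGroup_line hZc)
    ((hXK.trans hKZ).trans (Subgroup.centralizer_le_normalizer _))
  obtain ⟨T, hT, hTM, hNT⟩ := exists_sylow_of_sigmaCore hG hM hqM T₀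
  rw [← hT] at hZT hXT
  set W := Subgroup.normalizer ((T : Subgroup G) : Set G) with hW
  haveI hTa : IsMulCommutative (T : Subgroup G) := by
    obtain ⟨g, hg⟩ := MulAction.exists_smul_eq G S T
    have he : (T : Subgroup G) = (S : Subgroup G).map (MulAut.conj g).toMonoidHom := by rw [← hg]; rfl
    rw [he]
    haveI := hS
    infer_instance
  -- `N(T)'` centralizes `T`
  have hWd : ⁅W, W⁆ ≤ Subgroup.centralizer ((T : Subgroup G) : Set G) := le_of_prime_subgroups fun s hs U hU hUW => by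
    haveI := Fact.mk hs
    have hUn : U ≤ W := hUW.trans (Subgroup.commutator_le_self W)
    by_cases hsq : s = q
    · subst hsq
      exact (le_sup_left.trans (T.is_maximal' (IsPGroup.to_sup_of_normal_right' hU T.isPGroup' hUn) le_sup_right).le).trans
        fun a ha => Subgroup.mem_centralizer_iff.2 fun b hb => setLike_mul_comm hb ha
    exact le_centralizer_of_derived hG hM hb T.isPGroup' hTM (hUW.trans (Subgroup.commutator_mono hNT hNT))
      (card_coprime (p := q) (q := s) hU hsq) hUn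
  have hcyc : IsCyclic ↥((T : Subgroup G) ⊓ Subgroup.centralizer (X : Set G)) := isCyclic_of_prank_one hG hqrk
    (inf_le_right.trans ((Subgroup.centralizer_le_normalizer _).trans hNX)) (T.isPGroup'.to_le inf_le_left)
  have hWZ : W ≤ Subgroup.normalizer (Z : Set G) := fun n hn => by
    refine mem_normalizer_of_map_le ?_
    rintro _ ⟨y, hy, rfl⟩
    refine mem_of_pow_eq_one hcyc (le_inf hZT (Subgroup.zpowers_le.2 hzX)) hZc
      ⟨(Subgroup.mem_normalizer_iff.1 hn y).1 (hZT hy), Subgroup.mem_centralizer_iff.2 fun x hx => ?_⟩ ?_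
    · have hc : n⁻¹ * x * n * x⁻¹ ∈ Subgroup.centralizer ((T : Subgroup G) : Set G) := by
        refine hWd ?_
        rw [show n⁻¹ * x * n * x⁻¹ = ⁅n⁻¹, x⁆ by rw [commutatorElement_def, inv_inv]]
        exact Subgroup.commutator_mem_commutator (inv_mem hn) (hXT hx)
      have hxy : x * y = y * x :=
        (Subgroup.mem_centralizer_iff.1 (Subgroup.le_centralizer_iff.1 (hXK.trans hKZ) hy) x hx)
      have h := Subgroup.mem_centralizer_iff.1 hc y (hZT hy)
      show x * (n * y * n⁻¹) = n * y * n⁻¹ * x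
      calc x * (n * y * n⁻¹) = n * ((n⁻¹ * x * n * x⁻¹) * (x * y) * x⁻¹) * x * n⁻¹ * 1 := by group
        _ = n * ((n⁻¹ * x * n * x⁻¹) * (y * x) * x⁻¹) * x * n⁻¹ * 1 := by rw [hxy]
        _ = n * ((n⁻¹ * x * n * x⁻¹) * y) * x * n⁻¹ := by group
        _ = n * (y * (n⁻¹ * x * n * x⁻¹)) * x * n⁻¹ := by rw [h]
        _ = n * y * n⁻¹ * x := by group
    · show (n * y * n⁻¹) ^ q = 1
      have hyq := pow_card_eq_one' (x := (⟨y, hy⟩ : Z))
      rw [hZc] at hyq
      rw [conj_pow, show y ^ q = 1 from congrArg Subtype.val hyq, mul_one, mul_inv_cancel]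
  -- `N(T)` centralizes `z`
  obtain ⟨V, hV⟩ := exists_normalizer_complement T
  have hVC : V ≤ Subgroup.centralizer (Z : Set G) := le_of_prime_subgroups fun s hs U hU hUV => by
    haveI := Fact.mk hs
    have hUn := hUV.trans hV.2.1
    have hUM : U ≤ M := hUn.trans hNT
    by_cases hU1 : U = ⊥
    · exact hU1 ▸ bot_le
    by_cases hsq : s = q
    · subst hsq
      exact absurd (le_bot_iff.1 (hV.2.2.1 ▸ le_inf (le_sup_left.trans (T.is_maximal'
        (IsPGroup.to_sup_of_normal_right' hU T.isPGroup' hUn) le_sup_right).le) hUV)) hU1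
    by_cases hss : s ∈ Cfsg.sigma M
    · exact (le_centralizer_of_derived hG hM hb T.isPGroup' hTM
        ((le_sigmaCore hG hM hss hU hUM).trans (sigmaCore_le_derived hG hM)) (card_coprime (p := q) (q := s) hU hsq)
        hUn).trans (Subgroup.centralizer_le hZT)
    set W' := M ⊓ Subgroup.normalizer (Z : Set G) with hW'
    haveI : Group.IsSolvable W' := isSolvable_of_ne_top hG fun h => hM.1 (top_le_iff.1 (h ▸ (inf_le_left : W' ≤ M)))
    obtain ⟨H, hKH, hH, hHc⟩ := exists_hall_over (π := {l | l ∉ Cfsg.sigma M}) (W := W')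
      (le_inf hK.1 (hKZ.trans (Subgroup.centralizer_le_normalizer _)) : K ≤ W')
      fun l hl hd => (hK.2.1 l hl hd).2.2.1
    obtain ⟨E, hHE, hE⟩ := exists_complement_ge hG hM (hH.1.trans inf_le_left) hH.2.1
    obtain ⟨UE, hUEc, -, hUEM, hEUE, hEKU, hlines⟩ :=
      kappa_structure_of_complement hG hM hK hK1 hE (hKH.trans hHE)
    have hHC : H ≤ Subgroup.centralizer (Z : Set G) := by
      intro h hh
      obtain ⟨a, ha, w, hw, rfl⟩ := CoprimeAction.exists_mul_of_mem_sup ((hKH.trans hHE).trans hEUE) (hEKU (hHE hh))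
      refine mul_mem (hKZ ha) ?_
      have hwH : w ∈ H := (Subgroup.mul_mem_cancel_left _ (hKH ha)).1 hh
      set J := H ⊓ UE with hJ
      have hXJ : X ≤ Subgroup.normalizer (J : Set G) :=
        (le_inf ((hXK.trans hKH).trans Subgroup.le_normalizer) (((hXK.trans hKH).trans hHE).trans hEUE)).trans
          Subgroup.inf_normalizer_le_normalizer_inf
      haveI : Group.IsSolvable J := isSolvable_of_ne_top hG fun h =>
        hM.1 (top_le_iff.1 (h ▸ (inf_le_right.trans hUEM.1 : J ≤ M)))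
      have hcopJ : (Nat.card X).Coprime (Nat.card J) := by
        rw [hXc]
        exact (Nat.Prime.coprime_iff_not_dvd ht).2 fun hd =>
          (hUEM.2.1 t ht (hd.trans (Subgroup.card_dvd_of_le inf_le_right))).2.1
            (hK.2.1 t ht (hXc ▸ Subgroup.card_dvd_of_le hXK))
      have hsup := CoprimeAction.commutator_sup_centralizer hXJ hcopJ (Or.inr inferInstance)
      rw [le_bot_iff.1 ((inf_le_inf_right _ inf_le_right).trans
        (hlines X hXK (by rw [hXc]; exact ht)).2.2.le : J ⊓ Subgroup.centralizer (X : Set G) ≤ ⊥), sup_bot_eq] at hsup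
      suffices hle : ⁅J, X⁆ ≤ Subgroup.centralizer (Z : Set G) from hle (by rw [hsup]; exact ⟨hwH, hw⟩)
      rw [Subgroup.commutator_le]
      intro n hn x hx
      rw [commutatorElement_def]
      refine mul_mem ?_ (inv_mem ((hXK.trans hKZ) hx))
      refine Subgroup.mem_centralizer_iff.2 fun b hb' => ?_
      have hb'' : n⁻¹ * b * n ∈ Z := by
        have h := (Subgroup.mem_normalizer_iff.1 (inv_mem (hH.1 hn.1).2) b).1 hb'
        rwa [inv_inv] at h
      have h := congrArg (fun y => n * y * n⁻¹) (Subgroup.mem_centralizer_iff.1 ((hXK.trans hKZ) hx) _ hb'')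
      simpa [mul_assoc] using h
    obtain ⟨a, ha, hUa⟩ := hHc U (le_inf hUM (hUn.trans hWZ)) fun l hl hd => primes_of_pgroup hs hU l hl hd ▸ hss
    intro u hu
    refine Subgroup.mem_centralizer_iff.2 fun b hb' => ?_
    have hb'' : a * b * a⁻¹ ∈ Z := (Subgroup.mem_normalizer_iff.1 ha.2 b).1 hb'
    have h := congrArg (fun y => a⁻¹ * y * a)
      (Subgroup.mem_centralizer_iff.1 ((hUa.trans hHC) ⟨u, hu, rfl⟩) (a * b * a⁻¹) hb'')
    simpa [mul_assoc] using h
  have hcopV : (Nat.card V).Coprime (Nat.card (T : Subgroup G)) := by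
    obtain ⟨k, hk⟩ := T.isPGroup'.exists_card_eq
    rw [hk]
    refine Nat.Coprime.pow_right k ((Nat.Prime.coprime_iff_not_dvd hq.out).2 fun hd => ?_).symm
    obtain ⟨w, hw, hwo⟩ := exists_elem_prime (p := q) (H := V) hd
    have hwT : w ∈ (T : Subgroup G) := (le_sup_left.trans (T.is_maximal'
      (IsPGroup.to_sup_of_normal_right' (isPGroup_line (by rw [Nat.card_zpowers, hwo]) : IsPGroup q (Subgroup.zpowers w))
        T.isPGroup' ((Subgroup.zpowers_le.2 hw).trans hV.2.1)) le_sup_right).le) (Subgroup.mem_zpowers w)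
    exact hq.out.one_lt.ne (by rw [← hwo, show w = 1 from Subgroup.mem_bot.1
      (hV.2.2.1 ▸ Subgroup.mem_inf.2 ⟨hwT, hw⟩), orderOf_one])
  have hz' : z ∈ ((T : Subgroup G) ⊓ Subgroup.centralizer (V : Set G)) ⊓ ⁅(T : Subgroup G), V⁆ := by
    refine ⟨⟨hZT (Subgroup.mem_zpowers z), Subgroup.le_centralizer_iff.1 hVC (Subgroup.mem_zpowers z)⟩, ?_⟩
    rw [← sylow_eq_commutator hG T V hV]
    exact hZT (Subgroup.mem_zpowers z)
  rw [CoprimeAction.centralizer_inf_commutator_eq_bot hV.2.1 hcopV, Subgroup.mem_bot] at hz'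
  exact hq.out.one_lt.ne (by rw [← hzo, hz', orderOf_one])

end CfsgLib.SigmaGroups
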