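import Cfsg.Agent.Sigma.KappaTypeTwo
import Cfsg.Agent.BGFifteen.Basic
import Cfsg.Agent.S1432
import Cfsg.Agent.S1443

/-!
B&G 14.7 (f) / 15.x: the maximal subgroup over the normalizer of a Sylow subgroup of `U`.
-/

set_option autoImplicit false
set_option linter.unusedSectionVars false
set_option linter.style.haveILetI false

namespace CfsgLib.SigmaGroups

open CfsgLib.BenderUnique CfsgLib.Uniq
open scoped commutatorElement

universe u

variable {G : Type u} [Group G] [Finite G] {p q r : ℕ} {M Ms H L K U X : Subgroup G}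

/-- The Sylow subgroups of a nilpotent `U` are normalized by the normalizer of `U`. -/
theorem le_normalizer_sylow_map [Fact q.Prime] (hn : Group.IsNilpotent U) (R₀ : Sylow q ↥U) {X : Subgroup G}
    (hX : X ≤ Subgroup.normalizer (U : Set G)) :
    X ≤ Subgroup.normalizer (((R₀ : Subgroup ↥U).map U.subtype : Subgroup G) : Set G) := by
  have h4 : ∀ (s : ℕ) (_ : Fact s.Prime) (P : Sylow s ↥U), (P : Subgroup ↥U).Normal :=
    ((Group.isNilpotent_of_finite_tfae (G := ↥U)).out 0 3).1 hn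
  haveI := Sylow.unique_of_normal R₀ (h4 q inferInstance R₀)
  intro x hx
  refine mem_normalizer_of_map_le ?_
  set R := (R₀ : Subgroup ↥U).map U.subtype with hR
  set T := (R.map (MulAut.conj x).toMonoidHom).subgroupOf U with hT
  have hTp : IsPGroup q T := (((R₀.isPGroup'.map _ : IsPGroup q R)).map _).comap_subtype
  obtain ⟨S', hS'⟩ := hTp.exists_le_sylow
  rw [Subsingleton.elim S' R₀] at hS'
  rintro _ ⟨a, ha, rfl⟩
  have haU := (Subgroup.mem_normalizer_iff.1 (hX hx) a).1 ((Subgroup.map_subtype_le _ : R ≤ U) ha)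
  exact ⟨⟨_, haU⟩, hS' (Subgroup.mem_subgroupOf.2 ⟨a, ha, rfl⟩), rfl⟩

/-- No `q`-subgroup of a complement is moved by a free line of the partner's `σ`-part. -/
theorem false_of_moved (hG : Cfsg.IsMinSimpleOddOrder G) (hM : IsCoatom M) (hMs : IsCoatom Ms) (hH : IsCoatom H)
    (P : KappaPair M Ms K) {t : ℕ} [ht : Fact t.Prime] [hq : Fact q.Prime] (hKc : Nat.card K = t)
    (htH : t ∉ Cfsg.sigma H) (hfree : Cfsg.sigmaCore H ⊓ Subgroup.centralizer (K : Set G) = ⊥)
    (hCK : Subgroup.centralizer (K : Set G) ≤ Ms)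
    (hβ : ∀ s : ℕ, s.Prime → s ∣ Nat.card ↥(Cfsg.sigmaCore M) → s ∈ Cfsg.beta M)
    {F S : Subgroup G} (hF : Cfsg.IsComplIn F (Cfsg.sigmaCore H) H) (hKF : K ≤ F) (hSF : S ≤ F)
    (hS : IsPGroup q S) (hqt : q ≠ t) (hKS : K ≤ Subgroup.normalizer (S : Set G))
    (hmove : ¬ K ≤ Subgroup.centralizer (S : Set G)) : False := by
  have hS1 : S ≠ ⊥ := fun h => hmove (h ▸ fun x _ => Subgroup.mem_centralizer_iff.2 fun b hb => by
    rw [Subgroup.mem_bot.1 hb, one_mul, mul_one])
  have hqF : q ∣ Nat.card F := (dvd_card_of_ne_bot hS hS1).trans (Subgroup.card_dvd_of_le hSF)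
  have hqs : q ∉ Cfsg.sigma H := fun h => not_dvd_card_complement hG hH hF hq.out h hqF
  have hqH : q ∣ Nat.card H := hqF.trans (Subgroup.card_dvd_of_le hF.1)
  have hHn := le_normalizer_sigmaCore H
  haveI : Group.IsSolvable (Cfsg.sigmaCore H) :=
    isSolvable_of_ne_top hG fun e => hH.1 (top_le_iff.1 (e ▸ Subgroup.map_subtype_le _))
  have hnot : ∀ {s : ℕ}, s.Prime → s ∉ Cfsg.sigma H → ¬ s ∣ Nat.card ↥(Cfsg.sigmaCore H) :=
    fun hs hns hd => hns (mem_sigma_of_dvd H hs hd)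
  have hfreeS : ∀ {T : Subgroup G}, IsPGroup q T → T ≤ F → K ≤ Subgroup.normalizer (T : Set G) →
      ⁅T, K⁆ ≤ Subgroup.centralizer (Cfsg.sigmaCore H : Set G) := fun {T} hT hTF hKT =>
    commutator_le_centralizer_of_free (p := t) (ne_two hG (hqH.trans (Subgroup.card_subgroup_dvd_card H))) hqt hT
      hKc hKT ((hTF.trans hF.1).trans hHn) ((hKF.trans hF.1).trans hHn) (hnot hq.out hqs) (hnot ht.out htH)
      inferInstance hfree
  set W := ⁅S, K⁆ with hW
  have hW1 : W ≠ ⊥ := fun h =>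
    hmove (Subgroup.le_centralizer_iff.1 (Subgroup.commutator_eq_bot_iff_le_centralizer.1 h))
  have hWS : W ≤ S := CoprimeAction.commutator_le_of_normalizer hKS
  have hWC := hfreeS hS hSF hKS
  have hWH' : W ≤ ⁅H, H⁆ := Subgroup.commutator_mono (hSF.trans hF.1) (hKF.trans hF.1)
  have hqd : q ∣ Nat.card ↥⁅H, H⁆ :=
    (dvd_card_of_ne_bot (hS.to_le hWS) hW1).trans (Subgroup.card_dvd_of_le hWH')
  rcases mem_tau13_or_tau2 hG hH hqH hqs with ⟨h13, hrk⟩ | h2
  · have h3 : q ∈ Cfsg.tau3 H := h13.resolve_left fun h1 => h1.2.2.2.1 hqd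
    obtain ⟨y, hy, hyo⟩ := exists_elem_prime (p := q) (dvd_card_of_ne_bot (hS.to_le hWS) hW1)
    have hYc : Nat.card (Subgroup.zpowers y) = q := by rw [Nat.card_zpowers, hyo]
    exact not_le_centralizer_sigmaCore hG hH hqs hrk hF hYc
      (le_normalizer_tau3_line hG hH hF h3 hYc (Subgroup.zpowers_le.2 (hSF (hWS hy))))
      ((Subgroup.zpowers_le.2 hy).trans hWC)
  obtain ⟨A, hAF, hA, hAc⟩ := exists_elementary_in_complement hG hH hF hqs h2.2.2.2
  obtain ⟨⟨hFA, hline⟩, -, -⟩ := Cfsg.Agent.S1418.result hG H hH F hF q h2 A ⟨hAF, hA, hAc⟩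
  haveI := hA.1
  haveI : Group.IsSolvable A := isSolvable_of_ne_top hG (pgroup_ne_top hG (isPGroup_of_elementary hA))
  have hAH : A ≤ H := hAF.trans hF.1
  have hidl : ¬ Cfsg.IsIdealPrime q G := not_ideal hG hH hqs h2.2.2.2
  have hAfree := sigmaCore_inf_centralizer_eq_bot hG hH hqs hAH hA hAc
  have hKA : K ≤ Subgroup.normalizer (A : Set G) := hKF.trans hFA
  have hcopA : (Nat.card K).Coprime (Nat.card A) := by
    rw [hKc, hAc]
    exact Nat.Coprime.pow_right _ ((Nat.coprime_primes ht.out hq.out).2 (Ne.symm hqt))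
  -- `K` moves `A`
  have hAmove : ¬ K ≤ Subgroup.centralizer (A : Set G) := fun h => hmove <| by
    refine Cfsg.Agent.S1443.result q (ne_two hG (hqH.trans (Subgroup.card_subgroup_dvd_card H))) S ⊥ K hS bot_le
      ⟨inferInstance, fun a ha => by rw [Subgroup.mem_bot.1 ha, one_pow]⟩ hKS
      (by rw [hKc]; exact (Nat.coprime_primes ht.out hq.out).2 (Ne.symm hqt)) fun x hx hxo => ?_
    have hxA : x ∈ A := hline _ (Subgroup.zpowers_le.2 (hSF hx.1)) (by rw [Nat.card_zpowers, hxo])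
      (Subgroup.mem_zpowers x)
    exact h.trans (Subgroup.centralizer_le (Set.singleton_subset_iff.2 hxA))
  obtain ⟨z, hze, hzo⟩ := exists_gen_line hKc
  have hzK : z ∈ K := hze ▸ Subgroup.mem_zpowers z
  have hz1 : z ≠ 1 := fun h => ht.out.one_lt.ne (by rw [← hzo, h, orderOf_one])
  have hKs : K ≤ Cfsg.sigmaCore Ms := P.eq_star.le.trans inf_le_left
  have hts : t ∈ Cfsg.sigma Ms := prime_mem_sigma Ms (hKs hzK) ht.out (hzo ▸ dvd_rfl)
  obtain ⟨L, hL, hNL⟩ := exists_coatom_ge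
    (normalizer_ne_top hG (ne_bot_of_card_sq hAc) (pgroup_ne_top hG (isPGroup_of_elementary hA)))
  have hqL : q ∈ Cfsg.sigma L := sigma_of_normalizer_elementary hG hA hAc hL hNL
  have hAL : A ≤ L := Subgroup.le_normalizer.trans hNL
  -- a fixed line in `A`
  obtain ⟨y, hy, hy1⟩ : ∃ y ∈ A ⊓ Subgroup.centralizer (K : Set G), y ≠ 1 :=
    (Subgroup.bot_or_exists_ne_one _).resolve_left fun h => sigmaCore_ne_bot hG hH (le_bot_iff.1 (hAfree ▸
      le_inf le_rfl (Subgroup.le_centralizer_iff.1 ((le_of_eq (by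
        have hsup := CoprimeAction.commutator_sup_centralizer hKA hcopA (Or.inr inferInstance)
        rw [h, sup_bot_eq] at hsup
        exact hsup.symm)).trans (hfreeS (isPGroup_of_elementary hA) hAF hKA)))))
  have hyo : orderOf y = q := orderOf_eq_prime (hA.2 y hy.1) hy1
  have hyMs : y ∈ Ms := hCK hy.2
  by_cases hqMs : q ∈ Cfsg.sigma Ms
  · obtain ⟨g, hg⟩ : ∃ g : G, L = Ms.map (MulAut.conj g).toMonoidHom := by
      by_contra hnc
      push Not at hnc
      exact sigma_disjoint hG hMs hL hnc hqMs hqL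
    have htL : t ∈ Cfsg.sigma L := by rw [hg]; exact (mem_sigma_conj_iff g).2 hts
    have hKL : K ≤ ⁅L, L⁆ := (le_sigmaCore hG hL htL (isPGroup_line hKc) (hKA.trans hNL)).trans
      (CfsgLib.BGFifteen.sigmaCore_le_derived hG hL)
    exact hAmove (le_centralizer_of_not_beta (p := q) hG hL hqL (fun hb => hidl hb.2) (isPGroup_of_elementary hA)
      hAL hKL (by rw [hKc]; exact (Nat.coprime_primes ht.out hq.out).2 (Ne.symm hqt)) hKA)
  have hyz : y ∈ Ms ⊓ Subgroup.centralizer ({z} : Set G) := Subgroup.mem_inf.2 ⟨hyMs,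
    Subgroup.mem_centralizer_singleton_iff.2 (Subgroup.mem_centralizer_iff.1 hy.2 z hzK).symm⟩
  have hyσ : ∀ s : ℕ, s.Prime → s ∣ orderOf y → s ∉ Cfsg.sigma Ms := fun s hs hd => by
    rw [hyo] at hd
    rw [(Nat.prime_dvd_prime_iff_eq hs hq.out).1 hd]
    exact hqMs
  rcases Cfsg.Agent.S1432.result hG Ms hMs z (hKs hzK) hz1 y hyz hy1 hyσ with ⟨hκ, -⟩ | ⟨-, -, hC, -⟩
  · have hk := hκ q hq.out (hyo ▸ dvd_rfl)
    have hqS : q ∣ Nat.card ↥(Cfsg.sigmaCore M ⊓ Subgroup.centralizer (K : Set G)) := by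
      have h2' := hk.2.1
      rw [← Subgroup.relIndex_bot_left,
        ← Subgroup.relIndex_mul_relIndex ⊥ _ Ms bot_le P.hall_star.1] at h2'
      rw [← Subgroup.relIndex_bot_left]
      exact (hq.out.dvd_mul.1 h2').resolve_right (P.hall_star.2.2 q hq.out hk)
    exact hidl (hβ q hq.out (hqS.trans (Subgroup.card_dvd_of_le inf_le_left))).2
  · have hAMs : A ≤ Ms := le_trans (fun a ha => Subgroup.mem_centralizer_singleton_iff.2
      (setLike_mul_comm ha hy.1)) hC
    have hLne : L ≠ Ms := fun e => hqMs (e ▸ hqL)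
    have h0 := sigmaCore_inf_maximal_eq_bot hG hMs hqMs hAMs hA hAc hL hLne hAL
    exact hz1 (Subgroup.mem_bot.1 (h0 ▸ Subgroup.mem_inf.2 ⟨hKs hzK, hNL (hKA hzK)⟩))

/-- B&G 14.7 (f): the overgroup `H` of the normalizer of a Sylow subgroup of `U`. -/
theorem type_two_normalizer (hG : Cfsg.IsMinSimpleOddOrder G) (hM : IsCoatom M) (hMs : IsCoatom Ms)
    (hKU : Cfsg.IsSigmaDecomposition M K U) (P : KappaPair M Ms K) {r : ℕ} [hr' : Fact r.Prime]
    (hr : r ∣ Nat.card U) (R : Sylow r U) (hH : IsCoatom H)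
    (hNR : Subgroup.normalizer (((R : Subgroup U).map U.subtype : Subgroup G) : Set G) ≤ H) :
    Cfsg.kappa H = ∅ ∧ U ≤ Cfsg.sigmaCore H ∧ M ⊓ H = U ⊔ K ∧ ¬ H ⊓ Subgroup.normalizer (U : Set G) ≤ M ∧
      K ≤ Cfsg.fittingOf (H ⊓ Ms) ∧ Cfsg.IsComplIn (H ⊓ Ms) (Cfsg.sigmaCore H) H := by
  have hK1 := P.ne_bot
  have hU1 : U ≠ ⊥ := fun h => hr'.out.not_dvd_one (by rwa [h, Subgroup.card_bot] at hr)
  obtain ⟨hE, hU⟩ := decomp_complement_card hG hM hKU
  obtain ⟨hUc, -⟩ := decomp_kappa_structure hG hM hKU hK1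
  obtain ⟨-, hUfree⟩ := decomp_fixed hG hM hKU hU1
  haveI := hUc
  letI : CommGroup U := { (inferInstance : Group U) with mul_comm := fun a b => mul_comm' a b }
  have hUn : Group.IsNilpotent U := inferInstance
  obtain ⟨-, hrk, hrs⟩ := hU.2.1 r hr'.out hr
  have hrM : r ∣ Nat.card M := hr.trans (Subgroup.card_dvd_of_le hU.1)
  have hKp : (Nat.card K).Prime := prime_card_of_dvd_non_kappa hG hM hKU.hall hK1 hrM hrs hrk
  set t := Nat.card K with htdef
  haveI := Fact.mk hKp
  obtain ⟨z, hze, hzo⟩ := exists_gen_line (P := K) (p := t) rfl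
  have hzK : z ∈ K := hze ▸ Subgroup.mem_zpowers z
  have hz1 : z ≠ 1 := fun h => hKp.one_lt.ne (by rw [← hzo, h, orderOf_one])
  have hKC : Subgroup.centralizer (K : Set G) = Subgroup.centralizer ({z} : Set G) := by
    rw [← hze, centralizer_zpowers]
  have hKs : K ≤ Cfsg.sigmaCore Ms := P.eq_star.le.trans inf_le_left
  have hts : t ∈ Cfsg.sigma Ms := prime_mem_sigma Ms (hKs hzK) hKp (hzo ▸ dvd_rfl)
  have hS1 := kappaStar_ne_bot hG hM P.hall hK1
  have hCK : Subgroup.centralizer (K : Set G) ≤ Ms := by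
    rw [hKC]
    exact centralizer_le_kappaStar hG hMs P.hall_star hS1 (by rw [P.star_eq hG hM hMs]; exact hzK) hz1
  have hUz : U ⊓ Subgroup.centralizer (K : Set G) = ⊥ := by
    rw [hKC]
    exact decomp_free hG hM hKU hzK hz1
  -- the Sylow subgroup
  set Rm := (R : Subgroup U).map U.subtype with hRm
  have hRU : Rm ≤ U := Subgroup.map_subtype_le _
  have hRp : IsPGroup r Rm := R.isPGroup'.map _
  have hR1 : Rm ≠ ⊥ := fun e => by
    rw [Subgroup.map_eq_bot_iff_of_injective _ U.subtype_injective] at e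
    exact R.ne_bot_of_dvd_card hr e
  have hEN : K ⊔ U ≤ Subgroup.normalizer (Rm : Set G) :=
    le_normalizer_sylow_map hUn R (sup_le hKU.normal Subgroup.le_normalizer)
  have hEH : K ⊔ U ≤ H := hEN.trans hNR
  have hKH : K ≤ H := le_sup_left.trans hEH
  have hUH : U ≤ H := le_sup_right.trans hEH
  have hRc : Nat.card Rm = r ^ (Nat.card M).factorization r := by
    rw [hRm, Subgroup.card_map_of_injective U.subtype_injective, R.card_eq_multiplicity]
    have h1 : Nat.card M = Nat.card U * U.relIndex M := by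
      rw [← Subgroup.relIndex_bot_left, ← Subgroup.relIndex_bot_left]
      exact (Subgroup.relIndex_mul_relIndex _ _ _ bot_le hU.1).symm
    rw [h1, Nat.factorization_mul Nat.card_pos.ne' (fun h0 => by
        have hpos : 0 < Nat.card M := Nat.card_pos
        rw [h1, h0, mul_zero] at hpos
        exact lt_irrefl _ hpos), Finsupp.add_apply,
      Nat.factorization_eq_zero_of_not_dvd (hU.2.2 r hr'.out (hU.2.1 r hr'.out hr)), add_zero]
  have hncM : ∀ g : G, H ≠ M.map (MulAut.conj g).toMonoidHom := by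
    intro g hg
    have hRH : Rm ≤ H := hRU.trans hUH
    have hcard : Nat.card ↥(Rm.subgroupOf H) = r ^ (Nat.card H).factorization r := by
      rw [Nat.card_congr (Subgroup.subgroupOfEquivOfLe hRH).toEquiv, hRc, hg, card_map_conj]
    have hrH : r ∈ Cfsg.sigma H :=
      ⟨hr'.out, (dvd_card_of_ne_bot hRp hR1).trans (Subgroup.card_dvd_of_le hRH), Sylow.ofCard _ hcard, by
        rw [Sylow.coe_ofCard, Subgroup.map_subgroupOf_eq_of_le hRH]
        exact hNR⟩
    exact hrs ((mem_sigma_conj_iff g).1 (hg ▸ hrH))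
  have hHM : H ≠ M := fun e => hncM 1 (by rw [map_conj_one, e])
  have hHMs : H ≠ Ms := by
    intro e
    haveI : Group.IsSolvable Rm := isSolvable_of_ne_top hG (pgroup_ne_top hG hRp)
    have hsup := CoprimeAction.commutator_sup_centralizer (le_sup_left.trans hEN : K ≤ _)
      (Nat.coprime_of_dvd fun s hs h1 h2 => (hU.2.1 s hs (h2.trans (Subgroup.card_dvd_of_le hRU))).2.1
        (P.hall.2.1 s hs h1)) (Or.inr (inferInstance : Group.IsSolvable Rm))
    have h0 : Rm ⊓ Subgroup.centralizer (K : Set G) = ⊥ := eq_bot_iff.2 ((inf_le_inf_right _ hRU).trans hUz.le)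
    rw [h0, sup_bot_eq] at hsup
    have hRs : Rm ≤ Cfsg.sigmaCore Ms := by
      rw [← hsup]
      refine (Subgroup.commutator_mono (hRU.trans (hUH.trans e.le)) hKs).trans ?_
      rw [Subgroup.commutator_comm]
      exact CoprimeAction.commutator_le_of_normalizer (le_normalizer_sigmaCore Ms)
    have hRK : Rm ≤ K := (le_inf hRs ((le_inf hRs (hRU.trans hU.1)).trans
      ((sigma_inf_commute hG hM hMs (P.not_conj hG hM hMs)).trans (Subgroup.centralizer_le
        (le_inf inf_le_left P.hall_star.1 : Cfsg.sigmaCore M ⊓ Subgroup.centralizer (K : Set G) ≤ _))))).trans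
      (P.star_eq hG hM hMs).le
    exact hR1 (eq_bot_iff.2 (h0 ▸ le_inf le_rfl (hRK.trans fun a ha => Subgroup.mem_centralizer_iff.2 fun b hb => by
      rw [← hze] at ha hb
      obtain ⟨i, rfl⟩ := Subgroup.mem_zpowers_iff.1 ha
      obtain ⟨j, rfl⟩ := Subgroup.mem_zpowers_iff.1 hb
      rw [← zpow_add, ← zpow_add, add_comm])))
  have htH : t ∉ Cfsg.sigma H := fun h => hHMs (eq_of_shared_elem hG hMs hH (by rw [hzo]; exact hKp) (hKs hzK)
    (le_sigmaCore hG hH h (isPGroup_line rfl) hKH hzK) (hKC ▸ hCK))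
  have hncMs : ∀ g : G, H ≠ Ms.map (MulAut.conj g).toMonoidHom :=
    fun g hg => htH (hg ▸ (mem_sigma_conj_iff g).2 hts)
  -- `z` is free on `H_σ`
  have hfree : Cfsg.sigmaCore H ⊓ Subgroup.centralizer (K : Set G) = ⊥ := by
    by_contra hne
    obtain ⟨w, hw, hw1⟩ := (Subgroup.bot_or_exists_ne_one _).resolve_left hne
    obtain ⟨s, hs, hsd⟩ := Nat.exists_prime_and_dvd fun e => hw1 (orderOf_eq_one_iff.1 e)
    haveI := Fact.mk hs
    obtain ⟨v, hv, hvo⟩ := exists_elem_prime (p := s) (H := Subgroup.zpowers w) (by rwa [Nat.card_zpowers])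
    have hv1 : v ≠ 1 := fun h => hs.one_lt.ne (by rw [← hvo, h, orderOf_one])
    have hvS : v ∈ Cfsg.sigmaCore H := Subgroup.zpowers_le.2 hw.1 hv
    have hvK : v ∈ Subgroup.centralizer ({z} : Set G) := hKC ▸ Subgroup.zpowers_le.2 hw.2 hv
    have hvz : z * v = v * z := (Subgroup.mem_centralizer_singleton_iff.1 hvK).symm
    have hzv : z ∈ H ⊓ Subgroup.centralizer ({v} : Set G) :=
      Subgroup.mem_inf.2 ⟨hKH hzK, Subgroup.mem_centralizer_singleton_iff.2 hvz⟩
    have hzσ : ∀ l : ℕ, l.Prime → l ∣ orderOf z → l ∉ Cfsg.sigma H := fun l hl hd => by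
      rw [hzo] at hd
      rw [(Nat.prime_dvd_prime_iff_eq hl hKp).1 hd]
      exact htH
    rcases Cfsg.Agent.S1432.result hG H hH v hvS hv1 z hzv hz1 hzσ with ⟨-, hCv⟩ | ⟨-, -, -, hun⟩
    swap
    · exact hHMs (hun Ms hMs (hKC ▸ hCK)).symm
    have hsH : s ∈ Cfsg.sigma H := prime_mem_sigma H hvS hs (hvo ▸ dvd_rfl)
    have hsMs : s ∉ Cfsg.sigma Ms := fun h => sigma_disjoint hG hMs hH hncMs h hsH
    have hvσ : ∀ l : ℕ, l.Prime → l ∣ orderOf v → l ∉ Cfsg.sigma Ms := fun l hl hd => by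
      rw [hvo] at hd
      rw [(Nat.prime_dvd_prime_iff_eq hl hs).1 hd]
      exact hsMs
    have hvM : v ∈ Ms ⊓ Subgroup.centralizer ({z} : Set G) := Subgroup.mem_inf.2 ⟨hCK (hKC ▸ hvK), hvK⟩
    rcases Cfsg.Agent.S1432.result hG Ms hMs z (hKs hzK) hz1 v hvM hv1 hvσ with ⟨hκ, -⟩ | ⟨-, -, -, hun⟩
    · have hk := hκ s hs (hvo ▸ dvd_rfl)
      have hsS : s ∣ Nat.card ↥(Cfsg.sigmaCore M ⊓ Subgroup.centralizer (K : Set G)) := by
        have h2' := hk.2.1
        rw [← Subgroup.relIndex_bot_left,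
          ← Subgroup.relIndex_mul_relIndex ⊥ _ Ms bot_le P.hall_star.1] at h2'
        rw [← Subgroup.relIndex_bot_left]
        exact (hs.dvd_mul.1 h2').resolve_right (P.hall_star.2.2 s hs hk)
      exact sigma_disjoint hG hM hH hncM (mem_sigma_of_dvd M hs (hsS.trans (Subgroup.card_dvd_of_le inf_le_left))) hsH
    · exact hHMs (hun H hH hCv)
  have hHn := le_normalizer_sigmaCore H
  have hnil : Group.IsNilpotent (Cfsg.sigmaCore H) := isNilpotent_of_free_element (p := t) (hHn (hKH hzK))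
    (hzo ▸ pow_orderOf_eq_one z) (by rw [← hKC]; exact hfree)
  have hβ : ∀ s : ℕ, s.Prime → s ∣ Nat.card ↥(Cfsg.sigmaCore M) → s ∈ Cfsg.beta M := fun s hs hd => by
    haveI := Fact.mk hs
    exact decomp_sigma_beta hG hM hKU hK1 hU1 hd
  have htU : ¬ t ∣ Nat.card U := fun hd => (hU.2.1 t hKp hd).2.1 (P.hall.2.1 t hKp dvd_rfl)
  -- `U ≤ H_σ`
  have hUσ : U ≤ Cfsg.sigmaCore H := by
    refine le_sigmaCore_of_sigma hG hH hUH fun q hq hd => ?_
    haveI := Fact.mk hq
    by_contra hqs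
    obtain ⟨W₀⟩ : Nonempty (Sylow q ↥U) := inferInstance
    set W := (W₀ : Subgroup ↥U).map U.subtype with hW
    have hWp : IsPGroup q W := W₀.isPGroup'.map _
    have hWU : W ≤ U := Subgroup.map_subtype_le _
    have hKW : K ≤ Subgroup.normalizer (W : Set G) := le_normalizer_sylow_map hUn W₀ hKU.normal
    have hW1 : W ≠ ⊥ := fun e => by
      rw [Subgroup.map_eq_bot_iff_of_injective _ U.subtype_injective] at e
      exact W₀.ne_bot_of_dvd_card hd e
    have hqt : q ≠ t := fun e => htU (e ▸ hd)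
    obtain ⟨F, hF', hF⟩ := exists_complement_ge hG hH (sup_le hKH (hWU.trans hUH)) fun s hs hsd => by
      rcases hs.dvd_mul.1 (hsd.trans (Dvd.intro _ (ZJ.card_sup_mul_card_inf_of_le_normalizer hKW))) with h | h
      · exact (Nat.prime_dvd_prime_iff_eq hs hKp).1 h ▸ htH
      · exact primes_of_pgroup hq hWp s hs h ▸ hqs
    exact false_of_moved hG hM hMs hH P rfl htH hfree hCK hβ hF (le_sup_left.trans hF') (le_sup_right.trans hF')
      hWp hqt hKW fun hc => hW1 (le_bot_iff.1 (hUz ▸ le_inf hWU (Subgroup.le_centralizer_iff.1 hc)))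
  have hσM : Cfsg.sigmaCore M ⊓ H = ⊥ := eq_bot_iff.2 (hUfree ▸ le_inf inf_le_left (Subgroup.le_centralizer_iff.1
    ((le_inf hUσ hU.1).trans (sigma_inf_commute hG hM hH hncM))))
  have hMH : M ⊓ H = U ⊔ K := by
    refine le_antisymm ?_ (le_inf (sup_le hU.1 P.hall.1) (sup_le hUH hKH))
    rintro m ⟨hmM, hmH⟩
    obtain ⟨e, he, k, hk, rfl⟩ := hE.2.2.2 m hmM
    have hk1 : k = 1 := Subgroup.mem_bot.1 (hσM ▸ Subgroup.mem_inf.2
      ⟨hk, (Subgroup.mul_mem_cancel_left H (hEH he)).1 hmH⟩)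
    rw [hk1, mul_one, sup_comm]
    exact he
  have hKσ : K ⊓ Cfsg.sigmaCore H = ⊥ := Subgroup.inf_eq_bot_of_coprime
    ((Nat.Prime.coprime_iff_not_dvd hKp).2 fun hd => htH (mem_sigma_of_dvd H hKp hd))
  have hσU : Cfsg.sigmaCore H ⊓ M ≤ U := by
    rintro x ⟨hxS, hxM⟩
    have hx : x ∈ K ⊔ U := by
      rw [sup_comm, ← hMH]
      exact ⟨hxM, (Subgroup.map_subtype_le _ : Cfsg.sigmaCore H ≤ H) hxS⟩
    obtain ⟨k, hk, u, hu, rfl⟩ := CoprimeAction.exists_mul_of_mem_sup hKU.normal hx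
    have hk1 : k = 1 := Subgroup.mem_bot.1 (hKσ ▸ Subgroup.mem_inf.2
      ⟨hk, (Subgroup.mul_mem_cancel_right _ (hUσ hu)).1 hxS⟩)
    rwa [hk1, one_mul]
  have hNU : ¬ H ⊓ Subgroup.normalizer (U : Set G) ≤ M := by
    intro hle
    by_cases heq : Cfsg.sigmaCore H ≤ U
    · have hHU : H ≤ Subgroup.normalizer (U : Set G) := le_antisymm hUσ heq ▸ hHn
      exact hM.1 (hH.2 M (lt_of_le_of_ne ((le_inf le_rfl hHU).trans hle) hHM))
    have hlt : U.subgroupOf (Cfsg.sigmaCore H) < ⊤ := lt_top_iff_ne_top.2 fun h =>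
      heq (Subgroup.subgroupOf_eq_top.1 h)
    haveI := hnil
    obtain ⟨x, hx, hxU⟩ := SetLike.exists_of_lt (Group.normalizerCondition_of_isNilpotent _ hlt)
    refine hxU (Subgroup.mem_subgroupOf.2 (hσU ⟨x.2, hle ⟨(Subgroup.map_subtype_le _ : _ ≤ H) x.2, ?_⟩⟩))
    refine Subgroup.mem_normalizer_iff.2 fun a => ⟨fun ha => ?_, fun ha => ?_⟩
    · exact (Subgroup.mem_normalizer_iff.1 hx ⟨a, hUσ ha⟩).1 ha
    · have haS : a ∈ Cfsg.sigmaCore H := by
        have h := mul_mem (mul_mem (inv_mem x.2) (hUσ ha)) x.2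
        rwa [show (x : G)⁻¹ * ((x : G) * a * (x : G)⁻¹) * (x : G) = a by group] at h
      exact (Subgroup.mem_normalizer_iff.1 hx ⟨a, haS⟩).2 ha
  -- the complement over `K`
  obtain ⟨F, hKF, hF⟩ := exists_complement_ge hG hH hKH fun s hs hd =>
    (Nat.prime_dvd_prime_iff_eq hs hKp).1 hd ▸ htH
  haveI hFs : Group.IsSolvable F := isSolvable_of_ne_top hG fun e => hH.1 (top_le_iff.1 (e ▸ hF.1))
  have htHd : t ∣ Nat.card H := Subgroup.card_dvd_of_le hKH
  have hFM : F ≤ Ms ∧ ∃ C : Subgroup G, K ≤ C ∧ C ≤ F ∧ F ≤ Subgroup.normalizer (C : Set G) ∧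
      IsMulCommutative C := by
    haveI hKcy : IsCyclic K := isCyclic_of_prime_card (p := t) rfl
    have hKcomm : IsMulCommutative K := IsCyclic.isMulCommutative
    rcases mem_tau13_or_tau2 hG hH htHd htH with ⟨h13, -⟩ | h2
    · rcases h13 with h1 | h3
      · -- `z` is central
        set D := ⁅F, F⁆ with hD
        have hDF : D ≤ F := Subgroup.commutator_le_self F
        haveI hDc : IsMulCommutative D := (Cfsg.Agent.S1420.result hG H hH F hF).2.1
        letI : CommGroup D := { (inferInstance : Group D) with mul_comm := fun a b => mul_comm' a b }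
        have hKD : K ≤ Subgroup.normalizer (D : Set G) := hKF.trans fun f hf => by
          refine mem_normalizer_of_map_le ?_
          rw [Subgroup.map_commutator]
          exact Subgroup.commutator_mono (map_conj_le_of_mem hf) (map_conj_le_of_mem hf)
        have htD : ¬ t ∣ Nat.card D := fun hd =>
          h1.2.2.2.1 (hd.trans (Subgroup.card_dvd_of_le (Subgroup.commutator_mono hF.1 hF.1)))
        have hDK : D ≤ Subgroup.centralizer (K : Set G) := le_of_prime_subgroups fun q hq T hT hTD => by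
          haveI := Fact.mk hq
          by_cases hT1 : T = ⊥
          · exact hT1 ▸ bot_le
          obtain ⟨T₀, hT₀⟩ := hT.comap_subtype (K := D) |>.exists_le_sylow
          set S := (T₀ : Subgroup ↥D).map D.subtype with hS
          have hTS : T ≤ S := by
            rw [← Subgroup.map_subgroupOf_eq_of_le hTD]
            exact Subgroup.map_mono hT₀
          refine hTS.trans (Subgroup.le_centralizer_iff.1 (by_contra fun hmove => ?_))
          exact false_of_moved hG hM hMs hH P rfl htH hfree hCK hβ hF hKF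
            ((Subgroup.map_subtype_le _).trans hDF) (T₀.isPGroup'.map _)
            (fun e => htD (by rw [show t = q from e.symm]; exact (dvd_card_of_ne_bot hT hT1).trans (Subgroup.card_dvd_of_le hTD)))
            (le_normalizer_sylow_map inferInstance T₀ hKD) hmove
        have hFz : F ≤ Subgroup.centralizer (K : Set G) := by
          rw [hKC]
          intro e he
          set d := z * e * z⁻¹ * e⁻¹ with hd
          have hdD : d ∈ D := Subgroup.commutator_mem_commutator (hKF hzK) he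
          have hdz : z * d = d * z := Subgroup.mem_centralizer_iff.1 (hDK hdD) z hzK
          have hde : z * e * z⁻¹ = d * e := by rw [hd]; group
          have hpow : ∀ n : ℕ, z ^ n * e * (z ^ n)⁻¹ = d ^ n * e := by
            intro n
            induction n with
            | zero => simp
            | succ n ih =>
              rw [pow_succ', show z * z ^ n * e * (z * z ^ n)⁻¹ = z * (z ^ n * e * (z ^ n)⁻¹) * z⁻¹ by group, ih,
                show z * (d ^ n * e) * z⁻¹ = z * d ^ n * z⁻¹ * (z * e * z⁻¹) by group, hde,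
                ((show Commute z d from hdz).pow_right n).eq, pow_succ]
              group
          have hdt : d ^ t = 1 := by
            have h := hpow t
            have hzt : z ^ t = 1 := hzo ▸ pow_orderOf_eq_one z
            rw [hzt] at h
            simpa using h.symm
          have hd1 : d = 1 := by
            rw [← orderOf_eq_one_iff]
            rcases hKp.eq_one_or_self_of_dvd _ (orderOf_dvd_of_pow_eq_one hdt) with h | h
            · exact h
            · exact absurd (h ▸ Subgroup.orderOf_dvd_natCard D hdD) htD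
          rw [hd, mul_inv_eq_one, mul_inv_eq_iff_eq_mul] at hd1
          exact Subgroup.mem_centralizer_singleton_iff.2 hd1.symm
        exact ⟨hFz.trans hCK, K, le_rfl, hKF, hFz.trans (Subgroup.centralizer_le_normalizer _), hKcomm⟩
      · have hFK := le_normalizer_tau3_line hG hH hF h3 (p := t) rfl hKF
        refine ⟨fun f hf => ?_, K, le_rfl, hKF, hFK, hKcomm⟩
        refine mem_of_conj_mem_of_elem hG hMs hts hzo ((Subgroup.map_subtype_le _ : _ ≤ Ms) (hKs hzK))
          (hKC ▸ hCK) ((Subgroup.map_subtype_le _ : _ ≤ Ms) (hKs ?_))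
        exact (Subgroup.mem_normalizer_iff.1 (hFK hf) z).1 hzK
    · obtain ⟨A, hAF, hA, hAc⟩ := exists_elementary_in_complement hG hH hF htH h2.2.2.2
      obtain ⟨⟨hFA, hline⟩, -, -⟩ := Cfsg.Agent.S1418.result hG H hH F hF t h2 A ⟨hAF, hA, hAc⟩
      haveI := hA.1
      have hKA : K ≤ A := hline K hKF rfl
      have hAMs : A ≤ Ms := le_trans (fun a ha => Subgroup.mem_centralizer_iff.2 fun b hb =>
        setLike_mul_comm (hKA hb) ha) hCK
      have hAnc : ¬ IsCyclic A := fun hc => by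
        obtain ⟨a, ha⟩ := hc.exists_ofOrder_eq_natCard
        rw [hAc] at ha
        have h1 : a ^ t = 1 := Subtype.ext (hA.2 a a.2)
        have := Nat.le_of_dvd hKp.pos (ha ▸ orderOf_dvd_of_pow_eq_one h1)
        nlinarith [hKp.two_le]
      exact ⟨hFA.trans (normalizer_le_of_noncyclic hG hMs hts (isPGroup_of_elementary hA) hAMs hAnc),
        A, hKA, hAF, hFA, hA.1⟩
  obtain ⟨hFMs, C, hKC', hCF, hFC, hCc⟩ := hFM
  have hσMs : Cfsg.sigmaCore H ⊓ Ms = ⊥ := by
    refine eq_bot_iff.2 (hfree ▸ le_inf inf_le_left ?_)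
    exact (sigma_inf_commute hG hMs hH hncMs).trans (Subgroup.centralizer_le (le_inf hKs hKH : K ≤ _))
  have hFeq : H ⊓ Ms = F := by
    refine le_antisymm ?_ (le_inf hF.1 hFMs)
    rintro h ⟨hhH, hhMs⟩
    obtain ⟨f, hf, k, hk, rfl⟩ := hF.2.2.2 h hhH
    have hk1 : k = 1 := Subgroup.mem_bot.1 (hσMs ▸ Subgroup.mem_inf.2
      ⟨hk, (Subgroup.mul_mem_cancel_left Ms (hFMs hf)).1 hhMs⟩)
    rwa [hk1, mul_one]
  refine ⟨Set.eq_empty_iff_forall_notMem.2 fun v hv => ?_, hUσ, hMH, hNU, ?_, hFeq.symm ▸ hF⟩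
  · obtain ⟨g, hg | hg⟩ := kappa_two_classes hG hM hMs P hH ⟨v, hv⟩
    · exact hncM g hg
    · exact hncMs g hg
  · rw [hFeq]
    haveI := hCc
    letI : CommGroup C := { (inferInstance : Group C) with mul_comm := fun a b => mul_comm' a b }
    exact hKC'.trans (le_fittingOf hCF hFC inferInstance)

end CfsgLib.SigmaGroups
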