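import Cfsg.Agent.BGFifteen.TypeTwo
import Cfsg.Agent.S1358
import Cfsg.Agent.S1362

/-!
B&G 16: properties shared by types I and II.
-/

set_option autoImplicit false
set_option linter.unusedSectionVars false
set_option linter.style.haveILetI false

namespace CfsgLib.SigmaGroups

open CfsgLib.BenderUnique CfsgLib.Uniq CfsgLib.BGFifteen
open scoped commutatorElement

universe u

variable {G : Type u} [Group G] [Finite G] {M K U V F X : Subgroup G} {π : Set ℕ}

theorem map_conj_eq_of_mem {a : G} (ha : a ∈ M) : M.map (MulAut.conj a).toMonoidHom = M :=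
  map_conj_eq_of_normalizer (Subgroup.le_normalizer ha)

/-- A Hall subgroup of a solvable group contains a conjugate of every subgroup of its primes. -/
theorem exists_conj_le_hall [Group.IsSolvable M] (hF : Cfsg.IsPiHallOf π F M) (hX : X ≤ M)
    (hXπ : ∀ t : ℕ, t.Prime → t ∣ Nat.card X → t ∈ π) :
    ∃ a ∈ M, X.map (MulAut.conj a).toMonoidHom ≤ F := by
  obtain ⟨F', hFF, hF', hconj⟩ := exists_hall_over hF.1 hF.2.1
  have hle : F' ≤ F := le_of_prime_relIndex fun t ht hd hdi => hF.2.2 t ht (hF'.2.1 t ht hd)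
    (hdi.trans (Dvd.intro _ (Subgroup.relIndex_mul_relIndex F F' M hFF hF'.1)))
  obtain ⟨a, ha, h⟩ := hconj X hX hXπ
  exact ⟨a, ha, h.trans hle⟩

theorem decomp_conj {a : G} (hG : Cfsg.IsMinSimpleOddOrder G) (hM : IsCoatom M)
    (h : Cfsg.IsSigmaDecomposition M K U) (ha : a ∈ M) :
    Cfsg.IsSigmaDecomposition M (K.map (MulAut.conj a).toMonoidHom) (U.map (MulAut.conj a).toMonoidHom) := by
  have hMe := map_conj_eq_of_mem (M := M) ha
  have hSe : (Cfsg.sigmaCore M).map (MulAut.conj a).toMonoidHom = Cfsg.sigmaCore M :=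
    map_conj_eq_of_normalizer (le_normalizer_sigmaCore M ha)
  have hinj : Function.Injective (MulAut.conj a).toMonoidHom := (MulAut.conj a).injective
  obtain ⟨h1, h2, h3, h4⟩ := h.compl
  refine ⟨?_, ⟨?_, ?_, ?_⟩, ⟨?_, ?_, ?_, fun m hm => ?_⟩, ?_⟩
  · haveI := h.cyclic
    exact isCyclic_of_surjective _ (K.equivMapOfInjective _ hinj).surjective
  · exact (Subgroup.map_mono h.hall.1).trans hMe.le
  · intro t ht hd
    rw [card_map_conj] at hd
    exact h.hall.2.1 t ht hd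
  · intro t ht htk hd
    rw [← hMe, Subgroup.relIndex_map_map_of_injective _ _ hinj] at hd
    exact h.hall.2.2 t ht htk hd
  · exact (Subgroup.map_mono h1).trans hMe.le
  · rw [← hSe, ← Subgroup.map_sup]
    exact (Subgroup.map_mono h2).trans hMe.le
  · rw [← hSe, ← Subgroup.map_sup, ← Subgroup.map_inf _ _ _ hinj, h3, Subgroup.map_bot]
  · obtain ⟨m', hm', he⟩ := hMe.ge hm
    obtain ⟨u, hu, w, hw, rfl⟩ := h4 m' hm'
    refine ⟨_, Subgroup.mem_map_of_mem _ hu, (MulAut.conj a).toMonoidHom w, ?_, by rw [← map_mul]; exact he.symm⟩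
    rw [← hSe, ← Subgroup.map_sup]
    exact Subgroup.mem_map_of_mem _ hw
  · exact (Subgroup.map_mono h.normal).trans (Subgroup.le_normalizer_map _)

/-- Any complement of `M_σ` in `U M_σ` is the second factor of a factorisation. -/
theorem exists_decomp_of_complement (hG : Cfsg.IsMinSimpleOddOrder G) (hM : IsCoatom M)
    (h : Cfsg.IsSigmaDecomposition M K U)
    (hV : Cfsg.IsComplIn (Cfsg.sigmaCore M) V (U ⊔ Cfsg.sigmaCore M)) :
    ∃ K' : Subgroup G, Cfsg.IsSigmaDecomposition M K' V ∧ Nat.card K' = Nat.card K := by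
  haveI := isSolvable_of_ne_top hG hM.1
  obtain ⟨hE, hU⟩ := decomp_complement_card hG hM h
  have hSM : Cfsg.sigmaCore M ≤ M := Subgroup.map_subtype_le _
  have hVM : V ≤ M := hV.2.1.trans (sup_le hU.1 hSM)
  have hcard : Nat.card V = Nat.card U := by
    have h1 := CfsgLib.TypeP.card_eq_of_isComplIn hV
    have h2 := ZJ.card_sup_mul_card_inf_of_le_normalizer (hU.1.trans (le_normalizer_sigmaCore M))
    have h3 : U ⊓ Cfsg.sigmaCore M = ⊥ := le_bot_iff.1 (hE.2.2.1 ▸ inf_le_inf_right _ le_sup_right)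
    rw [h3, Subgroup.card_bot, mul_one, h1, mul_comm] at h2
    exact Nat.eq_of_mul_eq_mul_right Nat.card_pos h2
  obtain ⟨a, ha, hle⟩ := exists_conj_le_hall hU hVM fun t ht hd => hU.2.1 t ht (hcard ▸ hd)
  have he : V.map (MulAut.conj a).toMonoidHom = U :=
    Subgroup.eq_of_le_of_card_ge hle (by rw [card_map_conj, hcard])
  refine ⟨K.map (MulAut.conj a⁻¹).toMonoidHom, ?_, card_map_conj _ _⟩
  have h' := decomp_conj hG hM h (M.inv_mem ha)
  rwa [← he, map_conj_map, inv_mul_cancel, map_conj_one] at h'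

/-- Type I forces `K = 1` and `U ≠ 1`. -/
theorem type_one_data (hG : Cfsg.IsMinSimpleOddOrder G) (hM : IsCoatom M)
    (h : Cfsg.IsSigmaDecomposition M K U) (hI : Cfsg.IsOfTypeI M) : K = ⊥ ∧ U ≠ ⊥ := by
  classical
  haveI := isSolvable_of_ne_top hG hM.1
  have hK : K = ⊥ := by
    by_contra hK1
    obtain ⟨-, hS1, hSF, -⟩ := kappa_star_in_fittingHall hG hM h hK1
    obtain ⟨⟨-, -, -, -, E, -, hcompl, -, U₀, hU₀E, hexp, hfree⟩, -⟩ := hI
    obtain ⟨t, ht, hd⟩ := Nat.exists_prime_and_dvd fun e => hK1 (Subgroup.card_eq_one.1 e)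
    haveI := Fact.mk ht
    have htE : t ∣ Nat.card E := by
      have hM' : t ∣ Nat.card M := (h.hall.2.1 t ht hd).2.1
      rw [← hcompl.card_mul] at hM'
      refine (ht.dvd_mul.1 hM').resolve_left fun h' => (h.hall.2.1 t ht hd).2.2.1 (mem_sigma_of_dvd M ht ?_)
      refine dvd_trans ?_ (Subgroup.card_dvd_of_le (fittingHallOf_le_sigmaCore hG hM))
      rwa [Cfsg.fittingHallOf, Subgroup.card_map_of_injective M.subtype_injective]
    obtain ⟨e, he⟩ := exists_prime_orderOf_dvd_card' (G := ↥E) t htE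
    have h1 : t ∣ Monoid.exponent U₀ := by rw [hexp, ← he]; exact Monoid.order_dvd_exponent e
    obtain ⟨v, hv⟩ := exists_prime_orderOf_dvd_card' (G := ↥U₀) t (h1.trans Group.exponent_dvd_nat_card)
    rw [← Subgroup.orderOf_coe] at hv
    set u : G := ((v : ↥M) : G) with hu
    have huo : orderOf u = t := by rw [hu, Subgroup.orderOf_coe, hv]
    obtain ⟨a, ha, hle⟩ := exists_conj_le_hall h.hall (Subgroup.zpowers_le.2 (v : ↥M).2) fun s hs hsd => by
      rw [Nat.card_zpowers, huo] at hsd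
      rw [(Nat.prime_dvd_prime_iff_eq hs ht).1 hsd]
      exact h.hall.2.1 t ht hd
    have huK : a * u * a⁻¹ ∈ K := hle ⟨u, Subgroup.mem_zpowers u, rfl⟩
    obtain ⟨y, hy, hy1⟩ := (Subgroup.bot_or_exists_ne_one _).resolve_left hS1
    have hz : a⁻¹ * y * a ∈ Cfsg.fittingHallOf M := by
      simpa using (Subgroup.mem_normalizer_iff.1 (le_normalizer_fittingHallOf M (M.inv_mem ha)) y).1 (hSF hy)
    obtain ⟨z, hz, hze⟩ := hz
    have hv1 : (v : ↥M) ≠ 1 := fun e => by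
      rw [e, orderOf_one] at hv
      exact ht.one_lt.ne hv
    have hcomm : a * u * a⁻¹ * y = y * (a * u * a⁻¹) := Subgroup.mem_centralizer_iff.1 hy.2 _ huK
    have h2 := hfree (v : ↥M) v.2 hv1 z hz (Subtype.ext (by
      show u * M.subtype z = M.subtype z * u
      rw [hze]
      calc u * (a⁻¹ * y * a) = a⁻¹ * (a * u * a⁻¹ * y) * a := by group
        _ = a⁻¹ * (y * (a * u * a⁻¹)) * a := by rw [hcomm]
        _ = a⁻¹ * y * a * u := by group))
    rw [h2, map_one] at hze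
    exact hy1 (by
      calc y = a * (a⁻¹ * y * a) * a⁻¹ := by group
        _ = 1 := by rw [← hze]; group)
  refine ⟨hK, fun hU => ?_⟩
  have hle : M ≤ ⁅M, M⁆ := fun m hm => by
    obtain ⟨u, hu, w, hw, rfl⟩ := h.compl.2.2.2 m hm
    rw [hU, Subgroup.mem_bot] at hu
    rw [hK, bot_sup_eq] at hw
    rw [hu, one_mul]
    exact BGFifteen.sigmaCore_le_derived hG hM hw
  exact (derived_lt hG hM).ne (le_antisymm (Subgroup.commutator_le_self M) hle)

theorem fittingHallOf_of_ne (hG : Cfsg.IsMinSimpleOddOrder G) (hM : IsCoatom M)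
    (h : Cfsg.IsSigmaDecomposition M K U) (hU : U ≠ ⊥) : Cfsg.fittingHallOf M = Cfsg.sigmaCore M :=
  (fittingHallOf_eq_iff hG hM).2 (decomp_fixed hG hM h hU).1

theorem typeCore_of_ne (hG : Cfsg.IsMinSimpleOddOrder G) (hM : IsCoatom M)
    (h : Cfsg.IsSigmaDecomposition M K U) (hU : U ≠ ⊥) : Cfsg.typeCore M = Cfsg.sigmaCore M := by
  classical
  rw [Cfsg.typeCore, if_neg fun h' => hU ((type_three_four_iff hG hM h).1 h').2.1, fittingHallOf_of_ne hG hM h hU]

/-- B&G Theorem 16.1 for types I and II. -/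
theorem type_one_two_properties (hG : Cfsg.IsMinSimpleOddOrder G) (hM : IsCoatom M)
    (hV : (Cfsg.IsOfTypeI M ∧ Cfsg.IsComplIn (Cfsg.fittingHallOf M) V M) ∨
      (Cfsg.IsOfTypeII M ∧ Cfsg.IsComplIn (Cfsg.fittingHallOf M) V ⁅M, M⁆)) :
    ∃ K : Subgroup G, Cfsg.IsSigmaDecomposition M K V ∧ Cfsg.fittingHallOf M = Cfsg.sigmaCore M ∧
      Cfsg.typeA M \ Cfsg.typeA1 M = Cfsg.sigmaA M V \ (Cfsg.sigmaCore M : Set G) := by
  classical
  obtain ⟨K₀, U₀, hKU⟩ := exists_decomp_any hG hM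
  have hSM : Cfsg.sigmaCore M ≤ M := Subgroup.map_subtype_le _
  rcases hV with ⟨hI, hc⟩ | ⟨hII, hc⟩
  · obtain ⟨hK, hU⟩ := type_one_data hG hM hKU hI
    have hH := fittingHallOf_of_ne hG hM hKU hU
    rw [hH] at hc
    have hsup : U₀ ⊔ Cfsg.sigmaCore M = M := le_antisymm (sup_le hKU.compl.1 hSM) fun m hm => by
      obtain ⟨u, hu, w, hw, rfl⟩ := hKU.compl.2.2.2 m hm
      rw [hK, bot_sup_eq] at hw
      exact Subgroup.mul_mem_sup hu hw
    obtain ⟨K', hK', -⟩ := exists_decomp_of_complement hG hM hKU (by rw [hsup]; exact hc)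
    have hsup' : V ⊔ Cfsg.sigmaCore M = M := le_antisymm (sup_le hc.2.1 hSM) fun m hm => by
      obtain ⟨s, hs, v, hv, rfl⟩ := hc.2.2.2 m hm
      exact mul_mem (Subgroup.mem_sup_right hs) (Subgroup.mem_sup_left hv)
    refine ⟨K', hK', hH, ?_⟩
    rw [Cfsg.typeA1, typeCore_of_ne hG hM hKU hU, Cfsg.typeA, if_pos hI, hH, Cfsg.sigmaA, hsup']
    ext a
    constructor
    · rintro ⟨⟨haM, ha1, x, hx, hx1, hax⟩, hn⟩
      exact ⟨⟨⟨haM, x, hx, hx1, hax⟩, haM⟩, fun hs => hn ⟨hs, ha1⟩⟩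
    · rintro ⟨⟨⟨haM, x, hx, hx1, hax⟩, -⟩, hn⟩
      exact ⟨⟨haM, fun e => hn (e ▸ one_mem _), x, hx, hx1, hax⟩, fun hs => hn hs.1⟩
  · obtain ⟨hK, hU⟩ := (type_two_iff hG hM hKU).1 hII
    have hH := fittingHallOf_of_ne hG hM hKU hU
    have hnI : ¬ Cfsg.IsOfTypeI M := fun hI => hK (type_one_data hG hM hKU hI).1
    have hder := decomp_derived hG hM hKU hK
    rw [hH] at hc
    obtain ⟨K', hK', -⟩ := exists_decomp_of_complement hG hM hKU (by rw [← hder]; exact hc)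
    have hsup' : V ⊔ Cfsg.sigmaCore M = ⁅M, M⁆ :=
      le_antisymm (sup_le hc.2.1 (BGFifteen.sigmaCore_le_derived hG hM)) fun m hm => by
        obtain ⟨s, hs, v, hv, rfl⟩ := hc.2.2.2 m hm
        exact mul_mem (Subgroup.mem_sup_right hs) (Subgroup.mem_sup_left hv)
    refine ⟨K', hK', hH, ?_⟩
    rw [Cfsg.typeA1, Cfsg.typeA, if_neg hnI, typeCore_of_ne hG hM hKU hU, Cfsg.sigmaA, hsup']
    ext a
    constructor
    · rintro ⟨⟨haM, ha1, x, hx, hx1, hax⟩, hn⟩
      exact ⟨⟨⟨Subgroup.commutator_le_self M haM, x, hx, hx1, hax⟩, haM⟩, fun hs => hn ⟨hs, ha1⟩⟩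
    · rintro ⟨⟨⟨-, x, hx, hx1, hax⟩, haD⟩, hn⟩
      exact ⟨⟨haD, fun e => hn (e ▸ one_mem _), x, hx, hx1, hax⟩, fun hs => hn hs.1⟩

end CfsgLib.SigmaGroups
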