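import Cfsg.Agent.Sigma.KappaDecomp
import Cfsg.Agent.S1417

/-!
B&G 15.1 (b): a free element of full exponent in an abelian `U`.
-/

set_option autoImplicit false
set_option linter.unusedSectionVars false
set_option linter.style.haveILetI false

namespace CfsgLib.SigmaGroups

open CfsgLib.BenderUnique CfsgLib.Uniq
open scoped commutatorElement

universe u

variable {G : Type u} [Group G] [Finite G] {p q r : ℕ} {M L K U X : Subgroup G}

theorem free_of_line {y a f : G} [hq : Fact q.Prime] (hao : orderOf a = q) (hay : a ∈ Subgroup.zpowers y)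
    (hfree : Cfsg.sigmaCore M ⊓ Subgroup.centralizer ({a} : Set G) = ⊥) (hf : f ∈ Subgroup.zpowers y)
    (hfo : orderOf f = q) : Cfsg.sigmaCore M ⊓ Subgroup.centralizer ({f} : Set G) = ⊥ := by
  have h : Subgroup.zpowers f = Subgroup.zpowers a :=
    Chev.Ree.GL0.eq_of_card_eq (A := Subgroup.zpowers y) (Subgroup.zpowers_le.2 hf) (Subgroup.zpowers_le.2 hay)
      (by rw [Nat.card_zpowers, Nat.card_zpowers, hfo, hao])
  rw [← centralizer_zpowers, h, centralizer_zpowers, hfree]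

/-- For one prime of `U`: an element of largest `q`-power order whose line is free. -/
theorem exists_free_max (hG : Cfsg.IsMinSimpleOddOrder G) (hM : IsCoatom M)
    (h : Cfsg.IsSigmaDecomposition M K U) (hUc : IsMulCommutative U) [hq : Fact q.Prime]
    (hd : q ∣ Nat.card U) :
    ∃ y ∈ U, (∃ k, orderOf y = q ^ k) ∧ (∀ x ∈ U, ∀ k, orderOf x = q ^ k → orderOf x ∣ orderOf y) ∧
      ∀ f ∈ Subgroup.zpowers y, orderOf f = q → Cfsg.sigmaCore M ⊓ Subgroup.centralizer ({f} : Set G) = ⊥ := by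
  obtain ⟨hE, hU⟩ := decomp_complement_card hG hM h
  obtain ⟨-, hqk, hqs⟩ := hU.2.1 q hq.out hd
  haveI := hUc
  obtain ⟨R₀⟩ : Nonempty (Sylow q ↥U) := inferInstance
  haveI hnor : (R₀ : Subgroup ↥U).Normal := ⟨fun a ha b => by
    rw [show b * a * b⁻¹ = a by rw [mul_comm' b a, mul_inv_cancel_right]]; exact ha⟩
  haveI := Sylow.unique_of_normal R₀ hnor
  set T := (R₀ : Subgroup ↥U).map U.subtype with hT
  have hTU : T ≤ U := Subgroup.map_subtype_le _
  have hTp : IsPGroup q T := R₀.isPGroup'.map _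
  haveI hTc : IsMulCommutative T := ⟨⟨fun a b => Subtype.ext (setLike_mul_comm (hTU a.2) (hTU b.2))⟩⟩
  have hTmax : ∀ X : Subgroup G, IsPGroup q X → X ≤ U → X ≤ T := fun X hX hXU => by
    obtain ⟨S', hS'⟩ := (hX.comap_subtype (K := U)).exists_le_sylow
    rw [Subsingleton.elim S' R₀] at hS'
    rw [← Subgroup.map_subgroupOf_eq_of_le hXU]
    exact Subgroup.map_mono hS'
  have hmemT : ∀ x ∈ U, ∀ k, orderOf x = q ^ k → x ∈ T := fun x hx k hk =>
    hTmax (Subgroup.zpowers x) (IsPGroup.of_card (n := k) (by rw [Nat.card_zpowers, hk]))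
      (Subgroup.zpowers_le.2 hx) (Subgroup.mem_zpowers x)
  have hord : ∀ x ∈ T, ∃ k, orderOf x = q ^ k := fun x hx => by
    obtain ⟨k, hk⟩ := IsPGroup.iff_orderOf.1 hTp ⟨x, hx⟩
    exact ⟨k, by rwa [Subgroup.orderOf_mk] at hk⟩
  obtain ⟨⟨y₀, hy₀⟩, hy₀max⟩ := Finite.exists_max fun x : ↥T => orderOf (x : G)
  obtain ⟨k, hk⟩ := hord y₀ hy₀
  have hdvd : ∀ x ∈ T, orderOf x ∣ q ^ k := fun x hx => by
    obtain ⟨a, ha⟩ := hord x hx
    rw [ha]
    refine pow_dvd_pow q ((Nat.pow_le_pow_iff_right hq.out.one_lt).1 ?_)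
    rw [← ha, ← hk]
    exact hy₀max ⟨x, hx⟩
  have hmax : ∀ y : G, orderOf y = q ^ k → ∀ x ∈ U, ∀ j, orderOf x = q ^ j → orderOf x ∣ orderOf y :=
    fun y hy x hx j hj => hy ▸ hdvd x (hmemT x hx j hj)
  have hqM : q ∣ Nat.card M := hd.trans (Subgroup.card_dvd_of_le hU.1)
  rcases mem_tau13_or_tau2 hG hM hqM hqs with ⟨-, hrk⟩ | h2
  · exact ⟨y₀, hTU hy₀, ⟨k, hk⟩, hmax y₀ hk, fun f hf hfo =>
      free_of_not_kappa hG hqs hqk hrk (hU.1 (hTU ((Subgroup.zpowers_le.2 hy₀) hf))) hfo⟩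
  obtain ⟨A, hAE, hA, hAc⟩ := exists_elementary_in_complement hG hM hE hqs h2.2.2.2
  obtain ⟨⟨hEA, -⟩, -, huniq⟩ := Cfsg.Agent.S1418.result hG M hM _ hE q h2 A ⟨hAE, hA, hAc⟩
  haveI := hA.1
  haveI hEs : Group.IsSolvable ↥(K ⊔ U) :=
    isSolvable_of_ne_top hG fun e => hM.1 (top_le_iff.1 (e ▸ hE.1))
  obtain ⟨F, hUF, hF, hconj⟩ := exists_hall_over (π := {q | q.Prime ∧ q ∉ Cfsg.kappa M ∧ q ∉ Cfsg.sigma M})
    (le_sup_right : U ≤ K ⊔ U) hU.2.1
  have hFU : F ≤ U := le_of_prime_relIndex fun s hs hsd hdi => hU.2.2 s hs (hF.2.1 s hs hsd)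
    (hdi.trans (Dvd.intro _ (Subgroup.relIndex_mul_relIndex U F M hUF (hF.1.trans hE.1))))
  obtain ⟨a, ha, hAF⟩ := hconj A hAE fun s hs hsd => by
    rw [hAc] at hsd
    rw [(Nat.prime_dvd_prime_iff_eq hs hq.out).1 (hs.dvd_of_dvd_pow hsd)]
    exact ⟨hq.out, hqk, hqs⟩
  rw [map_conj_eq_of_normalizer (hEA ha)] at hAF
  have hAT : A ≤ T := hTmax A (isPGroup_of_elementary hA) (hAF.trans hFU)
  -- `T` is a Sylow subgroup of `M`
  have hTM : T ≤ M := hTU.trans hU.1
  have hTc' : Nat.card ↥(T.subgroupOf M) = q ^ (Nat.card M).factorization q := by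
    rw [Nat.card_congr (Subgroup.subgroupOfEquivOfLe hTM).toEquiv, hT,
      Subgroup.card_map_of_injective U.subtype_injective, R₀.card_eq_multiplicity]
    have h1 : Nat.card M = Nat.card U * U.relIndex M := by
      rw [← Subgroup.relIndex_bot_left, ← Subgroup.relIndex_bot_left]
      exact (Subgroup.relIndex_mul_relIndex _ _ _ bot_le hU.1).symm
    rw [h1, Nat.factorization_mul Nat.card_pos.ne' (fun h0 => by
        have hpos : 0 < Nat.card M := Nat.card_pos
        rw [h1, h0, mul_zero] at hpos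
        exact lt_irrefl _ hpos), Finsupp.add_apply,
      Nat.factorization_eq_zero_of_not_dvd (hU.2.2 q hq.out (hU.2.1 q hq.out hd)), add_zero]
  have h17 := Cfsg.Agent.S1417.result hG M hM q h2 A ⟨hAE.trans hE.1, hA, hAc⟩
  obtain ⟨-, hP⟩ := h17.2.1 (Sylow.ofCard _ hTc')
  rw [Sylow.coe_ofCard, Subgroup.map_subgroupOf_eq_of_le hTM] at hP
  obtain ⟨hΩ, hNT⟩ := hP hAT
  obtain ⟨A₁, hA₁A, hA₁c, hA₁⟩ := h17.2.2.2.2.2
  obtain ⟨a₁, ha₁e, ha₁o⟩ := exists_gen_line hA₁c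
  have ha₁A : a₁ ∈ A := hA₁A (ha₁e ▸ Subgroup.mem_zpowers a₁)
  rw [← ha₁e, centralizer_zpowers] at hA₁
  have hk1 : 1 ≤ k := by
    by_contra h0
    have := hdvd a₁ (hAT ha₁A)
    rw [ha₁o, show k = 0 by omega, pow_zero] at this
    exact hq.out.not_dvd_one this
  set n := q ^ (k - 1) with hn
  have hnq : n * q = q ^ k := by rw [hn, ← pow_succ, Nat.sub_add_cancel hk1]
  set z₀ := y₀ ^ n with hz₀
  have hz₀o : orderOf z₀ = q := by
    rw [hz₀, orderOf_pow, hk, Nat.gcd_eq_right (Dvd.intro q hnq), ← hnq,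
      Nat.mul_div_cancel_left _ (pow_pos hq.out.pos _)]
  by_cases hcase : ∀ x ∈ T, x ^ n ∈ Subgroup.zpowers z₀
  · refine ⟨y₀, hTU hy₀, ⟨k, hk⟩, hmax y₀ hk, fun f hf hfo =>
      free_of_line hz₀o (pow_mem (Subgroup.mem_zpowers y₀) _) (by_contra fun hne => ?_) hf hfo⟩
    have hZA : Subgroup.zpowers z₀ ≤ A := Subgroup.zpowers_le.2
      ((hΩ z₀ (pow_mem hy₀ _)).1 (hz₀o ▸ pow_orderOf_eq_one z₀))
    obtain ⟨hC, hu⟩ := huniq _ hZA (by rw [Nat.card_zpowers, hz₀o]) (by rwa [centralizer_zpowers])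
    refine hNT fun g hg => ?_
    have hgy : g * y₀ * g⁻¹ ∈ T := (Subgroup.mem_normalizer_iff.1 hg y₀).1 hy₀
    have hgz : g * z₀ * g⁻¹ ∈ Subgroup.zpowers z₀ := by rw [hz₀, ← conj_pow]; exact hcase _ hgy
    have hgZ : g ∈ Subgroup.normalizer (Subgroup.zpowers z₀ : Set G) := mem_normalizer_of_map_le <| by
      rw [MonoidHom.map_zpowers]
      exact Subgroup.zpowers_le.2 hgz
    have hle : Subgroup.centralizer (Subgroup.zpowers z₀ : Set G) ≤ M.map (MulAut.conj g).toMonoidHom := by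
      intro c hc
      refine ⟨g⁻¹ * c * g, hC (Subgroup.mem_centralizer_iff.2 fun b hb => ?_),
        by show g * (g⁻¹ * c * g) * g⁻¹ = c; group⟩
      have hb' := Subgroup.mem_centralizer_iff.1 hc _ ((Subgroup.mem_normalizer_iff.1 hgZ b).1 hb)
      have h' := congrArg (fun w => g⁻¹ * w * g) hb'
      simpa [mul_assoc] using h'
    have hgM := hu _ (isCoatom_map _ hM) hle
    have hgn : g ∈ Subgroup.normalizer (M : Set G) := Subgroup.mem_normalizer_iff_map_conj_eq.2 hgM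
    rwa [normalizer_coatom hG hM fun e => hq.out.not_dvd_one (by rwa [e, Subgroup.card_bot] at hqM)] at hgn
  push Not at hcase
  obtain ⟨x, hx, hxz⟩ := hcase
  have hvA : x ^ n ∈ A := (hΩ _ (pow_mem hx _)).1 (by
    rw [← pow_mul, hnq]; exact orderOf_dvd_iff_pow_eq_one.1 (hdvd x hx))
  have hzA : z₀ ∈ A := (hΩ z₀ (pow_mem hy₀ _)).1 (hz₀o ▸ pow_orderOf_eq_one z₀)
  have hvo : orderOf (x ^ n) = q := orderOf_eq_prime (hA.2 _ hvA) fun e => hxz (e ▸ one_mem _)
  have hsup : Subgroup.zpowers z₀ ⊔ Subgroup.zpowers (x ^ n) = A :=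
    sup_lines_eq hA hAc (Subgroup.zpowers_le.2 hzA) (Subgroup.zpowers_le.2 hvA)
      (by rw [Nat.card_zpowers, hz₀o]) (by rw [Nat.card_zpowers, hvo])
      fun e => hxz (e ▸ Subgroup.mem_zpowers (x ^ n))
  have ha' : a₁ ∈ Subgroup.zpowers z₀ ⊔ Subgroup.zpowers (x ^ n) := hsup.symm ▸ ha₁A
  obtain ⟨u, hu, v, hv, huv⟩ := CoprimeAction.exists_mul_of_mem_sup (fun c hc =>
    Subgroup.centralizer_le_normalizer _ (Subgroup.mem_centralizer_iff.2 fun b hb =>
      setLike_mul_comm ((Subgroup.zpowers_le.2 hvA) hb) ((Subgroup.zpowers_le.2 hzA) hc))) ha'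
  obtain ⟨i, rfl⟩ := Subgroup.mem_zpowers_iff.1 hu
  obtain ⟨j, rfl⟩ := Subgroup.mem_zpowers_iff.1 hv
  set y := y₀ ^ i * x ^ j with hy
  have hyT : y ∈ T := mul_mem (zpow_mem hy₀ _) (zpow_mem hx _)
  have hyn : y ^ n = a₁ := by
    rw [hy, (show Commute (y₀ ^ i) (x ^ j) from setLike_mul_comm (zpow_mem hy₀ _) (zpow_mem hx _)).mul_pow,
      ← huv, hz₀]
    congr 1 <;> rw [← zpow_natCast, ← zpow_mul, mul_comm, zpow_mul, zpow_natCast]
  obtain ⟨b, hb⟩ := hord y hyT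
  have hyo : orderOf y = q ^ k := by
    have hle : b ≤ k := (Nat.pow_dvd_pow_iff_le_right hq.out.one_lt).1 (hb ▸ hdvd y hyT)
    rcases lt_or_eq_of_le hle with hlt | heq
    · exfalso
      have h1 : y ^ n = 1 := orderOf_dvd_iff_pow_eq_one.1 (hb ▸ pow_dvd_pow q (by omega))
      rw [hyn] at h1
      rw [h1, orderOf_one] at ha₁o
      exact hq.out.one_lt.ne ha₁o
    · rw [hb, heq]
  exact ⟨y, hTU hyT, ⟨k, hyo⟩, hmax y hyo, fun f hf hfo =>
    free_of_line ha₁o (hyn ▸ pow_mem (Subgroup.mem_zpowers y) _) hA₁ hf hfo⟩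

theorem exists_free_exponent (hG : Cfsg.IsMinSimpleOddOrder G) (hM : IsCoatom M)
    (h : Cfsg.IsSigmaDecomposition M K U) (hUc : IsMulCommutative U) :
    ∃ U₀ : Subgroup G, U₀ ≤ U ∧ Monoid.exponent U₀ = Monoid.exponent U ∧
      ∀ u ∈ U₀, u ∈ Cfsg.sigmaHat M → u = 1 := by
  classical
  haveI := hUc
  have key : ∀ s : Finset ℕ, (∀ l ∈ s, l.Prime ∧ l ∣ Nat.card U) → ∃ w ∈ U,
      (∀ l ∈ s, ∀ x ∈ U, ∀ j, orderOf x = l ^ j → orderOf x ∣ orderOf w) ∧
      (∀ l : ℕ, l.Prime → l ∣ orderOf w → l ∈ s) ∧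
      ∀ f ∈ Subgroup.zpowers w, (orderOf f).Prime →
        Cfsg.sigmaCore M ⊓ Subgroup.centralizer ({f} : Set G) = ⊥ := by
    intro s
    induction s using Finset.induction_on with
    | empty =>
      refine fun _ => ⟨1, one_mem _, by simp, fun l hl hd => absurd (orderOf_one (G := G) ▸ hd) hl.not_dvd_one,
        fun f hf hp => absurd ?_ hp.ne_one⟩
      rw [Subgroup.zpowers_one_eq_bot, Subgroup.mem_bot] at hf
      rw [hf, orderOf_one]
    | @insert q s hqs ih =>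
      intro hs
      obtain ⟨w, hw, hwmax, hwp, hwf⟩ := ih fun l hl => hs l (Finset.mem_insert_of_mem hl)
      obtain ⟨hq, hqd⟩ := hs q (Finset.mem_insert_self _ _)
      haveI := Fact.mk hq
      obtain ⟨y, hy, ⟨k, hk⟩, hymax, hyf⟩ := exists_free_max hG hM h hUc hqd
      have hcop : (orderOf w).Coprime (orderOf y) := Nat.coprime_of_dvd fun l hl h1 h2 => by
        rw [hk] at h2
        exact hqs ((Nat.prime_dvd_prime_iff_eq hl hq).1 (hl.dvd_of_dvd_pow h2) ▸ hwp l hl h1)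
      have hcomm : Commute w y := setLike_mul_comm hw hy
      have ho := hcomm.orderOf_mul_eq_mul_orderOf_of_coprime hcop
      refine ⟨w * y, mul_mem hw hy, fun l hl x hx j hj => ?_, fun l hl hd => ?_, fun f hf hp => ?_⟩
      · rw [ho]
        rcases Finset.mem_insert.1 hl with rfl | hl
        · exact dvd_mul_of_dvd_right (hymax x hx j hj) _
        · exact dvd_mul_of_dvd_left (hwmax l hl x hx j hj) _
      · rw [ho] at hd
        rcases hl.dvd_mul.1 hd with h1 | h1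
        · exact Finset.mem_insert_of_mem (hwp l hl h1)
        · rw [hk] at h1
          rw [(Nat.prime_dvd_prime_iff_eq hl hq).1 (hl.dvd_of_dvd_pow h1)]
          exact Finset.mem_insert_self _ _
      · haveI := Fact.mk hp
        have hd := orderOf_dvd_of_mem_zpowers hf
        rw [ho] at hd
        have hwz : w ∈ Subgroup.zpowers (w * y) := mem_zpowers_mul_of_coprime hcomm hcop
        have hyz : y ∈ Subgroup.zpowers (w * y) := hcomm.eq ▸ mem_zpowers_mul_of_coprime hcomm.symm hcop.symm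
        rcases hp.dvd_mul.1 hd with h1 | h1
        · obtain ⟨a, ha, hao⟩ := exists_elem_prime (p := orderOf f) (H := Subgroup.zpowers w)
            (by rwa [Nat.card_zpowers])
          exact free_of_line hao ((Subgroup.zpowers_le.2 hwz) ha) (hwf a ha (hao ▸ hp)) hf rfl
        · obtain ⟨a, ha, hao⟩ := exists_elem_prime (p := orderOf f) (H := Subgroup.zpowers y)
            (by rwa [Nat.card_zpowers])
          refine free_of_line hao ((Subgroup.zpowers_le.2 hyz) ha) (hyf a ha ?_) hf rfl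
          rw [hk] at h1
          rw [hao, (Nat.prime_dvd_prime_iff_eq hp hq).1 (hp.dvd_of_dvd_pow h1)]
  obtain ⟨w, hw, hwmax, -, hwf⟩ := key (Nat.card U).primeFactors fun l hl =>
    ⟨Nat.prime_of_mem_primeFactors hl, Nat.dvd_of_mem_primeFactors hl⟩
  refine ⟨Subgroup.zpowers w, Subgroup.zpowers_le.2 hw, ?_, fun u hu ⟨_, x, hx, hx1, hux⟩ => ?_⟩
  · refine Nat.dvd_antisymm (Monoid.exponent_dvd_of_monoidHom (Subgroup.inclusion (Subgroup.zpowers_le.2 hw))
      (Subgroup.inclusion_injective _)) (Monoid.exponent_dvd.2 fun e => ?_)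
    have hwe : orderOf w ∣ Monoid.exponent ↥(Subgroup.zpowers w) := by
      rw [← Subgroup.orderOf_mk w (Subgroup.mem_zpowers w)]
      exact Monoid.order_dvd_exponent _
    rw [← Nat.factorization_prime_le_iff_dvd (orderOf_pos e).ne' Monoid.exponent_ne_zero_of_finite]
    intro l hl
    haveI := Fact.mk hl
    refine (hl.pow_dvd_iff_le_factorization Monoid.exponent_ne_zero_of_finite).1 ?_
    by_cases hd : l ∣ orderOf e
    · refine (dvd_trans ?_ hwe)
      set i := (orderOf e).factorization l with hi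
      have hwo : orderOf (e ^ (orderOf e / l ^ i)) = l ^ i :=
        orderOf_pow_orderOf_div (orderOf_pos e).ne' (Nat.ordProj_dvd _ _)
      rw [← Subgroup.orderOf_coe] at hwo
      rw [← hwo]
      exact hwmax l (Nat.mem_primeFactors.2 ⟨hl, hd.trans (orderOf_dvd_natCard e), Nat.card_pos.ne'⟩) _
        (e ^ (orderOf e / l ^ i)).2 i hwo
    · rw [Nat.factorization_eq_zero_of_not_dvd hd, pow_zero]
      exact one_dvd _
  by_contra hu1
  obtain ⟨l, hl, hld⟩ := Nat.exists_prime_and_dvd fun e => hu1 (orderOf_eq_one_iff.1 e)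
  haveI := Fact.mk hl
  obtain ⟨f, hf, hfo⟩ := exists_elem_prime (p := l) (H := Subgroup.zpowers u) (by rwa [Nat.card_zpowers])
  refine hx1 (Subgroup.mem_bot.1 (hwf f ((Subgroup.zpowers_le.2 hu) hf) (hfo ▸ hl) ▸ Subgroup.mem_inf.2 ⟨hx, ?_⟩))
  obtain ⟨i, rfl⟩ := Subgroup.mem_zpowers_iff.1 hf
  exact Subgroup.mem_centralizer_singleton_iff.2 ((show Commute u x from hux).zpow_left i).eq.symm

end CfsgLib.SigmaGroups
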