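import Cfsg.Agent.Sigma.TauTwoInvariant
import Cfsg.Agent.S1412

/-!
B&G 12.10: a nonabelian `p`-subgroup lies in only one maximal subgroup.
-/

set_option autoImplicit false
set_option linter.unusedSectionVars false
set_option linter.style.haveILetI false

namespace CfsgLib.SigmaGroups

open CfsgLib.BenderUnique CfsgLib.Uniq
open scoped commutatorElement

universe u

variable {G : Type u} [Group G] [Finite G] {p : ℕ} [hp : Fact p.Prime] {M L : Subgroup G}

/-- `M = M_β N_M(Q)` for a Sylow subgroup `Q` with prime in `σ(M) ∖ β(M)`. -/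
theorem le_betaCore_sup (hG : Cfsg.IsMinSimpleOddOrder G) (hM : IsCoatom M) (hs : p ∈ Cfsg.sigma M)
    (hb : p ∉ Cfsg.beta M) (Q : Sylow p G) (hQM : (Q : Subgroup G) ≤ M) :
    M ≤ Cfsg.piCoreOf (Cfsg.beta M) M ⊔ (M ⊓ Subgroup.normalizer ((Q : Subgroup G) : Set G)) := by
  set K := Cfsg.piCoreOf (Cfsg.beta M) M with hK
  set U := K ⊔ (M ⊓ Subgroup.normalizer ((Q : Subgroup G) : Set G)) with hU
  have hKhall := betaCore_hallOf hG hM
  have hQU : (Q : Subgroup G) ≤ U := (le_inf hQM Subgroup.le_normalizer).trans le_sup_right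
  have hQσ := le_sigmaCore hG hM hs Q.isPGroup' hQM
  have hKσ : K ≤ Cfsg.sigmaCore M := le_sigmaCore_of_pi hG hM hKhall.1 fun t ht hd =>
    haveI := Fact.mk ht
    mem_sigma_of_alpha hG hM (hKhall.2.1 t ht hd).1
  have hσU : Cfsg.sigmaCore M ≤ U := by
    rw [← Subgroup.relIndex_eq_one]
    refine Nat.eq_one_iff_not_exists_prime_dvd.2 fun s hs' hd => ?_
    haveI := Fact.mk hs'
    have hss := mem_sigma_of_dvd M hs' (hd.trans (Subgroup.index_dvd_card _))
    by_cases hsb : s ∈ Cfsg.beta M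
    · refine hKhall.2.2 s hs' hsb (hd.trans ((Subgroup.relIndex_dvd_of_le_left _ le_sup_left).trans ?_))
      exact ⟨_, (Subgroup.relIndex_mul_relIndex _ _ _ hKσ (Subgroup.map_subtype_le _)).symm⟩
    by_cases hsp : s = p
    · subst hsp
      refine Q.not_dvd_index (hd.trans ((Subgroup.relIndex_dvd_of_le_left _ hQU).trans ?_))
      exact ⟨_, (Subgroup.relIndex_mul_index hQσ).symm⟩
    obtain ⟨S₀, N₀, hN₀, hc⟩ := complement_sigmaCore hG hM hs.2.1 hb
    haveI := hN₀
    set N := N₀.map (Cfsg.sigmaCore M).subtype with hN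
    have hσN : Cfsg.sigmaCore M ≤ Subgroup.normalizer (N : Set G) := by
      rw [← Subgroup.normal_subgroupOf_iff_le_normalizer (Subgroup.map_subtype_le _), Subgroup.subgroupOf,
        Subgroup.comap_map_eq_self_of_injective (Cfsg.sigmaCore M).subtype_injective]
      exact hN₀
    have hcop : (Nat.card (Q : Subgroup G)).Coprime (Nat.card N) := by
      obtain ⟨n, hn⟩ := Q.isPGroup'.exists_card_eq
      rw [hn, hN, Subgroup.card_map_of_injective (Cfsg.sigmaCore M).subtype_injective, ← hc.index_eq_card]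
      exact (PCore.coprime_of_not_dvd S₀.not_dvd_index).symm.pow_left n
    obtain ⟨T, hT⟩ := CoprimeAction.exists_invariant_sylow (p := s) (hQσ.trans hσN) hcop
      (Or.inl (haveI := Q.isPGroup'.isNilpotent; inferInstance))
    set T' := (T : Subgroup N).map N.subtype with hT'
    have hT'σ : T' ≤ Cfsg.sigmaCore M := (Subgroup.map_subtype_le _).trans (Subgroup.map_subtype_le _)
    have hQC := le_centralizer_of_not_beta hG hM hss hsb (R := T') (Y := (Q : Subgroup G)) (T.isPGroup'.map _)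
      (hT'σ.trans (Subgroup.map_subtype_le _)) (hQσ.trans (by
        rw [Cfsg.sigmaCore, ← Subgroup.map_subtype_commutator]
        exact Subgroup.map_mono (piCore_le_commutator hG hM subset_rfl)))
      (card_coprime (p := s) (q := p) Q.isPGroup' (Ne.symm hsp)) hT
    have hT'U : T' ≤ U := (le_inf (hT'σ.trans (Subgroup.map_subtype_le _))
      ((Subgroup.le_centralizer_iff.1 hQC).trans (Subgroup.centralizer_le_normalizer _))).trans le_sup_right
    have h1 := hd.trans (Subgroup.relIndex_dvd_of_le_left _ hT'U)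
    rw [← Subgroup.relIndex_mul_relIndex T' N _ (Subgroup.map_subtype_le _) (Subgroup.map_subtype_le _)] at h1
    rcases hs'.dvd_mul.1 h1 with h | h
    · rw [hT', Subgroup.relIndex, Subgroup.subgroupOf,
        Subgroup.comap_map_eq_self_of_injective N.subtype_injective] at h
      exact T.not_dvd_index h
    · rw [hN, Subgroup.relIndex, Subgroup.subgroupOf,
        Subgroup.comap_map_eq_self_of_injective (Cfsg.sigmaCore M).subtype_injective, hc.symm.index_eq_card] at h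
      obtain ⟨n, hn⟩ := S₀.isPGroup'.exists_card_eq
      rw [hn] at h
      exact hsp ((Nat.prime_dvd_prime_iff_eq hs' hp.out).1 (hs'.dvd_of_dvd_pow h))
  intro m hm
  have hle : ((m • Q : Sylow p G) : Subgroup G) ≤ Cfsg.sigmaCore M :=
    (Subgroup.map_mono hQσ).trans (map_conj_eq_of_normalizer (le_normalizer_sigmaCore M hm)).le
  obtain ⟨c, hc, hce⟩ := exists_conj_sylow ((m • Q).subtype hle) (Q.subtype hQσ)
  rw [Sylow.coe_subtype, Sylow.coe_subtype, Subgroup.map_subgroupOf_eq_of_le hle,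
    Subgroup.map_subgroupOf_eq_of_le hQσ] at hce
  have hcm : c * m ∈ Subgroup.normalizer ((Q : Subgroup G) : Set G) := by
    rw [Subgroup.mem_normalizer_iff_map_conj_eq]
    show (Q : Subgroup G).map (MulAut.conj (c * m)).toMonoidHom = Q
    rw [← map_conj_map]
    exact hce
  have hcM : c ∈ M := (Subgroup.map_subtype_le _ : Cfsg.sigmaCore M ≤ M) hc
  have h2 : c * m ∈ U := Subgroup.mem_sup_right ⟨M.mul_mem hcM hm, hcm⟩
  simpa using U.mul_mem (U.inv_mem (hσU hc)) h2

theorem mem_sigma_of_nonabelian (hG : Cfsg.IsMinSimpleOddOrder G) (hM : IsCoatom M) {P : Subgroup G}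
    (hP : IsPGroup p P) (hPna : ¬ IsMulCommutative P) (hPM : P ≤ M) : p ∈ Cfsg.sigma M := by
  by_contra h
  exact hPna ⟨⟨fun a b => Subtype.ext (commute_of_not_sigma hG hM h hP hPM a a.2 b b.2)⟩⟩

/-- A nonabelian Sylow subgroup of rank two: its central line and the action of a noncentral element. -/
theorem exists_extraspecial (hG : Cfsg.IsMinSimpleOddOrder G) (Q : Sylow p G)
    (hr : Cfsg.PRankLE p 2 (Q : Subgroup G)) (hna : ¬ IsMulCommutative (Q : Subgroup G)) :
    ∃ (P₁ : Subgroup G) (z : G), P₁ ≤ (Q : Subgroup G) ∧ Nat.card P₁ = p ^ 3 ∧ (∀ x ∈ P₁, x ^ p = 1) ∧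
      z ∈ P₁ ∧ orderOf z = p ∧ (∀ t ∈ (Q : Subgroup G), t * z = z * t) ∧
      (∀ a ∈ P₁, ∀ b ∈ P₁, a * b * a⁻¹ * b⁻¹ ∈ Subgroup.zpowers z) ∧
      ∀ x ∈ P₁, x ∉ Subgroup.zpowers z → ∃ w ∈ P₁, w * x ≠ x * w := by
  rcases Cfsg.Agent.S1412.result hG p Q hr with hc | ⟨P₁, P₂, hsup, hcomm, hnc, hcard, hexp, hcyc, hcl⟩
  · exact absurd hc hna
  haveI := hcyc
  have hP₁Q : P₁ ≤ (Q : Subgroup G) := hsup ▸ le_sup_left
  have hP₁p : IsPGroup p P₁ := Q.isPGroup'.to_le hP₁Q
  have hpow : ∀ x ∈ P₁, x ^ p = 1 := fun x hx => by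
    have := Monoid.pow_exponent_eq_one (⟨x, hx⟩ : P₁)
    rw [hexp] at this
    exact congrArg Subtype.val this
  have hP₁1 : P₁ ≠ ⊥ := fun h => by
    rw [h, Subgroup.card_bot] at hcard
    exact (Nat.one_lt_pow (by norm_num) hp.out.one_lt).ne hcard
  obtain ⟨z, hzP, hzo, hzc⟩ := exists_elem_pow hP₁p hP₁1
  set Z₀ := P₁ ⊓ Subgroup.centralizer (P₁ : Set G) with hZ₀
  have hZ₀P₂ : Z₀ ≤ P₂ := by
    rw [← hcl]
    exact (Subgroup.closure_le _).2 fun x hx => hx.1
  have hzZ₀ : z ∈ Z₀ := ⟨hzP, Subgroup.mem_centralizer_iff.2 hzc⟩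
  have hZ : Z₀ = Subgroup.zpowers z := by
    refine le_antisymm (fun x hx => ?_) (Subgroup.zpowers_le.2 hzZ₀)
    by_cases hx1 : x = 1
    · exact hx1 ▸ one_mem _
    have he : Subgroup.zpowers x = Subgroup.zpowers z := Chev.Ree.GL0.eq_of_card_eq (A := P₂)
      (Subgroup.zpowers_le.2 (hZ₀P₂ hx)) (Subgroup.zpowers_le.2 (hZ₀P₂ hzZ₀))
      (by rw [Nat.card_zpowers, Nat.card_zpowers, hzo, orderOf_eq_prime (hpow x hx.1) hx1])
    exact he ▸ Subgroup.mem_zpowers x
  refine ⟨P₁, z, hP₁Q, hcard, hpow, hzP, hzo, fun t ht => ?_, fun a ha b hb => ?_, fun x hx hxz => ?_⟩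
  · have hle : (Q : Subgroup G) ≤ Subgroup.centralizer ({z} : Set G) := by
      rw [← hsup]
      refine sup_le (fun a ha => Subgroup.mem_centralizer_singleton_iff.2 (hzc a ha)) fun b hb => ?_
      exact Subgroup.mem_centralizer_singleton_iff.2 (hcomm z hzP b hb).symm
    exact Subgroup.mem_centralizer_singleton_iff.1 (hle ht)
  · -- `P₁ / Z₀` has order `p ^ 2`
    set N := Z₀.subgroupOf P₁ with hN
    haveI : N.Normal := ⟨fun n hn g => by
      have hn' := Subgroup.mem_subgroupOf.1 hn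
      have hg : (g : G) * n = n * g := Subgroup.mem_centralizer_iff.1 hn'.2 g g.2
      refine Subgroup.mem_subgroupOf.2 ?_
      show (g : G) * n * (g : G)⁻¹ ∈ Z₀
      rw [hg, mul_inv_cancel_right]
      exact hn'⟩
    have hNc : Nat.card N = p := by
      rw [hN, Nat.card_congr (Subgroup.subgroupOfEquivOfLe (inf_le_left : Z₀ ≤ P₁)).toEquiv]
      exact (congrArg (fun K : Subgroup G => Nat.card K) hZ).trans ((Nat.card_zpowers z).trans hzo)
    have hq : Nat.card (↥P₁ ⧸ N) = p ^ 2 := by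
      have h := N.card_mul_index
      rw [hNc, hcard, Subgroup.index_eq_card] at h
      exact Nat.eq_of_mul_eq_mul_left hp.out.pos (h.trans (pow_succ' p 2))
    haveI : IsMulCommutative (↥P₁ ⧸ N) := IsPGroup.isMulCommutative_of_card_eq_prime_sq hq
    have h1 : ((⟨a, ha⟩ * ⟨b, hb⟩ * (⟨a, ha⟩ : P₁)⁻¹ * (⟨b, hb⟩ : P₁)⁻¹ : ↥P₁) : ↥P₁ ⧸ N) = 1 := by
      simp only [QuotientGroup.mk_mul, QuotientGroup.mk_inv]
      rw [mul_comm' ((⟨a, ha⟩ : P₁) : ↥P₁ ⧸ N) ((⟨b, hb⟩ : P₁) : ↥P₁ ⧸ N), mul_inv_cancel_right, mul_inv_cancel]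
    rw [QuotientGroup.eq_one_iff] at h1
    exact hZ ▸ Subgroup.mem_subgroupOf.1 h1
  · by_contra h
    push Not at h
    exact hxz (hZ ▸ (⟨hx, Subgroup.mem_centralizer_iff.2 h⟩ : x ∈ Z₀))

theorem map_eq_zpowers {x : G} {m : G} :
    (Subgroup.zpowers x).map (MulAut.conj m).toMonoidHom = Subgroup.zpowers (m * x * m⁻¹) := by
  rw [MonoidHom.map_zpowers]
  rfl

/-- Two noncentral lines of one elementary subgroup are conjugate. -/
theorem exists_conj_line {P₁ : Subgroup G} {z : G} (hzP : z ∈ P₁) (hzo : orderOf z = p)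
    (hpow : ∀ x ∈ P₁, x ^ p = 1) (hzc : ∀ t ∈ P₁, t * z = z * t)
    (hcom : ∀ a ∈ P₁, ∀ b ∈ P₁, a * b * a⁻¹ * b⁻¹ ∈ Subgroup.zpowers z)
    (hmov : ∀ x ∈ P₁, x ∉ Subgroup.zpowers z → ∃ w ∈ P₁, w * x ≠ x * w)
    {x y : G} (hx : x ∈ P₁) (hxz : x ∉ Subgroup.zpowers z) (hy : y ∈ Subgroup.zpowers z ⊔ Subgroup.zpowers x)
    (hyz : y ∉ Subgroup.zpowers z) :
    ∃ m ∈ P₁, (Subgroup.zpowers x).map (MulAut.conj m).toMonoidHom = Subgroup.zpowers y := by
  obtain ⟨w, hw, hwx⟩ := hmov x hx hxz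
  set c := w * x * w⁻¹ * x⁻¹ with hc
  have hcZ : c ∈ Subgroup.zpowers z := hcom w hw x hx
  have hc1 : c ≠ 1 := fun h => hwx (mul_inv_eq_iff_eq_mul.1 (mul_inv_eq_one.1 h))
  have hcP : c ∈ P₁ := (Subgroup.zpowers_le.2 hzP) hcZ
  have hZc' : Subgroup.zpowers c = Subgroup.zpowers z := Subgroup.eq_of_le_of_card_ge (Subgroup.zpowers_le.2 hcZ)
    (by rw [Nat.card_zpowers, Nat.card_zpowers, hzo, orderOf_eq_prime (hpow c hcP) hc1])
  have hwe : w * x * w⁻¹ = c * x := (inv_mul_cancel_right _ _).symm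
  have hwk : ∀ k : ℕ, w ^ k * x * (w ^ k)⁻¹ = c ^ k * x := by
    intro k
    induction k with
    | zero => simp
    | succ k ih =>
      have hck : w * c ^ k * w⁻¹ = c ^ k := by
        obtain ⟨l, hl⟩ := Subgroup.mem_zpowers_iff.1 (pow_mem hcZ k)
        rw [← hl, (Commute.zpow_right (show Commute w z from hzc w hw) l).eq, mul_inv_cancel_right]
      calc w ^ (k + 1) * x * (w ^ (k + 1))⁻¹ = w * (w ^ k * x * (w ^ k)⁻¹) * w⁻¹ := by
            rw [pow_succ']; group
        _ = (w * c ^ k * w⁻¹) * (w * x * w⁻¹) := by rw [ih]; group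
        _ = c ^ k * (c * x) := by rw [hck, hwe]
        _ = c ^ (k + 1) * x := by rw [← mul_assoc, ← pow_succ]
  rw [← SetLike.mem_coe, Subgroup.coe_mul_of_left_le_normalizer_right] at hy
  swap
  · exact Subgroup.zpowers_le.2 (Subgroup.centralizer_le_normalizer _ (Subgroup.mem_centralizer_iff.2 fun a ha => by
      obtain ⟨i, rfl⟩ := Subgroup.mem_zpowers_iff.1 ha
      exact (Commute.zpow_left (show Commute x z from hzc x hx) i).eq))
  obtain ⟨u, hu, v, hv, huv⟩ := hy
  replace huv : u * v = y := huv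
  obtain ⟨i, rfl⟩ := Subgroup.mem_zpowers_iff.1 hu
  obtain ⟨j, rfl⟩ := Subgroup.mem_zpowers_iff.1 hv
  have hj : ¬ (p : ℤ) ∣ j := by
    rintro ⟨k, rfl⟩
    rw [zpow_mul, zpow_natCast, hpow x hx, one_zpow, mul_one] at huv
    exact hyz (huv ▸ zpow_mem (Subgroup.mem_zpowers z) i)
  obtain ⟨a, b, hab⟩ := (Nat.prime_iff_prime_int.1 hp.out).coprime_iff_not_dvd.2 hj
  have hyb : y ^ b = (z ^ i) ^ b * x := by
    have hze : Commute (z ^ i) (x ^ j) := Commute.zpow_zpow (hzc x hx).symm i j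
    rw [← huv, hze.mul_zpow, ← zpow_mul x, show j * b = 1 + (p : ℤ) * (-a) by linarith [hab],
      zpow_add, zpow_one, zpow_mul x, zpow_natCast, hpow x hx, one_zpow, mul_one]
  obtain ⟨k, hk : c ^ k = (z ^ i) ^ b⟩ := (isOfFinOrder_of_finite c).mem_powers_iff_mem_zpowers.2
    (hZc'.symm ▸ zpow_mem (zpow_mem (Subgroup.mem_zpowers z) i) b : (z ^ i) ^ b ∈ Subgroup.zpowers c)
  refine ⟨w ^ k, pow_mem hw k, ?_⟩
  have hy1 : y ≠ 1 := fun h => hyz (h ▸ one_mem _)
  have hyP : y ∈ P₁ := huv ▸ P₁.mul_mem (zpow_mem hzP i) (zpow_mem hx j)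
  have hx1 : x ≠ 1 := fun h => hxz (h ▸ one_mem _)
  refine Subgroup.eq_of_le_of_card_ge ?_ ?_
  · rw [map_eq_zpowers, Subgroup.zpowers_le, hwk, hk, ← hyb]
    exact zpow_mem (Subgroup.mem_zpowers y) b
  · rw [card_map_conj, Nat.card_zpowers, Nat.card_zpowers, orderOf_eq_prime (hpow y hyP) hy1,
      orderOf_eq_prime (hpow x hx) hx1]

theorem nonabelian_unique (hG : Cfsg.IsMinSimpleOddOrder G) {P : Subgroup G} (hP : IsPGroup p P)
    (hPna : ¬ IsMulCommutative P) : Cfsg.InUniqueMaximal P := by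
  have hPnc : ¬ IsCyclic P := fun h => hPna (haveI := h; IsCyclic.isMulCommutative)
  obtain ⟨M₀, hM₀, hPM₀⟩ := exists_coatom_ge (pgroup_ne_top hG hP)
  refine ⟨M₀, ⟨hM₀, hPM₀⟩, ?_⟩
  suffices key : ∀ M L : Subgroup G, IsCoatom M → IsCoatom L → P ≤ M → P ≤ L → M ≤ L ∨ L = M by
    rintro L ⟨hL, hPL⟩
    rcases key M₀ L hM₀ hL hPM₀ hPL with h | h
    · exact (eq_of_coatom_le hL hM₀ h).symm
    · exact h
  intro M L hM hL hPM hPL
  obtain ⟨S, hS⟩ := exists_max_ge hP (le_inf hPM hPL)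
  set S' := (S : Subgroup ↥(M ⊓ L)).map (M ⊓ L).subtype with hS'
  have hS'p : IsPGroup p S' := S.isPGroup'.map _
  have hS'ML : S' ≤ M ⊓ L := Subgroup.map_subtype_le _
  have hS'na : ¬ IsMulCommutative S' := fun h => hPna ⟨⟨fun a b => Subtype.ext
    (congrArg Subtype.val (h.is_comm.comm (⟨a, hS a.2⟩ : S') ⟨b, hS b.2⟩) :)⟩⟩
  have hS'nc : ¬ IsCyclic S' := fun h => hS'na (haveI := h; IsCyclic.isMulCommutative)
  have hsM := mem_sigma_of_nonabelian hG hM hP hPna hPM
  have hsL := mem_sigma_of_nonabelian hG hL hP hPna hPL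
  obtain ⟨Q, hSQ⟩ := IsPGroup.exists_le_sylow hS'p
  have hNS : Subgroup.normalizer (S' : Set G) ≤ M ⊓ L :=
    le_inf (normalizer_le_of_noncyclic hG hM hsM hS'p (hS'ML.trans inf_le_left) hS'nc)
      (normalizer_le_of_noncyclic hG hL hsL hS'p (hS'ML.trans inf_le_right) hS'nc)
  have hQS : (Q : Subgroup G) = S' := by
    by_contra hne
    refine (exists_lt_mem_normalizer Q.isPGroup' (lt_of_le_of_ne hSQ (Ne.symm hne))).ne
      (sylow_map_max S _ (Q.isPGroup'.to_le inf_le_left) (inf_le_right.trans hNS) ?_).symm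
    exact le_inf hSQ Subgroup.le_normalizer
  have hQML : (Q : Subgroup G) ≤ M ⊓ L := hQS ▸ hS'ML
  have hNQ : Subgroup.normalizer ((Q : Subgroup G) : Set G) ≤ M ⊓ L := hQS ▸ hNS
  have hQna : ¬ IsMulCommutative (Q : Subgroup G) := by rw [hQS]; exact hS'na
  have hQ1 : (Q : Subgroup G) ≠ ⊥ := fun h => hQna (by rw [h]; infer_instance)
  by_cases hr : Cfsg.PRankLE p 2 (Q : Subgroup G)
  swap
  · have hU := unique_of_prank (allUnique hG) (pgroup_ne_top hG Q.isPGroup') hr
    exact Or.inr (eq_of_unique hU hM (hQML.trans inf_le_left) hL (hQML.trans inf_le_right))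
  obtain ⟨P₁, z, hP₁Q, hP₁c, hpow, hzP, hzo, hzc, hcom, hmov⟩ := exists_extraspecial hG Q hr hQna
  set Z := Subgroup.zpowers z with hZdef
  have hZc : Nat.card Z = p := by rw [hZdef, Nat.card_zpowers, hzo]
  -- a nilpotent `σ`-core gives the result
  by_cases hnM : Group.IsNilpotent (Cfsg.sigmaCore M)
  · exact Or.inl ((normalizer_eq_of_nilpotent hG hM hnM hsM Q hQ1 (hQML.trans inf_le_left)).ge.trans
      (hNQ.trans inf_le_right))
  by_cases hnL : Group.IsNilpotent (Cfsg.sigmaCore L)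
  · exact Or.inr (eq_of_coatom_le hM hL ((normalizer_eq_of_nilpotent hG hL hnL hsL Q hQ1
      (hQML.trans inf_le_right)).ge.trans (hNQ.trans inf_le_left)))
  have hline : ∀ N : Subgroup G, IsCoatom N → ¬ Group.IsNilpotent (Cfsg.sigmaCore N) → P₁ ≤ N →
      ∀ x ∈ P₁, x ∉ Z → ∃ y ∈ Z ⊔ Subgroup.zpowers x, y ≠ 1 ∧
        Subgroup.normalizer (Subgroup.zpowers y : Set G) ≤ N ∧
        ∀ H : Subgroup G, IsCoatom H → Subgroup.normalizer (Subgroup.zpowers y : Set G) ≤ H → H = N := by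
    intro N hN hn hPN x hx hxZ
    set E := Z ⊔ Subgroup.zpowers x with hE
    have hEP : E ≤ P₁ := sup_le (Subgroup.zpowers_le.2 hzP) (Subgroup.zpowers_le.2 hx)
    have hEel : Cfsg.IsElementaryAbelian p E := NormalEl.elementary_sup
      (elementary_zpowers (hzo ▸ pow_orderOf_eq_one z)) (elementary_zpowers (hpow x hx)) fun a ha b hb => by
        obtain ⟨i, rfl⟩ := Subgroup.mem_zpowers_iff.1 ha
        exact (Commute.zpow_left (show Commute z b from
          (hzc b (hP₁Q ((Subgroup.zpowers_le.2 hx) hb))).symm) i).eq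
    have hEc : Nat.card E = p ^ 2 := by
      obtain ⟨k, hk⟩ := (isPGroup_of_elementary hEel).exists_card_eq
      have hlt : Z < E := lt_of_le_of_ne le_sup_left fun h =>
        hxZ (h.ge (Subgroup.mem_sup_right (Subgroup.mem_zpowers x)))
      have h1 := card_lt_of_lt hlt
      rw [hZc, hk] at h1
      have h2 : 2 ≤ k := (Nat.pow_lt_pow_iff_right hp.out.one_lt).1 (by rwa [pow_one])
      rw [hk]
      congr 1
      by_contra hne
      exact not_prank_of_elem (hEP.trans hP₁Q) hEel (hk ▸ Nat.pow_lt_pow_right hp.out.one_lt (by omega)) hr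
    by_contra hno
    refine hn (sigma_alpha_nilpotent hG hN (hEP.trans hPN) hEel hEc fun A₀ hA₀ hA₀c h => hno ?_).2.2
    obtain ⟨y, hy, hy1⟩ := (Subgroup.bot_or_exists_ne_one A₀).resolve_left fun hb => by
      rw [hb, Subgroup.card_bot] at hA₀c
      exact hp.out.one_lt.ne hA₀c
    have he : Subgroup.zpowers y = A₀ := Subgroup.eq_of_le_of_card_ge (Subgroup.zpowers_le.2 hy)
      (hA₀c.trans_le (le_of_eq (by rw [Nat.card_zpowers, orderOf_eq_prime (hEel.2 y (hA₀ hy)) hy1])))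
    exact ⟨y, hA₀ hy, hy1, by rw [he]; exact h.1, fun H hH hle => h.2 H hH (by rwa [he] at hle)⟩
  have hzpow : ∀ y ∈ Z, y ≠ 1 → Subgroup.zpowers y = Z := fun y hy hy1 =>
    Subgroup.eq_of_le_of_card_ge (Subgroup.zpowers_le.2 hy) (hZc.trans_le (le_of_eq (by
      rw [Nat.card_zpowers, orderOf_eq_prime (hpow y ((Subgroup.zpowers_le.2 hzP) hy)) hy1])))
  by_cases hLM : L = M
  · exact Or.inr hLM
  -- one of `M`, `L` is the only one over `N(Z)`, the other over all other lines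
  suffices hmain : ∀ N H : Subgroup G, IsCoatom N → IsCoatom H → H ≠ N → ¬ Group.IsNilpotent (Cfsg.sigmaCore H) →
      p ∈ Cfsg.sigma N → p ∈ Cfsg.sigma H → (Q : Subgroup G) ≤ N ⊓ H →
      Subgroup.normalizer ((Q : Subgroup G) : Set G) ≤ H →
      (∀ K : Subgroup G, IsCoatom K → Subgroup.normalizer (Z : Set G) ≤ K → K = N) → False by
    obtain ⟨x, hx, hxZ⟩ : ∃ x ∈ P₁, x ∉ Z := by
      by_contra hno
      push Not at hno
      have := Nat.le_of_dvd Nat.card_pos (Subgroup.card_dvd_of_le (show P₁ ≤ Z from hno))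
      rw [hP₁c, hZc] at this
      exact absurd this (not_le.2 (lt_self_pow₀ hp.out.one_lt (by norm_num)))
    have hP₁M : P₁ ≤ M := hP₁Q.trans (hQML.trans inf_le_left)
    have hP₁L : P₁ ≤ L := hP₁Q.trans (hQML.trans inf_le_right)
    obtain ⟨y, hy, hy1, hyN, hyU⟩ := hline M hM hnM hP₁M x hx hxZ
    obtain ⟨y', hy', hy'1, hy'N, hy'U⟩ := hline L hL hnL hP₁L x hx hxZ
    exfalso
    by_cases hyZ : y ∈ Z
    · rw [hzpow y hyZ hy1] at hyU
      exact hmain M L hM hL hLM hnL hsM hsL hQML (hNQ.trans inf_le_right) hyU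
    by_cases hy'Z : y' ∈ Z
    · rw [hzpow y' hy'Z hy'1] at hy'U
      exact hmain L M hL hM (Ne.symm hLM) hnM hsL hsM (hQML.trans (le_of_eq (inf_comm M L))) (hNQ.trans inf_le_left) hy'U
    have hxE : Subgroup.zpowers x ≤ Z ⊔ Subgroup.zpowers x := le_sup_right
    have hEP : Z ⊔ Subgroup.zpowers x ≤ P₁ := sup_le (Subgroup.zpowers_le.2 hzP) (Subgroup.zpowers_le.2 hx)
    obtain ⟨m, hm, hme⟩ := exists_conj_line hzP hzo hpow (fun t ht => hzc t (hP₁Q ht)) hcom hmov hx hxZ hy hyZ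
    obtain ⟨m', hm', hme'⟩ := exists_conj_line hzP hzo hpow (fun t ht => hzc t (hP₁Q ht)) hcom hmov hx hxZ hy' hy'Z
    set d := m' * m⁻¹ with hd
    have hde : (Subgroup.zpowers y).map (MulAut.conj d).toMonoidHom = Subgroup.zpowers y' := by
      rw [← hme, map_conj_map, hd, inv_mul_cancel_right, hme']
    have hdM : d ∈ M := hP₁M (P₁.mul_mem hm' (P₁.inv_mem hm))
    refine hLM (hy'U M hM ?_).symm
    rw [← hde, show Subgroup.normalizer (((Subgroup.zpowers y).map (MulAut.conj d).toMonoidHom : Subgroup G) : Set G) =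
      (Subgroup.normalizer (Subgroup.zpowers y : Set G)).map (MulAut.conj d).toMonoidHom from
        (Subgroup.map_equiv_normalizer_eq _ (MulAut.conj d)).symm]
    exact (Subgroup.map_mono hyN).trans (map_conj_le_of_mem hdM)
  intro N H hN hH hHN hnH hsN hsH hQNH hNQH hZU
  have hP₁N : P₁ ≤ N := hP₁Q.trans (hQNH.trans inf_le_left)
  have hP₁H : P₁ ≤ H := hP₁Q.trans (hQNH.trans inf_le_right)
  -- every noncentral element has its centralizer in `H`
  have hCx : ∀ x ∈ P₁, x ∉ Z → Subgroup.centralizer ({x} : Set G) ≤ H := by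
    intro x hx hxZ
    obtain ⟨y, hy, hy1, hyN, hyU⟩ := hline H hH hnH hP₁H x hx hxZ
    have hyZ : y ∉ Z := fun h => hHN (hZU H hH (by rwa [hzpow y h hy1] at hyN))
    obtain ⟨m, hm, hme⟩ := exists_conj_line hzP hzo hpow (fun t ht => hzc t (hP₁Q ht)) hcom hmov hx hxZ hy hyZ
    intro t ht
    have h1 : m * t * m⁻¹ ∈ Subgroup.normalizer (Subgroup.zpowers y : Set G) := by
      rw [← hme, show Subgroup.normalizer (((Subgroup.zpowers x).map (MulAut.conj m).toMonoidHom : Subgroup G) : Set G) =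
        (Subgroup.normalizer (Subgroup.zpowers x : Set G)).map (MulAut.conj m).toMonoidHom from
          (Subgroup.map_equiv_normalizer_eq _ (MulAut.conj m)).symm]
      exact ⟨t, Subgroup.centralizer_le_normalizer _ (by rwa [centralizer_zpowers]), rfl⟩
    simpa [mul_assoc] using H.mul_mem (H.mul_mem (H.inv_mem (hP₁H hm)) (hyN h1)) (hP₁H hm)
  set K := Cfsg.piCoreOf (Cfsg.beta N) N with hK
  have hKhall := betaCore_hallOf hG hN
  have hpb : p ∉ Cfsg.beta N := fun hb => by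
    obtain ⟨B, hBN, hB, hBc⟩ := exists_elem_of_not_prank hb.1.2
    obtain ⟨g, hg⟩ := IsPGroup.exists_le_sylow (isPGroup_of_elementary hB)
    obtain ⟨c, hc⟩ := MulAction.exists_smul_eq G g Q
    exact not_prank_of_elem ((Subgroup.map_mono hg).trans (le_of_eq (congrArg Sylow.toSubgroup hc)))
      (elementary_map_conj hB c) (pow_lt_card ((card_map_conj B c).trans hBc)) hr
  have hNK : N ≤ Subgroup.normalizer (K : Set G) := by
    rw [← Subgroup.normal_subgroupOf_iff_le_normalizer hKhall.1, Cfsg.piCoreOf, Subgroup.subgroupOf,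
      Subgroup.comap_map_eq_self_of_injective N.subtype_injective]
    infer_instance
  have hpK : ¬ p ∣ Nat.card K := fun h => hpb (hKhall.2.1 p hp.out h)
  have hQK : (Q : Subgroup G) ≤ Subgroup.normalizer (K : Set G) := (hQNH.trans inf_le_left).trans hNK
  have hcopQ : ∀ {D : Subgroup G}, D ≤ K → (Nat.card (Q : Subgroup G)).Coprime (Nat.card D) := fun hD => by
    obtain ⟨n, hn⟩ := Q.isPGroup'.exists_card_eq
    rw [hn]
    exact ((PCore.coprime_of_not_dvd hpK).symm.pow_left n).coprime_dvd_right (Subgroup.card_dvd_of_le hD)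
  have hQσ := le_sigmaCore hG hH hsH Q.isPGroup' (hQNH.trans inf_le_right)
  have hKH : K ⊓ H ≤ Subgroup.centralizer ((Q : Subgroup G) : Set G) := by
    set D := K ⊓ H with hD
    have hQD : (Q : Subgroup G) ≤ Subgroup.normalizer (D : Set G) :=
      (le_inf hQK ((hQNH.trans inf_le_right).trans Subgroup.le_normalizer)).trans
        Subgroup.inf_normalizer_le_normalizer_inf
    rw [← Subgroup.relIndex_eq_one]
    refine Nat.eq_one_iff_not_exists_prime_dvd.2 fun s hs hd => ?_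
    haveI := Fact.mk hs
    have hsD : s ∣ Nat.card D := hd.trans (Subgroup.index_dvd_card _)
    have hsb : s ∈ Cfsg.beta N := hKhall.2.1 s hs (hsD.trans (Subgroup.card_dvd_of_le inf_le_left))
    have hsH' : s ∉ Cfsg.sigma H := fun hsH' => by
      obtain ⟨B, -, hB, hBc⟩ := exists_elem_of_not_prank hsb.1.2
      obtain ⟨g, rfl⟩ := exists_conj_eq_of_alpha hG hN hH hsb.1 (mem_alpha_of_elementary hsH' hB hBc)
      obtain ⟨⟨w, hw⟩, hwo⟩ := exists_prime_orderOf_dvd_card' s hsD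
      rw [Subgroup.orderOf_mk] at hwo
      have hwN : w ∈ N := hKhall.1 hw.1
      refine hHN (map_eq_of_mem_normalizer ?_)
      refine mem_of_le_conj hG hN (mem_sigma_of_alpha hG hN hsb.1) (X := Subgroup.zpowers w)
        (IsPGroup.of_card (n := 1) (by rw [Nat.card_zpowers, hwo, pow_one]))
        (fun h => hs.one_lt.ne (by rw [← hwo, Subgroup.zpowers_eq_bot.1 h, orderOf_one])) (Subgroup.zpowers_le.2 hwN)
        ?_ (Subgroup.zpowers_le.2 hw.2)
      rw [centralizer_zpowers]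
      exact (unique_centralizer_of_beta hG hN hsb hwN hwo).2
    obtain ⟨T, hT⟩ := CoprimeAction.exists_invariant_sylow (p := s) hQD (hcopQ inf_le_left)
      (Or.inl (haveI := Q.isPGroup'.isNilpotent; inferInstance))
    set T' := (T : Subgroup ↥D).map D.subtype with hT'
    have hT'H : T' ≤ H := (Subgroup.map_subtype_le _).trans inf_le_right
    have hbot : ⁅T', (Q : Subgroup G)⁆ = ⊥ := by
      by_contra hne
      have hle : ⁅T', (Q : Subgroup G)⁆ ≤ T' := CoprimeAction.commutator_le_of_normalizer hT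
      have hleσ : ⁅T', (Q : Subgroup G)⁆ ≤ Cfsg.sigmaCore H := by
        refine (Subgroup.commutator_mono hT'H hQσ).trans ?_
        rw [Subgroup.commutator_comm]
        exact CoprimeAction.commutator_le_of_normalizer (le_normalizer_sigmaCore H)
      exact hsH' (mem_sigma_of_dvd H hs
        ((dvd_card_of_ne_bot ((T.isPGroup'.map _).to_le hle) hne).trans (Subgroup.card_dvd_of_le hleσ)))
    exact T.not_dvd_index (hd.trans (Subgroup.index_dvd_of_le fun x hx =>
      Subgroup.mem_subgroupOf.2 (Subgroup.commutator_eq_bot_iff_le_centralizer.1 hbot ⟨x, hx, rfl⟩)))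
  have hfix : ∀ x ∈ P₁, x ∉ Z → K ⊓ Subgroup.centralizer ({x} : Set G) ≤
      Subgroup.centralizer ((Q : Subgroup G) : Set G) := fun x hx hxZ =>
    le_trans (le_inf inf_le_left (inf_le_right.trans (hCx x hx hxZ))) hKH
  obtain ⟨x₀, hx₀, hx₀Z⟩ : ∃ x ∈ P₁, x ∉ Z := by
    by_contra hno
    push Not at hno
    have := Nat.le_of_dvd Nat.card_pos (Subgroup.card_dvd_of_le (show P₁ ≤ Z from hno))
    rw [hP₁c, hZc] at this
    exact absurd this (not_le.2 (lt_self_pow₀ hp.out.one_lt (by norm_num)))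
  have hZcomm : ∀ t ∈ P₁, ∀ u ∈ Z, t * u = u * t := fun t ht u hu => by
    obtain ⟨i, rfl⟩ := Subgroup.mem_zpowers_iff.1 hu
    exact (Commute.zpow_right (show Commute t z from hzc t (hP₁Q ht)) i).eq
  have hKZ : K ≤ Subgroup.centralizer (Z : Set G) := by
    set E := Z ⊔ Subgroup.zpowers x₀ with hE
    have hEP : E ≤ P₁ := sup_le (Subgroup.zpowers_le.2 hzP) (Subgroup.zpowers_le.2 hx₀)
    have hEel : Cfsg.IsElementaryAbelian p E := NormalEl.elementary_sup
      (elementary_zpowers (hzo ▸ pow_orderOf_eq_one z)) (elementary_zpowers (hpow x₀ hx₀)) fun a ha b hb =>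
        (hZcomm b ((Subgroup.zpowers_le.2 hx₀) hb) a ha).symm
    haveI := hEel.1
    have hEnc : ¬ IsCyclic E := not_isCyclic_of_elementary hEel (by
      rw [← hZc]
      exact card_lt_of_lt (lt_of_le_of_ne le_sup_left fun h =>
        hx₀Z (h.ge (Subgroup.mem_sup_right (Subgroup.mem_zpowers x₀)))))
    refine CoprimeAction.le_of_centralizers_le hEnc ((hEP.trans hP₁Q).trans hQK)
      ((hcopQ le_rfl).coprime_dvd_left (Subgroup.card_dvd_of_le (hEP.trans hP₁Q))) fun a ha ha1 => ?_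
    by_cases haZ : a ∈ Z
    · rw [← hzpow a haZ ha1, centralizer_zpowers]
      exact inf_le_right
    · refine (hfix a (hEP ha) haZ).trans (Subgroup.centralizer_le ?_)
      exact (Subgroup.zpowers_le.2 hzP).trans hP₁Q
  -- `P₁` acts on `K` through `P₁ / Z`
  have hP₁K : P₁ ≤ Subgroup.normalizer (K : Set G) := hP₁Q.trans hQK
  set φ : ↥P₁ →* MulAut ↥K := K.normalizerMonoidHom.comp (Subgroup.inclusion hP₁K) with hφ
  have hφfix : ∀ (a : ↥P₁) (u : ↥K), φ a u = u → (u : G) ∈ Subgroup.centralizer ({(a : G)} : Set G) := by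
    intro a u h
    have h' : (a : G) * u * (a : G)⁻¹ = u := congrArg Subtype.val h
    exact Subgroup.mem_centralizer_singleton_iff.2 (mul_inv_eq_iff_eq_mul.1 h').symm
  have hKQ : K ≤ Subgroup.centralizer ((Q : Subgroup G) : Set G) := by
    by_cases hker : ∃ a : ↥P₁, φ a = 1 ∧ (a : G) ∉ Z
    · obtain ⟨a, ha, haZ⟩ := hker
      exact fun u hu => hfix a a.2 haZ ⟨hu, hφfix a ⟨u, hu⟩ (by rw [ha]; rfl)⟩
    push Not at hker
    have hZker : ∀ a : ↥P₁, (a : G) ∈ Z → φ a = 1 := fun a ha => by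
      ext u
      show (a : G) * u * (a : G)⁻¹ = u
      rw [Subgroup.mem_centralizer_iff.1 (hKZ u.2) a ha, mul_inv_cancel_right]
    haveI : IsMulCommutative φ.range := ⟨⟨by
      rintro ⟨_, a, rfl⟩ ⟨_, b, rfl⟩
      refine Subtype.ext ?_
      show φ a * φ b = φ b * φ a
      have h := hZker (a * b * a⁻¹ * b⁻¹) (hcom a a.2 b b.2)
      rw [map_mul, map_mul, map_mul, map_inv, map_inv, mul_inv_eq_one, mul_inv_eq_iff_eq_mul] at h
      exact h⟩⟩
    have hkerle : φ.ker ≤ Z.subgroupOf P₁ := fun a ha => Subgroup.mem_subgroupOf.2 (hker a ha)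
    have hnc : ¬ IsCyclic φ.range := by
      intro hc
      obtain ⟨g₀, hg₀⟩ := hc.exists_generator
      have h1 : Nat.card φ.range ≤ p := by
        rw [← orderOf_eq_card_of_forall_mem_zpowers hg₀]
        obtain ⟨a, ha⟩ := g₀.2
        refine Nat.le_of_dvd hp.out.pos (orderOf_dvd_of_pow_eq_one (Subtype.ext ?_))
        rw [Subgroup.coe_pow, ← ha, ← map_pow, show a ^ p = 1 from Subtype.ext (hpow a a.2), map_one]
        rfl
      have h2 : φ.ker.index = Nat.card φ.range := Subgroup.index_ker φ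
      have h3 := φ.ker.card_mul_index
      rw [h2, hP₁c] at h3
      have h4 : Nat.card φ.ker ≤ p := by
        refine (Nat.le_of_dvd Nat.card_pos (Subgroup.card_dvd_of_le hkerle)).trans (le_of_eq ?_)
        rw [Nat.card_congr (Subgroup.subgroupOfEquivOfLe (Subgroup.zpowers_le.2 hzP)).toEquiv, hZc]
      have h5 : p ^ 3 ≤ p * p := h3 ▸ Nat.mul_le_mul h4 h1
      rw [← pow_two] at h5
      exact absurd h5 (not_le.2 (Nat.pow_lt_pow_right hp.out.one_lt (by norm_num)))
    intro u hu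
    have hmem := CoprimeAction.mem_closure_fixed φ.range.subtype hnc
      (((hcopQ le_rfl).coprime_dvd_left (Subgroup.card_dvd_of_le hP₁Q)).coprime_dvd_left
        (Subgroup.card_range_dvd φ)) (⟨u, hu⟩ : ↥K)
    have hle : Subgroup.closure {v : ↥K | ∃ a : ↥φ.range, a ≠ 1 ∧ φ.range.subtype a v = v} ≤
        (Subgroup.centralizer ((Q : Subgroup G) : Set G)).subgroupOf K := by
      rw [Subgroup.closure_le]
      rintro v ⟨⟨_, a, rfl⟩, ha1, hav⟩
      have haZ : (a : G) ∉ Z := fun h => ha1 (Subtype.ext (hZker a h))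
      exact Subgroup.mem_subgroupOf.2 (hfix a a.2 haZ ⟨v.2, hφfix a v hav⟩)
    exact Subgroup.mem_subgroupOf.1 (hle hmem)
  refine hHN (eq_of_coatom_le hH hN ((le_betaCore_sup hG hN hsN hpb Q (hQNH.trans inf_le_left)).trans ?_)).symm
  exact sup_le (hKQ.trans ((Subgroup.centralizer_le_normalizer _).trans hNQH)) (inf_le_right.trans hNQH)

end CfsgLib.SigmaGroups
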