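import Cfsg.Agent.Sigma.DerivedSigma
import Cfsg.Agent.S1417
import Cfsg.Agent.S1439

/-!
B&G 12.7: a prime of `τ₂(M)` with nonabelian Sylow subgroups.
-/

set_option autoImplicit false
set_option linter.unusedSectionVars false
set_option linter.style.haveILetI false

namespace CfsgLib.SigmaGroups

open CfsgLib.BenderUnique CfsgLib.Uniq
open scoped commutatorElement

universe u

variable {G : Type u} [Group G] [Finite G] {p : ℕ} [hp : Fact p.Prime] {M A : Subgroup G}

theorem sigmaCore_ne_bot (hG : Cfsg.IsMinSimpleOddOrder G) (hM : IsCoatom M) : Cfsg.sigmaCore M ≠ ⊥ := by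
  intro h
  by_cases hα : Cfsg.alphaCore M = ⊥
  · obtain ⟨l, hl, hls, -, Q, hQM, hQ1, -⟩ := exists_top_prime hG hM hα
    haveI := Fact.mk hl
    exact hQ1 (le_bot_iff.1 (h ▸ le_sigmaCore hG hM hls Q.isPGroup' hQM))
  · exact hα (le_bot_iff.1 (h ▸ alphaCore_le_sigmaCore hG hM))

/-- The lines other than `Z` of `A` are conjugate under an element moving `b` inside `A`. -/
theorem exists_conj_of_moves (hA : Cfsg.IsElementaryAbelian p A) (hAc : Nat.card A = p ^ 2) {z b t : G}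
    (hz : z ∈ A) (hb : b ∈ A) (hz1 : z ≠ 1) (hbz : b ∉ Subgroup.zpowers z) (htz : t * z = z * t)
    (htA : t ∈ Subgroup.normalizer (A : Set G)) {k : ℕ} (htk : t ^ p ^ k = 1) (htb : t * b ≠ b * t)
    {y : G} (hy : y ∈ A) (hyz : y ∉ Subgroup.zpowers z) :
    ∃ i : ℕ, t ^ i * b * (t ^ i)⁻¹ ∈ Subgroup.zpowers y := by
  haveI := hA.1
  set Z := Subgroup.zpowers z with hZ
  have hzo : orderOf z = p := orderOf_eq_prime (hA.2 z hz) hz1
  have hb1 : b ≠ 1 := fun h => hbz (h ▸ one_mem _)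
  -- `A` is the product of the two lines
  have hsup : Z ⊔ Subgroup.zpowers b = A := by
    refine sup_lines_eq hA hAc (Subgroup.zpowers_le.2 hz) (Subgroup.zpowers_le.2 hb)
      (by rw [hZ, Nat.card_zpowers, hzo])
      (by rw [Nat.card_zpowers, orderOf_eq_prime (hA.2 b hb) hb1]) ?_
    exact fun h => hbz (h.ge (Subgroup.mem_zpowers b))
  have hdec : ∀ w ∈ A, ∃ m n : ℤ, w = z ^ m * b ^ n := fun w hw => by
    rw [← hsup, ← SetLike.mem_coe, Subgroup.coe_mul_of_right_le_normalizer_left _ _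
      (le_normalizer_of_commute fun u hu => Subgroup.mem_centralizer_iff.2 fun v hv =>
        setLike_mul_comm ((Subgroup.zpowers_le.2 hz) hv) ((Subgroup.zpowers_le.2 hb) hu))] at hw
    obtain ⟨u, hu, v, hv, huv⟩ := Set.mem_mul.1 hw
    obtain ⟨m, rfl⟩ := Subgroup.mem_zpowers_iff.1 hu
    obtain ⟨n, rfl⟩ := Subgroup.mem_zpowers_iff.1 hv
    exact ⟨m, n, huv.symm⟩
  obtain ⟨m, j, hj⟩ := hdec _ ((Subgroup.mem_normalizer_iff.1 htA b).1 hb)
  have hcz : Commute t z := htz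
  have hzb : Commute z b := setLike_mul_comm hz hb
  have hpow : ∀ n : ℕ, ∃ u ∈ Z, t ^ n * b * (t ^ n)⁻¹ = u * b ^ (j ^ n) := by
    intro n
    induction n with
    | zero => exact ⟨1, one_mem _, by simp⟩
    | succ n ih =>
      obtain ⟨u, hu, hun⟩ := ih
      obtain ⟨l, rfl⟩ := Subgroup.mem_zpowers_iff.1 hu
      refine ⟨z ^ l * z ^ (m * j ^ n), mul_mem (zpow_mem (Subgroup.mem_zpowers z) _) (zpow_mem (Subgroup.mem_zpowers z) _), ?_⟩
      calc t ^ (n + 1) * b * (t ^ (n + 1))⁻¹ = t * (t ^ n * b * (t ^ n)⁻¹) * t⁻¹ := by rw [pow_succ']; group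
        _ = t * z ^ l * t⁻¹ * (t * b * t⁻¹) ^ (j ^ n) := by rw [hun, conj_zpow]; group
        _ = z ^ l * (z ^ m * b ^ j) ^ (j ^ n) := by rw [(hcz.zpow_right l).eq, mul_inv_cancel_right, hj]
        _ = z ^ l * (z ^ (m * j ^ n) * b ^ (j ^ (n + 1))) := by
          rw [(hzb.zpow_zpow m j).mul_zpow, ← zpow_mul, ← zpow_mul, ← pow_succ']
        _ = z ^ l * z ^ (m * j ^ n) * b ^ (j ^ (n + 1)) := (mul_assoc _ _ _).symm
  have hbn : ∀ l : ℤ, b ^ l ∈ Z → (p : ℤ) ∣ l := by
    intro l hl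
    by_contra hnd
    obtain ⟨a, c, hac⟩ := (Nat.prime_iff_prime_int.1 hp.out).coprime_iff_not_dvd.2 hnd
    refine hbz ?_
    have : b = (b ^ l) ^ c := by
      rw [← zpow_mul, show l * c = 1 + (p : ℤ) * (-a) by linarith [hac], zpow_add, zpow_one, zpow_mul,
        zpow_natCast, hA.2 b hb, one_zpow, mul_one]
    rw [this]
    exact zpow_mem hl c
  have hj1 : (j : ZMod p) = 1 := by
    obtain ⟨u, hu, hun⟩ := hpow (p ^ k)
    rw [htk, one_mul, inv_one, mul_one] at hun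
    have h1 : b ^ (j ^ p ^ k - 1) ∈ Z := by
      rw [zpow_sub_one, show b ^ (j ^ p ^ k) = u⁻¹ * b from eq_inv_mul_iff_mul_eq.2 hun.symm, mul_inv_cancel_right]
      exact inv_mem hu
    have h2 := (ZMod.intCast_zmod_eq_zero_iff_dvd _ _).2 (hbn _ h1)
    rw [Int.cast_sub, Int.cast_pow, Int.cast_one, ZMod.pow_card_pow, sub_eq_zero] at h2
    exact h2
  obtain ⟨j', hj'⟩ : (p : ℤ) ∣ j - 1 :=
    (ZMod.intCast_zmod_eq_zero_iff_dvd _ _).1 (by rw [Int.cast_sub, hj1, Int.cast_one, sub_self])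
  have hc : t * b * t⁻¹ = z ^ m * b := by
    rw [hj, show j = 1 + (p : ℤ) * j' by linarith [hj'], zpow_add, zpow_one, zpow_mul b, zpow_natCast, hA.2 b hb,
      one_zpow, mul_one]
  set c := z ^ m with hcdef
  have hc1 : c ≠ 1 := fun h => htb (by rw [h, one_mul, mul_inv_eq_iff_eq_mul] at hc; exact hc)
  have hcZ : c ∈ Z := zpow_mem (Subgroup.mem_zpowers z) m
  have hgen : Subgroup.zpowers c = Z := Subgroup.eq_of_le_of_card_ge (Subgroup.zpowers_le.2 hcZ)
    (by rw [hZ, Nat.card_zpowers, Nat.card_zpowers, hzo,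
      orderOf_eq_prime (hA.2 c ((Subgroup.zpowers_le.2 hz) hcZ)) hc1])
  have hwk : ∀ i : ℕ, t ^ i * b * (t ^ i)⁻¹ = c ^ i * b := by
    intro i
    induction i with
    | zero => simp
    | succ i ih =>
      calc t ^ (i + 1) * b * (t ^ (i + 1))⁻¹ = t * (t ^ i * b * (t ^ i)⁻¹) * t⁻¹ := by rw [pow_succ']; group
        _ = (t * c ^ i) * b * t⁻¹ := by rw [ih]; group
        _ = (c ^ i * t) * b * t⁻¹ := by rw [((hcz.zpow_right m).pow_right i).eq]
        _ = c ^ i * (t * b * t⁻¹) := by group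
        _ = c ^ (i + 1) * b := by rw [hc, ← mul_assoc, ← pow_succ]
  obtain ⟨m', n', rfl⟩ := hdec y hy
  have hn' : ¬ (p : ℤ) ∣ n' := by
    rintro ⟨q, rfl⟩
    rw [zpow_mul, zpow_natCast, hA.2 b hb, one_zpow, mul_one] at hyz
    exact hyz (zpow_mem (Subgroup.mem_zpowers z) _)
  obtain ⟨a, β, hab⟩ := (Nat.prime_iff_prime_int.1 hp.out).coprime_iff_not_dvd.2 hn'
  have hyb : (z ^ m' * b ^ n') ^ β = z ^ (m' * β) * b := by
    rw [(hzb.zpow_zpow m' n').mul_zpow, ← zpow_mul, ← zpow_mul, show n' * β = 1 + (p : ℤ) * (-a) by linarith [hab],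
      zpow_add, zpow_one, zpow_mul b, zpow_natCast, hA.2 b hb, one_zpow, mul_one]
  obtain ⟨i, hi : c ^ i = z ^ (m' * β)⟩ := (isOfFinOrder_of_finite c).mem_powers_iff_mem_zpowers.2
    (hgen.symm ▸ zpow_mem (Subgroup.mem_zpowers z) (m' * β) : z ^ (m' * β) ∈ Subgroup.zpowers c)
  exact ⟨i, by rw [hwk, hi, ← hyb]; exact zpow_mem (Subgroup.mem_zpowers _) β⟩

/-- A line `⟨b⟩` with centralizer in `M` is not made of `p`-th powers when the Sylow subgroups are nonabelian. -/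
theorem not_pow_of_centralizer_le (hG : Cfsg.IsMinSimpleOddOrder G) (hM : IsCoatom M) (hps : p ∉ Cfsg.sigma M)
    (hAM : A ≤ M) (hA : Cfsg.IsElementaryAbelian p A) (hAc : Nat.card A = p ^ 2)
    (hS : ∀ S : Sylow p G, ¬ IsMulCommutative (S : Subgroup G)) (S : Sylow p M)
    (hAS : A ≤ (S : Subgroup M).map M.subtype) {b y : G} (hbA : b ∈ A) (hb1 : b ≠ 1)
    (hCB : Subgroup.centralizer ({b} : Set G) ≤ M) (hyT : y ∈ (S : Subgroup M).map M.subtype) (hyp : y ^ p = b) :
    False := by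
  haveI := hA.1
  set T := (S : Subgroup M).map M.subtype with hT
  set B₀ := Subgroup.zpowers b with hbB'
  have hbB : Subgroup.zpowers b = B₀ := rfl
  have hb : b ∈ B₀ := Subgroup.mem_zpowers b
  have hbo : orderOf b = p := orderOf_eq_prime (hA.2 b hbA) hb1
  have hB₀A : B₀ ≤ A := Subgroup.zpowers_le.2 hbA
  have hB₀c : Nat.card B₀ = p := (Nat.card_zpowers b).trans hbo
  have hAp := isPGroup_of_elementary hA
  have hTp : IsPGroup p T := S.isPGroup'.map _
  have hTM : T ≤ M := Subgroup.map_subtype_le _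
  have hTcomm := sylow_commute_of_elementary hG hM hps hA hAc S hAS
  have hTpow := mem_iff_pow_eq_one hG hM hps hA hAc S hAS
  obtain ⟨P, hTP⟩ := IsPGroup.exists_le_sylow hTp
  have hPT : (P : Subgroup G) ⊓ M = T :=
    sylow_map_max S _ (P.isPGroup'.to_le inf_le_left) inf_le_right (le_inf hTP hTM)
  have hPM : ¬ (P : Subgroup G) ≤ M := fun h => hS P ⟨⟨fun x y => Subtype.ext
    (hTcomm x (hPT.le ⟨x.2, h x.2⟩) y (hPT.le ⟨y.2, h y.2⟩))⟩⟩
  have hP1 : (P : Subgroup G) ≠ ⊥ := fun h => hPM (h ▸ bot_le)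
  have hp2 : p ≠ 2 := ne_two hG ((dvd_card_of_ne_bot P.isPGroup' hP1).trans (Subgroup.card_subgroup_dvd_card _))
  obtain ⟨z, hzP, hzo, hzc⟩ := exists_elem_pow P.isPGroup' hP1
  have hPCz : (P : Subgroup G) ≤ Subgroup.centralizer ({z} : Set G) := fun x hx =>
    Subgroup.mem_centralizer_singleton_iff.2 (hzc x hx)
  have hCAM : Subgroup.centralizer (A : Set G) ≤ M := centralizer_le_maximal hG hM hAM hA hAc
  have hzM : z ∈ M := hCAM (Subgroup.mem_centralizer_iff.2 fun a ha => hzc a (hTP (hAS ha)))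
  have hzA : z ∈ A := (hTpow z (hPT.le ⟨hzP, hzM⟩)).1 (hzo ▸ pow_orderOf_eq_one z)
  have hbz : b ∉ Subgroup.zpowers z := fun h => by
    have he : Subgroup.zpowers b = Subgroup.zpowers z := Subgroup.eq_of_le_of_card_ge (Subgroup.zpowers_le.2 h)
      (by rw [Nat.card_zpowers, Nat.card_zpowers, hbo, hzo])
    refine hPM (hPCz.trans ?_)
    rw [← centralizer_zpowers, ← he, centralizer_zpowers]
    exact hCB
  have hyP : y ∈ (P : Subgroup G) := hTP hyT
  have hbC : ¬ (P : Subgroup G) ≤ Subgroup.centralizer ({b} : Set G) := fun h => hPM (h.trans hCB)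
  by_cases hrP : Cfsg.PRankLE p 2 (P : Subgroup G)
  · rcases rank_two_structure hG P hrP with hab | ⟨P₁, P₂, hsup, hcomm, -, -, hexp, hcy, -⟩
    · exact hS P hab
    refine hbC ?_
    haveI := hcy
    haveI : IsMulCommutative P₂ := IsCyclic.isMulCommutative
    have hn : P₂ ≤ Subgroup.normalizer (P₁ : Set G) :=
      le_normalizer_of_commute fun u hu => Subgroup.mem_centralizer_iff.2 fun v hv => hcomm v hv u hu
    have hy' : y ∈ (↑(P₁ ⊔ P₂) : Set G) := by rw [hsup]; exact hyP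
    rw [Subgroup.coe_mul_of_right_le_normalizer_left P₁ P₂ hn] at hy'
    obtain ⟨u, hu, v, hv, huv⟩ := Set.mem_mul.1 hy'
    have hup : u ^ p = 1 := by
      have := Monoid.pow_exponent_eq_one (⟨u, hu⟩ : P₁)
      rw [hexp] at this
      exact congrArg Subtype.val this
    have hbv : b = v ^ p := by
      rw [← hyp, ← huv, (show Commute u v from hcomm u hu v hv).mul_pow, hup, one_mul]
    rw [← hsup]
    refine sup_le (fun w hw => Subgroup.mem_centralizer_singleton_iff.2 ?_) fun w hw =>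
      Subgroup.mem_centralizer_singleton_iff.2 ?_
    · rw [hbv]; exact hcomm w hw _ (P₂.pow_mem hv p)
    · rw [hbv]; exact setLike_mul_comm hw (P₂.pow_mem hv p)
  -- rank three: a normal `E_{p²}` would be `A`
  have hmaxel : ∀ F' : Subgroup G, Cfsg.IsElementaryAbelian p F' → A ≤ F' → F' = A := fun F' hF' hle =>
    eq_of_elementary_ge hG hM hps hAM hA hAc hF' hle
  set P' := (P : Subgroup G) with hP'
  have hrP' : ¬ Cfsg.PRankLE p 1 ↥P' := fun h => hrP fun X h1 h2 =>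
    (h X h1 h2).trans (Nat.pow_le_pow_right hp.out.pos one_le_two)
  obtain ⟨W, hWn, hW, hWc⟩ := exists_normal_elem_sq hp2 P.isPGroup' hrP'
  set D := Subgroup.centralizer (W : Set ↥P') with hD
  haveI : D.Normal := Subgroup.normal_centralizer
  have hDi := index_centralizer_le_of_normal_sq P.isPGroup' W hWc
  set W' := W.map P'.subtype with hW'
  have hW'el : Cfsg.IsElementaryAbelian p W' := by
    haveI := hW.1
    refine ⟨inferInstance, ?_⟩
    rintro _ ⟨w, hw, rfl⟩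
    rw [← map_pow, hW.2 w hw, map_one]
  have hbD : (⟨y, hyP⟩ : ↥P') ^ p ∈ D := by
    have hDp : IsPGroup p (↥P' ⧸ D) := P.isPGroup'.to_quotient D
    obtain ⟨n, hn⟩ := hDp.exists_card_eq
    rw [← QuotientGroup.eq_one_iff, QuotientGroup.mk_pow]
    rw [← Subgroup.index_eq_card] at hn
    have hn1 : n ≤ 1 := (Nat.pow_le_pow_iff_right hp.out.one_lt).1 (by rw [← hn, pow_one]; exact hDi)
    refine orderOf_dvd_iff_pow_eq_one.1 ((orderOf_dvd_natCard _).trans ?_)
    rw [← Subgroup.index_eq_card, hn]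
    exact (pow_dvd_pow p hn1).trans (pow_one p).dvd
  have hW'b : ∀ w ∈ W', w * b = b * w := by
    rintro _ ⟨w, hw, rfl⟩
    rw [← hyp]
    exact congrArg Subtype.val (Subgroup.mem_centralizer_iff.1 hbD w hw)
  have hW'A : W' = A := by
    have hsupA : Subgroup.zpowers z ⊔ B₀ = A := sup_lines_eq hA hAc (Subgroup.zpowers_le.2 hzA) hB₀A
      (by rw [Nat.card_zpowers, hzo]) hB₀c fun h => hbz (h.ge hb)
    have hW'P : W' ≤ P' := Subgroup.map_subtype_le _
    have hWA : W' ≤ Subgroup.centralizer (A : Set G) := by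
      rw [← hsupA]
      refine Subgroup.le_centralizer_iff.1 (sup_le (Subgroup.zpowers_le.2 ?_) (hbB ▸ Subgroup.zpowers_le.2 ?_))
      · exact Subgroup.mem_centralizer_iff.2 fun w hw => hzc w (hW'P hw)
      · exact Subgroup.mem_centralizer_iff.2 hW'b
    have hel := NormalEl.elementary_sup hA hW'el fun a ha w hw => Subgroup.mem_centralizer_iff.1 (hWA hw) a ha
    have heq := hmaxel _ hel le_sup_left
    refine Subgroup.eq_of_le_of_card_ge (heq ▸ le_sup_right) ?_
    rw [hW', Subgroup.card_map_of_injective P'.subtype_injective, hWc, hAc]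
  simp only [Cfsg.PRankLE, not_forall, not_le] at hrP
  obtain ⟨R, hR, hRe, hRc⟩ := hrP
  set R' := R.map P'.subtype with hR'
  have hR'el : Cfsg.IsElementaryAbelian p R' := by
    haveI := hR
    refine ⟨inferInstance, ?_⟩
    rintro _ ⟨r, hr, rfl⟩
    rw [← map_pow, hRe r hr, map_one]
  have hDA : D.map P'.subtype ≤ T := by
    rintro _ ⟨d, hd, rfl⟩
    refine hPT.le ⟨d.2, hCAM (Subgroup.mem_centralizer_iff.2 fun a ha => ?_)⟩
    rw [SetLike.mem_coe, ← hW'A] at ha
    obtain ⟨w, hw, rfl⟩ := ha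
    exact congrArg Subtype.val (Subgroup.mem_centralizer_iff.1 hd w hw)
  have hRD : R' ⊓ D.map P'.subtype ≤ A := fun x hx => (hTpow x (hDA hx.2)).1 (hR'el.2 x hx.1)
  have hRi : Nat.card R' ≤ Nat.card ↥(R' ⊓ D.map P'.subtype) * p := by
    rw [hR', ← Subgroup.map_inf _ _ _ P'.subtype_injective, Subgroup.card_map_of_injective P'.subtype_injective,
      Subgroup.card_map_of_injective P'.subtype_injective]
    have h1 := Subgroup.card_mul_index (D.subgroupOf R)
    have h2 : Nat.card ↥(D.subgroupOf R) = Nat.card ↥(R ⊓ D) := by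
      rw [← Subgroup.card_map_of_injective Subtype.val_injective (f := R.subtype), Subgroup.subgroupOf_map_subtype,
        inf_comm]
    rw [← h1, h2]
    exact Nat.mul_le_mul_left _ ((Nat.le_of_dvd (Nat.pos_of_ne_zero Subgroup.index_ne_zero_of_finite)
      (Subgroup.relIndex_dvd_index_of_normal D R)).trans hDi)
  have hRc' : p ^ 2 < Nat.card R' := by rwa [hR', Subgroup.card_map_of_injective P'.subtype_injective]
  have hAR : A ≤ R' := by
    refine le_trans ?_ (inf_le_left : R' ⊓ D.map P'.subtype ≤ R')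
    refine (Subgroup.eq_of_le_of_card_ge hRD ?_).ge
    rw [hAc]
    by_contra hlt'
    rw [not_le] at hlt'
    obtain ⟨i, hi⟩ := (hAp.to_le hRD).exists_card_eq
    rw [hi, Nat.pow_lt_pow_iff_right hp.out.one_lt] at hlt'
    rw [hi, ← pow_succ] at hRi
    exact absurd (hRi.trans (Nat.pow_le_pow_right hp.out.pos (by omega))) (not_le.2 hRc')
  rw [hmaxel R' hR'el hAR, hAc] at hRc'
  exact lt_irrefl _ hRc'


/-- The two sides of B&G 12.7. -/
theorem nonabelian_tau_two (hG : Cfsg.IsMinSimpleOddOrder G) (hM : IsCoatom M) (hps : p ∉ Cfsg.sigma M)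
    (hAM : A ≤ M) (hA : Cfsg.IsElementaryAbelian p A) (hAc : Nat.card A = p ^ 2)
    (hS : ∀ S : Sylow p G, ¬ IsMulCommutative (S : Subgroup G)) :
    ∃ A₀ : Subgroup G, A₀ ≤ A ∧ Nat.card A₀ = p ∧ A ⊓ Subgroup.centralizer (Cfsg.sigmaCore M : Set G) = A₀ ∧
      (∀ X : Subgroup G, X ≤ A → Nat.card X = p → X ≠ A₀ →
        Cfsg.sigmaCore M ⊓ Subgroup.centralizer (X : Set G) = ⊥ ∧ ¬ Subgroup.centralizer (X : Set G) ≤ M) ∧
      Cfsg.tau2 M = {p} ∧ Cfsg.fittingOf M = Cfsg.sigmaCore M ⊔ A₀ := by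
  haveI := hA.1
  set Sσ := Cfsg.sigmaCore M with hSσ
  have hSσM : Sσ ≤ M := Subgroup.map_subtype_le _
  have ht2 := mem_tau2_of_elementary hG hM hps hAM hA hAc
  obtain ⟨hnil, -, -, hCA, -, -⟩ := Cfsg.Agent.S1417.result hG M hM p ht2 A ⟨hAM, hA, hAc⟩
  obtain ⟨E, hAE, hE⟩ := exists_complement_ge hG hM hAM fun t ht hd => by
    rw [hAc] at hd
    exact (Nat.prime_dvd_prime_iff_eq ht hp.out).1 (ht.dvd_of_dvd_pow hd) ▸ hps
  obtain ⟨-, -, hU⟩ := Cfsg.Agent.S1418.result hG M hM E hE p ht2 A ⟨hAE, hA, hAc⟩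
  obtain ⟨B₀, hB₀A, hB₀c, hNB, hBU⟩ := exists_unique_line hG hM hps hAM hA hAc
  obtain ⟨⟨b, hb⟩, hbo⟩ := exists_prime_orderOf_dvd_card' (G := B₀) p (dvd_of_eq hB₀c.symm)
  rw [Subgroup.orderOf_mk] at hbo
  have hb1 : b ≠ 1 := fun h => by rw [h, orderOf_one] at hbo; exact hp.out.one_lt.ne hbo
  have hbB : Subgroup.zpowers b = B₀ := Subgroup.eq_of_le_of_card_ge (Subgroup.zpowers_le.2 hb)
    (by rw [Nat.card_zpowers, hbo, hB₀c])
  have hCB : Subgroup.centralizer ({b} : Set G) ≤ M := by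
    rw [← centralizer_zpowers, hbB]
    exact (Subgroup.centralizer_le_normalizer _).trans hNB
  have hAp := isPGroup_of_elementary hA
  obtain ⟨S, hAS⟩ := exists_max_ge hAp hAM
  set T := (S : Subgroup M).map M.subtype with hT
  have hTp : IsPGroup p T := S.isPGroup'.map _
  have hTM : T ≤ M := Subgroup.map_subtype_le _
  have hTcomm := sylow_commute_of_elementary hG hM hps hA hAc S hAS
  have hTpow := mem_iff_pow_eq_one hG hM hps hA hAc S hAS
  obtain ⟨P, hTP⟩ := IsPGroup.exists_le_sylow hTp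
  have hPT : (P : Subgroup G) ⊓ M = T :=
    sylow_map_max S _ (P.isPGroup'.to_le inf_le_left) inf_le_right (le_inf hTP hTM)
  have hPM : ¬ (P : Subgroup G) ≤ M := fun h => hS P ⟨⟨fun x y => Subtype.ext
    (hTcomm x (hPT.le ⟨x.2, h x.2⟩) y (hPT.le ⟨y.2, h y.2⟩))⟩⟩
  have hP1 : (P : Subgroup G) ≠ ⊥ := fun h => hPM (h ▸ bot_le)
  have hp2 : p ≠ 2 := ne_two hG ((dvd_card_of_ne_bot P.isPGroup' hP1).trans (Subgroup.card_subgroup_dvd_card _))
  obtain ⟨z, hzP, hzo, hzc⟩ := exists_elem_pow P.isPGroup' hP1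
  have hz1 : z ≠ 1 := fun h => by rw [h, orderOf_one] at hzo; exact hp.out.one_lt.ne hzo
  have hPCz : (P : Subgroup G) ≤ Subgroup.centralizer ({z} : Set G) := fun x hx =>
    Subgroup.mem_centralizer_singleton_iff.2 (hzc x hx)
  have hCAM : Subgroup.centralizer (A : Set G) ≤ M := centralizer_le_maximal hG hM hAM hA hAc
  have hzM : z ∈ M := hCAM (Subgroup.mem_centralizer_iff.2 fun a ha => hzc a (hTP (hAS ha)))
  have hzA : z ∈ A := (hTpow z (hPT.le ⟨hzP, hzM⟩)).1 (hzo ▸ pow_orderOf_eq_one z)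
  have hbz : b ∉ Subgroup.zpowers z := fun h => by
    have he : Subgroup.zpowers b = Subgroup.zpowers z := Subgroup.eq_of_le_of_card_ge (Subgroup.zpowers_le.2 h)
      (by rw [Nat.card_zpowers, Nat.card_zpowers, hbo, hzo])
    refine hPM (hPCz.trans ?_)
    rw [← centralizer_zpowers, ← he, centralizer_zpowers]
    exact hCB
  -- an element of `P` outside `M` normalizing `A`
  obtain ⟨t, ⟨htP, htT⟩, htn⟩ : ∃ t ∈ (P : Subgroup G) ⊓ Subgroup.normalizer (T : Set G), t ∉ T :=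
    SetLike.exists_of_lt (exists_lt_mem_normalizer P.isPGroup'
      (lt_of_le_not_ge hTP fun h => hPM (h.trans hTM)))
  have htA : t ∈ Subgroup.normalizer (A : Set G) := by
    refine mem_normalizer_of_map_le ?_
    rintro _ ⟨a, ha, rfl⟩
    exact (hTpow _ ((Subgroup.mem_normalizer_iff.1 htT a).1 (hAS ha))).1
      (by rw [← MulAut.conj_apply, ← map_pow, hA.2 a ha, map_one])
  have htb : t * b ≠ b * t := fun h => htn (hPT.le ⟨htP, hCB (Subgroup.mem_centralizer_singleton_iff.2 h)⟩)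
  obtain ⟨k, hk⟩ := P.isPGroup' ⟨t, htP⟩
  have hmain : ∀ X : Subgroup G, X ≤ A → Nat.card X = p → X ≠ B₀ →
      ¬ Subgroup.centralizer (X : Set G) ≤ M ∨ Sσ ⊓ Subgroup.centralizer (B₀ : Set G) = ⊥ := by
    intro X hXA hXc hne
    obtain ⟨⟨y, hy⟩, hyo⟩ := exists_prime_orderOf_dvd_card' (G := X) p (dvd_of_eq hXc.symm)
    rw [Subgroup.orderOf_mk] at hyo
    have hyX : Subgroup.zpowers y = X := Subgroup.eq_of_le_of_card_ge (Subgroup.zpowers_le.2 hy)
      (by rw [Nat.card_zpowers, hyo, hXc])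
    by_cases hyz : y ∈ Subgroup.zpowers z
    · refine Or.inl fun h => hPM (hPCz.trans ?_)
      have he : Subgroup.zpowers y = Subgroup.zpowers z := Subgroup.eq_of_le_of_card_ge (Subgroup.zpowers_le.2 hyz)
        (by rw [Nat.card_zpowers, Nat.card_zpowers, hyo, hzo])
      rw [← centralizer_zpowers, ← he, hyX]
      exact h
    obtain ⟨i, hi⟩ := exists_conj_of_moves hA hAc hzA (hB₀A hb) hz1 hbz (hzc t htP) htA
      (show t ^ p ^ k = 1 from congrArg Subtype.val hk) htb (hXA hy) hyz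
    have hmap : B₀.map (MulAut.conj (t ^ i)).toMonoidHom = X := by
      refine Subgroup.eq_of_le_of_card_ge ?_ (by rw [card_map_conj, hB₀c, hXc])
      rw [← hbB, map_eq_zpowers, Subgroup.zpowers_le, ← hyX]
      exact hi
    by_contra hcon
    push Not at hcon
    obtain ⟨hCX, hfix⟩ := hcon
    obtain ⟨-, hCBU⟩ := hU B₀ hB₀A hB₀c hfix
    have hMc : IsCoatom (M.map (MulAut.conj (t ^ i)⁻¹).toMonoidHom) := isCoatom_map _ hM
    have hle : Subgroup.centralizer (B₀ : Set G) ≤ M.map (MulAut.conj (t ^ i)⁻¹).toMonoidHom := by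
      intro c hc
      refine ⟨t ^ i * c * (t ^ i)⁻¹, hCX (Subgroup.mem_centralizer_iff.2 fun x hx => ?_), by show (t ^ i)⁻¹ * (t ^ i * c * (t ^ i)⁻¹) * ((t ^ i)⁻¹)⁻¹ = c; group⟩
      rw [SetLike.mem_coe, ← hmap] at hx
      obtain ⟨x', hx', rfl⟩ := hx
      have := Subgroup.mem_centralizer_iff.1 hc x' hx'
      show (t ^ i * x' * (t ^ i)⁻¹) * (t ^ i * c * (t ^ i)⁻¹) = t ^ i * c * (t ^ i)⁻¹ * (t ^ i * x' * (t ^ i)⁻¹)
      calc _ = t ^ i * (x' * c) * (t ^ i)⁻¹ := by group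
        _ = t ^ i * (c * x') * (t ^ i)⁻¹ := by rw [this]
        _ = _ := by group
    have hti : (t ^ i)⁻¹ ∈ M := by
      rw [← normalizer_coatom hG hM (coatom_ne_bot hG hM), Subgroup.mem_normalizer_iff_map_conj_eq]
      exact hCBU _ hMc hle
    have htT : t ^ i ∈ T := hPT.le ⟨pow_mem htP i, (inv_mem_iff (H := M)).1 hti⟩
    refine hne (hmap.symm.trans (map_conj_eq_of_centralizer ?_))
    exact Subgroup.mem_centralizer_iff.2 fun x hx => hTcomm x (hAS (hB₀A hx)) _ htT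
  have hfree : ∀ X : Subgroup G, X ≤ A → Nat.card X = p → X ≠ B₀ → Sσ ⊓ Subgroup.centralizer (X : Set G) = ⊥ := by
    intro X hXA hXc hne
    by_contra hX
    obtain ⟨hCX, hXU⟩ := hU X hXA hXc hX
    obtain ⟨⟨y, hy⟩, hyo⟩ := exists_prime_orderOf_dvd_card' (G := X) p (dvd_of_eq hXc.symm)
    rw [Subgroup.orderOf_mk] at hyo
    have hyX : Subgroup.zpowers y = X := Subgroup.eq_of_le_of_card_ge (Subgroup.zpowers_le.2 hy)
      (by rw [Nat.card_zpowers, hyo, hXc])
    by_cases hyz : y ∈ Subgroup.zpowers z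
    · refine hPM (hPCz.trans ?_)
      have he : Subgroup.zpowers y = Subgroup.zpowers z := Subgroup.eq_of_le_of_card_ge (Subgroup.zpowers_le.2 hyz)
        (by rw [Nat.card_zpowers, Nat.card_zpowers, hyo, hzo])
      rw [← centralizer_zpowers, ← he, hyX]
      exact hCX
    obtain ⟨i, hi⟩ := exists_conj_of_moves hA hAc hzA (hB₀A hb) hz1 hbz (hzc t htP) htA
      (show t ^ p ^ k = 1 from congrArg Subtype.val hk) htb (hXA hy) hyz
    have hmap : B₀.map (MulAut.conj (t ^ i)).toMonoidHom = X := by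
      refine Subgroup.eq_of_le_of_card_ge ?_ (by rw [card_map_conj, hB₀c, hXc])
      rw [← hbB, map_eq_zpowers, Subgroup.zpowers_le, ← hyX]
      exact hi
    have hle : Subgroup.centralizer (X : Set G) ≤ M.map (MulAut.conj (t ^ i)).toMonoidHom := by
      refine (Subgroup.centralizer_le_normalizer _).trans ?_
      rw [← hmap, show Subgroup.normalizer (((B₀).map (MulAut.conj (t ^ i)).toMonoidHom : Subgroup G) : Set G) =
        (Subgroup.normalizer (B₀ : Set G)).map (MulAut.conj (t ^ i)).toMonoidHom from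
          (Subgroup.map_equiv_normalizer_eq _ (MulAut.conj (t ^ i))).symm]
      exact Subgroup.map_mono hNB
    have hti : t ^ i ∈ M := by
      rw [← normalizer_coatom hG hM (coatom_ne_bot hG hM), Subgroup.mem_normalizer_iff_map_conj_eq]
      exact hXU _ (isCoatom_map _ hM) hle
    refine hne (hmap.symm.trans (map_conj_eq_of_centralizer ?_))
    exact Subgroup.mem_centralizer_iff.2 fun x hx => hTcomm x (hAS (hB₀A hx)) _ (hPT.le ⟨pow_mem htP i, hti⟩)
  have hσB : Sσ ≤ Subgroup.centralizer (B₀ : Set G) := by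
    refine CoprimeAction.le_of_centralizers_le (not_isCyclic_of_card_sq hA hAc)
      (hAM.trans (le_normalizer_sigmaCore M)) (coprime_card_of_not_dvd hAc (not_dvd_card_sigmaCore hps))
      fun a ha ha1 => ?_
    have hac : Nat.card ↥(Subgroup.zpowers a) = p := by
      rw [Nat.card_zpowers, orderOf_eq_prime (hA.2 a ha) ha1]
    by_cases he : Subgroup.zpowers a = B₀
    · rw [← centralizer_zpowers, he]
      exact inf_le_right
    · rw [← centralizer_zpowers, hfree _ (Subgroup.zpowers_le.2 ha) hac he]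
      exact bot_le
  have hσ1 : Sσ ≠ ⊥ := sigmaCore_ne_bot hG hM
  have hAσ : A ⊓ Subgroup.centralizer (Sσ : Set G) = B₀ := by
    refine le_antisymm (fun a ha => ?_) (le_inf hB₀A (Subgroup.le_centralizer_iff.1 hσB))
    by_contra han
    have ha1 : a ≠ 1 := fun h => han (h ▸ one_mem _)
    refine hσ1 ?_
    rw [← hfree (Subgroup.zpowers a) (Subgroup.zpowers_le.2 ha.1)
      (by rw [Nat.card_zpowers, orderOf_eq_prime (hA.2 a ha.1) ha1]) fun h => han (h ▸ Subgroup.mem_zpowers a)]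
    refine (inf_eq_left.2 (Subgroup.le_centralizer_iff.1 ?_)).symm
    exact Subgroup.zpowers_le.2 ha.2
  have hτ : Cfsg.tau2 M = {p} := by
    refine Set.eq_singleton_iff_unique_mem.2 ⟨ht2, fun q hq => ?_⟩
    by_contra hqp
    haveI := Fact.mk hq.1
    obtain ⟨B, hBE, hB, hBc⟩ := exists_elementary_in_complement hG hM hE hq.2.1 hq.2.2.2
    have hBp := isPGroup_of_elementary hB
    have hBM : B ≤ M := hBE.trans hE.1
    have hBA : B ≤ Subgroup.centralizer (A : Set G) := tau2_commute hG hM hE hps hAE hA hAc hq hBp hBE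
    have hPu := nonabelian_unique hG P.isPGroup' (hS P)
    obtain ⟨L, ⟨hL, hPL⟩, -⟩ := id hPu
    have hBL : B ≤ L := (hBA.trans (fun x hx => Subgroup.mem_centralizer_singleton_iff.2
      (Subgroup.mem_centralizer_iff.1 hx z hzA).symm)).trans
      (le_of_unique hPu hL hPL (centralizer_singleton_ne_top hG hz1) hPCz)
    have hsL := mem_sigma_of_nonabelian hG hL P.isPGroup' (hS P) hPL
    have hAL : A ≤ L := (hAS.trans hTP).trans hPL
    have hqL : q ∈ Cfsg.sigma L := by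
      by_contra hqL
      have h := (Cfsg.Agent.S1417.result hG L hL q (mem_tau2_of_elementary hG hL hqL hBL hB hBc) B
        ⟨hBL, hB, hBc⟩).2.2.2.1
      refine ne_bot_of_card_sq hAc (le_bot_iff.1 (le_trans ?_ h.le))
      exact le_inf (le_sigmaCore hG hL hsL hAp hAL) (Subgroup.le_centralizer_iff.1 hBA)
    have hpb : p ∉ Cfsg.beta L := fun h => not_ideal hG hM hps ht2.2.2.2 h.2
    have hqb : q ∉ Cfsg.beta L := fun h => not_ideal hG hM hq.2.1 hq.2.2.2 h.2
    obtain ⟨-, -, -, ⟨H, hH, hHn⟩, -⟩ := Cfsg.Agent.S1414.result hG L hL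
    haveI := hHn
    haveI : Group.IsSolvable ↥(Cfsg.sigmaCore L) :=
      isSolvable_of_ne_top hG fun h => hL.1 (top_unique (h.symm.trans_le (Subgroup.map_subtype_le _)))
    have hπ : ∀ (s : ℕ) [Fact s.Prime], s ∉ Cfsg.beta L → ∀ U : Subgroup G, IsPGroup s U →
        Cfsg.IsPiSubgroup {r | r.Prime ∧ r ∉ Cfsg.beta L} U := fun s _ hsb U hU r hr hd => by
      obtain ⟨n, hn⟩ := hU.exists_card_eq
      rw [hn] at hd
      obtain rfl := (Nat.prime_dvd_prime_iff_eq hr Fact.out).1 (hr.dvd_of_dvd_pow hd)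
      exact ⟨hr, hsb⟩
    obtain ⟨g, -, hPg⟩ := Hall.piHallOf_dominance hH (le_sigmaCore hG hL hsL P.isPGroup' hPL) (hπ p hpb _ P.isPGroup')
    obtain ⟨h, -, hBh⟩ := Hall.piHallOf_dominance hH (le_sigmaCore hG hL hqL hBp hBL) (hπ q hqb _ hBp)
    -- the nonabelian `h g⁻¹`-conjugate of `P` centralizes `B`
    set P' := (P : Subgroup G).map (MulAut.conj (h * g⁻¹)).toMonoidHom with hP'
    have hP'B : P' ≤ Subgroup.centralizer (B : Set G) := by
      rintro _ ⟨x, hx, rfl⟩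
      obtain ⟨u, hu, rfl⟩ := hPg hx
      refine Subgroup.mem_centralizer_iff.2 fun v hv => ?_
      obtain ⟨w, hw, rfl⟩ := hBh hv
      have hu1 : ∃ n : ℕ, orderOf u = p ^ n := by
        obtain ⟨n, hn⟩ := IsPGroup.iff_orderOf.1 P.isPGroup' ⟨_, hx⟩
        refine ⟨n, ?_⟩
        rw [← hn, Subgroup.orderOf_mk]
        exact ((MulAut.conj g).orderOf_eq u).symm
      obtain ⟨n, hn⟩ := hu1
      have hw1 : w ^ q = 1 := (MulAut.conj h).injective (by rw [map_pow, map_one]; exact hB.2 _ hv)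
      have hco : (orderOf (⟨w, hw⟩ : H)).Coprime (orderOf (⟨u, hu⟩ : H)) := by
        rw [Subgroup.orderOf_mk, Subgroup.orderOf_mk, hn]
        exact Nat.Coprime.coprime_dvd_left (orderOf_dvd_of_pow_eq_one hw1)
          (((Nat.coprime_primes hq.1 hp.out).2 hqp).pow_right n)
      have hcomm : w * u = u * w := congrArg Subtype.val (Cfsg.Agent.S3939.commute_of_coprime_nilpotent hco)
      show (h * w * h⁻¹) * ((h * g⁻¹) * (g * u * g⁻¹) * (h * g⁻¹)⁻¹) =
        ((h * g⁻¹) * (g * u * g⁻¹) * (h * g⁻¹)⁻¹) * (h * w * h⁻¹)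
      calc _ = h * (w * u) * h⁻¹ := by group
        _ = h * (u * w) * h⁻¹ := by rw [hcomm]
        _ = _ := by group
    obtain ⟨U, hPU⟩ := exists_max_ge (P.isPGroup'.map _)
      (hP'B.trans (centralizer_le_maximal hG hM hBM hB hBc) : P' ≤ M)
    obtain ⟨B', hB'M, hB', hB'c⟩ : ∃ B' : Subgroup G, B' ≤ (U : Subgroup M).map M.subtype ∧
        Cfsg.IsElementaryAbelian p B' ∧ Nat.card B' = p ^ 2 := by
      refine ⟨A.map (MulAut.conj (h * g⁻¹)).toMonoidHom, ?_, elementary_map_conj hA _, (card_map_conj A _).trans hAc⟩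
      exact (Subgroup.map_mono (hAS.trans hTP)).trans hPU
    refine hS ((h * g⁻¹) • P) ⟨⟨fun x y => Subtype.ext ?_⟩⟩
    exact sylow_commute_of_elementary hG hM hps hB' hB'c U hB'M x (hPU x.2) y (hPU y.2)
  refine ⟨B₀, hB₀A, hB₀c, hAσ, fun X hXA hXc hne => ⟨hfree X hXA hXc hne, ?_⟩, hτ, ?_⟩
  · refine (hmain X hXA hXc hne).resolve_right fun h => hσ1 ?_
    rwa [inf_eq_left.2 hσB] at h
  obtain ⟨hYc, hYτ, hF⟩ := Cfsg.Agent.S1439.result hG M hM
  set F := Cfsg.fittingOf M with hFdef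
  set Y := Cfsg.piCoreOf {q | q.Prime ∧ q ∉ Cfsg.sigma M} F with hY
  have hYF : Y ≤ F := Subgroup.map_subtype_le _
  have hFM : F ≤ M := fittingOf_le M
  have hYM : Y ≤ M := hYF.trans hFM
  have hMF : M ≤ Subgroup.normalizer (F : Set G) :=
    Subgroup.le_normalizer.trans (normalizer_le_normalizer_fittingOf M)
  have hMY : M ≤ Subgroup.normalizer (Y : Set G) := by
    haveI := piCore_characteristic {q | q.Prime ∧ q ∉ Cfsg.sigma M} ↥F
    exact hMF.trans (normalizer_le_normalizer_map F _)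
  have hBM : B₀ ≤ M := hB₀A.trans hAM
  have hMB : M ≤ Subgroup.normalizer (B₀ : Set G) := by
    intro m hm
    obtain ⟨e, he, n, hn, rfl⟩ := hE.2.2.2 m hm
    refine mul_mem ?_ (Subgroup.centralizer_le_normalizer _ (hσB hn))
    rw [← hAσ]
    refine Subgroup.inf_normalizer_le_normalizer_inf ⟨?_, ?_⟩
    · exact (Cfsg.Agent.S1418.result hG M hM E hE p ht2 A ⟨hAE, hA, hAc⟩).1.1 he
    · exact Components.normalizer_le_normalizer_centralizer _ (le_normalizer_sigmaCore M (hE.1 he))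
  have hBp : IsPGroup p B₀ := hAp.to_le hB₀A
  have hBF : B₀ ≤ F := le_fittingOf hBM hMB hBp.isNilpotent
  have hBY : B₀ ≤ Y := by
    haveI := Subgroup.normal_subgroupOf_of_le_normalizer (hFM.trans hMB)
    rw [← Subgroup.map_subgroupOf_eq_of_le hBF]
    refine Subgroup.map_mono (Hall.le_piCore fun s hs hd => ?_)
    rw [Nat.card_congr (Subgroup.subgroupOfEquivOfLe hBF).toEquiv, hB₀c] at hd
    exact ⟨hs, (Nat.prime_dvd_prime_iff_eq hs hp.out).1 hd ▸ hps⟩
  have hσF : Sσ ≤ F := le_fittingOf hSσM (le_normalizer_sigmaCore M) hnil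
  refine le_antisymm ?_ (sup_le hσF hBF)
  rw [hF]
  refine sup_le (le_sup_of_le_left (fittingOf_le _)) (le_sup_of_le_right ?_)
  -- `Y` is a cyclic `p`-group without an element of order `p ^ 2`
  have hYp : IsPGroup p Y := by
    refine PCore.isPGroup_of_forall_coprime Y fun x hx hxo => ?_
    by_contra hx1
    obtain ⟨r, hr, hrd⟩ := Nat.exists_prime_and_dvd (fun e => hx1 (orderOf_eq_one_iff.1 e))
    have := hYτ r hr (hrd.trans (Subgroup.orderOf_dvd_natCard _ hx))
    rw [hτ, Set.mem_singleton_iff] at this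
    exact hp.out.coprime_iff_not_dvd.1 hxo.symm (this ▸ hrd)
  by_contra hYB
  have hlt : B₀ < Y := lt_of_le_not_ge hBY hYB
  obtain ⟨U, hYU⟩ := exists_max_ge hYp hYM
  obtain ⟨m, hm, hme⟩ := exists_conj_sylow U S
  have hYT : Y ≤ T := by
    rw [hT, ← hme, ← map_conj_eq_of_normalizer (hMY hm)]
    exact Subgroup.map_mono hYU
  obtain ⟨y, hyY, hyp⟩ : ∃ y ∈ Y, y ^ p = b := by
    obtain ⟨g₀, hg₀⟩ := hYc.exists_generator
    obtain ⟨n, hn⟩ := hYp.exists_card_eq
    have hlt' := card_lt_of_lt hlt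
    rw [hB₀c, hn] at hlt'
    have hn2 : 2 ≤ n := (Nat.pow_lt_pow_iff_right hp.out.one_lt).1 (by rwa [pow_one])
    have hgo : orderOf g₀ = p ^ n := by rw [orderOf_eq_card_of_forall_mem_zpowers hg₀, hn]
    set w := (g₀ : G) ^ p ^ (n - 2) with hw
    have hwo : orderOf (w ^ p) = p := by
      rw [hw, ← pow_mul, ← pow_succ, orderOf_pow, Subgroup.orderOf_coe, hgo,
        Nat.gcd_eq_right (pow_dvd_pow p (by omega)), show n - 2 + 1 = n - 1 by omega,
        Nat.pow_div (by omega) hp.out.pos, show n - (n - 1) = 1 by omega, pow_one]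
    have heq : Subgroup.zpowers (w ^ p) = B₀ :=
      Chev.Ree.GL0.eq_of_card_eq (A := Y) (Subgroup.zpowers_le.2 (pow_mem (pow_mem g₀.2 _) _)) hBY
        (by rw [Nat.card_zpowers, hwo, hB₀c])
    obtain ⟨i, hi⟩ := Subgroup.mem_zpowers_iff.1 (heq ▸ hb : b ∈ Subgroup.zpowers (w ^ p))
    refine ⟨w ^ i, zpow_mem (pow_mem g₀.2 _) i, ?_⟩
    rw [← zpow_natCast (w ^ i), ← zpow_mul, mul_comm, zpow_mul, zpow_natCast, hi]
  exact not_pow_of_centralizer_le hG hM hps hAM hA hAc hS S hAS (hB₀A hb) hb1 hCB (hYT hyY) hyp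

end CfsgLib.SigmaGroups
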