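import Cfsg.Agent.Sigma.KappaStar
import Cfsg.Agent.Sigma.SupportCount
import Cfsg.Agent.S1431
import Cfsg.Agent.CN.MinSimpleOdd

/-!
B&G 14.7: a pair of maximal subgroups `M`, `M*` sharing `K × K*`.
-/

set_option autoImplicit false
set_option linter.unusedSectionVars false
set_option linter.style.haveILetI false

namespace CfsgLib.SigmaGroups

open CfsgLib.BenderUnique CfsgLib.Uniq
open scoped commutatorElement

universe u

variable {G : Type u} [Group G] [Finite G] {M Ms K : Subgroup G}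

theorem mem_zpowers_mul_of_coprime {u v : G} (h : Commute u v) (hc : (orderOf u).Coprime (orderOf v)) :
    u ∈ Subgroup.zpowers (u * v) := by
  obtain ⟨m, hm⟩ := exists_pow_eq_self_of_coprime hc.symm
  have h1 : (u * v) ^ orderOf v = u ^ orderOf v := by rw [h.mul_pow, pow_orderOf_eq_one, mul_one]
  have h2 : (u ^ orderOf v) ^ m ∈ Subgroup.zpowers (u * v) :=
    pow_mem (h1 ▸ pow_mem (Subgroup.mem_zpowers _) _) _
  rwa [hm] at h2

theorem orderOf_coprime_of_coprime {A B : Subgroup G} (hc : (Nat.card A).Coprime (Nat.card B)) {a b : G}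
    (ha : a ∈ A) (hb : b ∈ B) : (orderOf a).Coprime (orderOf b) :=
  (hc.coprime_dvd_left (Subgroup.orderOf_dvd_natCard A ha)).coprime_dvd_right (Subgroup.orderOf_dvd_natCard B hb)

/-- The primes of `r ∈ R(x)` avoid `σ(M)`. -/
theorem supportR_primes (hG : Cfsg.IsMinSimpleOddOrder G) (hM : IsCoatom M) {x r : G}
    (hx : x ∈ Cfsg.sigmaCore M) (hx1 : x ≠ 1) (hr : r ∈ Cfsg.supportR M x) :
    Commute x r ∧ ∀ t : ℕ, t.Prime → t ∣ orderOf r → t ∉ Cfsg.sigma M := by
  by_cases hr1 : r = 1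
  · subst hr1
    exact ⟨Commute.one_right x, fun t ht hd => absurd (orderOf_one (G := G) ▸ hd) ht.not_dvd_one⟩
  obtain ⟨L, hL, hxM, hxL, huniq, hrL, hrC⟩ := supportR_spec hG hr hr1
  obtain ⟨p, hp, hpd⟩ := Nat.exists_prime_and_dvd fun h => hx1 (orderOf_eq_one_iff.1 h)
  haveI := Fact.mk hp
  obtain ⟨z, hz, hzo⟩ := exists_elem_prime (p := p) (H := Subgroup.zpowers x) (by rwa [Nat.card_zpowers])
  refine ⟨(Subgroup.mem_centralizer_singleton_iff.1 hrC).symm, fun t ht hd hts => ?_⟩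
  haveI := Fact.mk ht
  exact sigma_disjoint hG hM hL (line_neighbour hG hM hx hL hxM hxL huniq hz hzo).2.1 hts (prime_mem_sigma L hrL ht hd)

/-- Lines in `K`. -/
theorem exists_line_of_mem {u : G} (hu : u ∈ K) (hu1 : u ≠ 1) :
    ∃ (t : ℕ) (X : Subgroup G), t.Prime ∧ X ≤ K ∧ Nat.card X = t ∧
      Subgroup.centralizer ({u} : Set G) ≤ Subgroup.centralizer (X : Set G) := by
  obtain ⟨t, X, ht, hX, hXc⟩ := exists_line_le (H := Subgroup.zpowers u) fun h => hu1 (Subgroup.zpowers_eq_bot.1 h)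
  refine ⟨t, X, ht, hX.trans (Subgroup.zpowers_le.2 hu), hXc, ?_⟩
  rw [← centralizer_zpowers]
  exact Subgroup.centralizer_le hX

theorem kappaStar_ne_bot (hG : Cfsg.IsMinSimpleOddOrder G) (hM : IsCoatom M)
    (hK : Cfsg.IsPiHallOf (Cfsg.kappa M) K M) (hK1 : K ≠ ⊥) :
    Cfsg.sigmaCore M ⊓ Subgroup.centralizer (K : Set G) ≠ ⊥ := by
  obtain ⟨E, U, -, -, -, -, -, -, -, hlines⟩ := kappa_complement_structure hG hM hK hK1
  obtain ⟨t, X, ht, hX, hXc⟩ := exists_line_le hK1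
  haveI := Fact.mk ht
  rw [← (hlines X hX (by rw [hXc]; exact ht)).1]
  exact (kappa_basic hG hM (hK.2.1 t ht (hXc ▸ Subgroup.card_dvd_of_le hX))).2.2.2 X (hX.trans hK.1) hXc

theorem centralizer_le_kappaStar (hG : Cfsg.IsMinSimpleOddOrder G) (hM : IsCoatom M)
    (hK : Cfsg.IsPiHallOf (Cfsg.kappa M) K M) (hK1 : K ≠ ⊥) {v : G}
    (hv : v ∈ Cfsg.sigmaCore M ⊓ Subgroup.centralizer (K : Set G)) (hv1 : v ≠ 1) :
    Subgroup.centralizer ({v} : Set G) ≤ M := by
  obtain ⟨t, X, ht, hX, hXc⟩ := exists_line_le hK1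
  haveI := Fact.mk ht
  obtain ⟨hts, htrk, -, -⟩ := kappa_basic hG hM (hK.2.1 t ht (hXc ▸ Subgroup.card_dvd_of_le hX))
  exact centralizer_le_of_fixed hG hM hts htrk hXc (hX.trans hK.1) hv.1 hv1 (Subgroup.centralizer_le hX hv.2)

/-- A `v ∈ K*` times a commuting nontrivial `σ(M)'`-element lies outside the conjugates of the sets `xR(x)`. -/
theorem not_mem_supportUnion (hG : Cfsg.IsMinSimpleOddOrder G) (hM : IsCoatom M)
    (hK : Cfsg.IsPiHallOf (Cfsg.kappa M) K M) (hK1 : K ≠ ⊥) {u v : G} (huv : Commute u v)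
    (hv : v ∈ Cfsg.sigmaCore M ⊓ Subgroup.centralizer (K : Set G)) (hv1 : v ≠ 1) (hu1 : u ≠ 1)
    (hu : ∀ t : ℕ, t.Prime → t ∣ orderOf u → t ∉ Cfsg.sigma M) (g : G) :
    g * (u * v) * g⁻¹ ∉ supportUnion M := by
  rintro ⟨h, x, hx, hx1, r, hr, he⟩
  obtain ⟨hcomm, hrp⟩ := supportR_primes hG (isCoatom_map _ hM) hx hx1 hr
  set u' := g * u * g⁻¹ with hu'
  set v' := g * v * g⁻¹ with hv'
  have he' : v' * u' = x * r := by
    rw [← he, hu', hv', show g * v * g⁻¹ * (g * u * g⁻¹) = g * (v * u) * g⁻¹ by group, huv.eq]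
  have hcomm' : Commute v' u' := by
    show v' * u' = u' * v'
    rw [hu', hv', show g * v * g⁻¹ * (g * u * g⁻¹) = g * (v * u) * g⁻¹ by group, ← huv.eq]
    group
  have hord : ∀ a : G, orderOf (g * a * g⁻¹) = orderOf a := fun a => (MulAut.conj g).orderOf_eq a
  have hσ : ∀ {t : ℕ}, t.Prime → (t ∈ Cfsg.sigma (M.map (MulAut.conj h).toMonoidHom) ↔ t ∈ Cfsg.sigma M) :=
    fun {t} ht => by haveI := Fact.mk ht; exact mem_sigma_conj_iff h
  have hxv : v' = x := by
    refine eq_of_coprime_mul hcomm' hcomm he' (lcm_coprime_of_sets (π := Cfsg.sigma M) (π' := (Cfsg.sigma M)ᶜ)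
      (fun t h1 h2 => h2 h1) (fun t ht hd => ?_) (fun t ht hd => ?_) (fun t ht hd => ?_) fun t ht hd h1 => ?_)
    · rw [hv', hord] at hd
      exact prime_mem_sigma M hv.1 ht hd
    · exact (hσ ht).1 (prime_mem_sigma _ hx ht hd)
    · rw [hu', hord] at hd
      exact hu t ht hd
    · exact hrp t ht hd ((hσ ht).2 h1)
  have hru : r = u' := (mul_left_cancel (hxv ▸ he' : x * u' = x * r)).symm
  have hr1 : r ≠ 1 := fun h1 => hu1 (conj_eq_one_iff.1 (h1 ▸ hru).symm)
  obtain ⟨L, -, hxM, -⟩ := supportR_spec hG hr hr1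
  have hmem : v ∈ M.map (MulAut.conj (g⁻¹ * h)).toMonoidHom := by
    rw [← map_conj_map]
    refine ⟨g * v * g⁻¹, ?_, by show g⁻¹ * (g * v * g⁻¹) * g⁻¹⁻¹ = v; group⟩
    rw [← hv', hxv]
    exact (Subgroup.map_subtype_le _ : Cfsg.sigmaCore _ ≤ _) hx
  have hgh : g⁻¹ * h ∈ M := by
    by_contra hn
    have hbot := (Cfsg.Agent.S1431.result hG M hM K hK hK1).1 (g⁻¹ * h) hn
    exact hv1 (Subgroup.mem_bot.1 (hbot ▸ Subgroup.mem_inf.2 ⟨hv, hmem⟩))
  refine hxM fun y hy => ?_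
  have hy' : g⁻¹ * y * g ∈ Subgroup.centralizer ({v} : Set G) := by
    rw [Subgroup.mem_centralizer_singleton_iff] at hy ⊢
    rw [← hxv, hv'] at hy
    have := congrArg (fun a => g⁻¹ * a * g) hy
    simpa [mul_assoc] using this
  have hyM := centralizer_le_kappaStar hG hM hK hK1 hv hv1 hy'
  refine ⟨(g⁻¹ * h)⁻¹ * (g⁻¹ * y * g) * (g⁻¹ * h), mul_mem (mul_mem (inv_mem hgh) hyM) hgh, ?_⟩
  show h * ((g⁻¹ * h)⁻¹ * (g⁻¹ * y * g) * (g⁻¹ * h)) * h⁻¹ = y
  group

/-- If a Hall `κ(M)`-subgroup has a `τ₃`-line, it is a whole complement. -/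
theorem le_of_tau3_kappa (hG : Cfsg.IsMinSimpleOddOrder G) (hM : IsCoatom M)
    (hK : Cfsg.IsPiHallOf (Cfsg.kappa M) K M) (hK1 : K ≠ ⊥) {t : ℕ} (htd : t ∣ Nat.card K)
    (ht3 : t ∈ Cfsg.tau3 M) :
    ∃ E : Subgroup G, Cfsg.IsComplIn E (Cfsg.sigmaCore M) M ∧ K ≤ E ∧ E ≤ K := by
  haveI := Fact.mk ht3.1
  obtain ⟨E, U, hE, hKE, -, hUE, -, hEU, hEKU, hlines⟩ := kappa_complement_structure hG hM hK hK1
  obtain ⟨x, hx, hxo⟩ := exists_elem_prime (p := t) htd
  have hXc : Nat.card (Subgroup.zpowers x) = t := by rw [Nat.card_zpowers, hxo]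
  have hXK : Subgroup.zpowers x ≤ K := Subgroup.zpowers_le.2 hx
  have hXU := (hlines _ hXK (by rw [hXc]; exact ht3.1)).2.2
  have hfix := (kappa_basic hG hM (hK.2.1 t ht3.1 htd)).2.2.2 _ (hXK.trans hK.1) hXc
  refine ⟨E, hE, hKE, ?_⟩
  suffices hU0 : U = ⊥ by rwa [hU0, sup_bot_eq] at hEKU
  by_contra hU0
  obtain ⟨s, R, hs, hRU, hRc⟩ := exists_line_le hU0
  haveI := Fact.mk hs
  obtain ⟨-, hER⟩ := tau3_structure hG hM hE ht3 hXc (hXK.trans hKE) hfix hRc (hRU.trans hUE)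
  have hEX := le_normalizer_tau3_line hG hM hE ht3 hXc (hXK.trans hKE)
  refine line_ne_bot hRc (le_bot_iff.1 (hXU ▸ le_inf hRU ?_))
  refine Subgroup.commutator_eq_bot_iff_le_centralizer.1 (le_bot_iff.1 ?_)
  rw [← (eq_bot_iff.2 fun a ha => hXU.le ⟨?_, ?_⟩ : Subgroup.zpowers x ⊓ R = ⊥)]
  · refine le_inf ?_ (CoprimeAction.commutator_le_of_normalizer ((hXK.trans hKE).trans hER))
    rw [Subgroup.commutator_comm]
    exact CoprimeAction.commutator_le_of_normalizer ((hRU.trans hUE).trans hEX)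
  · exact hRU ha.2
  · refine Subgroup.mem_centralizer_iff.2 fun b hb => setLike_mul_comm hb ha.1

theorem kappa_tau_one (hG : Cfsg.IsMinSimpleOddOrder G) (hM : IsCoatom M)
    (hK : Cfsg.IsPiHallOf (Cfsg.kappa M) K M) (hK1 : K ≠ ⊥) (hKc : IsCyclic K) :
    Cfsg.kappa M = Cfsg.tau1 M := by
  haveI : IsMulCommutative K := IsCyclic.isMulCommutative
  ext t
  constructor
  · intro htk
    haveI := Fact.mk htk.1
    refine ((kappa_basic hG hM htk).2.2.1).resolve_right fun ht3 => ?_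
    have htd : t ∣ Nat.card K := by
      have h2 := htk.2.1
      rw [← Subgroup.relIndex_bot_left, ← Subgroup.relIndex_mul_relIndex ⊥ K M bot_le hK.1] at h2
      rw [← Subgroup.relIndex_bot_left]
      exact (htk.1.dvd_mul.1 h2).resolve_right (hK.2.2 t htk.1 htk)
    obtain ⟨E, hE, -, hEK⟩ := le_of_tau3_kappa hG hM hK hK1 htd ht3
    have hd := dvd_card_derived_complement hE htk.1 ht3.2.1 ht3.2.2.1
    have h0 : ⁅E, E⁆ = ⊥ := Subgroup.commutator_eq_bot_iff_le_centralizer.2 fun a ha =>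
      Subgroup.mem_centralizer_iff.2 fun b hb => setLike_mul_comm (hEK hb) (hEK ha)
    rw [h0, Subgroup.card_bot] at hd
    exact htk.1.not_dvd_one hd
  · intro ht1
    haveI := Fact.mk ht1.1
    by_contra htk
    obtain ⟨E, U, hE, hKE, -, hUE, hU, hEU, -, hlines⟩ := kappa_complement_structure hG hM hK hK1
    have htU : t ∣ Nat.card U := by
      have h2 := ht1.2.2.1
      rw [← Subgroup.relIndex_bot_left, ← Subgroup.relIndex_mul_relIndex ⊥ U M bot_le hU.1] at h2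
      rw [← Subgroup.relIndex_bot_left]
      exact (ht1.1.dvd_mul.1 h2).resolve_right (hU.2.2 t ht1.1 ⟨ht1.1, htk, ht1.2.1⟩)
    obtain ⟨s, X, hs, hXK, hXc⟩ := exists_line_le hK1
    have hXU : X ≤ Subgroup.normalizer (U : Set G) := (hXK.trans hKE).trans hEU
    haveI : Group.IsSolvable U := isSolvable_of_ne_top hG fun h => hM.1 (top_le_iff.1 (h ▸ hU.1))
    have hcop : (Nat.card X).Coprime (Nat.card U) := by
      rw [hXc]
      exact (Nat.Prime.coprime_iff_not_dvd hs).2 fun hd =>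
        (hU.2.1 s hs hd).2.1 (hK.2.1 s hs (hXc ▸ Subgroup.card_dvd_of_le hXK))
    have hsup := CoprimeAction.commutator_sup_centralizer hXU hcop (Or.inr inferInstance)
    rw [(hlines X hXK (by rw [hXc]; exact hs)).2.2, sup_bot_eq] at hsup
    refine ht1.2.2.2.1 (htU.trans (Subgroup.card_dvd_of_le ?_))
    rw [← hsup]
    exact Subgroup.commutator_mono hU.1 (hXK.trans hK.1)

/-- The hypotheses on a pair `M`, `M*`. -/
structure KappaPair (M Ms K : Subgroup G) : Prop where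
  hall : Cfsg.IsPiHallOf (Cfsg.kappa M) K M
  ne_bot : K ≠ ⊥
  eq_star : K = Cfsg.sigmaCore Ms ⊓
    Subgroup.centralizer ((Cfsg.sigmaCore M ⊓ Subgroup.centralizer (K : Set G)) : Set G)
  hall_star : Cfsg.IsPiHallOf (Cfsg.kappa Ms) (Cfsg.sigmaCore M ⊓ Subgroup.centralizer (K : Set G)) Ms

variable (hG : Cfsg.IsMinSimpleOddOrder G) (hM : IsCoatom M) (hMs : IsCoatom Ms) (P : KappaPair M Ms K)

include hG hM hMs P

/-- The `σ`-sets of a pair are those of nonconjugate subgroups. -/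
theorem KappaPair.not_conj (g : G) : Ms ≠ M.map (MulAut.conj g).toMonoidHom := by
  intro he
  obtain ⟨t, X, ht, hX, hXc⟩ := exists_line_le P.ne_bot
  haveI := Fact.mk ht
  have hd : t ∣ Nat.card K := hXc ▸ Subgroup.card_dvd_of_le hX
  exact (P.hall.2.1 t ht hd).2.2.1 ((mem_sigma_conj_iff g).1 (he ▸ mem_sigma_of_dvd Ms ht
    (hd.trans (Subgroup.card_dvd_of_le (P.eq_star.le.trans inf_le_left)))))

theorem KappaPair.coprime :
    (Nat.card K).Coprime (Nat.card ↥(Cfsg.sigmaCore M ⊓ Subgroup.centralizer (K : Set G))) :=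
  Nat.coprime_of_dvd fun t ht h1 h2 => (P.hall.2.1 t ht h1).2.2.1
    (mem_sigma_of_dvd M ht (h2.trans (Subgroup.card_dvd_of_le inf_le_left)))

theorem KappaPair.commute :
    K ≤ Subgroup.centralizer ((Cfsg.sigmaCore M ⊓ Subgroup.centralizer (K : Set G)) : Set G) :=
  Subgroup.le_centralizer_iff.1 inf_le_right

theorem KappaPair.star_eq : Cfsg.sigmaCore Ms ⊓
    Subgroup.centralizer ((Cfsg.sigmaCore M ⊓ Subgroup.centralizer (K : Set G) : Subgroup G) : Set G) = K :=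
  P.eq_star.symm

theorem KappaPair.symm :
    KappaPair Ms M (Cfsg.sigmaCore M ⊓ Subgroup.centralizer (K : Set G)) :=
  ⟨P.hall_star, kappaStar_ne_bot hG hM P.hall P.ne_bot, (congrArg
    (fun W : Subgroup G => Cfsg.sigmaCore M ⊓ Subgroup.centralizer (W : Set G)) (P.star_eq hG hM hMs)).symm, by
    rw [P.star_eq hG hM hMs]; exact P.hall⟩

theorem KappaPair.exists_mul {a : G}
    (ha : a ∈ K ⊔ (Cfsg.sigmaCore M ⊓ Subgroup.centralizer (K : Set G))) :
    ∃ u ∈ K, ∃ v ∈ Cfsg.sigmaCore M ⊓ Subgroup.centralizer (K : Set G), u * v = a :=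
  CoprimeAction.exists_mul_of_mem_sup ((P.commute hG hM hMs).trans (Subgroup.centralizer_le_normalizer _)) ha

/-- Elements of `Z = K × K*` outside both factors are moved into `Z` only by elements of `Z`. -/
theorem KappaPair.mem_of_conj {a g : G}
    (ha : a ∈ (↑(K ⊔ (Cfsg.sigmaCore M ⊓ Subgroup.centralizer (K : Set G))) : Set G) \
      ((K : Set G) ∪ ↑(Cfsg.sigmaCore M ⊓ Subgroup.centralizer (K : Set G))))
    (hg : g * a * g⁻¹ ∈ K ⊔ (Cfsg.sigmaCore M ⊓ Subgroup.centralizer (K : Set G))) :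
    g ∈ K ⊔ (Cfsg.sigmaCore M ⊓ Subgroup.centralizer (K : Set G)) := by
  set S := Cfsg.sigmaCore M ⊓ Subgroup.centralizer (K : Set G) with hS
  obtain ⟨u, hu, v, hv, rfl⟩ := P.exists_mul hG hM hMs ha.1
  have hu1 : u ≠ 1 := fun h => ha.2 (Or.inr (by rw [h, one_mul]; exact hv))
  have hv1 : v ≠ 1 := fun h => ha.2 (Or.inl (by rw [h, mul_one]; exact hu))
  have huv : Commute u v := (Subgroup.mem_centralizer_iff.1 (P.commute hG hM hMs hu) v hv).symm
  have hc := orderOf_coprime_of_coprime (P.coprime hG hM hMs) hu hv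
  obtain ⟨u', hu', v', hv', he⟩ := P.exists_mul hG hM hMs hg
  have hcomm' : Commute u' v' := (Subgroup.mem_centralizer_iff.1 (P.commute hG hM hMs hu') v' hv').symm
  have hcommg : Commute (g * u * g⁻¹) (g * v * g⁻¹) := huv.map (MulAut.conj g).toMonoidHom
  have heq : g * u * g⁻¹ = u' := by
    refine eq_of_coprime_mul hcommg hcomm' (by rw [he]; group)
      (lcm_coprime_of_sets (π := {t | t ∣ Nat.card K}) (π' := {t | ¬ t ∣ Nat.card K}) (fun t h1 h2 => h2 h1)
        (fun t _ hd => ?_) (fun t _ hd => hd.trans (Subgroup.orderOf_dvd_natCard K hu'))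
        (fun t ht hd h1 => ?_) fun t ht hd h1 => ?_)
    · rw [show orderOf (g * u * g⁻¹) = orderOf u from (MulAut.conj g).orderOf_eq u] at hd
      exact hd.trans (Subgroup.orderOf_dvd_natCard K hu)
    · rw [show orderOf (g * v * g⁻¹) = orderOf v from (MulAut.conj g).orderOf_eq v] at hd
      exact Nat.not_coprime_of_dvd_of_dvd ht.one_lt h1 (hd.trans (Subgroup.orderOf_dvd_natCard S hv))
        (P.coprime hG hM hMs)
    · exact Nat.not_coprime_of_dvd_of_dvd ht.one_lt h1 (hd.trans (Subgroup.orderOf_dvd_natCard S hv'))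
        (P.coprime hG hM hMs)
  have heqv : g * v * g⁻¹ = v' := by
    have h : g * u * g⁻¹ * (g * v * g⁻¹) = u' * v' := by rw [he]; group
    rw [heq] at h
    exact mul_left_cancel h
  -- a prime power of `v` puts `g` into `M`
  obtain ⟨t, ht, htd⟩ := Nat.exists_prime_and_dvd fun h => hv1 (orderOf_eq_one_iff.1 h)
  haveI := Fact.mk ht
  obtain ⟨z, hz, hzo⟩ := exists_elem_prime (p := t) (H := Subgroup.zpowers v) (by rwa [Nat.card_zpowers])
  have hzS : z ∈ S := Subgroup.zpowers_le.2 hv hz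
  have hgM : g ∈ M := by
    refine mem_of_conj_mem_of_elem hG hM (mem_sigma_of_dvd M ht (hzo ▸ Subgroup.orderOf_dvd_natCard _ hzS.1)) hzo
      ((Subgroup.map_subtype_le _ : Cfsg.sigmaCore M ≤ M) hzS.1)
      (centralizer_le_kappaStar hG hM P.hall P.ne_bot hzS fun h => ht.one_lt.ne (by rw [← hzo, h, orderOf_one])) ?_
    obtain ⟨i, rfl⟩ := Subgroup.mem_zpowers_iff.1 hz
    rw [← conj_zpow, heqv]
    exact zpow_mem ((Subgroup.map_subtype_le _ : Cfsg.sigmaCore M ≤ M) hv'.1) _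
  exact mem_of_conj_kappa hG hM P.hall P.ne_bot hgM hu hu1 (heq ▸ hu')

theorem KappaPair.centralizer_star {y : G} (hy : y ∈ Cfsg.sigmaCore M ⊓ Subgroup.centralizer (K : Set G))
    (hy1 : y ≠ 1) :
    Ms ⊓ Subgroup.centralizer ({y} : Set G) ≤ K ⊔ (Cfsg.sigmaCore M ⊓ Subgroup.centralizer (K : Set G)) := by
  intro g hg
  have h := mem_of_conj_kappa hG hMs P.hall_star (kappaStar_ne_bot hG hM P.hall P.ne_bot) hg.1 hy hy1 (by
    rw [Subgroup.mem_centralizer_singleton_iff.1 hg.2, mul_inv_cancel_right]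
    exact hy)
  rwa [P.star_eq hG hM hMs, sup_comm] at h

/-- The count of the conjugates of `Ẑ`. -/
theorem KappaPair.ncard_conj :
    Nat.card K * Nat.card ↥(Cfsg.sigmaCore M ⊓ Subgroup.centralizer (K : Set G)) *
      Set.ncard {a : G | ∃ g : G, ∃ z ∈ ((↑(K ⊔ (Cfsg.sigmaCore M ⊓ Subgroup.centralizer (K : Set G))) : Set G) \
        ((K : Set G) ∪ ↑(Cfsg.sigmaCore M ⊓ Subgroup.centralizer (K : Set G)))), a = g * z * g⁻¹} =
      (Nat.card K * Nat.card ↥(Cfsg.sigmaCore M ⊓ Subgroup.centralizer (K : Set G)) - Nat.card K -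
        Nat.card ↥(Cfsg.sigmaCore M ⊓ Subgroup.centralizer (K : Set G)) + 1) * Nat.card G := by
  set S := Cfsg.sigmaCore M ⊓ Subgroup.centralizer (K : Set G) with hS
  have hcard : Nat.card ↥(K ⊔ S) = Nat.card K * Nat.card S :=
    CfsgLib.TypeP.card_sup_of_le_centralizer (P.commute hG hM hMs)
      (Subgroup.inf_eq_bot_of_coprime (P.coprime hG hM hMs))
  set Zh := (↑(K ⊔ S) : Set G) \ ((K : Set G) ∪ ↑S) with hZh
  have hconj : ∀ z ∈ K ⊔ S, ∀ s ∈ Zh, z * s * z⁻¹ ∈ Zh := by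
    intro z hz s hs
    have hzK : z ∈ Subgroup.normalizer (K : Set G) := sup_le Subgroup.le_normalizer
      ((inf_le_right : S ≤ Subgroup.centralizer (K : Set G)).trans (Subgroup.centralizer_le_normalizer _)) hz
    have hzS : z ∈ Subgroup.normalizer (S : Set G) := sup_le
      ((P.commute hG hM hMs).trans (Subgroup.centralizer_le_normalizer _)) Subgroup.le_normalizer hz
    exact ⟨mul_mem (mul_mem hz hs.1) (inv_mem hz), fun h => hs.2 (h.imp
      (fun h' => (Subgroup.mem_normalizer_iff.1 hzK s).2 h') fun h' => (Subgroup.mem_normalizer_iff.1 hzS s).2 h')⟩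
  have h := ncard_conj_of_TI hconj fun g s hs hgs => P.mem_of_conj hG hM hMs hs hgs.1
  rw [hcard] at h
  suffices hh : Zh.ncard = Nat.card K * Nat.card S - Nat.card K - Nat.card S + 1 by rw [h, hh]
  have hsub : (K : Set G) ∪ ↑S ⊆ ↑(K ⊔ S) := Set.union_subset (SetLike.coe_subset_coe.2 le_sup_left)
    (SetLike.coe_subset_coe.2 le_sup_right)
  have hinter : (K : Set G) ∩ ↑S = {1} := by
    rw [← Subgroup.coe_inf, Subgroup.inf_eq_bot_of_coprime (P.coprime hG hM hMs), Subgroup.coe_bot]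
  have hu := Set.ncard_union_add_ncard_inter (K : Set G) ↑S
  rw [hinter, Set.ncard_singleton] at hu
  have hd := Set.ncard_diff_add_ncard_of_subset hsub
  rw [← hZh] at hd
  have e1 : ((↑(K ⊔ S) : Set G)).ncard = Nat.card K * Nat.card S := by rw [← Nat.card_coe_set_eq]; exact hcard
  have e2 : ((K : Set G)).ncard = Nat.card K := (Nat.card_coe_set_eq _).symm
  have e3 : ((S : Set G)).ncard = Nat.card S := (Nat.card_coe_set_eq _).symm
  rw [e1] at hd
  rw [e2, e3] at hu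
  have hk2 : 2 ≤ Nat.card K := by
    have h1 : Nat.card K ≠ 1 := fun e => P.ne_bot (Subgroup.card_eq_one.1 e)
    have := Nat.card_pos (α := K)
    omega
  have hl2 : 2 ≤ Nat.card S := by
    have h1 : Nat.card S ≠ 1 := fun e => kappaStar_ne_bot hG hM P.hall P.ne_bot (Subgroup.card_eq_one.1 e)
    have := Nat.card_pos (α := S)
    omega
  have hle : Nat.card K + Nat.card S ≤ Nat.card K * Nat.card S := by nlinarith
  generalize Nat.card K * Nat.card S = kl at hd hle ⊢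
  omega

theorem KappaPair.lt_ncard_conj :
    Nat.card G < 2 * Set.ncard {a : G | ∃ g : G, ∃ z ∈ ((↑(K ⊔ (Cfsg.sigmaCore M ⊓ Subgroup.centralizer (K : Set G))) : Set G) \
        ((K : Set G) ∪ ↑(Cfsg.sigmaCore M ⊓ Subgroup.centralizer (K : Set G)))), a = g * z * g⁻¹} := by
  have h := P.ncard_conj hG hM hMs
  set k := Nat.card K with hk
  set l := Nat.card ↥(Cfsg.sigmaCore M ⊓ Subgroup.centralizer (K : Set G)) with hl
  set N := Set.ncard {a : G | ∃ g : G, ∃ z ∈ ((↑(K ⊔ (Cfsg.sigmaCore M ⊓ Subgroup.centralizer (K : Set G))) : Set G) \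
        ((K : Set G) ∪ ↑(Cfsg.sigmaCore M ⊓ Subgroup.centralizer (K : Set G)))), a = g * z * g⁻¹} with hN
  have hk3 : 3 ≤ k := by
    have h1 : k ≠ 1 := fun e => P.ne_bot (Subgroup.card_eq_one.1 e)
    obtain ⟨m, hm⟩ := odd_card hG K
    omega
  have hl3 : 3 ≤ l := by
    have h1 : l ≠ 1 := fun e => kappaStar_ne_bot hG hM P.hall P.ne_bot (Subgroup.card_eq_one.1 e)
    obtain ⟨m, hm⟩ := odd_card hG (Cfsg.sigmaCore M ⊓ Subgroup.centralizer (K : Set G))
    omega
  have hne : k ≠ l := fun e => by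
    have hc : k.Coprime l := P.coprime hG hM hMs
    rw [← e, Nat.coprime_self] at hc
    omega
  have hkl : k + l ≤ k * l := by nlinarith
  have hcast : ((k : ℤ) * l * N) = ((k : ℤ) * l - k - l + 1) * Nat.card G := by
    have h2 : k * l - k - l + 1 + k + l = k * l + 1 := by omega
    have h2' : ((k * l - k - l + 1 : ℕ) : ℤ) = (k : ℤ) * l - k - l + 1 := by
      have := congrArg (Nat.cast : ℕ → ℤ) h2
      push_cast at this ⊢
      linarith
    rw [← h2']
    exact_mod_cast h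
  have hG0 : (0 : ℤ) < Nat.card G := by exact_mod_cast Nat.card_pos
  have hk' : (3 : ℤ) ≤ k := by exact_mod_cast hk3
  have hl' : (3 : ℤ) ≤ l := by exact_mod_cast hl3
  have hkey : 3 ≤ ((k : ℤ) - 2) * ((l : ℤ) - 2) := by
    rcases Nat.lt_or_gt_of_ne hne with h' | h'
    · have : (4 : ℤ) ≤ l := by exact_mod_cast (by omega : 4 ≤ l)
      obtain ⟨m, hm⟩ := odd_card hG (Cfsg.sigmaCore M ⊓ Subgroup.centralizer (K : Set G))
      have : (5 : ℤ) ≤ l := by exact_mod_cast (by omega : 5 ≤ l)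
      nlinarith
    · obtain ⟨m, hm⟩ := odd_card hG K
      have : (5 : ℤ) ≤ k := by exact_mod_cast (by omega : 5 ≤ k)
      nlinarith
  have : (Nat.card G : ℤ) < 2 * N := by nlinarith
  exact_mod_cast this

theorem KappaPair.star_commutative : IsMulCommutative ↥(Cfsg.sigmaCore M ⊓ Subgroup.centralizer (K : Set G)) := by
  classical
  set S := Cfsg.sigmaCore M ⊓ Subgroup.centralizer (K : Set G) with hS
  have hS1 : S ≠ ⊥ := kappaStar_ne_bot hG hM P.hall P.ne_bot
  have hSMs : S ≤ Ms := P.hall_star.1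
  have hSπ : ∀ t : ℕ, t.Prime → t ∣ Nat.card S → t ∉ Cfsg.sigma Ms := fun t ht hd =>
    (P.hall_star.2.1 t ht hd).2.2.1
  obtain ⟨Es, -, hEs⟩ := exists_complement_ge hG hMs hSMs hSπ
  by_cases hP1 : ∃ q : ℕ, q.Prime ∧ q ∣ Nat.card M ∧ q ∉ Cfsg.sigma M ∧ q ∉ Cfsg.kappa M
  · obtain ⟨q, hq, hqM, hqs, hqk⟩ := hP1
    haveI := Fact.mk hq
    obtain ⟨T⟩ : Nonempty (Sylow q M) := inferInstance
    haveI := (omega_structure hG hM hqM hqs hqk (S := T) rfl).2.2
    exact (Cfsg.Agent.S1420.result hG Ms hMs Es hEs).1 S hSMs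
      (CfsgLib.CN.MinOdd.isNilpotent_of_inj (Subgroup.inclusion (inf_le_left : S ≤ Cfsg.sigmaCore M))
        (Subgroup.inclusion_injective _)) hSπ
  push Not at hP1
  by_cases hall : ∀ t : ℕ, t.Prime → t ∣ Nat.card S → t ∈ Cfsg.tau1 Ms
  · haveI := isCyclic_of_tau_one_group hG hMs hSMs hall
    exact IsCyclic.isMulCommutative
  push Not at hall
  obtain ⟨t, ht, htS, ht1⟩ := hall
  haveI := Fact.mk ht
  have ht3 := ((kappa_basic hG hMs (P.hall_star.2.1 t ht htS)).2.2.1).resolve_left ht1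
  obtain ⟨F, hF, hSF, hFS⟩ := le_of_tau3_kappa hG hMs P.hall_star hS1 htS ht3
  obtain ⟨E, U, hE, hKE, -, hUE, hU, -, hEKU, -⟩ := kappa_complement_structure hG hM P.hall P.ne_bot
  have hU0 : U = ⊥ := by
    by_contra hU0
    obtain ⟨q, hq, hd⟩ := Nat.exists_prime_and_dvd fun e => hU0 (Subgroup.card_eq_one.1 e)
    obtain ⟨-, hqk, hqs⟩ := hU.2.1 q hq hd
    exact hqk (hP1 q hq (hd.trans (Subgroup.card_dvd_of_le hU.1)) hqs)
  rw [hU0, sup_bot_eq] at hEKU
  have hMcard : Nat.card M = Nat.card K * Nat.card ↥(Cfsg.sigmaCore M) := by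
    rw [CfsgLib.TypeP.card_eq_of_isComplIn hE, le_antisymm hEKU hKE]
  have hMscard : Nat.card Ms = Nat.card S * Nat.card ↥(Cfsg.sigmaCore Ms) := by
    rw [CfsgLib.TypeP.card_eq_of_isComplIn hF, le_antisymm hFS hSF]
  -- `K*` is proper in `M_σ`
  have hproper : ∀ {M K E : Subgroup G}, IsCoatom M → Cfsg.IsPiHallOf (Cfsg.kappa M) K M → K ≠ ⊥ →
      Cfsg.IsComplIn E (Cfsg.sigmaCore M) M → K ≤ E → E ≤ K →
      3 * Nat.card ↥(Cfsg.sigmaCore M ⊓ Subgroup.centralizer (K : Set G)) ≤ Nat.card ↥(Cfsg.sigmaCore M) := by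
    intro M K E hM hK hK1 hE hKE hEK
    have hne : Cfsg.sigmaCore M ⊓ Subgroup.centralizer (K : Set G) ≠ Cfsg.sigmaCore M := fun h => by
      obtain ⟨E', U', -, -, -, -, -, -, -, hlines⟩ := kappa_complement_structure hG hM hK hK1
      obtain ⟨s, X, hs, hX, hXc⟩ := exists_line_le hK1
      haveI := Fact.mk hs
      obtain ⟨hss, hsrk, -, -⟩ := kappa_basic hG hM (hK.2.1 s hs (hXc ▸ Subgroup.card_dvd_of_le hX))
      exact not_le_centralizer_sigmaCore hG hM hss hsrk hE hXc (hEK.trans (hlines X hX (by rw [hXc]; exact hs)).2.1)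
        (Subgroup.le_centralizer_iff.1 ((h.ge.trans inf_le_right).trans (Subgroup.centralizer_le hX)))
    have hmul : Nat.card ↥(Cfsg.sigmaCore M ⊓ Subgroup.centralizer (K : Set G)) *
        (Cfsg.sigmaCore M ⊓ Subgroup.centralizer (K : Set G)).relIndex (Cfsg.sigmaCore M) =
        Nat.card ↥(Cfsg.sigmaCore M) := by
      rw [← Subgroup.relIndex_bot_left, ← Subgroup.relIndex_bot_left]
      exact Subgroup.relIndex_mul_relIndex _ _ _ bot_le inf_le_left
    set i := (Cfsg.sigmaCore M ⊓ Subgroup.centralizer (K : Set G)).relIndex (Cfsg.sigmaCore M) with hi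
    have hi1 : i ≠ 1 := fun e => hne (le_antisymm inf_le_left (Subgroup.relIndex_eq_one.1 e))
    have hodd : Odd (Nat.card ↥(Cfsg.sigmaCore M)) := odd_card hG _
    rw [← hmul, Nat.odd_mul] at hodd
    obtain ⟨m, hm⟩ := hodd.2
    have : 3 ≤ i := by omega
    calc 3 * Nat.card ↥(Cfsg.sigmaCore M ⊓ Subgroup.centralizer (K : Set G))
        ≤ i * Nat.card ↥(Cfsg.sigmaCore M ⊓ Subgroup.centralizer (K : Set G)) := Nat.mul_le_mul_right _ this
      _ = Nat.card ↥(Cfsg.sigmaCore M) := by rw [mul_comm, hmul]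
  have hp1 := hproper hM P.hall P.ne_bot hE hKE hEKU
  have hp2 := hproper hMs P.hall_star hS1 hF hSF hFS
  rw [P.star_eq hG hM hMs] at hp2
  -- the three sets are disjoint
  set W := {a : G | ∃ g : G, ∃ z ∈ ((↑(K ⊔ S) : Set G) \ ((K : Set G) ∪ ↑S)), a = g * z * g⁻¹} with hW
  have hdec : ∀ z ∈ ((↑(K ⊔ S) : Set G) \ ((K : Set G) ∪ ↑S)),
      ∃ u ∈ K, ∃ v ∈ S, u ≠ 1 ∧ v ≠ 1 ∧ Commute u v ∧ u * v = z := fun z hz => by
    obtain ⟨u, hu, v, hv, rfl⟩ := P.exists_mul hG hM hMs hz.1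
    exact ⟨u, hu, v, hv, fun h => hz.2 (Or.inr (by rw [h, one_mul]; exact hv)),
      fun h => hz.2 (Or.inl (by rw [h, mul_one]; exact hu)),
      (Subgroup.mem_centralizer_iff.1 (P.commute hG hM hMs hu) v hv).symm, rfl⟩
  have hd1 : Disjoint (supportUnion M) W := Set.disjoint_left.2 fun a ha hb => by
    obtain ⟨g, z, hz, rfl⟩ := hb
    obtain ⟨u, hu, v, hv, hu1, hv1, huv, rfl⟩ := hdec z hz
    exact not_mem_supportUnion hG hM P.hall P.ne_bot huv hv hv1 hu1
      (fun s hs hd => (P.hall.2.1 s hs (hd.trans (Subgroup.orderOf_dvd_natCard K hu))).2.2.1) g ha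
  have hd2 : Disjoint (supportUnion Ms) W := Set.disjoint_left.2 fun a ha hb => by
    obtain ⟨g, z, hz, rfl⟩ := hb
    obtain ⟨u, hu, v, hv, hu1, hv1, huv, rfl⟩ := hdec z hz
    rw [huv.eq] at ha
    exact not_mem_supportUnion hG hMs P.hall_star hS1 huv.symm ((P.star_eq hG hM hMs).symm ▸ hu) hu1 hv1
      (fun s hs hd => hSπ s hs (hd.trans (Subgroup.orderOf_dvd_natCard S hv))) g ha
  have hd3 : Disjoint (supportUnion M) (supportUnion Ms) := Set.disjoint_left.2 fun a ha hb => by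
    obtain ⟨g, x, hx, hx1, r, hr, rfl⟩ := ha
    obtain ⟨h, y, hy, hy1, s, hs, he⟩ := hb
    by_cases hxy : x = y
    · obtain ⟨l, hl, hld⟩ := Nat.exists_prime_and_dvd fun e => hx1 (orderOf_eq_one_iff.1 e)
      haveI := Fact.mk hl
      exact sigma_disjoint hG hM hMs (P.not_conj hG hM hMs)
        ((mem_sigma_conj_iff g).1 (prime_mem_sigma _ hx hl hld))
        ((mem_sigma_conj_iff h).1 (prime_mem_sigma _ hy hl (hxy ▸ hld)))
    · exact support_disjoint hG (isCoatom_map _ hM) (isCoatom_map _ hMs) hx hy hx1 hy1 hxy hr hs he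
  have hsum : (supportUnion M).ncard + (supportUnion Ms).ncard + W.ncard ≤ Nat.card G := by
    rw [← Set.ncard_union_eq hd3, ← Set.ncard_union_eq (Set.disjoint_union_left.2 ⟨hd1, hd2⟩), ← Set.ncard_univ]
    exact Set.ncard_le_ncard (Set.subset_univ _)
  have h1 := ncard_supportUnion hG hM
  have h2 := ncard_supportUnion hG hMs
  have h3 := P.ncard_conj hG hM hMs
  rw [hMcard] at h1
  rw [hMscard] at h2
  exfalso
  have hk0 : 0 < Nat.card K := Nat.card_pos
  have hl0 : 0 < Nat.card S := Nat.card_pos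
  have hkl : Nat.card K + Nat.card S ≤ Nat.card K * Nat.card S + 1 := by nlinarith
  have e2 : Nat.card K * Nat.card S - Nat.card K - Nat.card S + 1 + Nat.card K + Nat.card S =
      Nat.card K * Nat.card S + 1 := by
    have : 2 ≤ Nat.card K := by
      have := Nat.card_pos (α := K)
      have h1 : Nat.card K ≠ 1 := fun e => P.ne_bot (Subgroup.card_eq_one.1 e)
      omega
    have : 2 ≤ Nat.card S := by
      have h1 : Nat.card S ≠ 1 := fun e => hS1 (Subgroup.card_eq_one.1 e)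
      omega
    have : Nat.card K + Nat.card S ≤ Nat.card K * Nat.card S := by nlinarith
    omega
  set gG := Nat.card G with hgG
  set k := Nat.card K with hk
  set l := Nat.card S with hl
  set m := Nat.card ↥(Cfsg.sigmaCore M) with hm
  set n := Nat.card ↥(Cfsg.sigmaCore Ms) with hn
  set A := (supportUnion M).ncard with hA
  set B := (supportUnion Ms).ncard with hB
  set C := W.ncard with hC
  have hm0 : 0 < m := by omega
  have hn0 : 0 < n := by omega
  obtain ⟨m', hm'⟩ : ∃ m', m = m' + 1 := ⟨m - 1, by omega⟩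
  obtain ⟨n', hn'⟩ : ∃ n', n = n' + 1 := ⟨n - 1, by omega⟩
  rw [hm'] at h1 hp1
  rw [hn'] at h2 hp2
  simp only [Nat.add_sub_cancel] at h1 h2
  have hg0 : 0 < gG := Nat.card_pos
  set D := k * l - k - l + 1 with hD
  have key : gG * ((m' * l * (n' + 1)) + n' * k * (m' + 1) + D * (m' + 1) * (n' + 1)) ≤
      gG * (k * l * (m' + 1) * (n' + 1)) := by
    calc gG * ((m' * l * (n' + 1)) + n' * k * (m' + 1) + D * (m' + 1) * (n' + 1))
        = gG * m' * (l * (n' + 1)) + gG * n' * (k * (m' + 1)) + (D * gG) * ((m' + 1) * (n' + 1)) := by ring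
      _ ≤ k * (m' + 1) * A * (l * (n' + 1)) + l * (n' + 1) * B * (k * (m' + 1)) +
          (k * l * C) * ((m' + 1) * (n' + 1)) := by
        exact add_le_add (add_le_add (Nat.mul_le_mul_right _ h1) (Nat.mul_le_mul_right _ h2))
          (Nat.mul_le_mul_right _ h3.ge)
      _ = (A + B + C) * (k * l * (m' + 1) * (n' + 1)) := by ring
      _ ≤ gG * (k * l * (m' + 1) * (n' + 1)) := Nat.mul_le_mul_right _ hsum
  have key' := Nat.le_of_mul_le_mul_left key hg0
  have q1 : (D + k + l) * ((m' + 1) * (n' + 1)) = (k * l + 1) * ((m' + 1) * (n' + 1)) := by rw [hD, e2]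
  have q2 : (m' + 1) * (n' + 1) ≤ l * (n' + 1) + k * (m' + 1) := by linarith
  have q3 : 3 * l * (n' + 1) ≤ (m' + 1) * (n' + 1) := Nat.mul_le_mul_right _ hp1
  have q4 : 3 * k * (m' + 1) ≤ (n' + 1) * (m' + 1) := Nat.mul_le_mul_right _ hp2
  have q5 : 0 < (m' + 1) * (n' + 1) := by positivity
  linarith

theorem KappaPair.star_hall :
    Cfsg.IsPiHallOf (Cfsg.sigma M) (Cfsg.sigmaCore M ⊓ Subgroup.centralizer (K : Set G)) Ms := by
  set S := Cfsg.sigmaCore M ⊓ Subgroup.centralizer (K : Set G) with hS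
  have hS1 : S ≠ ⊥ := kappaStar_ne_bot hG hM P.hall P.ne_bot
  refine ⟨P.hall_star.1, fun t ht hd => mem_sigma_of_dvd M ht (hd.trans (Subgroup.card_dvd_of_le inf_le_left)),
    fun t ht htM hd => ?_⟩
  haveI := Fact.mk ht
  have htMs : t ∉ Cfsg.sigma Ms := sigma_disjoint hG hM hMs (P.not_conj hG hM hMs) htM
  have htk : t ∉ Cfsg.kappa Ms := fun h => P.hall_star.2.2 t ht h hd
  obtain ⟨E, U, hE, hSE, hUc, hUE, hU, hEU, -, hlines⟩ := kappa_complement_structure hG hMs P.hall_star hS1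
  have htU : t ∣ Nat.card U := by
    have h2 : t ∣ Nat.card Ms := hd.trans (Subgroup.index_dvd_card _)
    rw [← Subgroup.relIndex_bot_left, ← Subgroup.relIndex_mul_relIndex ⊥ U Ms bot_le hU.1] at h2
    rw [← Subgroup.relIndex_bot_left]
    exact (ht.dvd_mul.1 h2).resolve_right (hU.2.2 t ht ⟨ht, htk, htMs⟩)
  haveI : Group.IsSolvable U := isSolvable_of_ne_top hG fun h => hMs.1 (top_le_iff.1 (h ▸ hU.1))
  have hcop : (Nat.card S).Coprime (Nat.card U) := Nat.coprime_of_dvd fun s hs h1 h2 =>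
    (hU.2.1 s hs h2).2.1 (P.hall_star.2.1 s hs h1)
  obtain ⟨T₀, hST⟩ := CoprimeAction.exists_invariant_sylow (hSE.trans hEU) hcop (Or.inr inferInstance) t
  set T := (T₀ : Subgroup U).map U.subtype with hT
  have hT1 : T ≠ ⊥ := fun h => by
    have h' := T₀.dvd_card_of_dvd_card htU
    rw [← Subgroup.card_map_of_injective U.subtype_injective, ← hT, h, Subgroup.card_bot] at h'
    exact ht.not_dvd_one h'
  have hY : ∀ s : ℕ, s.Prime → s ∣ Nat.card ↥(S ⊔ T) → s ∈ Cfsg.sigma M := fun s hs hd' => by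
    have h := ZJ.card_sup_mul_card_inf_of_le_normalizer hST
    rcases hs.dvd_mul.1 (h ▸ hd'.trans (dvd_mul_right _ _)) with h' | h'
    · exact mem_sigma_of_dvd M hs (h'.trans (Subgroup.card_dvd_of_le inf_le_left))
    · exact primes_of_pgroup ht (T₀.isPGroup'.map U.subtype) s hs h' ▸ htM
  have hTσ : T ≤ Cfsg.sigmaCore M := le_sup_right.trans
    ((Cfsg.Agent.S1431.result hG M hM K P.hall P.ne_bot).2.2.2 (S ⊔ T) hY
      fun h => hS1 (le_bot_iff.1 (h ▸ le_inf le_sup_left le_rfl)))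
  have hKc : K ≤ Subgroup.centralizer (T : Set G) :=
    (le_inf (P.eq_star.le.trans inf_le_left) P.hall.1).trans ((sigma_inf_commute hG hM hMs (P.not_conj hG hM hMs)).trans
      (Subgroup.centralizer_le (le_inf hTσ ((Subgroup.map_subtype_le _).trans hU.1) : T ≤ Cfsg.sigmaCore M ⊓ Ms)))
  refine hT1 (le_bot_iff.1 ?_)
  rw [← Subgroup.inf_eq_bot_of_coprime hcop]
  exact le_inf (le_inf hTσ (Subgroup.le_centralizer_iff.1 hKc)) (Subgroup.map_subtype_le _)

theorem KappaPair.centralizers {x y : G} (hx : x ∈ K) (hx1 : x ≠ 1)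
    (hy : y ∈ Cfsg.sigmaCore M ⊓ Subgroup.centralizer (K : Set G)) (hy1 : y ≠ 1) :
    M ⊓ Subgroup.centralizer ({x} : Set G) = K ⊔ (Cfsg.sigmaCore M ⊓ Subgroup.centralizer (K : Set G)) ∧
      Ms ⊓ Subgroup.centralizer ({y} : Set G) = K ⊔ (Cfsg.sigmaCore M ⊓ Subgroup.centralizer (K : Set G)) ∧
      Subgroup.centralizer ({x * y} : Set G) = K ⊔ (Cfsg.sigmaCore M ⊓ Subgroup.centralizer (K : Set G)) := by
  set S := Cfsg.sigmaCore M ⊓ Subgroup.centralizer (K : Set G) with hS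
  haveI : IsMulCommutative K := by
    have h := (P.symm hG hM hMs).star_commutative hG hMs hM
    rwa [P.star_eq hG hM hMs] at h
  haveI : IsMulCommutative S := P.star_commutative hG hM hMs
  have hKx : K ⊔ S ≤ Subgroup.centralizer ({x} : Set G) := sup_le
    (fun a ha => Subgroup.mem_centralizer_singleton_iff.2 (setLike_mul_comm ha hx))
    fun a ha => Subgroup.mem_centralizer_singleton_iff.2 (Subgroup.mem_centralizer_iff.1 ha.2 x hx).symm
  have hKy : K ⊔ S ≤ Subgroup.centralizer ({y} : Set G) := sup_le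
    (fun a ha => Subgroup.mem_centralizer_singleton_iff.2 (Subgroup.mem_centralizer_iff.1 hy.2 a ha))
    fun a ha => Subgroup.mem_centralizer_singleton_iff.2 (setLike_mul_comm ha hy)
  have hSM : Cfsg.sigmaCore M ≤ M := Subgroup.map_subtype_le _
  refine ⟨le_antisymm (fun g hg => mem_of_conj_kappa hG hM P.hall P.ne_bot hg.1 hx hx1 ?_)
      (le_inf (sup_le P.hall.1 (inf_le_left.trans hSM)) hKx),
    le_antisymm (P.centralizer_star hG hM hMs hy hy1)
      (le_inf (sup_le ((P.eq_star.le.trans inf_le_left).trans (Subgroup.map_subtype_le _)) P.hall_star.1) hKy),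
    le_antisymm (fun g hg => P.mem_of_conj hG hM hMs (a := x * y) ⟨Subgroup.mul_mem_sup hx hy, ?_⟩ ?_) ?_⟩
  · rw [Subgroup.mem_centralizer_singleton_iff.1 hg.2, mul_inv_cancel_right]
    exact hx
  · rintro (h | h)
    · exact hy1 (Subgroup.mem_bot.1 (Subgroup.inf_eq_bot_of_coprime (P.coprime hG hM hMs) ▸
        Subgroup.mem_inf.2 ⟨(Subgroup.mul_mem_cancel_left K hx).1 h, hy⟩))
    · exact hx1 (Subgroup.mem_bot.1 (Subgroup.inf_eq_bot_of_coprime (P.coprime hG hM hMs) ▸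
        Subgroup.mem_inf.2 ⟨hx, (Subgroup.mul_mem_cancel_right S hy).1 h⟩))
  · rw [Subgroup.mem_centralizer_singleton_iff.1 hg, mul_inv_cancel_right]
    exact Subgroup.mul_mem_sup hx hy
  · intro a ha
    exact Subgroup.mem_centralizer_singleton_iff.2
      ((show Commute a x from Subgroup.mem_centralizer_singleton_iff.1 (hKx ha)).mul_right
        (show Commute a y from Subgroup.mem_centralizer_singleton_iff.1 (hKy ha))).eq

theorem KappaPair.not_mem_conj {z g : G} (hg : g ∉ M)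
    (hz : z ∈ (↑(K ⊔ (Cfsg.sigmaCore M ⊓ Subgroup.centralizer (K : Set G))) : Set G) \
      ((K : Set G) ∪ ↑(Cfsg.sigmaCore M ⊓ Subgroup.centralizer (K : Set G)))) :
    z ∉ M.map (MulAut.conj g).toMonoidHom := by
  intro hzg
  obtain ⟨u, hu, v, hv, rfl⟩ := P.exists_mul hG hM hMs hz.1
  have hv1 : v ≠ 1 := fun h => hz.2 (Or.inl (by rw [h, mul_one]; exact hu))
  have huv : Commute u v := (Subgroup.mem_centralizer_iff.1 (P.commute hG hM hMs hu) v hv).symm
  have hv' : v ∈ Subgroup.zpowers (u * v) := huv.eq ▸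
    mem_zpowers_mul_of_coprime huv.symm (orderOf_coprime_of_coprime (P.coprime hG hM hMs) hu hv).symm
  have h := (Cfsg.Agent.S1431.result hG M hM K P.hall P.ne_bot).1 g hg
  exact hv1 (Subgroup.mem_bot.1 (h ▸ Subgroup.mem_inf.2 ⟨hv, Subgroup.zpowers_le.2 hzg hv'⟩))

end CfsgLib.SigmaGroups
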