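import Cfsg.Agent.Sigma.KappaTypeTwo
import Cfsg.Agent.S1432
import Cfsg.Agent.S1425

/-!
B&G 14.10 / 16.x: the sets `M̃` and the conjugates of `Ẑ` cover the nonidentity elements.
-/

set_option autoImplicit false
set_option linter.unusedSectionVars false
set_option linter.style.haveILetI false

namespace CfsgLib.SigmaGroups

open CfsgLib.BenderUnique CfsgLib.Uniq
open scoped commutatorElement

universe u

variable {G : Type u} [Group G] [Finite G] {M Ms N L K : Subgroup G} {x y g r : G}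

/-- The neighbour of an element of `M_σ` whose centralizer leaves `M`. -/
theorem neighbour_data (hG : Cfsg.IsMinSimpleOddOrder G) (hM : IsCoatom M) (hx : x ∈ Cfsg.sigmaCore M)
    (hx1 : x ≠ 1) (hxM : ¬ Subgroup.centralizer ({x} : Set G) ≤ M) :
    ∃ L : Subgroup G, IsCoatom L ∧ Subgroup.centralizer ({x} : Set G) ≤ L ∧
      (∀ L' : Subgroup G, IsCoatom L' → Subgroup.centralizer ({x} : Set G) ≤ L' → L' = L) ∧
      (∀ g : G, L ≠ M.map (MulAut.conj g).toMonoidHom) ∧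
      (∀ t : ℕ, t.Prime → t ∣ orderOf x → t ∈ Cfsg.tau2 L) ∧
      Group.IsNilpotent (Cfsg.sigmaCore L) ∧
      (∃ E : Subgroup G, Cfsg.IsComplIn E (Cfsg.sigmaCore L) L ∧ E ≤ M) ∧
      Cfsg.sigmaCore L ⊓ Subgroup.centralizer ({x} : Set G) ≤ Cfsg.supportR M x := by
  have hSM : Cfsg.sigmaCore M ≤ M := Subgroup.map_subtype_le _
  obtain ⟨c, hc, hcM⟩ := SetLike.not_le_iff_exists.1 hxM
  have hxc : x ∈ M.map (MulAut.conj c).toMonoidHom := ⟨x, hSM hx, by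
    show c * x * c⁻¹ = x
    rw [Subgroup.mem_centralizer_singleton_iff.1 hc, mul_inv_cancel_right]⟩
  obtain ⟨r, hr, he⟩ := exists_support_conj hG hM hx hx1 hxc
  have hM1 : M ≠ ⊥ := fun h => hx1 (Subgroup.mem_bot.1 (h ▸ hSM hx))
  have hr1 : r ≠ 1 := fun h => by
    rw [h, map_conj_one] at he
    have hcn : c ∈ Subgroup.normalizer (M : Set G) := Subgroup.mem_normalizer_iff_map_conj_eq.2 he
    rw [normalizer_coatom hG hM hM1] at hcn
    exact hcM hcn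
  obtain ⟨L, hL, -, hxL, huniq, -, -⟩ := supportR_spec hG hr hr1
  have hne : L ≠ M := fun h => hxM (h ▸ hxL)
  obtain ⟨p, hp, hpd⟩ := Nat.exists_prime_and_dvd fun h => hx1 (orderOf_eq_one_iff.1 h)
  have hdata : ∀ t : ℕ, t.Prime → t ∣ orderOf x → t ∈ Cfsg.tau2 L ∧
      (∀ g : G, L ≠ M.map (MulAut.conj g).toMonoidHom) ∧
      ∃ E : Subgroup G, Cfsg.IsComplIn E (Cfsg.sigmaCore L) L ∧ E ≤ M := fun t ht hd => by
    haveI := Fact.mk ht
    obtain ⟨z, hz, hzo⟩ := exists_elem_prime (p := t) (H := Subgroup.zpowers x) (by rwa [Nat.card_zpowers])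
    obtain ⟨htM, hnc, -⟩ := line_neighbour hG hM hx hL hxM hxL huniq hz hzo
    have hz1 : z ≠ 1 := fun h => ht.one_lt.ne (by rw [← hzo, h, orderOf_one])
    set Z := Subgroup.zpowers z with hZ
    have hCx : Subgroup.centralizer ({x} : Set G) ≤ Subgroup.centralizer (Z : Set G) := by
      rw [← centralizer_zpowers x]
      exact Subgroup.centralizer_le (Subgroup.zpowers_le.2 hz)
    obtain ⟨L', hL', hNL'⟩ := exists_coatom_ge (normalizer_zpowers_ne_top hG hz1)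
    rw [huniq L' hL' ((hCx.trans (Subgroup.centralizer_le_normalizer _)).trans hNL')] at hNL'
    have hZp : IsPGroup t Z := IsPGroup.of_card (n := 1) (by rw [hZ, Nat.card_zpowers, hzo, pow_one])
    have hZ1 : Z ≠ ⊥ := fun h => hz1 (Subgroup.zpowers_eq_bot.1 h)
    obtain ⟨S, hS⟩ := exists_max_ge hZp (le_inf ((Subgroup.zpowers_le.2 (hSM (Subgroup.zpowers_le.2 hx hz))))
      (Subgroup.le_normalizer.trans hNL') : Z ≤ M ⊓ L)
    obtain ⟨h1, -, -, h4⟩ := embedding_nonsigma hG hM htM hZp hZ1 hL hne hNL' S hS (sigma_disjoint hG hM hL hnc htM)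
    exact ⟨h1, hnc, h4⟩
  obtain ⟨hp2, hnc, hE⟩ := hdata p hp hpd
  haveI := Fact.mk hp
  obtain ⟨A, hAL, hA, hAc⟩ := exists_elem_of_not_prank hp2.2.2.2
  have hn := (Cfsg.Agent.S1417.result hG L hL p hp2 A ⟨hAL, hA, hAc⟩).1
  refine ⟨L, hL, hxL, huniq, hnc, fun t ht hd => (hdata t ht hd).1, hn, hE, fun b hb => ?_⟩
  have hcond : ¬ Subgroup.centralizer ({x} : Set G) ≤ M ∧
      ∃! L' : Subgroup G, IsCoatom L' ∧ Subgroup.centralizer ({x} : Set G) ≤ L' :=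
    ⟨hxM, L, ⟨hL, hxL⟩, fun L' h => huniq L' h.1 h.2⟩
  rw [Cfsg.supportR, dif_pos hcond]
  have hch := Classical.choose_spec hcond.2.exists
  refine Subgroup.mem_inf.2 ⟨?_, hb.2⟩
  rw [huniq _ hch.1 hch.2]
  exact sigmaCore_le_fittingHallOf hG hL hn hb.1

theorem supportR_conj (hG : Cfsg.IsMinSimpleOddOrder G) (hM : IsCoatom M) (hx : x ∈ Cfsg.sigmaCore M)
    (hx1 : x ≠ 1) (hr : r ∈ Cfsg.supportR M x) (h : G) :
    h * r * h⁻¹ ∈ Cfsg.supportR (M.map (MulAut.conj h).toMonoidHom) (h * x * h⁻¹) := by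
  by_cases hr1 : r = 1
  · rw [hr1, mul_one, mul_inv_cancel]
    exact one_mem _
  obtain ⟨L₀, hL₀, hxM, hxL₀, huniq₀, hrL, hrC⟩ := supportR_spec hG hr hr1
  obtain ⟨L, hL, hxL, -, -, -, -, -, -⟩ := neighbour_data hG hM hx hx1 hxM
  have hxs : h * x * h⁻¹ ∈ Cfsg.sigmaCore (M.map (MulAut.conj h).toMonoidHom) :=
    sigmaCore_conj_ge hG hM h ⟨x, hx, rfl⟩
  have hcen : ∀ {L : Subgroup G}, Subgroup.centralizer ({x} : Set G) ≤ L →
      Subgroup.centralizer ({h * x * h⁻¹} : Set G) ≤ L.map (MulAut.conj h).toMonoidHom := fun {L} hle c hc => by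
    refine ⟨h⁻¹ * c * h, hle (Subgroup.mem_centralizer_singleton_iff.2 ?_), by
      show h * (h⁻¹ * c * h) * h⁻¹ = c; group⟩
    have h1 := congrArg (fun w => h⁻¹ * w * h) (Subgroup.mem_centralizer_singleton_iff.1 hc)
    simpa [mul_assoc] using h1
  have hrc : h * r * h⁻¹ ∈ Subgroup.centralizer ({h * x * h⁻¹} : Set G) := Subgroup.mem_centralizer_singleton_iff.2 <| by
    rw [show h * r * h⁻¹ * (h * x * h⁻¹) = h * (r * x) * h⁻¹ by group, Subgroup.mem_centralizer_singleton_iff.1 hrC]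
    group
  have hxM' : ¬ Subgroup.centralizer ({h * x * h⁻¹} : Set G) ≤ M.map (MulAut.conj h).toMonoidHom := fun hle =>
    hxM fun c hc => by
      have hc' : h * c * h⁻¹ ∈ Subgroup.centralizer ({h * x * h⁻¹} : Set G) :=
        Subgroup.mem_centralizer_singleton_iff.2 <| by
          rw [show h * c * h⁻¹ * (h * x * h⁻¹) = h * (c * x) * h⁻¹ by group,
            Subgroup.mem_centralizer_singleton_iff.1 hc]
          group
      obtain ⟨m, hm, he⟩ := hle hc'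
      simp only [MulEquiv.coe_toMonoidHom, MulAut.conj_apply] at he
      rwa [← mul_left_cancel (mul_right_cancel he)]
  obtain ⟨L', hL', -, huniq', -, -, -, -, hR'⟩ :=
    neighbour_data hG (isCoatom_map _ hM) hxs (fun e => hx1 (conj_eq_one_iff.1 e)) hxM'
  refine hR' (Subgroup.mem_inf.2 ⟨?_, hrc⟩)
  rw [← huniq' _ (isCoatom_map _ hL₀) (hcen hxL₀), sigmaCore_conj hG hL₀ h]
  exact ⟨r, hrL, rfl⟩

/-- Membership in some `M̃`. -/
def InTilde (g : G) : Prop :=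
  ∃ N : Subgroup G, IsCoatom N ∧ g ∈ Cfsg.tildeOf N ((Cfsg.sigmaCore N : Set G) \ {1})

theorem inTilde_of_support (hM : IsCoatom M) (hx : x ∈ Cfsg.sigmaCore M) (hx1 : x ≠ 1)
    (hr : r ∈ Cfsg.supportR M x) : InTilde (x * r) :=
  ⟨M, hM, x, ⟨hx, hx1⟩, r, hr, 1, by group⟩

/-- An element commuting with an element of `M_σ` inside `M`, outside `σ(M)`. -/
theorem covered_of_mem (hG : Cfsg.IsMinSimpleOddOrder G) (hM : IsCoatom M) (hx : x ∈ Cfsg.sigmaCore M)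
    (hx1 : x ≠ 1) (hy : y ∈ M) (hxy : Commute x y) (hy1 : y ≠ 1)
    (hys : ∀ t : ℕ, t.Prime → t ∣ orderOf y → t ∉ Cfsg.sigma M) :
    InTilde (x * y) ∨ ∀ t : ℕ, t.Prime → t ∣ orderOf y → t ∈ Cfsg.kappa M := by
  rcases Cfsg.Agent.S1432.result hG M hM x hx hx1 y
    (Subgroup.mem_inf.2 ⟨hy, Subgroup.mem_centralizer_singleton_iff.2 hxy.eq.symm⟩) hy1 hys with
    ⟨hκ, -⟩ | ⟨hτ, ⟨L, hL, hLs⟩, hC, huniq⟩
  · exact Or.inr hκ
  left
  obtain ⟨p, hp, hpd⟩ := Nat.exists_prime_and_dvd fun h => hy1 (orderOf_eq_one_iff.1 h)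
  haveI := Fact.mk hp
  obtain ⟨a, ha⟩ := Cfsg.Agent.S1425.result hG L hL (Subgroup.zpowers y)
    (fun h => hy1 (Subgroup.zpowers_eq_bot.1 h)) fun t ht hd => hLs t ht (by rwa [Nat.card_zpowers] at hd)
  set L' := L.map (MulAut.conj a⁻¹).toMonoidHom with hL'
  have hyL' : y ∈ Cfsg.sigmaCore L' := by
    rw [hL', sigmaCore_conj hG hL]
    exact ⟨a * y * a⁻¹, ha ⟨y, Subgroup.mem_zpowers y, rfl⟩, by show a⁻¹ * (a * y * a⁻¹) * a⁻¹⁻¹ = y; group⟩
  have hL'c : IsCoatom L' := isCoatom_map _ hL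
  have hnle : ¬ Subgroup.centralizer ({y} : Set G) ≤ L' := fun hle =>
    hys p hp hpd (huniq L' hL'c hle ▸ prime_mem_sigma L' hyL' hp hpd)
  obtain ⟨N, hN, hyN, hNuniq, -, -, -, -, hR⟩ := neighbour_data hG hL'c hyL' hy1 hnle
  have hNM : N = M := huniq N hN hyN
  rw [hxy.eq]
  refine inTilde_of_support hL'c hyL' hy1 (hR (Subgroup.mem_inf.2 ⟨hNM.symm ▸ hx, ?_⟩))
  exact Subgroup.mem_centralizer_singleton_iff.2 hxy.eq

/-- Every nonidentity element lies in some `M̃` or is a `σ × κ` product. -/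
theorem covered (hG : Cfsg.IsMinSimpleOddOrder G) (hg : g ≠ 1) :
    InTilde g ∨ ∃ (M : Subgroup G) (x y : G), IsCoatom M ∧ x ∈ Cfsg.sigmaCore M ∧ x ≠ 1 ∧ y ∈ M ∧
      Commute x y ∧ y ≠ 1 ∧ g = x * y ∧ ∀ t : ℕ, t.Prime → t ∣ orderOf y → t ∈ Cfsg.kappa M := by
  classical
  -- the `σ`-part of an element
  have hpart : ∀ (π : Set ℕ) (g : G), ∃ a ∈ Subgroup.zpowers g, ∃ b ∈ Subgroup.zpowers g, g = a * b ∧
      (∀ t : ℕ, t.Prime → t ∣ orderOf a → t ∈ π) ∧ ∀ t : ℕ, t.Prime → t ∣ orderOf b → t ∉ π := by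
    intro π g
    set n := orderOf g with hn
    have hn0 : n ≠ 0 := (orderOf_pos g).ne'
    set A := ∏ t ∈ n.primeFactors.filter (· ∈ π), t ^ n.factorization t with hA
    set B := ∏ t ∈ n.primeFactors.filter (· ∉ π), t ^ n.factorization t with hB
    have hAB : A * B = n := by
      rw [hA, hB, Finset.prod_filter_mul_prod_filter_not]
      exact (Nat.prod_primeFactors_pow_factorization hn0).symm
    have hdiv : ∀ (s : Finset ℕ) (t : ℕ), t.Prime → (∀ l ∈ s, l.Prime) →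
        t ∣ ∏ l ∈ s, l ^ n.factorization l → t ∈ s := fun s t ht hs hd => by
      obtain ⟨l, hl, hld⟩ := (ht.prime.dvd_finsetProd_iff _).1 hd
      exact (Nat.prime_dvd_prime_iff_eq ht (hs l hl)).1 (ht.dvd_of_dvd_pow hld) ▸ hl
    have hpr : ∀ (P : ℕ → Prop) [DecidablePred P], ∀ l ∈ n.primeFactors.filter P, l.Prime := fun P _ l hl =>
      Nat.prime_of_mem_primeFactors (Finset.mem_filter.1 hl).1
    have hcop : A.Coprime B := Nat.coprime_of_dvd fun t ht h1 h2 =>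
      (Finset.mem_filter.1 (hdiv _ t ht (hpr _) h2)).2 (Finset.mem_filter.1 (hdiv _ t ht (hpr _) h1)).2
    refine ⟨g ^ ((B : ℤ) * Nat.gcdB A B), zpow_mem (Subgroup.mem_zpowers g) _,
      g ^ ((A : ℤ) * Nat.gcdA A B), zpow_mem (Subgroup.mem_zpowers g) _, ?_, fun t ht hd => ?_, fun t ht hd => ?_⟩
    · rw [← zpow_add, add_comm, ← Nat.gcd_eq_gcd_ab, hcop.gcd_eq_one, Nat.cast_one, zpow_one]
    · have h1 : (g ^ ((B : ℤ) * Nat.gcdB A B)) ^ A = 1 := by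
        rw [← zpow_natCast, ← zpow_mul, show (B : ℤ) * Nat.gcdB A B * (A : ℤ) = ((A * B : ℕ) : ℤ) * Nat.gcdB A B by
          push_cast; ring, zpow_mul, zpow_natCast, hAB, hn, pow_orderOf_eq_one, one_zpow]
      exact (Finset.mem_filter.1 (hdiv _ t ht (hpr _) (hd.trans (orderOf_dvd_of_pow_eq_one h1)))).2
    · have h1 : (g ^ ((A : ℤ) * Nat.gcdA A B)) ^ B = 1 := by
        rw [← zpow_natCast, ← zpow_mul, show (A : ℤ) * Nat.gcdA A B * (B : ℤ) = ((A * B : ℕ) : ℤ) * Nat.gcdA A B by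
          push_cast; ring, zpow_mul, zpow_natCast, hAB, hn, pow_orderOf_eq_one, one_zpow]
      exact (Finset.mem_filter.1 (hdiv _ t ht (hpr _) (hd.trans (orderOf_dvd_of_pow_eq_one h1)))).2
  have hcomm : ∀ {g a b : G}, a ∈ Subgroup.zpowers g → b ∈ Subgroup.zpowers g → Commute a b :=
    fun ha hb => setLike_mul_comm ha hb
  obtain ⟨p, hp, hpd⟩ := Nat.exists_prime_and_dvd fun h => hg (orderOf_eq_one_iff.1 h)
  haveI := Fact.mk hp
  obtain ⟨P⟩ : Nonempty (Sylow p G) := inferInstance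
  have hdG : p ∣ Nat.card G := hpd.trans (orderOf_dvd_natCard g)
  obtain ⟨M₀, hM₀, hNM⟩ := exists_coatom_ge
    (normalizer_ne_top hG (P.ne_bot_of_dvd_card hdG) (pgroup_ne_top hG P.isPGroup'))
  have hPM : (P : Subgroup G) ≤ M₀ := Subgroup.le_normalizer.trans hNM
  have hpσ : p ∈ Cfsg.sigma M₀ := ⟨hp, (P.dvd_card_of_dvd_card hdG).trans (Subgroup.card_dvd_of_le hPM),
    P.subtype hPM, by rw [Sylow.coe_subtype, Subgroup.map_subgroupOf_eq_of_le hPM]; exact hNM⟩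
  obtain ⟨x, hxg, x', hx'g, hgx, hxσ, hx'σ⟩ := hpart (Cfsg.sigma M₀) g
  have hx1 : x ≠ 1 := fun h => hx'σ p hp (by rw [hgx, h, one_mul] at hpd; exact hpd) hpσ
  obtain ⟨a, ha⟩ := Cfsg.Agent.S1425.result hG M₀ hM₀ (Subgroup.zpowers x)
    (fun h => hx1 (Subgroup.zpowers_eq_bot.1 h)) fun t ht hd => hxσ t ht (by rwa [Nat.card_zpowers] at hd)
  set M := M₀.map (MulAut.conj a⁻¹).toMonoidHom with hMdef
  have hM : IsCoatom M := isCoatom_map _ hM₀
  have hxS : x ∈ Cfsg.sigmaCore M := by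
    rw [hMdef, sigmaCore_conj hG hM₀]
    exact ⟨a * x * a⁻¹, ha ⟨x, Subgroup.mem_zpowers x, rfl⟩, by show a⁻¹ * (a * x * a⁻¹) * a⁻¹⁻¹ = x; group⟩
  have hx'M : ∀ t : ℕ, t.Prime → t ∣ orderOf x' → t ∉ Cfsg.sigma M := fun t ht hd h => by
    haveI := Fact.mk ht
    exact hx'σ t ht hd ((mem_sigma_conj_iff a⁻¹).1 h)
  have hxx' : Commute x x' := hcomm hxg hx'g
  by_cases hx'1 : x' = 1
  · left
    rw [hgx, hx'1]
    exact inTilde_of_support hM hxS hx1 (one_mem _)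
  have hfin : ∀ {M : Subgroup G}, IsCoatom M → x ∈ Cfsg.sigmaCore M → x' ∈ M →
      (∀ t : ℕ, t.Prime → t ∣ orderOf x' → t ∉ Cfsg.sigma M) →
      InTilde g ∨ ∃ (M : Subgroup G) (x y : G), IsCoatom M ∧ x ∈ Cfsg.sigmaCore M ∧ x ≠ 1 ∧ y ∈ M ∧
        Commute x y ∧ y ≠ 1 ∧ g = x * y ∧ ∀ t : ℕ, t.Prime → t ∣ orderOf y → t ∈ Cfsg.kappa M :=
    fun {M} hM hxS hx' hs => (covered_of_mem hG hM hxS hx1 hx' hxx' hx'1 hs).imp (fun h => hgx ▸ h)
      fun hκ => ⟨M, x, x', hM, hxS, hx1, hx', hxx', hx'1, hgx, hκ⟩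
  have hx'C : x' ∈ Subgroup.centralizer ({x} : Set G) := Subgroup.mem_centralizer_singleton_iff.2 hxx'.eq.symm
  by_cases hle : Subgroup.centralizer ({x} : Set G) ≤ M
  · exact hfin hM hxS (hle hx'C) hx'M
  obtain ⟨N, hN, hxN, -, hnc, hτ, -, ⟨E, hE, hEM⟩, hR⟩ := neighbour_data hG hM hxS hx1 hle
  obtain ⟨b, hb', c, hc', hbc, hbσ, hcσ⟩ := hpart (Cfsg.sigma N) x'
  have hzx' : Subgroup.zpowers x' ≤ Subgroup.centralizer ({x} : Set G) := Subgroup.zpowers_le.2 hx'C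
  have hcN : c ∈ N := hxN (hzx' hc')
  have hxc : Commute x c := (Subgroup.mem_centralizer_singleton_iff.1 (hzx' hc')).symm
  have hxNσ : ∀ t : ℕ, t.Prime → t ∣ orderOf x → t ∉ Cfsg.sigma N := fun t ht hd => (hτ t ht hd).2.1
  have hxNm : x ∈ N := hxN (Subgroup.mem_centralizer_singleton_iff.2 rfl)
  by_cases hb1 : b = 1
  · -- `x'` lies in a conjugate of `M`
    rw [hb1, one_mul] at hbc
    haveI : Group.IsSolvable N := isSolvable_of_ne_top hG hN.1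
    have hEh := hallOf_of_isComplIn hG hN hE
    obtain ⟨F, hEF, hF, hconj⟩ := exists_hall_over (π := {q | q.Prime ∧ q ∉ Cfsg.sigma N}) hE.1 hEh.2.1
    have hFE : F ≤ E := le_of_prime_relIndex fun s hs hd hdi => hEh.2.2 s hs (hF.2.1 s hs hd)
      (hdi.trans (Dvd.intro _ (Subgroup.relIndex_mul_relIndex E F N hEF hF.1)))
    have hgo : ∀ t : ℕ, t.Prime → t ∣ orderOf (x * x') → t ∉ Cfsg.sigma N := fun t ht hd => by
      rcases ht.dvd_mul.1 (hd.trans (hxx'.orderOf_mul_dvd_lcm.trans (Nat.lcm_dvd_mul _ _))) with h | h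
      · exact hxNσ t ht h
      · exact hcσ t ht (hbc ▸ h)
    obtain ⟨n, hn, hnF⟩ := hconj (Subgroup.zpowers (x * x'))
      (Subgroup.zpowers_le.2 (mul_mem hxNm (hbc ▸ hcN))) fun t ht hd => ⟨ht, hgo t ht (by rwa [Nat.card_zpowers] at hd)⟩
    set M' := M.map (MulAut.conj n⁻¹).toMonoidHom with hM'
    have hgM' : Subgroup.zpowers (x * x') ≤ M' := fun w hw =>
      ⟨n * w * n⁻¹, hEM (hFE (hnF ⟨w, hw, rfl⟩)), by show n⁻¹ * (n * w * n⁻¹) * n⁻¹⁻¹ = w; group⟩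
    rw [← hgx] at hgM'
    have hxM' : x ∈ Cfsg.sigmaCore M' := le_sigmaCore_of_sigma hG (isCoatom_map _ hM)
      ((Subgroup.zpowers_le.2 hxg).trans hgM') (fun t ht hd => by
        haveI := Fact.mk ht
        rw [Nat.card_zpowers] at hd
        exact (mem_sigma_conj_iff n⁻¹).2 (prime_mem_sigma M hxS ht hd)) (Subgroup.mem_zpowers x)
    refine hfin (isCoatom_map _ hM) hxM' (hgM' hx'g) fun t ht hd h => ?_
    haveI := Fact.mk ht
    exact hx'M t ht hd ((mem_sigma_conj_iff n⁻¹).1 h)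
  -- the `σ(N)`-part carries everything
  left
  have hbS : b ∈ Cfsg.sigmaCore N := le_sigmaCore_of_sigma hG hN (Subgroup.zpowers_le.2 (hxN (hzx' hb')))
    (fun t ht hd => hbσ t ht (by rwa [Nat.card_zpowers] at hd)) (Subgroup.mem_zpowers b)
  suffices hc1 : c = 1 by
    rw [hgx, hbc, hc1, mul_one]
    exact inTilde_of_support hM hxS hx1 (hR (Subgroup.mem_inf.2 ⟨hbS, hzx' hb'⟩))
  by_contra hc1
  have hcop : (orderOf x).Coprime (orderOf c) := Nat.coprime_of_dvd fun t ht h1 h2 =>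
    hx'M t ht (h2.trans (orderOf_dvd_of_mem_zpowers hc')) (prime_mem_sigma M hxS ht h1)
  have ho := hxc.orderOf_mul_eq_mul_orderOf_of_coprime hcop
  obtain ⟨t, ht, htd⟩ := Nat.exists_prime_and_dvd fun h => hx1 (orderOf_eq_one_iff.1 h)
  haveI := Fact.mk ht
  have hw1 : x * c ≠ 1 := fun h => by
    rw [h, orderOf_one] at ho
    exact hx1 (orderOf_eq_one_iff.1 (Nat.eq_one_of_mul_eq_one_right ho.symm))
  have hbx : Commute b (x * c) := Commute.mul_right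
    (Subgroup.mem_centralizer_singleton_iff.1 (hzx' hb')) (hcomm hb' hc')
  rcases Cfsg.Agent.S1432.result hG N hN b hbS hb1 (x * c) (Subgroup.mem_inf.2 ⟨mul_mem hxNm hcN,
    Subgroup.mem_centralizer_singleton_iff.2 hbx.eq.symm⟩) hw1 (fun s hs hd => by
      rw [ho] at hd
      rcases hs.dvd_mul.1 hd with h | h
      · exact hxNσ s hs h
      · exact hcσ s hs h) with ⟨hκ, -⟩ | ⟨-, ⟨L, hL, hLs⟩, -, -⟩
  · exact (hτ t ht htd).2.2.2 (kappa_basic hG hN (hκ t ht (ho ▸ htd.trans (dvd_mul_right _ _)))).2.1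
  · obtain ⟨s, hs, hsd⟩ := Nat.exists_prime_and_dvd fun h => hc1 (orderOf_eq_one_iff.1 h)
    haveI := Fact.mk hs
    have htL := hLs t ht (ho ▸ htd.trans (dvd_mul_right _ _))
    obtain ⟨d, hd⟩ : ∃ d : G, L = M.map (MulAut.conj d).toMonoidHom := by
      by_contra hno
      push Not at hno
      exact sigma_disjoint hG hM hL hno (prime_mem_sigma M hxS ht htd) htL
    exact hx'M s hs (hsd.trans (orderOf_dvd_of_mem_zpowers hc'))
      ((mem_sigma_conj_iff d).1 (hd ▸ hLs s hs (ho ▸ hsd.trans (dvd_mul_left _ _))))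

/-- A `σ × κ` product is conjugate into `Ẑ`. -/
theorem mem_zhat_conj (hG : Cfsg.IsMinSimpleOddOrder G) (hM : IsCoatom M)
    (hK : Cfsg.IsPiHallOf (Cfsg.kappa M) K M) (hK1 : K ≠ ⊥) (hx : x ∈ Cfsg.sigmaCore M) (hx1 : x ≠ 1)
    (hy : y ∈ M) (hxy : Commute x y) (hy1 : y ≠ 1) (hκ : ∀ t : ℕ, t.Prime → t ∣ orderOf y → t ∈ Cfsg.kappa M) :
    ∃ m : G, m * (x * y) * m⁻¹ ∈ (↑(K ⊔ (Cfsg.sigmaCore M ⊓ Subgroup.centralizer (K : Set G))) : Set G) \
      ((K : Set G) ∪ ↑(Cfsg.sigmaCore M ⊓ Subgroup.centralizer (K : Set G))) := by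
  haveI : Group.IsSolvable M := isSolvable_of_ne_top hG hM.1
  obtain ⟨F, hKF, hF, hconj⟩ := exists_hall_over (π := Cfsg.kappa M) hK.1 hK.2.1
  have hFK : F ≤ K := le_of_prime_relIndex fun s hs hd hdi => hK.2.2 s hs (hF.2.1 s hs hd)
    (hdi.trans (Dvd.intro _ (Subgroup.relIndex_mul_relIndex K F M hKF hF.1)))
  obtain ⟨m, hm, hmK⟩ := hconj (Subgroup.zpowers y) (Subgroup.zpowers_le.2 hy) fun t ht hd =>
    hκ t ht (by rwa [Nat.card_zpowers] at hd)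
  set u := m * y * m⁻¹ with hu
  set v := m * x * m⁻¹ with hv
  have huK : u ∈ K := hFK (hmK ⟨y, Subgroup.mem_zpowers y, rfl⟩)
  have hu1 : u ≠ 1 := fun h => hy1 (conj_eq_one_iff.1 h)
  have hv1 : v ≠ 1 := fun h => hx1 (conj_eq_one_iff.1 h)
  have hvσ : v ∈ Cfsg.sigmaCore M := (Subgroup.mem_normalizer_iff.1 (le_normalizer_sigmaCore M hm) x).1 hx
  have hvu : Commute v u := hxy.map (MulAut.conj m).toMonoidHom
  set S := Cfsg.sigmaCore M ⊓ Subgroup.centralizer (K : Set G) with hS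
  have hvS : v ∈ S := mem_star_of_sigma hK
    (mem_of_conj_kappa hG hM hK hK1 ((Subgroup.map_subtype_le _ : _ ≤ M) hvσ) huK hu1
      (by rw [hvu.eq, mul_inv_cancel_right]; exact huK))
    fun t ht hd => prime_mem_sigma M hvσ ht hd
  have hbot := Subgroup.inf_eq_bot_of_coprime (kappaZ_coprime hK)
  refine ⟨m, ?_⟩
  rw [show m * (x * y) * m⁻¹ = v * u by rw [hu, hv]; group, hvu.eq]
  exact ⟨Subgroup.mul_mem_sup huK hvS, fun h => h.elim
    (fun h' => hv1 (Subgroup.mem_bot.1 (hbot ▸ Subgroup.mem_inf.2 ⟨(Subgroup.mul_mem_cancel_left K huK).1 h', hvS⟩)))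
    fun h' => hu1 (Subgroup.mem_bot.1 (hbot ▸ Subgroup.mem_inf.2 ⟨huK, (Subgroup.mul_mem_cancel_right S hvS).1 h'⟩))⟩

theorem tilde_disjoint (hG : Cfsg.IsMinSimpleOddOrder G) (hM : IsCoatom M) (hN : IsCoatom N)
    (hnc : ∀ g : G, N ≠ M.map (MulAut.conj g).toMonoidHom) :
    Cfsg.tildeOf M ((Cfsg.sigmaCore M : Set G) \ {1}) ∩ Cfsg.tildeOf N ((Cfsg.sigmaCore N : Set G) \ {1}) = ∅ := by
  refine Set.eq_empty_iff_forall_notMem.2 ?_
  rintro g ⟨⟨a, ⟨ha, ha1⟩, r, hr, y₁, h₁⟩, ⟨b, ⟨hb, hb1⟩, s, hs, y₂, h₂⟩⟩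
  set h := y₁⁻¹ * y₂ with hh
  have he : a * r = (h * b * h⁻¹) * (h * s * h⁻¹) := by
    calc a * r = y₁⁻¹ * (y₁ * (a * r) * y₁⁻¹) * y₁ := by group
      _ = y₁⁻¹ * (y₂ * (b * s) * y₂⁻¹) * y₁ := by rw [← h₁, h₂]
      _ = (h * b * h⁻¹) * (h * s * h⁻¹) := by rw [hh]; group
  have hbN : h * b * h⁻¹ ∈ Cfsg.sigmaCore (N.map (MulAut.conj h).toMonoidHom) :=
    sigmaCore_conj_ge hG hN h ⟨b, hb, rfl⟩
  by_cases hab : a = h * b * h⁻¹
  · obtain ⟨t, ht, hd⟩ := Nat.exists_prime_and_dvd fun e => ha1 (orderOf_eq_one_iff.1 e)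
    haveI := Fact.mk ht
    exact sigma_disjoint hG hM hN hnc (prime_mem_sigma M ha ht hd)
      ((mem_sigma_conj_iff h).1 (prime_mem_sigma _ hbN ht (hab ▸ hd)))
  · exact support_disjoint hG hM (isCoatom_map _ hN) ha hbN ha1 (fun e => hb1 (conj_eq_one_iff.1 e)) hab hr
      (supportR_conj hG hN hb hb1 hs h) he

end CfsgLib.SigmaGroups
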