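import Cfsg.Agent.Sigma.SigmaPartition
import Cfsg.Agent.Sigma.KappaTypeTwoNormalizer
import Cfsg.Agent.BGFifteen.Structure
import Cfsg.Agent.S1351
import Cfsg.Agent.Hall.DPiDirect
import Cfsg.Agent.S1430
import Cfsg.Agent.S1431

/-!
Fusion in nilpotent Hall subgroups.
-/

set_option autoImplicit false
set_option linter.unusedSectionVars false
set_option linter.style.haveILetI false

namespace CfsgLib.SigmaGroups

open CfsgLib.BenderUnique CfsgLib.Uniq
open scoped commutatorElement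

universe u

variable {G : Type u} [Group G] [Finite G] {M H : Subgroup G}

theorem not_dvd_relIndex_of_hall {W : Subgroup G} (hHall : (Nat.card H).Coprime H.index) (hW : H ≤ W) {t : ℕ}
    (ht : t.Prime) (hd : t ∣ Nat.card H) : ¬ t ∣ H.relIndex W := fun h =>
  Nat.not_coprime_of_dvd_of_dvd ht.one_lt hd (h.trans (Subgroup.relIndex_dvd_index_of_le hW)) hHall

/-- A Sylow subgroup of a nilpotent Hall subgroup is Sylow in the whole group. -/
theorem exists_sylow_in_hall (hHn : Group.IsNilpotent H) (hHall : (Nat.card H).Coprime H.index) {p : ℕ}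
    [Fact p.Prime] (hd : p ∣ Nat.card H) :
    ∃ P : Sylow p G, (P : Subgroup G) ≤ H ∧ (P : Subgroup G) ≠ ⊥ ∧
      H ≤ Subgroup.normalizer ((P : Subgroup G) : Set G) := by
  obtain ⟨P₀⟩ : Nonempty (Sylow p ↥H) := inferInstance
  have hidx : ¬ p ∣ ((P₀ : Subgroup ↥H).map H.subtype).index := by
    rw [Subgroup.index_map_subtype]
    exact fun h => ((Fact.out : p.Prime).dvd_mul.1 h).elim P₀.not_dvd_index fun h' =>
      Nat.not_coprime_of_dvd_of_dvd (Fact.out : p.Prime).one_lt hd h' hHall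
  refine ⟨IsPGroup.toSylow (P₀.isPGroup'.map H.subtype) hidx, Subgroup.map_subtype_le _, fun h => ?_,
    le_normalizer_sylow_map hHn P₀ Subgroup.le_normalizer⟩
  exact P₀.ne_bot_of_dvd_card hd ((Subgroup.map_eq_bot_iff_of_injective _ H.subtype_injective).1 h)

/-- The primes of a nilpotent Hall subgroup lie in a single `σ(M)`. -/
theorem exists_sigma_of_nilpotent_hall (hG : Cfsg.IsMinSimpleOddOrder G) (hHn : Group.IsNilpotent H)
    (hHall : (Nat.card H).Coprime H.index) (hH1 : H ≠ ⊥) :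
    ∃ M : Subgroup G, IsCoatom M ∧ H ≤ Cfsg.sigmaCore M := by
  classical
  obtain ⟨p, hp, hpH⟩ := Nat.exists_prime_and_dvd fun e => hH1 (Subgroup.card_eq_one.1 e)
  haveI := Fact.mk hp
  obtain ⟨P, hPH, hP1, hHP⟩ := exists_sylow_in_hall hHn hHall hpH
  obtain ⟨M, hM, hNM⟩ := exists_coatom_ge (CfsgLib.CN.MinOdd.normalizer_ne_top hG hP1
    (CfsgLib.CN.MinOdd.ne_top_of_isPGroup hG P.isPGroup'))
  have hPM : (P : Subgroup G) ≤ M := Subgroup.le_normalizer.trans hNM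
  have hHM : H ≤ M := hHP.trans hNM
  have hps : p ∈ Cfsg.sigma M := ⟨hp, hpH.trans (Subgroup.card_dvd_of_le hHM), P.subtype hPM, by
    rwa [Sylow.coe_subtype, Subgroup.map_subgroupOf_eq_of_le hPM]⟩
  have hPσ : (P : Subgroup G) ≤ Cfsg.sigmaCore M := le_sigmaCore hG hM hps P.isPGroup' hPM
  refine ⟨M, hM, le_sigmaCore_of_pi hG hM hHM fun r hr hrH => ?_⟩
  by_contra hrs
  haveI := Fact.mk hr
  have hrM : r ∣ Nat.card M := hrH.trans (Subgroup.card_dvd_of_le hHM)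
  obtain ⟨R, hRH, hR1, hHR⟩ := exists_sylow_in_hall hHn hHall hrH
  have hRM : (R : Subgroup G) ≤ M := hRH.trans hHM
  have hcomm : (P : Subgroup G) ≤ Subgroup.centralizer ((R : Subgroup G) : Set G) := fun a ha =>
    Subgroup.mem_centralizer_iff.2 fun b hb => by
      obtain ⟨i, hi⟩ := IsPGroup.iff_orderOf.1 R.isPGroup' ⟨b, hb⟩
      obtain ⟨j, hj⟩ := IsPGroup.iff_orderOf.1 P.isPGroup' ⟨a, ha⟩
      rw [Subgroup.orderOf_mk] at hi hj
      haveI := hHn
      exact congrArg Subtype.val (Hall.DPi.commute_of_coprime_orders (H := ↥H) (p := r) (i := i)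
        (a := ⟨b, hRH hb⟩) (b := ⟨a, hPH ha⟩) (by rw [Subgroup.orderOf_mk, hi])
        (by
          rw [Subgroup.orderOf_mk, hj]
          exact Nat.Coprime.pow_left _ ((Nat.coprime_primes hp hr).2 fun e => hrs (e ▸ hps))))
  have hrk : r ∈ Cfsg.kappa M := by
    by_contra hk
    have hmap : ((R.subtype hRM : Sylow r ↥M) : Subgroup ↥M).map M.subtype = (R : Subgroup G) := by
      rw [Sylow.coe_subtype, Subgroup.map_subgroupOf_eq_of_le hRM]
    have hbot := (omega_structure hG hM hrM hrs hk (S := R.subtype hRM) rfl).2.1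
    refine hP1 (le_bot_iff.1 (hbot ▸ le_inf hPσ (hcomm.trans (Subgroup.centralizer_le ?_))))
    refine (Subgroup.closure_le _).2 ?_
    rintro x ⟨hx, -⟩
    rwa [hmap] at hx
  obtain ⟨K₀, hK₀⟩ := (Cfsg.Agent.S1351.result hG M hM).1
  have hK1 : K₀ ≠ ⊥ := fun h => by
    have := kappa_empty_of_bot (h ▸ hK₀)
    rw [this] at hrk
    exact hrk
  haveI := isSolvable_of_ne_top hG hM.1
  obtain ⟨F, hKF, hF, hconj⟩ := exists_hall_over hK₀.1 hK₀.2.1
  have hFK : F ≤ K₀ := le_of_prime_relIndex fun t ht hd hdi => hK₀.2.2 t ht (hF.2.1 t ht hd)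
    (hdi.trans (Dvd.intro _ (Subgroup.relIndex_mul_relIndex K₀ F M hKF hF.1)))
  obtain ⟨a, ha, hle⟩ := hconj (R : Subgroup G) hRM fun t ht hd => by
    obtain ⟨n, hn⟩ := R.isPGroup'.exists_card_eq
    rw [hn] at hd
    rw [(Nat.prime_dvd_prime_iff_eq ht hr).1 (ht.dvd_of_dvd_pow hd)]
    exact hrk
  obtain ⟨b, hb, hb1⟩ := (Subgroup.bot_or_exists_ne_one _).resolve_left hR1
  have hk : a * b * a⁻¹ ∈ K₀ := hFK (hle ⟨b, hb, rfl⟩)
  have hstar : (P : Subgroup G).map (MulAut.conj a).toMonoidHom ≤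
      Cfsg.sigmaCore M ⊓ Subgroup.centralizer (K₀ : Set G) := by
    rw [← (Cfsg.Agent.S1430.result hG M hM K₀ hK₀ hK1).1 _ hk (fun h => hb1 (conj_eq_one_iff.1 h))]
    rintro _ ⟨u, hu, rfl⟩
    refine ⟨(Subgroup.mem_normalizer_iff.1 (le_normalizer_sigmaCore M ha) u).1 (hPσ hu),
      Subgroup.mem_centralizer_singleton_iff.2 ?_⟩
    show a * u * a⁻¹ * (a * b * a⁻¹) = a * b * a⁻¹ * (a * u * a⁻¹)
    rw [show a * u * a⁻¹ * (a * b * a⁻¹) = a * (u * b) * a⁻¹ by group,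
      ← Subgroup.mem_centralizer_iff.1 (hcomm hu) b hb]
    group
  set P' := (P : Subgroup G).map (MulAut.conj a).toMonoidHom with hP'
  have hP'σ : P' ≤ Cfsg.sigmaCore M := hstar.trans inf_le_left
  have hP'i : ¬ p ∣ P'.index := by
    have he := P'.card_mul_index
    rw [hP', card_map_conj, ← (P : Subgroup G).card_mul_index] at he
    rw [hP', Nat.eq_of_mul_eq_mul_left Nat.card_pos he]
    exact P.not_dvd_index
  let Pa : Sylow p G := IsPGroup.toSylow (P.isPGroup'.map _ : IsPGroup p P') hP'i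
  have hpS : p ∣ Nat.card ↥(Cfsg.sigmaCore M ⊓ Subgroup.centralizer (K₀ : Set G)) := by
    refine dvd_trans ?_ (Subgroup.card_dvd_of_le hstar)
    rw [hP', card_map_conj]
    exact dvd_card_of_ne_bot P.isPGroup' hP1
  have hPaσ : (Pa : Subgroup G) ≤ Cfsg.sigmaCore M := hP'σ
  refine ((Cfsg.Agent.S1431.result hG M hM K₀ hK₀ hK1).2.2.1 p hp hpS (Pa.subtype hPaσ)).2.2 ?_
  rw [Sylow.coe_subtype, Subgroup.map_subgroupOf_eq_of_le hPaσ]
  exact hstar

/-- A nilpotent Hall subgroup `H` of `M_σ`: `H` extended by the normal Sylow subgroup `Q` is normal in `M`. -/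
theorem exists_normal_hall_cover (hG : Cfsg.IsMinSimpleOddOrder G) (hM : IsCoatom M)
    (hHn : Group.IsNilpotent H) (hHall : (Nat.card H).Coprime H.index) (hHσ : H ≤ Cfsg.sigmaCore M) :
    ∃ Q : Subgroup G, M ≤ Subgroup.normalizer (Q : Set G) ∧ M ≤ Subgroup.normalizer ((Q ⊔ H : Subgroup G) : Set G) ∧
      (Q ≤ H ∨ (Nat.card Q).Coprime (Nat.card H)) ∧ Q ≤ M := by
  classical
  have hSM : Cfsg.sigmaCore M ≤ M := Subgroup.map_subtype_le _
  have hHM : H ≤ M := hHσ.trans hSM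
  obtain ⟨Q₁, hQ₁, hQ₁σ, hQsplit, hnil⟩ : ∃ Q₁ : Subgroup ↥M, ∃ _ : Q₁.Normal,
      Q₁.map M.subtype ≤ Cfsg.sigmaCore M ∧
      (Q₁.map M.subtype ≤ H ∨ (Nat.card ↥(Q₁.map M.subtype)).Coprime (Nat.card H)) ∧
      Group.IsNilpotent ↥(((Cfsg.sigmaCore M).subgroupOf M).map (QuotientGroup.mk' Q₁)) := by
    by_cases hn : Group.IsNilpotent (Cfsg.sigmaCore M)
    · refine ⟨⊥, inferInstance, by simp, Or.inl (by simp), ?_⟩
      haveI := hn
      haveI : Group.IsNilpotent ↥((Cfsg.sigmaCore M).subgroupOf M) :=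
        Group.nilpotent_of_mulEquiv (Subgroup.subgroupOfEquivOfLe hSM).symm
      exact Group.nilpotent_of_surjective
        ((QuotientGroup.mk' (⊥ : Subgroup ↥M)).subgroupMap ((Cfsg.sigmaCore M).subgroupOf M))
        ((QuotientGroup.mk' (⊥ : Subgroup ↥M)).subgroupMap_surjective _)
    obtain ⟨E, hE⟩ := CfsgLib.BGFifteen.exists_complement hG hM
    obtain ⟨-, -, -, hq, Q₁, hQn, hQσ, -, hQq, hQi, -, hnil⟩ :=
      CfsgLib.BGFifteen.core_of_not_nilpotent hG hM hn hE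
    haveI := Fact.mk hq
    refine ⟨Q₁, hQn, hQσ, ?_, hnil⟩
    set q := Nat.card ↥(Cfsg.sigmaCore M ⊓ Subgroup.centralizer (E : Set G))
    by_cases hqH : q ∣ Nat.card H
    · refine Or.inl ?_
      obtain ⟨T, hTH, -, -⟩ := exists_sylow_in_hall hHn hHall hqH
      haveI := hQn
      letI := Sylow.unique_of_normal (IsPGroup.toSylow hQq hQi) hQn
      have hTM : (T : Subgroup G) ≤ M := hTH.trans hHM
      have he := congrArg Sylow.toSubgroup (Subsingleton.elim (T.subtype hTM) (IsPGroup.toSylow hQq hQi))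
      rw [← show ((T.subtype hTM : Sylow q ↥M) : Subgroup ↥M) = Q₁ from he, Sylow.coe_subtype,
        Subgroup.map_subgroupOf_eq_of_le hTM]
      exact hTH
    · refine Or.inr ?_
      rw [Subgroup.card_map_of_injective M.subtype_injective]
      obtain ⟨n, hn'⟩ := hQq.exists_card_eq
      rw [hn']
      exact Nat.Coprime.pow_left _ (hq.coprime_iff_not_dvd.2 hqH)
  refine ⟨Q₁.map M.subtype, CfsgLib.PReduced.le_normalizer_map_subtype M Q₁, fun m hm => ?_, hQsplit,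
    Subgroup.map_subtype_le _⟩
  haveI := hnil
  set D := ((Cfsg.sigmaCore M).subgroupOf M).map (QuotientGroup.mk' Q₁) with hD
  set X := (H.subgroupOf M).map (QuotientGroup.mk' Q₁) with hX
  have hXD : X ≤ D := Subgroup.map_mono (Subgroup.subgroupOf_mono _ hHσ)
  have hsup : Q₁.map M.subtype ⊔ H = (X.comap (QuotientGroup.mk' Q₁)).map M.subtype := by
    rw [hX, Subgroup.comap_map_eq, QuotientGroup.ker_mk', Subgroup.map_sup, Subgroup.map_subgroupOf_eq_of_le hHM,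
      sup_comm]
  have hcardX : Nat.card X ∣ Nat.card H := by
    rw [← Nat.card_congr (Subgroup.subgroupOfEquivOfLe hHM).toEquiv]
    exact Subgroup.card_map_dvd (H.subgroupOf M) (QuotientGroup.mk' Q₁)
  suffices hXn : X.Normal by
    haveI := hXn
    rw [hsup]
    exact CfsgLib.PReduced.le_normalizer_map_subtype M _ hm
  haveI : ((Cfsg.sigmaCore M).subgroupOf M).Normal :=
    Subgroup.normal_subgroupOf_of_le_normalizer (le_normalizer_sigmaCore M)
  haveI hDn : D.Normal := Subgroup.Normal.map inferInstance _ (QuotientGroup.mk'_surjective Q₁)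
  refine ⟨fun x hx y => ?_⟩
  have hle : X.map (MulAut.conj y).toMonoidHom ≤ X := by
    refine le_of_prime_subgroups fun t ht T hT hTX => ?_
    haveI := Fact.mk ht
    by_cases hT1 : T = ⊥
    · exact hT1 ▸ bot_le
    have htd : t ∣ Nat.card H := by
      refine ((dvd_card_of_ne_bot hT hT1).trans (Subgroup.card_dvd_of_le hTX)).trans ?_
      rw [card_map_conj]
      exact hcardX
    refine le_of_not_dvd_relIndex (D := D) hnil ?_ hT (hTX.trans ?_)
    · intro h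
      rw [hX, hD, Subgroup.relIndex_map_map, QuotientGroup.ker_mk'] at h
      refine not_dvd_relIndex_of_hall hHall hHσ ht htd ?_
      have h2 := h.trans (Subgroup.relIndex_dvd_of_le_left _ (le_sup_left :
        H.subgroupOf M ≤ H.subgroupOf M ⊔ Q₁))
      have hQD : Q₁ ≤ (Cfsg.sigmaCore M).subgroupOf M := fun w hw =>
        Subgroup.mem_subgroupOf.2 (hQ₁σ ⟨w, hw, rfl⟩)
      rwa [sup_eq_left.2 hQD, Subgroup.relIndex_subgroupOf hSM] at h2
    · rintro _ ⟨w, hw, rfl⟩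
      exact hDn.conj_mem w (hXD hw) y
  exact hle ⟨x, hx, rfl⟩

/-- B&G: fusion in a nilpotent Hall subgroup is controlled by its normalizer. -/
theorem nilpotent_hall_fusion (hG : Cfsg.IsMinSimpleOddOrder G) (hHn : Group.IsNilpotent H)
    (hHall : (Nat.card H).Coprime H.index) {x g : G} (hx : x ∈ H) (hgx : g * x * g⁻¹ ∈ H) :
    ∃ n ∈ Subgroup.normalizer (H : Set G), n * x * n⁻¹ = g * x * g⁻¹ := by
  classical
  by_cases hx1 : x = 1
  · exact ⟨1, one_mem _, by simp [hx1]⟩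
  obtain ⟨M, hM, hHσ⟩ := exists_sigma_of_nilpotent_hall hG hHn hHall fun h => hx1 (Subgroup.mem_bot.1 (h ▸ hx))
  have hSM : Cfsg.sigmaCore M ≤ M := Subgroup.map_subtype_le _
  have hxg : x ∈ M.map (MulAut.conj g⁻¹).toMonoidHom := ⟨_, hSM (hHσ hgx), by
    show g⁻¹ * (g * x * g⁻¹) * g⁻¹⁻¹ = x
    group⟩
  obtain ⟨r, hr, he⟩ := exists_support_conj hG hM (hHσ hx) hx1 hxg
  have hrx : Commute x r := (supportR_primes hG hM (hHσ hx) hx1 hr).1
  have hm : g * r ∈ M := by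
    have hM1 : M ≠ ⊥ := fun h => hx1 (Subgroup.mem_bot.1 (h ▸ hSM (hHσ hx)))
    rw [← normalizer_coatom hG hM hM1]
    refine Subgroup.mem_normalizer_iff_map_conj_eq.2 ?_
    show M.map (MulAut.conj (g * r)).toMonoidHom = M
    rw [← map_conj_map, ← he, map_conj_map, mul_inv_cancel, map_conj_one]
  have hmx : g * r * x * (g * r)⁻¹ = g * x * g⁻¹ := by
    rw [show g * r * x * (g * r)⁻¹ = g * (r * x) * r⁻¹ * g⁻¹ by group, ← hrx.eq]
    group
  obtain ⟨Q, hQn, hN, hsplit, hQM⟩ := exists_normal_hall_cover hG hM hHn hHall hHσ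
  set m := g * r with hm'
  rcases hsplit with hQH | hcop
  · refine ⟨m, ?_, hmx⟩
    rw [sup_eq_right.2 hQH] at hN
    exact hN hm
  have hNM : Q ⊔ H ≤ M := sup_le hQM (hHσ.trans hSM)
  haveI : Group.IsSolvable ↥(Q ⊔ H) := isSolvable_of_ne_top hG fun h => hM.1 (top_le_iff.1 (h ▸ hNM))
  set π := {t : ℕ | t.Prime ∧ t ∣ Nat.card H} with hπ
  have hY : H.map (MulAut.conj m).toMonoidHom ≤ Q ⊔ H := by
    rw [← Subgroup.mem_normalizer_iff_map_conj_eq.1 (hN hm)]
    exact Subgroup.map_mono le_sup_right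
  obtain ⟨F, hHF, hF, hconj⟩ := exists_hall_over (π := π) (W := Q ⊔ H) le_sup_right fun t ht hd => ⟨ht, hd⟩
  have hFH : F ≤ H := le_of_prime_relIndex fun t ht hd hdi =>
    not_dvd_relIndex_of_hall hHall le_sup_right ht (hF.2.1 t ht hd).2
      (hdi.trans (Dvd.intro _ (Subgroup.relIndex_mul_relIndex H F (Q ⊔ H) hHF hF.1)))
  obtain ⟨d, hd, hle⟩ := hconj _ hY fun t ht h => ⟨ht, by rwa [card_map_conj] at h⟩
  obtain ⟨h, hh, u, hu, rfl⟩ := CoprimeAction.exists_mul_of_mem_sup ((hHσ.trans hSM).trans hQn)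
    (by rwa [sup_comm] at hd)
  have hle' : H.map (MulAut.conj (u * m)).toMonoidHom ≤ H := by
    rintro _ ⟨w, hw, rfl⟩
    have h1 : h * u * (m * w * m⁻¹) * (h * u)⁻¹ ∈ H := (hle.trans hFH) ⟨_, ⟨w, hw, rfl⟩, rfl⟩
    show u * m * w * (u * m)⁻¹ ∈ H
    rw [show u * m * w * (u * m)⁻¹ = h⁻¹ * (h * u * (m * w * m⁻¹) * (h * u)⁻¹) * h by group]
    exact H.mul_mem (H.mul_mem (H.inv_mem hh) h1) hh
  refine ⟨u * m, Subgroup.mem_normalizer_iff_map_conj_eq.2
    (Subgroup.eq_of_le_of_card_ge hle' (card_map_conj H (u * m)).ge), ?_⟩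
  have h2 : u * (g * x * g⁻¹) * u⁻¹ * (g * x * g⁻¹)⁻¹ ∈ Q ⊓ H := by
    refine ⟨?_, H.mul_mem ?_ (H.inv_mem hgx)⟩
    · rw [show u * (g * x * g⁻¹) * u⁻¹ * (g * x * g⁻¹)⁻¹ = u * ((g * x * g⁻¹) * u⁻¹ * (g * x * g⁻¹)⁻¹) by group]
      exact Q.mul_mem hu ((Subgroup.mem_normalizer_iff.1 (hQn (hSM (hHσ hgx))) u⁻¹).1 (Q.inv_mem hu))
    · refine hle' ⟨x, hx, ?_⟩
      show u * m * x * (u * m)⁻¹ = u * (g * x * g⁻¹) * u⁻¹
      rw [← hmx]
      group
  rw [Subgroup.inf_eq_bot_of_coprime hcop, Subgroup.mem_bot, mul_inv_eq_one] at h2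
  calc u * m * x * (u * m)⁻¹ = u * (m * x * m⁻¹) * u⁻¹ := by group
    _ = g * x * g⁻¹ := by rw [hmx]; exact h2

end CfsgLib.SigmaGroups
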