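import Cfsg.Agent.Sigma.SigmaEmbedding

/-!
B&G 12.14: elements of order `p` at a prime of `β(M)` or inside `M_σ'`.
-/

set_option autoImplicit false
set_option linter.unusedSectionVars false
set_option linter.style.haveILetI false

namespace CfsgLib.SigmaGroups

open CfsgLib.BenderUnique CfsgLib.Uniq
open scoped commutatorElement

universe u

section PGroup

variable {P : Type*} [Group P] [Finite P] {p : ℕ} [hp : Fact p.Prime]

theorem index_centralizer_le_of_normal_sq (hP : IsPGroup p P) (U : Subgroup P) [hUn : U.Normal]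
    (hUc : Nat.card U = p ^ 2) : (Subgroup.centralizer (U : Set P)).index ≤ p := by
  have hp1 := hp.out.one_lt
  obtain ⟨z, ⟨hzU, hzc⟩, hz1⟩ : ∃ z ∈ U ⊓ Subgroup.center P, z ≠ 1 := by
    have hUne : U ≠ ⊥ := by
      intro h
      rw [h, Subgroup.card_bot] at hUc
      exact absurd hUc (Nat.one_lt_pow two_ne_zero hp1).ne
    have := CfsgLib.PReduced.inf_center_ne_bot hP hUne
    simpa [Subgroup.eq_bot_iff_forall, and_assoc] using this
  by_cases hcu : U ≤ Subgroup.zpowers z
  · have h1 : (Subgroup.centralizer (U : Set P)) = ⊤ := top_unique fun g _ =>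
      Subgroup.mem_centralizer_iff.2 fun t ht =>
        (Subgroup.mem_center_iff.1 (Subgroup.zpowers_le.2 hzc (hcu ht)) g).symm
    rw [h1, Subgroup.index_top]
    exact hp1.le
  obtain ⟨u, huU, huz⟩ := SetLike.not_le_iff_exists.1 hcu
  have hgen : Subgroup.zpowers z ⊔ Subgroup.zpowers u = U := by
    refine Subgroup.eq_of_le_of_card_ge (sup_le (Subgroup.zpowers_le.2 hzU) (Subgroup.zpowers_le.2 huU)) ?_
    obtain ⟨k, hk⟩ := (hP.to_subgroup (Subgroup.zpowers z ⊔ Subgroup.zpowers u)).exists_card_eq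
    obtain ⟨j, hj⟩ := (hP.to_subgroup (Subgroup.zpowers z)).exists_card_eq
    have hlt : Nat.card ↥(Subgroup.zpowers z) < Nat.card ↥(Subgroup.zpowers z ⊔ Subgroup.zpowers u : Subgroup P) :=
      card_lt_of_lt (lt_of_le_not_ge le_sup_left fun h => huz (h (Subgroup.mem_sup_right (Subgroup.mem_zpowers u))))
    have hj0 : j ≠ 0 := by
      rintro rfl
      rw [pow_zero, Subgroup.card_eq_one, Subgroup.zpowers_eq_bot] at hj
      exact hz1 hj
    rw [hk, hj, Nat.pow_lt_pow_iff_right hp1] at hlt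
    rw [hUc, hk]
    exact Nat.pow_le_pow_right hp.out.pos (by omega)
  have hC : Subgroup.centralizer ({u} : Set P) ≤ Subgroup.centralizer (U : Set P) := by
    intro g hg
    rw [← hgen, Subgroup.mem_centralizer_iff]
    have hle : Subgroup.zpowers z ⊔ Subgroup.zpowers u ≤ Subgroup.centralizer ({g} : Set P) := by
      refine sup_le (Subgroup.zpowers_le.2 ?_) (Subgroup.zpowers_le.2 ?_)
      · rw [Subgroup.mem_centralizer_singleton_iff]
        exact (Subgroup.mem_center_iff.1 hzc g).symm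
      · rw [Subgroup.mem_centralizer_singleton_iff]
        exact (Subgroup.mem_centralizer_singleton_iff.1 hg).symm
    exact fun x hx => Subgroup.mem_centralizer_singleton_iff.1 (hle hx)
  refine le_trans (Nat.le_of_dvd (Nat.pos_of_ne_zero Subgroup.index_ne_zero_of_finite)
    (Subgroup.index_dvd_of_le hC)) ?_
  have horb : (Subgroup.centralizer ({u} : Set P)).index = Nat.card (MulAction.orbit (ConjAct P) u) := by
    haveI : Finite (ConjAct P) := Finite.of_equiv P ConjAct.toConjAct.toEquiv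
    have h1 := Subgroup.card_mul_index (Subgroup.centralizer ({u} : Set P))
    have h2 := Subgroup.card_mul_index (MulAction.stabilizer (ConjAct P) u)
    rw [Subgroup.nat_card_centralizer_nat_card_stabilizer] at h1
    rw [MulAction.index_stabilizer, ← Nat.card_coe_set_eq, Nat.card_congr ConjAct.ofConjAct.toEquiv, ← h1] at h2
    exact (Nat.eq_of_mul_eq_mul_left Nat.card_pos h2).symm
  rw [horb]
  obtain ⟨k, hk⟩ : ∃ k, Nat.card (MulAction.orbit (ConjAct P) u) = p ^ k :=
    (hP.of_equiv ConjAct.toConjAct).card_orbit u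
  rw [hk]
  have hsub : MulAction.orbit (ConjAct P) u ⊆ (U : Set P) \ {1} := by
    rintro x ⟨g, rfl⟩
    refine ⟨?_, ?_⟩
    · show g • u ∈ U
      rw [ConjAct.smul_def]
      exact hUn.conj_mem u huU _
    · intro h
      apply huz
      have : g • u = (1 : P) := h
      rw [ConjAct.smul_def, mul_inv_eq_one] at this
      rw [mul_eq_left.1 this]
      exact Subgroup.one_mem _
  have hlt : p ^ k < p ^ 2 := by
    rw [← hk, ← hUc, Nat.card_coe_set_eq, ← SetLike.coe_sort_coe, Nat.card_coe_set_eq]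
    exact lt_of_le_of_lt (Set.ncard_le_ncard hsub) (Set.ncard_diff_singleton_lt_of_mem U.one_mem)
  have : k < 2 := (Nat.pow_lt_pow_iff_right hp1).1 hlt
  calc p ^ k ≤ p ^ 1 := Nat.pow_le_pow_right hp.out.pos (by omega)
    _ = p := pow_one p

theorem isMulCommutative_of_card_le_sq {Q : Type*} [Group Q] [Finite Q] (hQ : IsPGroup p Q)
    (h : Nat.card Q ≤ p ^ 2) : IsMulCommutative Q := by
  obtain ⟨k, hk⟩ := hQ.exists_card_eq
  rw [hk, Nat.pow_le_pow_iff_right hp.out.one_lt] at h
  rcases eq_or_lt_of_le h with rfl | hlt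
  · exact IsPGroup.isMulCommutative_of_card_eq_prime_sq hk
  · haveI : IsCyclic Q := by
      interval_cases k
      · haveI := (Nat.card_eq_one_iff_unique.1 (by simpa using hk)).1
        infer_instance
      · exact isCyclic_of_prime_card (p := p) (by simpa using hk)
    exact IsCyclic.isMulCommutative

theorem commutator_le_center_of_card_cube (hP : IsPGroup p P) (h : Nat.card P ≤ p ^ 3) :
    commutator P ≤ Subgroup.center P := by
  rcases subsingleton_or_nontrivial P with hs | hn
  · intro x _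
    rw [Subsingleton.elim x 1]
    exact one_mem _
  haveI := isMulCommutative_of_card_le_sq (hP.to_quotient (Subgroup.center P)) (by
    haveI := hP.center_nontrivial
    obtain ⟨j, hj⟩ := (hP.to_subgroup (Subgroup.center P)).exists_card_eq
    have h1 := Subgroup.card_eq_card_quotient_mul_card_subgroup (Subgroup.center P)
    have h2 : p ≤ Nat.card ↥(Subgroup.center P) := by
      refine Nat.le_of_dvd Nat.card_pos (hj ▸ dvd_pow_self p ?_)
      rintro rfl
      exact (Finite.one_lt_card (α := Subgroup.center P)).ne' (by simpa using hj)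
    by_contra hcon
    rw [not_le] at hcon
    have h3 : p ^ 3 < Nat.card P := by
      rw [h1, pow_succ]
      exact Nat.mul_lt_mul_of_lt_of_le hcon h2 Nat.card_pos
    exact absurd h (not_le.2 h3))
  exact Subgroup.Normal.quotient_commutative_iff_commutator_le.1 inferInstance

/-- An abelian centralizer of an element of order `p` in `Φ(P)` contradicts rank three. -/
theorem rank_centralizer_of_mem_commutator (hp2 : p ≠ 2) (hP : IsPGroup p P) (hr : ¬ Cfsg.PRankLE p 2 P) {x : P}
    (hx : x ∈ commutator P) (hxp : x ^ p = 1)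
    (hcomm : IsMulCommutative ↥(Subgroup.centralizer ({x} : Set P))) :
    ¬ Cfsg.PRankLE p 2 ↥(Subgroup.centralizer ({x} : Set P)) := by
  intro hrC
  set C := Subgroup.centralizer ({x} : Set P) with hC
  have hle : ∀ B : Subgroup P, B ≤ C → Cfsg.IsElementaryAbelian p B → Nat.card B ≤ p ^ 2 := fun B hBC hB => by
    by_contra hlt
    exact not_prank_of_elem hBC hB (not_le.1 hlt) hrC
  have hr1 : ¬ Cfsg.PRankLE p 1 P := fun h => hr fun A h1 h2 =>
    (h A h1 h2).trans (Nat.pow_le_pow_right hp.out.pos one_le_two)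
  obtain ⟨W, hWn, hW, hWc⟩ := exists_normal_elem_sq hp2 hP hr1
  set T := Subgroup.centralizer (W : Set P) with hT
  haveI : T.Normal := Subgroup.normal_centralizer
  have hTi := index_centralizer_le_of_normal_sq hP W hWc
  have hPT : commutator P ≤ T := by
    haveI := isMulCommutative_of_card_le_sq (hP.to_quotient T) (by
      rw [← Subgroup.index_eq_card]
      exact hTi.trans (Nat.le_self_pow two_ne_zero p))
    exact Subgroup.Normal.quotient_commutative_iff_commutator_le.1 inferInstance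
  have hWC : W ≤ C := fun w hw => Subgroup.mem_centralizer_singleton_iff.2
    (Subgroup.mem_centralizer_iff.1 (hPT hx) w hw)
  have hxW : x ∈ W := by
    have hel := NormalEl.elementary_sup (elementary_zpowers hxp) hW fun a ha b hb => by
      obtain ⟨k, rfl⟩ := Subgroup.mem_zpowers_iff.1 ha
      exact (Subgroup.mem_centralizer_iff.1 (zpow_mem (hPT hx) k) b hb).symm
    have heq := Subgroup.eq_of_le_of_card_ge (le_sup_right : W ≤ Subgroup.zpowers x ⊔ W)
      (by rw [hWc]; exact hle _ (sup_le (Subgroup.zpowers_le.2 (Subgroup.mem_centralizer_singleton_iff.2 rfl)) hWC) hel)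
    exact heq ▸ Subgroup.mem_sup_left (Subgroup.mem_zpowers x)
  have hTC : T ≤ C := fun t ht => Subgroup.mem_centralizer_singleton_iff.2
    (Subgroup.mem_centralizer_iff.1 ht x hxW).symm
  simp only [Cfsg.PRankLE, not_forall, not_le] at hr
  obtain ⟨F, hF, hFe, hFc⟩ := hr
  have hFel : Cfsg.IsElementaryAbelian p F := ⟨hF, hFe⟩
  have hFi : Nat.card F ≤ Nat.card ↥(F ⊓ T) * p := by
    have h1 := Subgroup.card_mul_index (T.subgroupOf F)
    have h2 : Nat.card ↥(T.subgroupOf F) = Nat.card ↥(F ⊓ T) := by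
      rw [← Subgroup.card_map_of_injective Subtype.val_injective (f := F.subtype), Subgroup.subgroupOf_map_subtype,
        inf_comm]
    have h3 : (T.subgroupOf F).index ≤ p :=
      (Nat.le_of_dvd (Nat.pos_of_ne_zero Subgroup.index_ne_zero_of_finite)
        (Subgroup.relIndex_dvd_index_of_normal T F)).trans hTi
    rw [← h1, h2]
    exact Nat.mul_le_mul_left _ h3
  have hFT : F ⊓ T = W := by
    have hel := NormalEl.elementary_sup (elementary_of_le hFel (inf_le_left : F ⊓ T ≤ F)) hW fun a ha b hb =>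
      haveI := hcomm
      setLike_mul_comm (hTC ha.2) (hWC hb)
    have heq := Subgroup.eq_of_le_of_card_ge (le_sup_right : W ≤ F ⊓ T ⊔ W)
      (by rw [hWc]; exact hle _ (sup_le (inf_le_right.trans hTC) hWC) hel)
    refine Subgroup.eq_of_le_of_card_ge (heq ▸ le_sup_left) ?_
    rw [hWc]
    by_contra hlt
    rw [not_le] at hlt
    obtain ⟨i, hi⟩ := (hP.to_subgroup (F ⊓ T)).exists_card_eq
    rw [hi, Nat.pow_lt_pow_iff_right hp.out.one_lt] at hlt
    have : Nat.card F ≤ p ^ 2 := by
      refine hFi.trans ?_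
      rw [hi, ← pow_succ]
      exact Nat.pow_le_pow_right hp.out.pos (by omega)
    omega
  have hFT' : F ≤ T := fun f hf => Subgroup.mem_centralizer_iff.2 fun w hw => by
    rw [SetLike.mem_coe, ← hFT] at hw
    exact congrArg Subtype.val (hF.is_comm.comm ⟨w, hw.1⟩ ⟨f, hf⟩)
  exact absurd (hle F (hFT'.trans hTC) hFel) (not_le.2 hFc)

end PGroup

variable {G : Type u} [Group G] [Finite G] {p : ℕ} [hp : Fact p.Prime] {M : Subgroup G}

theorem mem_commutator_sylow (hG : Cfsg.IsMinSimpleOddOrder G) (hM : IsCoatom M) (hs : p ∈ Cfsg.sigma M)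
    (hb : p ∉ Cfsg.beta M) (P : Sylow p G) (hPM : (P : Subgroup G) ≤ M) {x : G} (hxP : x ∈ (P : Subgroup G))
    (hx : x ∈ ⁅Cfsg.sigmaCore M, Cfsg.sigmaCore M⁆) : x ∈ ⁅(P : Subgroup G), (P : Subgroup G)⁆ := by
  set D := Cfsg.sigmaCore M with hD
  have hPD : (P : Subgroup G) ≤ D := le_sigmaCore hG hM hs P.isPGroup' hPM
  obtain ⟨N, hN, hc⟩ := Transfer.exists_complement (complement_sigmaCore hG hM hs.2.1 hb) (P.subtype hPD)
  haveI := hN
  set S := ((P.subtype hPD : Sylow p ↥D) : Subgroup ↥D) with hS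
  have hSmap : S.map D.subtype = (P : Subgroup G) := Subgroup.map_subgroupOf_eq_of_le hPD
  rw [← Subgroup.map_subtype_commutator] at hx
  obtain ⟨y, hy, hyx⟩ := hx
  have hyS : y ∈ S := by
    show (y : G) ∈ (P : Subgroup G)
    have : (y : G) = x := hyx
    rwa [this]
  set φ := QuotientGroup.mk' N with hφ
  have hStop : S.map φ = ⊤ := by
    rw [← Subgroup.map_top_of_surjective φ (QuotientGroup.mk'_surjective N), Subgroup.map_eq_map_iff, hφ,
      QuotientGroup.ker_mk', top_sup_eq, sup_comm]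
    exact hc.sup_eq_top
  have h1 : φ y ∈ (⁅S, S⁆).map φ := by
    rw [Subgroup.map_commutator, hStop, ← Subgroup.map_top_of_surjective φ (QuotientGroup.mk'_surjective N),
      ← Subgroup.map_commutator]
    exact ⟨y, hy, rfl⟩
  obtain ⟨w, hw, hwy⟩ := h1
  have hbot : w⁻¹ * y ∈ N ⊓ S := by
    refine ⟨?_, S.mul_mem (S.inv_mem (Subgroup.commutator_le_self S hw)) hyS⟩
    exact QuotientGroup.eq.1 hwy
  rw [hc.disjoint.eq_bot, Subgroup.mem_bot, inv_mul_eq_one] at hbot
  rw [← hSmap, ← Subgroup.map_commutator]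
  exact ⟨y, hbot ▸ hw, hyx⟩

theorem commutator_sylow_le_centralizer (hG : Cfsg.IsMinSimpleOddOrder G) (P : Sylow p G)
    (hr : Cfsg.PRankLE p 2 (P : Subgroup G)) :
    ⁅(P : Subgroup G), (P : Subgroup G)⁆ ≤ Subgroup.centralizer ((P : Subgroup G) : Set G) := by
  rcases rank_two_structure hG P hr with hab | ⟨P₁, P₂, hsup, hcomm, -, hc, -, hcy, -⟩
  · have : ⁅(P : Subgroup G), (P : Subgroup G)⁆ = ⊥ := Subgroup.commutator_eq_bot_iff_le_centralizer.2
      (Subgroup.le_centralizer_iff_isMulCommutative.2 hab)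
    rw [this]
    exact bot_le
  have hP1p : IsPGroup p P₁ := P.isPGroup'.to_le (hsup ▸ le_sup_left)
  have hz : ∀ a ∈ P₁, ∀ c ∈ P₁, ∀ d ∈ P₁, ⁅a, c⁆ * d = d * ⁅a, c⁆ := fun a ha c hc' d hd => by
    have h1 := commutator_le_center_of_card_cube hP1p hc.le
      (Subgroup.commutator_mem_commutator (Subgroup.mem_top (⟨a, ha⟩ : P₁)) (Subgroup.mem_top (⟨c, hc'⟩ : P₁)))
    exact (congrArg Subtype.val (Subgroup.mem_center_iff.1 h1 ⟨d, hd⟩)).symm
  haveI : IsMulCommutative P₂ := IsCyclic.isMulCommutative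
  have hn : P₂ ≤ Subgroup.normalizer (P₁ : Set G) :=
    le_normalizer_of_commute fun b hb => Subgroup.mem_centralizer_iff.2 fun a ha => hcomm a ha b hb
  have hdec : ∀ x ∈ (P : Subgroup G), ∃ a ∈ P₁, ∃ b ∈ P₂, a * b = x := fun x hx => by
    rw [← hsup] at hx
    have hx' : x ∈ (↑(P₁ ⊔ P₂) : Set G) := hx
    rw [Subgroup.coe_mul_of_right_le_normalizer_left P₁ P₂ hn] at hx'
    exact Set.mem_mul.1 hx'
  rw [Subgroup.commutator_le]
  intro x hx y hy
  obtain ⟨a, ha, b, hb, rfl⟩ := hdec x hx
  obtain ⟨c, hc', d, hd, rfl⟩ := hdec y hy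
  refine Subgroup.mem_centralizer_iff.2 fun w hw => ?_
  obtain ⟨e, he, f, hf, rfl⟩ := hdec w hw
  have hbc : b * c = c * b := (hcomm c hc' b hb).symm
  have hda : d * a = a * d := (hcomm a ha d hd).symm
  have hbd : b * d = d * b := setLike_mul_comm hb hd
  have hbda : ⁅a * b, c * d⁆ = ⁅a, c⁆ := by
    have h2 : Commute b c := hbc
    have h3 : Commute d a := hda
    have h4 : Commute b d := hbd
    rw [commutatorElement_def, commutatorElement_def]
    calc a * b * (c * d) * (a * b)⁻¹ * (c * d)⁻¹ = a * (b * c) * d * b⁻¹ * a⁻¹ * d⁻¹ * c⁻¹ := by group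
      _ = a * c * (b * d) * b⁻¹ * a⁻¹ * d⁻¹ * c⁻¹ := by rw [hbc]; group
      _ = a * c * d * a⁻¹ * d⁻¹ * c⁻¹ := by rw [hbd]; group
      _ = a * c * (d * a⁻¹) * d⁻¹ * c⁻¹ := by group
      _ = a * c * (a⁻¹ * d) * d⁻¹ * c⁻¹ := by rw [h3.inv_right.eq]
      _ = a * c * a⁻¹ * c⁻¹ := by group
  rw [hbda]
  have h5 : ⁅a, c⁆ ∈ P₁ := by
    rw [commutatorElement_def]
    exact mul_mem (mul_mem (mul_mem ha hc') (inv_mem ha)) (inv_mem hc')
  calc e * f * ⁅a, c⁆ = e * (⁅a, c⁆ * f) := by rw [mul_assoc, hcomm _ h5 f hf]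
    _ = ⁅a, c⁆ * e * f := by rw [← mul_assoc, hz a ha c hc' e he]
    _ = ⁅a, c⁆ * (e * f) := mul_assoc _ _ _

/-- B&G 12.14 for `X ≤ M_σ'`. -/
theorem derived_sigma_unique (hG : Cfsg.IsMinSimpleOddOrder G) (hM : IsCoatom M) (hs : p ∈ Cfsg.sigma M)
    (hb : p ∉ Cfsg.beta M) {x : G} (hxo : orderOf x = p) (hxM : x ∈ M)
    (hx : x ∈ ⁅Cfsg.sigmaCore M, Cfsg.sigmaCore M⁆) :
    Cfsg.InUniqueMaximal (Subgroup.centralizer ({x} : Set G)) ∧ Subgroup.centralizer ({x} : Set G) ≤ M ∧
      ∀ P : Sylow p G, (P : Subgroup G) ≤ M → ¬ IsMulCommutative (P : Subgroup G) := by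
  have hx1 : x ≠ 1 := fun h => by rw [h, orderOf_one] at hxo; exact hp.out.one_lt.ne hxo
  have hxp : IsPGroup p (Subgroup.zpowers x) := IsPGroup.of_card (n := 1) (by rw [Nat.card_zpowers, hxo, pow_one])
  obtain ⟨P, hxP, hPM, -⟩ := exists_sylow hs hxp (Subgroup.zpowers_le.2 hxM)
  replace hxP : x ∈ (P : Subgroup G) := hxP (Subgroup.mem_zpowers x)
  have hxd := mem_commutator_sylow hG hM hs hb P hPM hxP hx
  have hPna : ¬ IsMulCommutative (P : Subgroup G) := fun h => hx1 (by
    rw [Subgroup.commutator_eq_bot_iff_le_centralizer.2 (Subgroup.le_centralizer_iff_isMulCommutative.2 h),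
      Subgroup.mem_bot] at hxd
    exact hxd)
  have hp2 : p ≠ 2 := ne_two hG ((dvd_card_of_ne_bot P.isPGroup' fun h => hx1 (by
    rw [h, Subgroup.mem_bot] at hxP; exact hxP)).trans (Subgroup.card_subgroup_dvd_card _))
  set C := (P : Subgroup G) ⊓ Subgroup.centralizer ({x} : Set G) with hC
  have hCu : Cfsg.InUniqueMaximal C := by
    by_cases hCc : IsMulCommutative C
    · by_cases hrC : Cfsg.PRankLE p 2 ↥C
      · exfalso
        by_cases hrP : Cfsg.PRankLE p 2 (P : Subgroup G)
        · have hCP : C = (P : Subgroup G) := inf_eq_left.2 fun t ht =>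
            Subgroup.mem_centralizer_singleton_iff.2
              (Subgroup.mem_centralizer_iff.1 (commutator_sylow_le_centralizer hG P hrP hxd) t ht)
          rw [hCP] at hCc
          exact hPna hCc
        · have hmap : (Subgroup.centralizer ({⟨x, hxP⟩} : Set ↥(P : Subgroup G))).map (P : Subgroup G).subtype = C := by
            ext t
            constructor
            · rintro ⟨s, hs', rfl⟩
              exact ⟨s.2, Subgroup.mem_centralizer_singleton_iff.2
                (congrArg Subtype.val (Subgroup.mem_centralizer_singleton_iff.1 hs'))⟩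
            · rintro ⟨h1, h2⟩
              exact ⟨⟨t, h1⟩, Subgroup.mem_centralizer_singleton_iff.2
                (Subtype.ext (Subgroup.mem_centralizer_singleton_iff.1 h2)), rfl⟩
          set e := (Subgroup.equivMapOfInjective _ _ (P : Subgroup G).subtype_injective).trans
            (MulEquiv.subgroupCongr hmap) with he
          refine rank_centralizer_of_mem_commutator hp2 P.isPGroup' hrP (x := ⟨x, hxP⟩) ?_ ?_ ?_ ?_
          · rw [← Subgroup.map_subtype_commutator] at hxd
            obtain ⟨s, hs', hsx⟩ := hxd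
            rwa [← (Subtype.ext hsx : s = ⟨x, hxP⟩)]
          · exact Subtype.ext (by simpa [← hxo] using pow_orderOf_eq_one x)
          · exact ⟨⟨fun a b => e.injective (by rw [map_mul, map_mul]; exact hCc.is_comm.comm _ _)⟩⟩
          · intro A hA hAe
            haveI := hA
            rw [← Subgroup.card_map_of_injective (f := e.toMonoidHom) e.injective (K := A)]
            refine hrC _ inferInstance ?_
            rintro _ ⟨a, ha, rfl⟩
            rw [← map_pow, hAe a ha, map_one]
      · exact unique_of_prank (allUnique hG) (pgroup_ne_top hG (P.isPGroup'.to_le inf_le_left)) hrC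
    · exact nonabelian_unique hG (P.isPGroup'.to_le inf_le_left) hCc
  have htop : Subgroup.centralizer ({x} : Set G) ≠ ⊤ := centralizer_singleton_ne_top hG hx1
  refine ⟨unique_mono hCu inf_le_right htop, le_of_unique hCu hM (inf_le_left.trans hPM) htop inf_le_right,
    fun Q hQM h => hPna ?_⟩
  obtain ⟨g, hg⟩ := MulAction.exists_smul_eq G Q P
  have hmap : (Q : Subgroup G).map (MulAut.conj g).toMonoidHom = (P : Subgroup G) := congrArg Sylow.toSubgroup hg
  haveI := h
  rw [← hmap]
  infer_instance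

/-- B&G 12.14. -/
theorem sigma_line_unique (hG : Cfsg.IsMinSimpleOddOrder G) (hM : IsCoatom M) (hs : p ∈ Cfsg.sigma M) {x : G}
    (hxo : orderOf x = p) (hxM : x ∈ M) (h : p ∈ Cfsg.beta M ∨ x ∈ ⁅Cfsg.sigmaCore M, Cfsg.sigmaCore M⁆) :
    Cfsg.InUniqueMaximal (Subgroup.centralizer ({x} : Set G)) ∧ Subgroup.centralizer ({x} : Set G) ≤ M ∧
      ∀ P : Sylow p G, (P : Subgroup G) ≤ M → Cfsg.InUniqueMaximal (P : Subgroup G) := by
  by_cases hb : p ∈ Cfsg.beta M
  · obtain ⟨h1, h2⟩ := unique_centralizer_of_beta hG hM hb hxM hxo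
    refine ⟨h1, h2, fun P hPM => unique_of_prank (allUnique (p := p) hG) (pgroup_ne_top hG P.isPGroup') fun hr => hb.1.2 ?_⟩
    intro A hA hAe
    haveI := hA
    have hel : Cfsg.IsElementaryAbelian p (A.map M.subtype) := by
      refine ⟨inferInstance, ?_⟩
      rintro _ ⟨a, ha, rfl⟩
      rw [← map_pow, hAe a ha, map_one]
    obtain ⟨Q, hQ⟩ := IsPGroup.exists_le_sylow (isPGroup_of_elementary hel)
    obtain ⟨g, hg⟩ := MulAction.exists_smul_eq G Q P
    rw [← Subgroup.card_map_of_injective M.subtype_injective (K := A), ← card_map_conj (A.map M.subtype) g]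
    by_contra hlt
    refine not_prank_of_elem ?_ (elementary_map_conj hel g) (not_le.1 hlt) hr
    rw [← congrArg Sylow.toSubgroup hg]
    exact Subgroup.map_mono hQ
  · obtain ⟨h1, h2, h3⟩ := derived_sigma_unique hG hM hs hb hxo hxM (h.resolve_left hb)
    exact ⟨h1, h2, fun P hPM => nonabelian_unique hG P.isPGroup' (h3 P hPM)⟩

end CfsgLib.SigmaGroups
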