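import Cfsg.Agent.Sigma.SigmaEmbedding
import Cfsg.Agent.S1420

/-!
B&G 13.1 to 13.3: a cyclic `σ(M)'`-subgroup of prime power order acts in a prime manner on `M_σ`.
-/

set_option autoImplicit false
set_option linter.unusedSectionVars false
set_option linter.style.haveILetI false

namespace CfsgLib.SigmaGroups

open CfsgLib.BenderUnique CfsgLib.Uniq
open scoped commutatorElement

universe u

variable {G : Type u} [Group G] [Finite G] {p : ℕ} [hp : Fact p.Prime] {M N A : Subgroup G}

theorem sigmaCore_le_derived (hG : Cfsg.IsMinSimpleOddOrder G) (hM : IsCoatom M) :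
    Cfsg.sigmaCore M ≤ ⁅M, M⁆ := by
  rw [Cfsg.sigmaCore, ← Subgroup.map_subtype_commutator]
  exact Subgroup.map_mono (piCore_le_commutator hG hM subset_rfl)

theorem derived_commutator_le {U V : Subgroup G} (hU : U ≤ N) (hV : V ≤ N) : ⁅U, V⁆ ≤ ⁅N, N⁆ :=
  Subgroup.commutator_mono hU hV

/-- A group acted on coprimely lies in `U` once all its invariant `q`-subgroups do. -/
theorem le_of_invariant_subgroups {A C U : Subgroup G} [Group.IsSolvable C]
    (hAC : A ≤ Subgroup.normalizer (C : Set G)) (hcop : (Nat.card A).Coprime (Nat.card C))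
    (h : ∀ q : ℕ, q.Prime → q ∣ Nat.card C → ∀ Q : Subgroup G, IsPGroup q Q → Q ≤ C →
      A ≤ Subgroup.normalizer (Q : Set G) → Q ≤ U) : C ≤ U := by
  rw [← Subgroup.relIndex_eq_one]
  refine Nat.eq_one_iff_not_exists_prime_dvd.2 fun q hq hd => ?_
  haveI := Fact.mk hq
  obtain ⟨P, hP⟩ := CoprimeAction.exists_invariant_sylow hAC hcop (Or.inr inferInstance) q
  refine P.not_dvd_index (hd.trans (Subgroup.index_dvd_of_le fun x hx => ?_))
  exact h q hq (hd.trans (Subgroup.relIndex_dvd_card _ _)) _ (P.isPGroup'.map _)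
    (Subgroup.map_subtype_le _) hP ⟨x, hx, rfl⟩

theorem isPGroup_zpowers {x : G} {n : ℕ} (h : orderOf x = p ^ n) : IsPGroup p (Subgroup.zpowers x) :=
  IsPGroup.of_card (n := n) (by rw [Nat.card_zpowers, h])

theorem elementary_card_contra (hr : Cfsg.PRankLE p 1 ↥M) (hAM : A ≤ M) (hA : Cfsg.IsElementaryAbelian p A)
    (hAc : Nat.card A = p ^ 2) : False :=
  not_prank_of_elem hAM hA (by rw [pow_one, hAc]; exact lt_self_pow₀ hp.out.one_lt one_lt_two) hr

theorem prank_one_of_cyclic_sylow (hG : Cfsg.IsMinSimpleOddOrder G) (hM : IsCoatom M) {E : Subgroup G}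
    (hE : Cfsg.IsComplIn E (Cfsg.sigmaCore M) M) (hps : p ∉ Cfsg.sigma M) (S : Sylow p E)
    (hS : IsCyclic (S : Subgroup E)) : Cfsg.PRankLE p 1 ↥M := by
  by_contra h
  obtain ⟨B, hBE, hB, hBc⟩ := exists_elementary_in_complement hG hM hE hps h
  obtain ⟨T, hBT⟩ := exists_max_ge (isPGroup_of_elementary hB) hBE
  haveI := hS
  haveI : IsCyclic ↥(T : Subgroup E) :=
    isCyclic_of_surjective (S.equiv T).toMonoidHom (S.equiv T).surjective
  haveI : IsCyclic ↥((T : Subgroup E).map E.subtype) :=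
    isCyclic_of_surjective _ (Subgroup.equivMapOfInjective (T : Subgroup E) _ E.subtype_injective).surjective
  refine not_isCyclic_of_card_sq hB hBc ?_
  exact isCyclic_of_surjective _ (Subgroup.subgroupOfEquivOfLe hBT).surjective

/-- A conjugate of `M` has the same rank. -/
theorem prank_one_conj (hr : Cfsg.PRankLE p 1 ↥M) (g : G) :
    Cfsg.PRankLE p 1 ↥(M.map (MulAut.conj g).toMonoidHom) := by
  by_contra h
  obtain ⟨B, hBM, hB, hBc⟩ := exists_elem_of_not_prank h
  exact elementary_card_contra hr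
    (show B.map (MulAut.conj g⁻¹).toMonoidHom ≤ M by rw [map_conj_le_iff, inv_inv]; exact hBM)
    (elementary_map_conj hB _) (by rw [card_map_conj, hBc])

/-- The maximal subgroups over the normalizer of a line in a rank one `σ(M)'`-prime. -/
theorem exists_max_normalizer (hG : Cfsg.IsMinSimpleOddOrder G) (hM : IsCoatom M) (hps : p ∉ Cfsg.sigma M)
    (hr : Cfsg.PRankLE p 1 ↥M) {X : Subgroup G} (hX : Nat.card X = p) :
    ∃ N : Subgroup G, IsCoatom N ∧ Subgroup.normalizer (X : Set G) ≤ N ∧ N ≠ M ∧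
      (∀ g : G, N ≠ M.map (MulAut.conj g).toMonoidHom) ∧
      (p ∈ Cfsg.sigma N ∨ (p ∉ Cfsg.sigma N ∧
        ∃ A : Subgroup G, A ≤ N ∧ Cfsg.IsElementaryAbelian p A ∧ Nat.card A = p ^ 2)) := by
  have hXp : IsPGroup p X := IsPGroup.of_card (n := 1) (by rw [hX, pow_one])
  have hX1 : X ≠ ⊥ := fun h => hp.out.one_lt.ne (by rw [← hX, h, Subgroup.card_bot])
  obtain ⟨N, hN, hNX⟩ := exists_coatom_ge (normalizer_ne_top hG hX1 (pgroup_ne_top hG hXp))
  have hcase : p ∈ Cfsg.sigma N ∨ (p ∉ Cfsg.sigma N ∧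
      ∃ A : Subgroup G, A ≤ N ∧ Cfsg.IsElementaryAbelian p A ∧ Nat.card A = p ^ 2) := by
    by_cases hs : p ∈ Cfsg.sigma N
    · exact Or.inl hs
    · exact Or.inr ⟨hs, exists_elem_of_not_prank (normalizer_in_maximal hG hN hs hX hNX).1.2⟩
  have hnc : ∀ g : G, N ≠ M.map (MulAut.conj g).toMonoidHom := by
    rintro g rfl
    rcases hcase with hs | ⟨-, B, hB, hBe, hBc⟩
    · exact hps ((mem_sigma_conj_iff g).1 hs)
    · exact elementary_card_contra (prank_one_conj hr g) hB hBe hBc
  exact ⟨N, hN, hNX, fun h => hnc 1 (by rw [map_conj_one, h]), hnc, hcase⟩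

/-- The `α`-primes of nonconjugate maximal subgroups avoid each other's `σ`. -/
theorem not_alpha_of_sigma (hG : Cfsg.IsMinSimpleOddOrder G) (hM : IsCoatom M) (hN : IsCoatom N)
    (hnc : ∀ g : G, N ≠ M.map (MulAut.conj g).toMonoidHom) (hs : p ∈ Cfsg.sigma M) :
    p ∉ Cfsg.alpha N := by
  intro ha
  obtain ⟨B, -, hB, hBc⟩ := exists_elem_of_not_prank ha.2
  obtain ⟨g, hg⟩ := exists_conj_eq_of_alpha hG hM hN (mem_alpha_of_elementary hs hB hBc) ha
  exact hnc g hg

theorem not_beta_of_sigma (hG : Cfsg.IsMinSimpleOddOrder G) (hM : IsCoatom M) (hN : IsCoatom N)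
    (hnc : ∀ g : G, N ≠ M.map (MulAut.conj g).toMonoidHom) (hs : p ∈ Cfsg.sigma M) :
    p ∉ Cfsg.beta N := fun hb => not_alpha_of_sigma hG hM hN hnc hs hb.1

/-- If two nonconjugate maximal subgroups share a `σ`-prime, neither has an elementary `τ₂`-subgroup. -/
theorem false_of_shared_sigma (hG : Cfsg.IsMinSimpleOddOrder G) (hM : IsCoatom M) (hN : IsCoatom N)
    (hnc : ∀ g : G, N ≠ M.map (MulAut.conj g).toMonoidHom) {q : ℕ} [hq : Fact q.Prime]
    (hqM : q ∈ Cfsg.sigma M) (hqN : q ∈ Cfsg.sigma N) (hAN : A ≤ N) (hA : Cfsg.IsElementaryAbelian p A)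
    (hAc : Nat.card A = p ^ 2) (hps : p ∉ Cfsg.sigma N) : False := by
  obtain ⟨T, -, hTN, -, hAT⟩ := exists_invariant_sigma_sylow hG hN hps hAN hA hAc hqN
    (IsPGroup.of_bot (p := q)) bot_le fun a _ => mem_normalizer_of_map_le (by rw [Subgroup.map_bot])
  have hT1 : (T : Subgroup G) ≠ ⊥ := fun h => by
    have := T.dvd_card_of_dvd_card (hqN.2.1.trans (Subgroup.card_subgroup_dvd_card N))
    rw [h, Subgroup.card_bot] at this
    exact hq.out.not_dvd_one this
  obtain ⟨P, -, hPM, hNP⟩ := exists_sylow hqM (IsPGroup.of_bot (p := q) (G := G)) bot_le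
  obtain ⟨g, hg⟩ := MulAction.exists_smul_eq G P T
  have he : (T : Subgroup G) = (P : Subgroup G).map (MulAut.conj g).toMonoidHom := by rw [← hg]; rfl
  have hNT : Subgroup.normalizer ((T : Subgroup G) : Set G) ≤ M.map (MulAut.conj g).toMonoidHom := by
    rw [he, show Subgroup.normalizer (((P : Subgroup G).map (MulAut.conj g).toMonoidHom : Subgroup G) : Set G) =
      (Subgroup.normalizer ((P : Subgroup G) : Set G)).map (MulAut.conj g).toMonoidHom from
        (Subgroup.map_equiv_normalizer_eq _ (MulAut.conj g)).symm]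
    exact Subgroup.map_mono hNP
  refine hT1 (le_bot_iff.1 ?_)
  rw [← sigmaCore_inf_maximal_eq_bot hG hN hps hAN hA hAc (isCoatom_map _ hM) (fun h => hnc g h.symm)
    (hAT.trans hNT)]
  exact le_inf (le_sigmaCore hG hN hqN T.isPGroup' hTN) (Subgroup.le_normalizer.trans hNT)

/-- `p'`-subgroups of `N'` centralize the `p`-subgroups they normalize, for `p ∉ β(N)`. -/
theorem le_centralizer_of_derived (hG : Cfsg.IsMinSimpleOddOrder G) (hN : IsCoatom N)
    (hb : p ∉ Cfsg.beta N) {R Y : Subgroup G} (hR : IsPGroup p R) (hRN : R ≤ N) (hY : Y ≤ ⁅N, N⁆)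
    (hYp : (Nat.card Y).Coprime p) (hYR : Y ≤ Subgroup.normalizer (R : Set G)) :
    Y ≤ Subgroup.centralizer (R : Set G) := by
  by_cases hR1 : R = ⊥
  · rw [hR1]
    exact fun y _ => Subgroup.mem_centralizer_iff.2 fun t ht => by
      rw [SetLike.mem_coe, Subgroup.mem_bot] at ht
      rw [ht, one_mul, mul_one]
  have hpN : p ∣ Nat.card N := (dvd_card_of_ne_bot hR hR1).trans (Subgroup.card_dvd_of_le hRN)
  haveI := PCore.pPrimeCore_characteristic p ↥(commutator N)
  set K : Subgroup N := (Cfsg.pPrimeCore p ↥(commutator N)).map (commutator N).subtype with hK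
  haveI : K.Normal := inferInstance
  set KG := K.map N.subtype with hKG
  have hYN : Y ≤ N := hY.trans (Subgroup.commutator_le_self N)
  have hY' : Y.subgroupOf N ≤ commutator N := by
    rw [← Subgroup.map_le_map_iff_of_injective N.subtype_injective, Subgroup.map_subgroupOf_eq_of_le hYN,
      Subgroup.map_subtype_commutator]
    exact hY
  have hYK : Y ≤ KG := by
    rw [← Subgroup.map_subgroupOf_eq_of_le hYN, ← Subgroup.map_subgroupOf_eq_of_le hY']
    refine Subgroup.map_mono (Subgroup.map_mono ((structure_of_not_beta hG hN hpN hb).2.2 _ ?_))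
    rwa [Nat.card_congr (Subgroup.subgroupOfEquivOfLe hY').toEquiv,
      Nat.card_congr (Subgroup.subgroupOfEquivOfLe hYN).toEquiv]
  have hKn : N ≤ Subgroup.normalizer (KG : Set G) := by
    rw [← Subgroup.normal_subgroupOf_iff_le_normalizer (Subgroup.map_subtype_le _), Subgroup.subgroupOf,
      Subgroup.comap_map_eq_self_of_injective N.subtype_injective]
    infer_instance
  have h1 : ⁅R, Y⁆ ≤ R ⊓ KG := le_inf (CoprimeAction.commutator_le_of_normalizer hYR) (by
    refine (Subgroup.commutator_mono hRN hYK).trans ?_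
    rw [Subgroup.commutator_comm]
    exact CoprimeAction.commutator_le_of_normalizer hKn)
  have h2 : R ⊓ KG = ⊥ := by
    refine CoprimeAction.inf_eq_bot_of_coprime ?_
    obtain ⟨n, hn⟩ := hR.exists_card_eq
    rw [hn, hKG, Subgroup.card_map_of_injective N.subtype_injective, hK,
      Subgroup.card_map_of_injective (commutator N).subtype_injective]
    exact ((PCore.coprime_of_not_dvd (PCore.not_dvd_card_pPrimeCore p _)).pow_right n).symm
  rw [h2, le_bot_iff, Subgroup.commutator_eq_bot_iff_le_centralizer] at h1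
  exact Subgroup.le_centralizer_iff.1 h1

/-- A `σ(M)`-subgroup centralizing a `p`-subgroup of rank two, for a rank one prime `p` of `M`. -/
theorem exists_sigma_beta_of_rank_two (hG : Cfsg.IsMinSimpleOddOrder G) (hM : IsCoatom M)
    (hr : Cfsg.PRankLE p 1 ↥M) {X : Subgroup G} (hX : IsPGroup p X) (hX1 : X ≠ ⊥) (hXM : X ≤ M)
    {q : ℕ} [hq : Fact q.Prime] (hqM : q ∈ Cfsg.sigma M) {Y : Subgroup G} (hY : IsPGroup q Y) (hY1 : Y ≠ ⊥)
    (hYM : Y ≤ M) (hXY : X ≤ Subgroup.centralizer (Y : Set G)) (hA : Cfsg.IsElementaryAbelian p A)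
    (hAc : Nat.card A = p ^ 2) (hAY : A ≤ Subgroup.centralizer (Y : Set G)) :
    ∃ L : Subgroup G, IsCoatom L ∧ q ∈ Cfsg.sigma L ∧ p ∈ Cfsg.beta L := by
  obtain ⟨L, hL, hNL⟩ := exists_coatom_ge (normalizer_ne_top hG hY1 (pgroup_ne_top hG hY))
  have hCL : Subgroup.centralizer (Y : Set G) ≤ L := (Subgroup.centralizer_le_normalizer _).trans hNL
  have hAL : A ≤ L := hAY.trans hCL
  have hne : L ≠ M := fun h => elementary_card_contra hr (h ▸ hAL) hA hAc
  have hAp := isPGroup_of_elementary hA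
  obtain ⟨S, hYS⟩ := exists_max_ge hY (le_inf hYM (Subgroup.le_normalizer.trans hNL))
  by_cases hqL : q ∈ Cfsg.sigma L
  · refine ⟨L, hL, hqL, ?_⟩
    by_contra hb
    obtain ⟨hfac, -⟩ := embedding_sigma hG hM hqM hY hY1 hL hne hNL S hYS hqL
    set B := Cfsg.piCoreOf (Cfsg.beta L) L with hB
    set D := M ⊓ L with hD
    have hBhall := betaCore_hallOf hG hL
    have hBn : D ≤ Subgroup.normalizer (B : Set G) := by
      refine inf_le_right.trans ?_
      rw [hB, Cfsg.piCoreOf, ← Subgroup.normal_subgroupOf_iff_le_normalizer (Subgroup.map_subtype_le _),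
        Subgroup.subgroupOf, Subgroup.comap_map_eq_self_of_injective L.subtype_injective]
      infer_instance
    have hBp : ¬ p ∣ Nat.card B := fun hd => hb (hBhall.2.1 p hp.out hd)
    have hdvd : Nat.card L ∣ Nat.card D * Nat.card B := by
      have h := ZJ.card_sup_mul_card_inf_of_le_normalizer hBn
      rw [← h]
      exact (Subgroup.card_dvd_of_le (hfac.trans (sup_comm B D).le)).trans (dvd_mul_right _ _)
    have hDL : D ≤ L := inf_le_right
    obtain ⟨T⟩ : Nonempty (Sylow p D) := inferInstance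
    obtain ⟨T', hT'⟩ := CoprimeAction.exists_sylow_map (p := p) (K := L)
      (H := (T : Subgroup D).map D.subtype) ((Subgroup.map_subtype_le _).trans hDL) (by
        rw [CoprimeAction.card_sylow_map]
        congr 1
        refine le_antisymm ((Nat.factorization_le_iff_dvd Nat.card_pos.ne' Nat.card_pos.ne').2
          (Subgroup.card_dvd_of_le hDL) p) ?_
        have := (Nat.factorization_le_iff_dvd Nat.card_pos.ne'
          (Nat.mul_ne_zero Nat.card_pos.ne' Nat.card_pos.ne')).2 hdvd p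
        rwa [Nat.factorization_mul Nat.card_pos.ne' Nat.card_pos.ne', Finsupp.add_apply,
          Nat.factorization_eq_zero_of_not_dvd hBp, add_zero] at this)
    obtain ⟨T₁, hT₁⟩ := exists_max_ge hAp hAL
    obtain ⟨l, -, hl⟩ := exists_conj_sylow T₁ T'
    refine elementary_card_contra hr ?_ (elementary_map_conj hA l) (by rw [card_map_conj, hAc])
    refine (Subgroup.map_mono hT₁).trans ?_
    rw [hl, hT']
    exact (Subgroup.map_subtype_le _).trans inf_le_left
  · obtain ⟨-, -, hLM, E, hE, hEM⟩ := embedding_nonsigma hG hM hqM hY hY1 hL hne hNL S hYS hqL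
    exfalso
    by_cases hpL : p ∈ Cfsg.sigma L
    · exact hX1 (le_bot_iff.1 (hLM ▸ le_inf (le_sigmaCore hG hL hpL hX (hXY.trans hCL)) hXM))
    · obtain ⟨l, -, hl⟩ := exists_conj_le_complement hG hL hE hAL fun t ht hd hts => by
        rw [hAc] at hd
        exact hpL ((Nat.prime_dvd_prime_iff_eq ht hp.out).1 (ht.dvd_of_dvd_pow hd) ▸ hts)
      exact elementary_card_contra hr (hl.trans hEM) (elementary_map_conj hA l) (by rw [card_map_conj, hAc])

/-- B&G 13.1 for a `τ₂`-overgroup: it sees no derived `σ(M)`-subgroup centralized by the line. -/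
theorem eq_bot_of_derived_tau_two (hG : Cfsg.IsMinSimpleOddOrder G) (hM : IsCoatom M) (hN : IsCoatom N)
    (hnc : ∀ g : G, N ≠ M.map (MulAut.conj g).toMonoidHom) (hps : p ∉ Cfsg.sigma M)
    (hr : Cfsg.PRankLE p 1 ↥M) {X : Subgroup G} (hX : IsPGroup p X) (hX1 : X ≠ ⊥) (hXM : X ≤ M)
    (hpN : p ∉ Cfsg.sigma N) (hAN : A ≤ N) (hA : Cfsg.IsElementaryAbelian p A) (hAc : Nat.card A = p ^ 2)
    {q : ℕ} [hq : Fact q.Prime] (hqM : q ∈ Cfsg.sigma M) {Q : Subgroup G} (hQ : IsPGroup q Q)
    (hQM : Q ≤ M) (hXQ : X ≤ Subgroup.centralizer (Q : Set G)) (hQN : Q ≤ ⁅N, N⁆) : Q = ⊥ := by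
  by_contra hQ1
  have hqp : q ≠ p := fun e => hps (e ▸ hqM)
  have hQN' : Q ≤ N := hQN.trans (Subgroup.commutator_le_self N)
  by_cases hqN : q ∈ Cfsg.sigma N
  · exact false_of_shared_sigma hG hM hN hnc hqM hqN hAN hA hAc hpN
  haveI := hA.1
  set W := Cfsg.sigmaCore N ⊔ A with hW
  have hWN : W ≤ N := sup_le (Subgroup.map_subtype_le _) hAN
  have hinf : A ⊓ Cfsg.sigmaCore N = ⊥ :=
    CoprimeAction.inf_eq_bot_of_coprime (coprime_card_of_not_dvd hAc (not_dvd_card_sigmaCore hpN))
  have hWc : Nat.card W = p ^ 2 * Nat.card ↥(Cfsg.sigmaCore N) := by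
    have h := ZJ.card_sup_mul_card_inf_of_le_normalizer (hAN.trans (le_normalizer_sigmaCore N))
    rwa [hinf, Subgroup.card_bot, mul_one, hAc, sup_comm] at h
  have hqW : ¬ q ∣ Nat.card W := fun hd => by
    rw [hWc] at hd
    rcases hq.out.dvd_mul.1 hd with h | h
    · exact hqp ((Nat.prime_dvd_prime_iff_eq hq.out hp.out).1 (hq.out.dvd_of_dvd_pow h))
    · exact hqN (mem_sigma_of_dvd N hq.out h)
  have hWp : (Nat.card W).factorization p = 2 := by
    rw [hWc, Nat.factorization_mul (pow_ne_zero _ hp.out.ne_zero) Nat.card_pos.ne', Finsupp.add_apply,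
      Nat.factorization_eq_zero_of_not_dvd (not_dvd_card_sigmaCore hpN), add_zero,
      hp.out.factorization_pow, Finsupp.single_eq_same]
  haveI : Group.IsSolvable W := isSolvable_of_ne_top hG fun h => hN.1 (top_le_iff.1 (h ▸ hWN))
  obtain ⟨P, hP⟩ := CoprimeAction.exists_invariant_sylow (A := Q) (K := W)
    (hQN'.trans (le_normalizer_sigmaCore_sup hG hN hpN hAN hA hAc))
    (by
      obtain ⟨n, hn⟩ := hQ.exists_card_eq
      rw [hn]
      exact ((Nat.Prime.coprime_iff_not_dvd hq.out).2 hqW).pow_left n)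
    (Or.inr inferInstance) p
  obtain ⟨P₀, hP₀⟩ := CoprimeAction.exists_sylow_map (p := p) (K := W) (H := A) le_sup_right (by rw [hAc, hWp])
  obtain ⟨w, -, hw⟩ := exists_conj_sylow P₀ P
  rw [hP₀] at hw
  rw [← hw] at hP
  have hAw : A.map (MulAut.conj w).toMonoidHom ≤ N := by
    rw [hw]
    exact (Subgroup.map_subtype_le _).trans hWN
  have hAwe := elementary_map_conj hA w
  have hAwc : Nat.card ↥(A.map (MulAut.conj w).toMonoidHom) = p ^ 2 := by rw [card_map_conj, hAc]
  have hQA := le_centralizer_of_derived hG hN (fun hb => hpN (mem_sigma_of_alpha hG hN hb.1))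
    (isPGroup_of_elementary hAwe) hAw hQN (card_coprime (p := p) (q := q) hQ hqp) hP
  obtain ⟨L, -, -, hbL⟩ := exists_sigma_beta_of_rank_two hG hM hr hX hX1 hXM hqM hQ hQ1 hQM hXQ hAwe hAwc
    (Subgroup.le_centralizer_iff.1 hQA)
  exact not_ideal hG hN hpN (fun h => elementary_card_contra h hAN hA hAc) hbL.2

/-- B&G 13.3: every nonidentity element of a rank one `σ(M)'`-subgroup fixes the same elements of `M_σ`. -/
theorem prime_action_of_rank_one (hG : Cfsg.IsMinSimpleOddOrder G) (hM : IsCoatom M) (hps : p ∉ Cfsg.sigma M)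
    (hr : Cfsg.PRankLE p 1 ↥M) {P : Subgroup G} (hP : IsPGroup p P) (hPM : P ≤ M) {x : G} (hx : x ∈ P)
    (hx1 : x ≠ 1) :
    Cfsg.sigmaCore M ⊓ Subgroup.centralizer ({x} : Set G) ≤ Subgroup.centralizer (P : Set G) := by
  haveI hPc : IsCyclic P := isCyclic_of_prank_one hG hr hPM hP
  obtain ⟨n, hn⟩ := IsPGroup.iff_orderOf.1 hP ⟨x, hx⟩
  rw [Subgroup.orderOf_mk] at hn
  rcases n with _ | n
  · exact absurd (orderOf_eq_one_iff.1 (by rw [hn, pow_zero])) hx1
  set y := x ^ p ^ n with hy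
  have hyo : orderOf y = p := by
    rw [hy, orderOf_pow, hn, Nat.gcd_eq_right (pow_dvd_pow p (by omega)), Nat.pow_div (by omega) hp.out.pos,
      show n + 1 - n = 1 by omega, pow_one]
  set X := Subgroup.zpowers y with hX
  have hyP : y ∈ P := pow_mem hx _
  have hXP : X ≤ P := Subgroup.zpowers_le.2 hyP
  have hXc : Nat.card X = p := by rw [hX, Nat.card_zpowers, hyo]
  have hX1 : X ≠ ⊥ := fun h => hp.out.one_lt.ne (by rw [← hXc, h, Subgroup.card_bot])
  set S := Cfsg.sigmaCore M with hS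
  have hSM : S ≤ M := Subgroup.map_subtype_le _
  set C := S ⊓ Subgroup.centralizer (X : Set G) with hC
  suffices h : C ≤ Subgroup.centralizer (P : Set G) by
    refine le_trans (le_inf inf_le_left ?_) h
    rw [hX, centralizer_zpowers]
    rintro c ⟨-, hc⟩
    exact Subgroup.mem_centralizer_singleton_iff.2
      ((show Commute c x from Subgroup.mem_centralizer_singleton_iff.1 hc).pow_right _).eq
  obtain ⟨N, hN, hNX, -, hnc, hcase⟩ := exists_max_normalizer hG hM hps hr hXc
  have hCN : Subgroup.centralizer (X : Set G) ≤ N := (Subgroup.centralizer_le_normalizer _).trans hNX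
  haveI : IsMulCommutative P := IsCyclic.isMulCommutative
  have hPX : P ≤ Subgroup.centralizer (X : Set G) := fun a ha =>
    Subgroup.mem_centralizer_iff.2 fun b hb => setLike_mul_comm (hXP hb) ha
  have hPn : P ≤ Subgroup.normalizer (C : Set G) :=
    (le_inf (hPM.trans (le_normalizer_sigmaCore M)) (hPX.trans Subgroup.le_normalizer)).trans
      Subgroup.inf_normalizer_le_normalizer_inf
  haveI : Group.IsSolvable C := isSolvable_of_ne_top hG fun h =>
    hM.1 (top_le_iff.1 (h ▸ (inf_le_left.trans hSM : C ≤ M)))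
  have hcop : (Nat.card P).Coprime (Nat.card C) := by
    obtain ⟨k, hk⟩ := hP.exists_card_eq
    rw [hk]
    exact ((Nat.Prime.coprime_iff_not_dvd hp.out).2 fun hd =>
      hps (mem_sigma_of_dvd M hp.out (hd.trans (Subgroup.card_dvd_of_le inf_le_left)))).pow_left k
  refine le_of_invariant_subgroups hPn hcop fun q hq hqd Q hQ hQC hPQ => ?_
  haveI := Fact.mk hq
  have hqM : q ∈ Cfsg.sigma M := mem_sigma_of_dvd M hq (hqd.trans (Subgroup.card_dvd_of_le inf_le_left))
  have hqp : q ≠ p := fun e => hps (e ▸ hqM)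
  have hQ0 : ⁅Q, P⁆ ≤ Q := CoprimeAction.commutator_le_of_normalizer hPQ
  have hQX : Q ≤ Subgroup.centralizer (X : Set G) := hQC.trans inf_le_right
  have hQN : Q ≤ N := hQX.trans hCN
  have hPN : P ≤ N := hPX.trans hCN
  refine Subgroup.commutator_eq_bot_iff_le_centralizer.1 ?_
  by_contra hne
  rcases hcase with hpN | ⟨hpN, A, hAN, hA, hAc⟩
  · have hPσ := le_sigmaCore hG hN hpN hP hPN
    have hle : ⁅Q, P⁆ ≤ Cfsg.sigmaCore N := by
      rw [Subgroup.commutator_comm]
      exact (Subgroup.commutator_mono hPσ hQN).trans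
        (CoprimeAction.commutator_le_of_normalizer (le_normalizer_sigmaCore N))
    have hqN : q ∈ Cfsg.sigma N :=
      mem_sigma_of_dvd N hq ((dvd_card_of_ne_bot (hQ.to_le hQ0) hne).trans (Subgroup.card_dvd_of_le hle))
    refine hne (Subgroup.commutator_eq_bot_iff_le_centralizer.2 (Subgroup.le_centralizer_iff.1 ?_))
    exact le_centralizer_of_derived hG hN (not_beta_of_sigma hG hM hN hnc hqM) hQ hQN
      (hPσ.trans (sigmaCore_le_derived hG hN)) (card_coprime (p := q) (q := p) hP hqp.symm) hPQ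
  · exact hne (eq_bot_of_derived_tau_two hG hM hN hnc hps hr (hP.to_le hXP) hX1 (hXP.trans hPM) hpN hAN hA hAc hqM
      (hQ.to_le hQ0) ((hQ0.trans hQC).trans (inf_le_left.trans hSM))
      (Subgroup.le_centralizer_iff.1 (hQ0.trans hQX)) (derived_commutator_le hQN hPN))

end CfsgLib.SigmaGroups
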