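import Cfsg.Agent.Sigma.SigmaTauOneDisjoint

/-!
B&G 13.4: for `p ∈ τ₁(M)` the fixed points of a line of order `p` are fixed by its `σ(M)'`-centralizer.
-/

set_option autoImplicit false
set_option linter.unusedSectionVars false
set_option linter.style.haveILetI false

namespace CfsgLib.SigmaGroups

open CfsgLib.BenderUnique CfsgLib.Uniq
open scoped commutatorElement

universe u

variable {G : Type u} [Group G] [Finite G] {p : ℕ} [hp : Fact p.Prime] {M N P Q : Subgroup G}

/-- A line of prime order outside `σ(N)` inside `N'`, in rank one, gives a normal product with `N_σ`. -/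
theorem le_normalizer_sigmaCore_sup_line (hG : Cfsg.IsMinSimpleOddOrder G) (hN : IsCoatom N) {q : ℕ}
    [hq : Fact q.Prime] (hqN : q ∉ Cfsg.sigma N) (hrk : Cfsg.PRankLE q 1 ↥N) {Y : Subgroup G}
    (hY : Nat.card Y = q) (hYN : Y ≤ ⁅N, N⁆) :
    N ≤ Subgroup.normalizer ((Cfsg.sigmaCore N ⊔ Y : Subgroup G) : Set G) := by
  have hYN' : Y ≤ N := hYN.trans (Subgroup.commutator_le_self N)
  obtain ⟨E, hYE, hE⟩ := exists_complement_ge hG hN hYN' fun t ht hd => by
    rw [hY] at hd
    exact (Nat.prime_dvd_prime_iff_eq ht hq.out).1 hd ▸ hqN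
  haveI := (Cfsg.Agent.S1420.result hG N hN E hE).2.1
  have hYE' : Y ≤ ⁅E, E⁆ := by
    intro y hy
    obtain ⟨a, ha, b, hb, rfl⟩ := CoprimeAction.exists_mul_of_mem_sup
      (((Subgroup.commutator_le_self E).trans hE.1).trans (le_normalizer_sigmaCore N)) (commutator_le_sup hE (hYN hy))
    have hbE : b ∈ E := by
      have h := mul_mem (inv_mem (Subgroup.commutator_le_self E ha)) (hYE hy)
      rwa [inv_mul_cancel_left] at h
    have hb1 : b = 1 := Subgroup.mem_bot.1 (hE.2.2.1.le (Subgroup.mem_inf.2 ⟨hbE, hb⟩))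
    rw [hb1, mul_one]
    exact ha
  have hEY : E ≤ Subgroup.normalizer (Y : Set G) := by
    intro e he
    refine mem_normalizer_of_map_le ?_
    set Y' := Y.map (MulAut.conj e).toMonoidHom with hY'
    have hY'E : Y' ≤ ⁅E, E⁆ := by
      rintro _ ⟨y, hy, rfl⟩
      have : ⁅e, y⁆ * y ∈ ⁅E, E⁆ := mul_mem (Subgroup.commutator_mem_commutator he (hYE hy)) (hYE' hy)
      rwa [commutatorElement_def, inv_mul_cancel_right] at this
    have hel : ∀ U : Subgroup G, Nat.card U = q → Cfsg.IsElementaryAbelian q U := fun U hU =>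
      ⟨haveI : IsCyclic U := isCyclic_of_prime_card hU; IsCyclic.isMulCommutative, fun a ha => by
        have h := pow_card_eq_one' (x := (⟨a, ha⟩ : U))
        rw [hU] at h
        exact congrArg Subtype.val h⟩
    have hY'c : Nat.card Y' = q := by rw [hY', card_map_conj, hY]
    by_contra hne
    have hs := NormalEl.elementary_sup (hel Y hY) (hel Y' hY'c) fun a ha b hb =>
      setLike_mul_comm (hYE' ha) (hY'E hb)
    refine not_prank_of_elem (sup_le hYN' (hY'E.trans ((Subgroup.commutator_le_self E).trans hE.1))) hs ?_ hrk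
    rw [pow_one, ← hY]
    exact card_lt_of_lt (lt_of_le_of_ne le_sup_left fun h => hne ((le_sup_right : Y' ≤ Y ⊔ Y').trans h.ge))
  intro m hm
  obtain ⟨e, he, n, hn, rfl⟩ := hE.2.2.2 m hm
  refine mul_mem ?_ (Subgroup.le_normalizer (Subgroup.mem_sup_left hn))
  refine mem_normalizer_of_map_le (le_of_eq ?_)
  rw [Subgroup.map_sup, map_conj_eq_of_normalizer (le_normalizer_sigmaCore N (hE.1 he)),
    map_conj_eq_of_normalizer (hEY he)]

/-- The case of a cyclic Sylow `p`-subgroup. -/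
theorem false_of_cyclic_sylow (hG : Cfsg.IsMinSimpleOddOrder G) (hM : IsCoatom M) (hN : IsCoatom N)
    (hd : ¬ p ∣ Nat.card ↥⁅M, M⁆) (hP : Nat.card P = p) (hPM : P ≤ M) (hpN : p ∈ Cfsg.sigma N) {q : ℕ}
    [hq : Fact q.Prime] (hqp : q ≠ p) (hqM : q ∈ Cfsg.sigma M) (hqN : q ∉ Cfsg.sigma N)
    (hrk : Cfsg.PRankLE q 1 ↥N) (S : Sylow p G) (hSN : (S : Subgroup G) ≤ N) (hPS : P ≤ (S : Subgroup G))
    (hSc : IsCyclic (S : Subgroup G)) (hNP : Subgroup.normalizer (P : Set G) ≤ N) {Y : Subgroup G}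
    (hY : Nat.card Y = q) (hYM : Y ≤ M) (hYN : Y ≤ ⁅N, N⁆)
    (hYS : Y ≤ Subgroup.centralizer ((S : Subgroup G) : Set G)) : False := by
  set Sg := (S : Subgroup G) with hSg
  haveI := hSc
  haveI : IsMulCommutative Sg := IsCyclic.isMulCommutative
  have hS1 : Sg ≠ ⊥ := fun h => by
    have := Subgroup.card_le_of_le (hPS.trans h.le)
    rw [hP, Subgroup.card_bot] at this
    exact absurd this (not_le.2 hp.out.one_lt)
  have hSC : Sg ≤ Subgroup.centralizer (Sg : Set G) :=
    fun a ha => Subgroup.mem_centralizer_iff.2 fun b hb => setLike_mul_comm hb ha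
  -- elements of `N(S)` do not all centralize `S`
  obtain ⟨g, hgS, hgC⟩ : ∃ g ∈ Subgroup.normalizer (Sg : Set G), g ∉ Subgroup.centralizer (Sg : Set G) := by
    by_contra h
    push Not at h
    obtain ⟨V, hV⟩ := exists_normalizer_complement S
    refine hS1 ((sylow_eq_commutator hG S V hV).trans ?_)
    exact Subgroup.commutator_eq_bot_iff_le_centralizer.2 (Subgroup.le_centralizer_iff.1 fun v hv => h v (hV.2.1 hv))
  have hNSP : Subgroup.normalizer (Sg : Set G) ≤ Subgroup.normalizer (P : Set G) := fun x hx => by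
    refine mem_normalizer_of_map_le ?_
    rintro _ ⟨a, ha, rfl⟩
    refine mem_of_pow_eq_one hSc hPS hP ((Subgroup.mem_normalizer_iff.1 hx a).1 (hPS ha)) ?_
    have hap := pow_card_eq_one' (x := (⟨a, ha⟩ : P))
    rw [hP] at hap
    rw [← map_pow, show a ^ p = 1 from congrArg Subtype.val hap, map_one]
  have hgN : g ∈ N := hNP (hNSP hgS)
  have hYN' : Y ≤ N := hYN.trans (Subgroup.commutator_le_self N)
  -- `g` can be chosen to normalize `Y`
  set W := (Cfsg.sigmaCore N ⊔ Y) ⊓ Subgroup.centralizer (Sg : Set G) with hW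
  have hgW : g ∈ Subgroup.normalizer (W : Set G) := Subgroup.inf_normalizer_le_normalizer_inf
    ⟨le_normalizer_sigmaCore_sup_line hG hN hqN hrk hY hYN hgN,
      Components.normalizer_le_normalizer_centralizer _ hgS⟩
  have hYW : Y ≤ W := le_inf le_sup_right hYS
  have hWq : (Nat.card W).factorization q = 1 := by
    refine le_antisymm ?_ (hq.out.factorization_pos_of_dvd Nat.card_pos.ne' (hY ▸ Subgroup.card_dvd_of_le hYW))
    have hdvd : Nat.card W ∣ Nat.card Y * Nat.card ↥(Cfsg.sigmaCore N) := by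
      have h := ZJ.card_sup_mul_card_inf_of_le_normalizer (hYN'.trans (le_normalizer_sigmaCore N))
      rw [← h, sup_comm]
      exact (Subgroup.card_dvd_of_le inf_le_left).trans (dvd_mul_right _ _)
    have h := (Nat.factorization_le_iff_dvd Nat.card_pos.ne'
      (Nat.mul_ne_zero Nat.card_pos.ne' Nat.card_pos.ne')).2 hdvd q
    rwa [Nat.factorization_mul Nat.card_pos.ne' Nat.card_pos.ne', Finsupp.add_apply,
      Nat.factorization_eq_zero_of_not_dvd (not_dvd_card_sigmaCore hqN), add_zero, hY,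
      hq.out.factorization_self] at h
  have hY'W : Y.map (MulAut.conj g).toMonoidHom ≤ W :=
    (Subgroup.map_mono hYW).trans (map_conj_eq_of_normalizer hgW).le
  obtain ⟨Q₁, hQ₁⟩ := CoprimeAction.exists_sylow_map (p := q) hYW (by rw [hY, hWq, pow_one])
  obtain ⟨Q₂, hQ₂⟩ := CoprimeAction.exists_sylow_map (p := q) hY'W (by rw [card_map_conj, hY, hWq, pow_one])
  obtain ⟨c, hc, hce⟩ := exists_conj_sylow Q₂ Q₁
  rw [hQ₁, hQ₂, map_conj_map] at hce
  set n := c * g with hn
  have hcS : c ∈ Subgroup.centralizer (Sg : Set G) := hc.2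
  have hnY : n ∈ Subgroup.normalizer (Y : Set G) := mem_normalizer_of_map_le hce.le
  have hnS : n ∈ Subgroup.normalizer (Sg : Set G) := mul_mem (Subgroup.centralizer_le_normalizer _ hcS) hgS
  have hnC : n ∉ Subgroup.centralizer (Sg : Set G) := fun h => hgC (by
    have h2 := mul_mem (inv_mem hcS) h
    rwa [hn, inv_mul_cancel_left] at h2)
  -- but it centralizes `P`
  have hnP : n ∈ Subgroup.centralizer (P : Set G) := by
    have hY1 : Y ≠ ⊥ := fun h => hq.out.one_lt.ne (by rw [← hY, h, Subgroup.card_bot])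
    have hYq : IsPGroup q Y := IsPGroup.of_card (n := 1) (by rw [hY, pow_one])
    obtain ⟨L, hL, hNL⟩ := exists_coatom_ge (normalizer_ne_top hG hY1 (pgroup_ne_top hG hYq))
    have hPL : P ≤ L := (hPS.trans (Subgroup.le_centralizer_iff.1 hYS)).trans
      ((Subgroup.centralizer_le_normalizer _).trans hNL)
    by_cases hLM : L = M
    · exact mem_centralizer_of_not_dvd_derived hP hPM hd (hLM ▸ hNL hnY) (hNSP hnS)
    refine mem_centralizer_of_not_dvd_derived hP hPL ?_ (hNL hnY) (hNSP hnS)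
    obtain ⟨T, hYT⟩ := exists_max_ge hYq (le_inf hYM (Subgroup.le_normalizer.trans hNL))
    by_cases hqL : q ∈ Cfsg.sigma L
    · obtain ⟨hfac, -⟩ := embedding_sigma hG hM hqM hYq hY1 hL hLM hNL T hYT hqL
      have hBn : L ≤ Subgroup.normalizer (Cfsg.piCoreOf (Cfsg.beta L) L : Set G) := by
        rw [Cfsg.piCoreOf, ← Subgroup.normal_subgroupOf_iff_le_normalizer (Subgroup.map_subtype_le _),
          Subgroup.subgroupOf, Subgroup.comap_map_eq_self_of_injective L.subtype_injective]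
        infer_instance
      refine not_dvd_derived_of_sup (inf_le_right.trans hBn) hfac (fun h => ?_)
        (fun h => hd (h.trans (Subgroup.card_dvd_of_le (Subgroup.commutator_mono inf_le_left inf_le_left))))
      obtain ⟨B, -, hB, hBc⟩ := exists_elem_of_not_prank ((betaCore_hallOf hG hL).2.1 p hp.out h).1.2
      obtain ⟨B', hBB'⟩ := IsPGroup.exists_le_sylow (isPGroup_of_elementary hB)
      obtain ⟨a, ha⟩ := MulAction.exists_smul_eq G B' S
      have hBS : B.map (MulAut.conj a).toMonoidHom ≤ Sg :=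
        (Subgroup.map_mono hBB').trans (by rw [hSg, ← ha]; rfl)
      refine not_isCyclic_of_elementary (elementary_map_conj hB a) (p := p) ?_ (isCyclic_of_injective
        (Subgroup.inclusion hBS) (Subgroup.inclusion_injective _))
      rw [card_map_conj, hBc]
      exact lt_self_pow₀ hp.out.one_lt (by norm_num)
    · obtain ⟨-, -, hLbot, E, hE, hEM⟩ := embedding_nonsigma hG hM hqM hYq hY1 hL hLM hNL T hYT hqL
      have hpL : p ∉ Cfsg.sigma L := fun hs => by
        have h := Subgroup.card_le_of_le ((le_inf (le_sigmaCore hG hL hs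
          (IsPGroup.of_card (n := 1) (by rw [hP, pow_one]) : IsPGroup p P) hPL) hPM).trans hLbot.le)
        rw [hP, Subgroup.card_bot] at h
        exact absurd h (not_le.2 hp.out.one_lt)
      refine not_dvd_derived_of_sup (hE.1.trans (le_normalizer_sigmaCore L)) (fun x hx => ?_)
        (not_dvd_card_sigmaCore hpL)
        (fun h => hd (h.trans (Subgroup.card_dvd_of_le (Subgroup.commutator_mono hEM hEM))))
      obtain ⟨e, he, k, hk, rfl⟩ := hE.2.2.2 x hx
      exact mul_mem (Subgroup.mem_sup_right he) (Subgroup.mem_sup_left hk)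
  -- and therefore centralizes `S`
  refine hnC ?_
  set k := (orderOf n).factorization p with hk
  set m := orderOf n / p ^ k with hm
  have hcop : Nat.Coprime (p ^ k) m :=
    (Nat.coprime_ordCompl hp.out (orderOf_pos n).ne').pow_left k
  have hmk : p ^ k * m = orderOf n := Nat.ordProj_mul_ordCompl_eq_self (orderOf n) p
  have h1 : n ^ p ^ k ∈ Subgroup.centralizer (Sg : Set G) := by
    refine CoprimeAction.le_centralizer_of_fixes_prime_order (A := Subgroup.zpowers (n ^ p ^ k)) (V := Sg)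
      (Subgroup.zpowers_le.2 (pow_mem hnS _)) ?_ ?_ (Subgroup.mem_zpowers _)
    · obtain ⟨j, hj⟩ := S.isPGroup'.exists_card_eq
      rw [← hSg] at hj
      rw [hj, Nat.card_zpowers, orderOf_pow, Nat.gcd_eq_right (Dvd.intro m hmk)]
      exact (Nat.coprime_ordCompl hp.out (orderOf_pos n).ne').symm.pow_right j
    · intro v hv hvo a ha
      have hvS := Subgroup.orderOf_dvd_natCard _ hv
      obtain ⟨j, hj⟩ := S.isPGroup'.exists_card_eq
      rw [← hSg] at hj
      rw [hj] at hvS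
      have hvP : v ∈ P := mem_of_pow_eq_one hSc hPS hP hv
        (((Nat.prime_dvd_prime_iff_eq hvo hp.out).1 (hvo.dvd_of_dvd_pow hvS)) ▸ pow_orderOf_eq_one v)
      exact (Subgroup.mem_centralizer_iff.1
        ((Subgroup.zpowers_le.2 (pow_mem hnP _) : Subgroup.zpowers (n ^ p ^ k) ≤ _) ha) v hvP).symm
  have h2 : n ^ m ∈ Subgroup.centralizer (Sg : Set G) := by
    refine hSC ?_
    have hpg : IsPGroup p (Subgroup.zpowers (n ^ m)) := by
      refine IsPGroup.of_card (n := k) ?_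
      rw [Nat.card_zpowers, orderOf_pow, Nat.gcd_eq_right (Dvd.intro_left _ hmk)]
      refine Nat.div_eq_of_eq_mul_left (Nat.pos_of_ne_zero fun h => ?_) hmk.symm
      rw [h, mul_zero] at hmk
      exact (orderOf_pos n).ne' hmk.symm
    exact (le_sup_left.trans (S.is_maximal' (IsPGroup.to_sup_of_normal_right' hpg S.isPGroup'
      (Subgroup.zpowers_le.2 (pow_mem hnS _))) le_sup_right).le) (Subgroup.mem_zpowers _)
  have h := Nat.gcd_eq_gcd_ab (p ^ k) m
  rw [hcop.gcd_eq_one] at h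
  have : n = (n ^ p ^ k) ^ Nat.gcdA (p ^ k) m * (n ^ m) ^ Nat.gcdB (p ^ k) m := by
    rw [← zpow_natCast n (p ^ k), ← zpow_natCast n m, ← zpow_mul, ← zpow_mul, ← zpow_add, ← h, Nat.cast_one, zpow_one]
  rw [this]
  exact mul_mem (zpow_mem h1 _) (zpow_mem h2 _)

/-- B&G 13.4. -/
theorem tau_one_centralizer_le (hG : Cfsg.IsMinSimpleOddOrder G) (hM : IsCoatom M) (ht : p ∈ Cfsg.tau1 M)
    (hP : Nat.card P = p) (hPM : P ≤ M) {R : Subgroup G} (hRM : R ≤ M) (hRP : R ≤ Subgroup.centralizer (P : Set G))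
    {r : ℕ} [hr : Fact r.Prime] (hR : Nat.card R = r) (hrs : r ∉ Cfsg.sigma M) :
    Cfsg.sigmaCore M ⊓ Subgroup.centralizer (P : Set G) ≤ Subgroup.centralizer (R : Set G) := by
  have ht' := ht
  obtain ⟨-, hps, -, hd, hr1⟩ := ht
  have hPp : IsPGroup p P := IsPGroup.of_card (n := 1) (by rw [hP, pow_one])
  have hP1 : P ≠ ⊥ := fun h => hp.out.one_lt.ne (by rw [← hP, h, Subgroup.card_bot])
  set S := Cfsg.sigmaCore M ⊓ Subgroup.centralizer (P : Set G) with hS
  have hSM : S ≤ M := inf_le_left.trans (Subgroup.map_subtype_le _)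
  by_cases hrp : r = p
  · subst hrp
    suffices R ≤ P from inf_le_right.trans (Subgroup.centralizer_le this)
    have hel : ∀ U : Subgroup G, Nat.card U = r → Cfsg.IsElementaryAbelian r U := fun U hU =>
      ⟨haveI : IsCyclic U := isCyclic_of_prime_card hU; IsCyclic.isMulCommutative, fun a ha => by
        have h := pow_card_eq_one' (x := (⟨a, ha⟩ : U))
        rw [hU] at h
        exact congrArg Subtype.val h⟩
    by_contra hne
    refine not_prank_of_elem (sup_le hPM hRM) (NormalEl.elementary_sup (hel P hP) (hel R hR)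
      fun a ha b hb => Subgroup.mem_centralizer_iff.1 (hRP hb) a ha) ?_ hr1
    rw [pow_one, ← hP]
    exact card_lt_of_lt (lt_of_le_of_ne le_sup_left fun h => hne ((le_sup_right : R ≤ P ⊔ R).trans h.ge))
  obtain ⟨N, hN, hNP, -, hnc, -⟩ := exists_max_normalizer hG hM hps hr1 hP
  have hCN : Subgroup.centralizer (P : Set G) ≤ N := (Subgroup.centralizer_le_normalizer _).trans hNP
  have hPN : P ≤ N := Subgroup.le_normalizer.trans hNP
  have hRn : R ≤ Subgroup.normalizer (S : Set G) :=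
    (le_inf (hRM.trans (le_normalizer_sigmaCore M)) (hRP.trans Subgroup.le_normalizer)).trans
      Subgroup.inf_normalizer_le_normalizer_inf
  haveI : Group.IsSolvable S := isSolvable_of_ne_top hG fun h => hM.1 (top_le_iff.1 (h ▸ hSM))
  refine le_of_invariant_subgroups hRn (by
    rw [hR]
    exact (Nat.Prime.coprime_iff_not_dvd hr.out).2 fun h =>
      hrs (mem_sigma_of_dvd M hr.out (h.trans (Subgroup.card_dvd_of_le inf_le_left)))) fun q hq hqd Q hQ hQS hRQ => ?_
  haveI := Fact.mk hq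
  have hqM : q ∈ Cfsg.sigma M := mem_sigma_of_dvd M hq (hqd.trans (Subgroup.card_dvd_of_le inf_le_left))
  have hqp : q ≠ p := fun e => hps (e ▸ hqM)
  have hqr : q ≠ r := fun e => hrs (e ▸ hqM)
  refine Subgroup.commutator_eq_bot_iff_le_centralizer.1 ?_
  by_contra hne
  set Q₀ := ⁅Q, R⁆ with hQ₀
  have hQ₀Q : Q₀ ≤ Q := CoprimeAction.commutator_le_of_normalizer hRQ
  have hQ₀p : IsPGroup q Q₀ := hQ.to_le hQ₀Q
  have hQ₀P : Q₀ ≤ Subgroup.centralizer (P : Set G) := (hQ₀Q.trans hQS).trans inf_le_right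
  have hQ₀M : Q₀ ≤ M := (hQ₀Q.trans hQS).trans hSM
  have hQ₀N : Q₀ ≤ N := hQ₀P.trans hCN
  have hRN : R ≤ N := hRP.trans hCN
  have hQ₀N' : Q₀ ≤ ⁅N, N⁆ := derived_commutator_le (((hQS).trans inf_le_right).trans hCN) hRN
  haveI : IsCyclic R := isCyclic_of_prime_card hR
  haveI : IsMulCommutative R := IsCyclic.isMulCommutative
  have hQR : ⁅Q₀, R⁆ = Q₀ := CoprimeAction.commutator_commutator_eq hRQ (by
    rw [hR]
    obtain ⟨n, hn⟩ := hQ.exists_card_eq
    rw [hn]
    exact ((Nat.coprime_primes hr.out hq).2 hqr.symm).pow_right n) (Or.inl (Group.isSolvable_of_comm mul_comm'))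
  have hRQ₀ : R ≤ Subgroup.normalizer (Q₀ : Set G) := CoprimeAction.le_normalizer_commutator hRQ
  have hqN : q ∉ Cfsg.sigma N := sigma_disjoint_of_tau_one hG hM hN hnc ht' hP hPM hNP hqM
  have hpN : p ∈ Cfsg.sigma N := by
    by_contra h
    obtain ⟨A, hAN, hA, hAc⟩ := exists_elem_of_not_prank (normalizer_in_maximal hG hN h hP hNP).1.2
    exact hne (eq_bot_of_derived_tau_two hG hM hN hnc hps hr1 hPp hP1 hPM h hAN hA hAc hqM hQ₀p hQ₀M
      (Subgroup.le_centralizer_iff.1 hQ₀P) hQ₀N')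
  have hqW : ∀ W : Subgroup G, Q₀ ≤ W → ¬ q ∣ Nat.card W → False := fun W hW hnd =>
    hnd ((dvd_card_of_ne_bot hQ₀p hne).trans (Subgroup.card_dvd_of_le hW))
  have hRp : IsPGroup r R := IsPGroup.of_card (n := 1) (by rw [hR, pow_one])
  have hrN : r ∉ Cfsg.sigma N := fun hs => by
    refine hqW (Cfsg.sigmaCore N) ?_ (not_dvd_card_sigmaCore hqN)
    rw [← hQR, Subgroup.commutator_comm]
    exact (Subgroup.commutator_mono (le_sigmaCore hG hN hs hRp hRN) hQ₀N).trans
      (CoprimeAction.commutator_le_of_normalizer (le_normalizer_sigmaCore N))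
  have hrk : Cfsg.PRankLE r 1 ↥N := by
    by_contra hrk
    obtain ⟨E, hRE, hE⟩ := exists_complement_ge hG hN hRN fun t ht hd => by
      rw [hR] at hd
      exact (Nat.prime_dvd_prime_iff_eq ht hr.out).1 hd ▸ hrN
    obtain ⟨A, hAE, hA, hAc⟩ := exists_elementary_in_complement hG hN hE hrN hrk
    have hAN : A ≤ N := hAE.trans hE.1
    have hRA : R ≤ A := (Cfsg.Agent.S1418.result hG N hN E hE r (mem_tau2_of_elementary hG hN hrN hAN hA hAc) A
      ⟨hAE, hA, hAc⟩).1.2 R hRE hR
    have hn := le_normalizer_sigmaCore_sup hG hN hrN hAN hA hAc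
    refine hqW (Cfsg.sigmaCore N ⊔ A) ?_ ?_
    · rw [← hQR]
      exact (Subgroup.commutator_mono le_rfl (hRA.trans le_sup_right)).trans (by
        rw [Subgroup.commutator_comm]
        exact CoprimeAction.commutator_le_of_normalizer (hQ₀N.trans hn))
    · intro hd'
      have h := ZJ.card_sup_mul_card_inf_of_le_normalizer (hAN.trans (le_normalizer_sigmaCore N))
      rw [sup_comm] at hd'
      rcases hq.dvd_mul.1 (h ▸ hd'.trans (dvd_mul_right _ _)) with h' | h'
      · rw [hAc] at h'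
        exact hqr ((Nat.prime_dvd_prime_iff_eq hq hr.out).1 (hq.dvd_of_dvd_pow h'))
      · exact hqN (mem_sigma_of_dvd N hq h')
  obtain ⟨Y, hY, hYQ⟩ : ∃ Y : Subgroup G, Nat.card Y = q ∧ Y ≤ Q₀ := by
    obtain ⟨⟨y, hy⟩, hyo⟩ := exists_prime_orderOf_dvd_card' (G := Q₀) q (dvd_card_of_ne_bot hQ₀p hne)
    rw [Subgroup.orderOf_mk] at hyo
    exact ⟨_, by rw [Nat.card_zpowers, hyo], Subgroup.zpowers_le.2 hy⟩
  have hYp : IsPGroup q Y := hQ₀p.to_le hYQ
  have hqk : Cfsg.PRankLE q 1 ↥N := by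
    by_contra hqk
    obtain ⟨A, hAN, hA, hAc⟩ := exists_elem_of_not_prank hqk
    obtain ⟨⟨y, hy⟩, hyo⟩ := exists_prime_orderOf_dvd_card' (G := Y) q (dvd_of_eq hY.symm)
    rw [Subgroup.orderOf_mk] at hyo
    have hy1 : y ≠ 1 := fun h => hq.one_lt.ne (by rw [← hyo, h, orderOf_one])
    have hYe : Subgroup.zpowers y = Y :=
      Subgroup.eq_of_le_of_card_ge (Subgroup.zpowers_le.2 hy) (by rw [Nat.card_zpowers, hyo, hY])
    obtain ⟨⟨x, hx⟩, hxo⟩ := exists_prime_orderOf_dvd_card' (G := P) p (dvd_of_eq hP.symm)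
    rw [Subgroup.orderOf_mk] at hxo
    have hxσ : y ∈ Cfsg.sigmaHat N := ⟨hQ₀N (hYQ hy), x, le_sigmaCore hG hN hpN hPp hPN hx,
      fun h => hp.out.one_lt.ne (by rw [← hxo, h, orderOf_one]),
      (Subgroup.mem_centralizer_iff.1 (hQ₀P (hYQ hy)) x hx).symm⟩
    obtain ⟨E, hE⟩ : ∃ E : Subgroup G, Cfsg.IsComplIn E (Cfsg.sigmaCore N) N := by
      obtain ⟨E, -, hE⟩ := exists_complement_ge hG hN (bot_le : (⊥ : Subgroup G) ≤ N) fun t ht hd => by
        rw [Subgroup.card_bot] at hd; exact absurd hd ht.not_dvd_one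
      exact ⟨E, hE⟩
    obtain ⟨-, hU⟩ := (Cfsg.Agent.S1420.result hG N hN E hE).2.2.2 y hxσ.1 hy1 (fun t ht hd => by
      rw [hyo] at hd
      exact (Nat.prime_dvd_prime_iff_eq ht hq).1 hd ▸ mem_tau2_of_elementary hG hN hqN hAN hA hAc) hxσ
    have hY1 : Y ≠ ⊥ := fun h => hq.one_lt.ne (by rw [← hY, h, Subgroup.card_bot])
    obtain ⟨L, hL, hNL⟩ := exists_coatom_ge (normalizer_ne_top hG hY1 (pgroup_ne_top hG hYp))
    have hLN : L = N := hU L hL (by
      rw [← centralizer_zpowers, hYe]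
      exact (Subgroup.centralizer_le_normalizer _).trans hNL)
    subst hLN
    obtain ⟨T, hYT⟩ := exists_max_ge hYp (le_inf (hYQ.trans hQ₀M) (hYQ.trans hQ₀N))
    obtain ⟨-, -, hbot, -⟩ := embedding_nonsigma hG hM hqM hYp hY1 hN (fun h => hnc 1 (by rw [map_conj_one, h]))
      hNL T hYT hqN
    exact hP1 (le_bot_iff.1 (hbot ▸ le_inf (le_sigmaCore hG hN hpN hPp hPN) hPM))
  -- an invariant Sylow `p`-subgroup
  set X := Q₀ ⊔ R with hX
  have hKN : Cfsg.sigmaCore N ≤ N := Subgroup.map_subtype_le _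
  haveI : Group.IsSolvable ↥(Cfsg.sigmaCore N) := isSolvable_of_ne_top hG fun h => hN.1 (top_le_iff.1 (h ▸ hKN))
  have hXc : (Nat.card X).Coprime (Nat.card ↥(Cfsg.sigmaCore N)) := by
    refine Nat.coprime_of_dvd fun t ht h1 h2 => ?_
    have hts := mem_sigma_of_dvd N ht h2
    have h := ZJ.card_sup_mul_card_inf_of_le_normalizer hRQ₀
    rw [hX, sup_comm] at h1
    rcases ht.dvd_mul.1 (h ▸ h1.trans (dvd_mul_right _ _)) with h3 | h3
    · rw [hR] at h3
      exact hrN ((Nat.prime_dvd_prime_iff_eq ht hr.out).1 h3 ▸ hts)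
    · obtain ⟨n, hn⟩ := hQ₀p.exists_card_eq
      rw [hn] at h3
      exact hqN ((Nat.prime_dvd_prime_iff_eq ht hq).1 (ht.dvd_of_dvd_pow h3) ▸ hts)
  have hXP : X ≤ Subgroup.centralizer (P : Set G) := sup_le hQ₀P hRP
  obtain ⟨S₀, hPS₀, hXS₀⟩ := CoprimeAction.exists_invariant_sylow_ge (p := p) (A := X) (K := Cfsg.sigmaCore N)
    ((sup_le hQ₀N hRN).trans (le_normalizer_sigmaCore N)) hXc (Or.inr inferInstance)
    (le_sigmaCore hG hN hpN hPp hPN) hPp (hXP.trans (Subgroup.centralizer_le_normalizer _))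
  obtain ⟨Sy, hSy, hSyN, -⟩ := exists_sylow_of_sigmaCore hG hN hpN S₀
  rw [← hSy] at hPS₀ hXS₀
  set Sg := (Sy : Subgroup G) with hSg
  have hp2 : p ≠ 2 := ne_two hG ((hP ▸ dvd_rfl : p ∣ Nat.card P).trans (Subgroup.card_subgroup_dvd_card P))
  have hq2 : q ≠ 2 := ne_two hG ((hY ▸ dvd_rfl : q ∣ Nat.card Y).trans (Subgroup.card_subgroup_dvd_card Y))
  have hbb : p ∉ Cfsg.beta N → Q₀ ≤ Subgroup.centralizer (Sg : Set G) := fun hb =>
    le_centralizer_of_derived hG hN hb Sy.isPGroup' hSyN hQ₀N'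
      (card_coprime (p := p) (q := q) hQ₀p hqp) (le_sup_left.trans hXS₀)
  by_cases hSc : IsCyclic Sg
  · have hb : p ∉ Cfsg.beta N := fun hb => by
      obtain ⟨B, -, hB, hBc⟩ := exists_elem_of_not_prank hb.1.2
      obtain ⟨B', hBB'⟩ := IsPGroup.exists_le_sylow (isPGroup_of_elementary hB)
      obtain ⟨a, ha⟩ := MulAction.exists_smul_eq G B' Sy
      have hBS : B.map (MulAut.conj a).toMonoidHom ≤ Sg :=
        (Subgroup.map_mono hBB').trans (by rw [hSg, ← ha]; rfl)
      haveI := hSc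
      refine not_isCyclic_of_elementary (elementary_map_conj hB a) (p := p) ?_ (isCyclic_of_injective
        (Subgroup.inclusion hBS) (Subgroup.inclusion_injective _))
      rw [card_map_conj, hBc]
      exact lt_self_pow₀ hp.out.one_lt (by norm_num)
    exact false_of_cyclic_sylow hG hM hN hd hP hPM hpN hqp hqM hqN hqk Sy hSyN hPS₀ hSc hNP hY (hYQ.trans hQ₀M)
      (hYQ.trans hQ₀N') (hYQ.trans (hbb hb))
  obtain ⟨A, hA, hAc, hAQ⟩ : ∃ A : Subgroup G, Cfsg.IsElementaryAbelian p A ∧ Nat.card A = p ^ 2 ∧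
      A ≤ Subgroup.centralizer (Q₀ : Set G) := by
    by_cases hb : p ∈ Cfsg.beta N
    · set S₁ := Sg ⊓ Subgroup.centralizer (P : Set G) with hS₁
      have hS₁c : ¬ IsCyclic S₁ := by
        intro hc
        have hS1 : Sg ≠ ⊥ := fun h => hP1 (le_bot_iff.1 (hPS₀.trans h.le))
        obtain ⟨z, hzS, hzo, hzc⟩ := exists_elem_pow Sy.isPGroup' hS1
        haveI : IsCyclic P := isCyclic_of_prime_card hP
        haveI : IsMulCommutative P := IsCyclic.isMulCommutative
        have hz : z ∈ S₁ := ⟨hzS, Subgroup.mem_centralizer_iff.2 fun x hx => hzc x (hPS₀ hx)⟩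
        have hzP : z ∈ P := mem_of_pow_eq_one hc
          (le_inf hPS₀ fun x hx => Subgroup.mem_centralizer_iff.2 fun y hy => setLike_mul_comm hy hx)
          hP hz (hzo ▸ pow_orderOf_eq_one z)
        have hzPe : Subgroup.zpowers z = P :=
          Subgroup.eq_of_le_of_card_ge (Subgroup.zpowers_le.2 hzP) (by rw [Nat.card_zpowers, hzo, hP])
        have hSS : Sg ≤ S₁ := le_inf le_rfl fun x hx => by
          rw [← hzPe, centralizer_zpowers]
          exact Subgroup.mem_centralizer_singleton_iff.2 (hzc x hx)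
        haveI := hc
        exact hSc (isCyclic_of_injective (Subgroup.inclusion hSS) (Subgroup.inclusion_injective _))
      obtain ⟨B, hBS, hBexp, hBn, A, hAB, hA, hAc⟩ := exists_exponent_subgroup hp2 (Sy.isPGroup'.to_le inf_le_left) hS₁c
      have hXB : X ≤ Subgroup.normalizer (B : Set G) :=
        ((le_inf hXS₀ ((hXP.trans Subgroup.le_normalizer))).trans Subgroup.inf_normalizer_le_normalizer_inf).trans hBn
      refine ⟨A, hA, hAc, hAB.trans (Subgroup.le_centralizer_iff.1 ?_)⟩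
      exact le_centralizer_of_cyclic_fixed (r := r) hP hqp.symm (Ne.symm hrp) hqr hq2 hQ₀p hR hQR hRQ₀
        (hBS.trans inf_le_right) hQ₀P hRP hBexp (le_sup_left.trans hXB) (le_sup_right.trans hXB)
        (Z := Sg ⊓ Subgroup.centralizer (R : Set G))
        (isCyclic_centralizer_of_beta hG hN hb hrN hrk hR (Sy.isPGroup'.to_le inf_le_left) inf_le_right)
        (le_inf hPS₀ (Subgroup.le_centralizer_iff.1 hRP)) (inf_le_inf (hBS.trans inf_le_left) le_rfl)
    · obtain ⟨A, hAS, hA, hAc⟩ := exists_elem_sq hp2 Sy.isPGroup' hSc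
      exact ⟨A, hA, hAc, hAS.trans (Subgroup.le_centralizer_iff.1 (hbb hb))⟩
  obtain ⟨L, hL, hqL, hbL⟩ := exists_sigma_beta_of_rank_two hG hM hr1 hPp hP1 hPM hqM hQ₀p hne hQ₀M
    (Subgroup.le_centralizer_iff.1 hQ₀P) hA hAc hAQ
  exact not_alpha_of_sigma hG hN hL (fun g e => hqN ((mem_sigma_conj_iff g).1 (e ▸ hqL))) hpN hbL.1

end CfsgLib.SigmaGroups
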