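import Cfsg.Agent.Sigma.TauOneCentralizer
import Cfsg.Agent.ZJ.Fpf
import Cfsg.Agent.S1417

/-!
First facts about the primes in `κ(M)`.
-/

set_option autoImplicit false
set_option linter.unusedSectionVars false
set_option linter.style.haveILetI false

namespace CfsgLib.SigmaGroups

open CfsgLib.BenderUnique CfsgLib.Uniq
open scoped commutatorElement

universe u

variable {G : Type u} [Group G] [Finite G] {p : ℕ} [hp : Fact p.Prime] {M : Subgroup G}

/-- A fixed-point-free element of order `p` forces nilpotence. -/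
theorem isNilpotent_of_free_element {K : Subgroup G} {g : G} (hg : g ∈ Subgroup.normalizer (K : Set G))
    (hgp : g ^ p = 1) (hfree : K ⊓ Subgroup.centralizer ({g} : Set G) = ⊥) : Group.IsNilpotent K := by
  set φ := K.normalizerMonoidHom with hφ
  refine ZJ.isNilpotent_of_fixedPointFree (α := φ ⟨g, hg⟩) hp.out (fun x hx => ?_) ?_
  · have h : g * x * g⁻¹ = (x : G) := congrArg Subtype.val hx
    have hmem : (x : G) ∈ K ⊓ Subgroup.centralizer ({g} : Set G) :=
      ⟨x.2, Subgroup.mem_centralizer_singleton_iff.2 (mul_inv_eq_iff_eq_mul.1 h).symm⟩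
    rw [hfree, Subgroup.mem_bot] at hmem
    exact Subtype.ext hmem
  · rw [← map_pow, show (⟨g, hg⟩ : Subgroup.normalizer (K : Set G)) ^ p = 1 from Subtype.ext hgp, map_one]

/-- Outside `κ(M)`, rank one elements of order `p` act freely on `M_σ`. -/
theorem free_of_not_kappa (hG : Cfsg.IsMinSimpleOddOrder G) (hps : p ∉ Cfsg.sigma M) (hk : p ∉ Cfsg.kappa M)
    (hr : Cfsg.PRankLE p 1 ↥M) {x : G} (hxM : x ∈ M) (hxo : orderOf x = p) :
    Cfsg.sigmaCore M ⊓ Subgroup.centralizer ({x} : Set G) = ⊥ := by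
  by_contra hne
  obtain ⟨y, ⟨hy, hyx⟩, hy1⟩ := (Subgroup.bot_or_exists_ne_one _).resolve_left hne
  have hpM : p ∣ Nat.card M := hxo ▸ Subgroup.orderOf_dvd_natCard M hxM
  refine hk ⟨hp.out, hpM, hps, fun P => ?_⟩
  have hPc : IsCyclic ↥((P : Subgroup M).map M.subtype) :=
    isCyclic_of_prank_one hG hr (Subgroup.map_subtype_le _) (P.isPGroup'.map _)
  refine ⟨?_, ?_⟩
  · haveI := hPc
    exact isCyclic_of_surjective _
      (Subgroup.equivMapOfInjective (P : Subgroup M) _ M.subtype_injective).symm.surjective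
  · obtain ⟨T, hxT⟩ := exists_max_ge (X := Subgroup.zpowers x)
      (IsPGroup.of_card (n := 1) (by rw [Nat.card_zpowers, hxo, pow_one])) (Subgroup.zpowers_le.2 hxM)
    obtain ⟨m, hm, hme⟩ := exists_conj_sylow T P
    obtain ⟨x', hx', hxe⟩ := hme.le ⟨x, hxT (Subgroup.mem_zpowers x), rfl⟩
    refine ⟨x', hx', fun h => ?_, m * y * m⁻¹,
      (Subgroup.mem_normalizer_iff.1 (le_normalizer_sigmaCore M hm) y).1 hy,
      fun h => hy1 (conj_eq_one_iff.1 h), ?_⟩
    · rw [h, map_one] at hxe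
      have hx1 : x = 1 := conj_eq_one_iff.1 hxe.symm
      rw [hx1, orderOf_one] at hxo
      exact hp.out.one_lt.ne hxo
    · show (x' : G) * (m * y * m⁻¹) = m * y * m⁻¹ * x'
      rw [show (x' : G) = m * x * m⁻¹ from hxe]
      have h := Subgroup.mem_centralizer_singleton_iff.1 hyx
      calc m * x * m⁻¹ * (m * y * m⁻¹) = m * (x * y) * m⁻¹ := by group
        _ = m * (y * x) * m⁻¹ := by rw [h]
        _ = m * y * m⁻¹ * (m * x * m⁻¹) := by group

/-- B&G 14.1: the elementary part of a Sylow subgroup at a prime outside `σ(M) ∪ κ(M)`. -/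
theorem omega_structure (hG : Cfsg.IsMinSimpleOddOrder G) (hM : IsCoatom M) (hpM : p ∣ Nat.card M)
    (hps : p ∉ Cfsg.sigma M) (hk : p ∉ Cfsg.kappa M) {S : Sylow p M} {A : Subgroup G}
    (hA : A = Subgroup.closure {x : G | x ∈ (S : Subgroup M).map M.subtype ∧ x ^ p = 1}) :
    Nat.card A ≤ p ^ 2 ∧ Cfsg.sigmaCore M ⊓ Subgroup.centralizer (A : Set G) = ⊥ ∧
      Group.IsNilpotent (Cfsg.sigmaCore M) := by
  set T := (S : Subgroup M).map M.subtype with hT
  have hTM : T ≤ M := Subgroup.map_subtype_le _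
  have hTp : IsPGroup p T := S.isPGroup'.map _
  by_cases hr : Cfsg.PRankLE p 1 ↥M
  · have hTc : IsCyclic T := isCyclic_of_prank_one hG hr hTM hTp
    have hdvd : p ∣ Nat.card T := by
      rw [hT, Subgroup.card_map_of_injective M.subtype_injective]
      exact S.dvd_card_of_dvd_card hpM
    obtain ⟨⟨x, hx⟩, hxo⟩ := exists_prime_orderOf_dvd_card' (G := T) p hdvd
    rw [Subgroup.orderOf_mk] at hxo
    have hxc : Nat.card (Subgroup.zpowers x) = p := by rw [Nat.card_zpowers, hxo]
    have hfree := free_of_not_kappa hG hps hk hr (hTM hx) hxo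
    have hAx : A = Subgroup.zpowers x := by
      refine le_antisymm (hA ▸ (Subgroup.closure_le _).2 fun y hy => ?_)
        (Subgroup.zpowers_le.2 (hA ▸ Subgroup.subset_closure ⟨hx, hxo ▸ pow_orderOf_eq_one x⟩))
      exact mem_of_pow_eq_one hTc (Subgroup.zpowers_le.2 hx) hxc hy.1 hy.2
    refine ⟨?_, ?_, ?_⟩
    · rw [hAx, hxc]
      exact Nat.le_self_pow two_ne_zero p
    · rw [hAx, centralizer_zpowers]
      exact hfree
    · exact isNilpotent_of_free_element (le_normalizer_sigmaCore M (hTM hx)) (hxo ▸ pow_orderOf_eq_one x) hfree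
  · obtain ⟨B, hBM, hB, hBc⟩ := exists_elem_of_not_prank hr
    obtain ⟨S', hBS'⟩ := exists_max_ge (isPGroup_of_elementary hB) hBM
    obtain ⟨m, hm, hme⟩ := exists_conj_sylow S' S
    have hBT : B.map (MulAut.conj m).toMonoidHom ≤ T := (Subgroup.map_mono hBS').trans hme.le
    have hBe := elementary_map_conj hB m
    have hBec : Nat.card ↥(B.map (MulAut.conj m).toMonoidHom) = p ^ 2 := by rw [card_map_conj, hBc]
    have hiff := mem_iff_pow_eq_one hG hM hps hBe hBec S hBT
    have hAB : A = B.map (MulAut.conj m).toMonoidHom := by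
      refine le_antisymm (hA ▸ (Subgroup.closure_le _).2 fun y hy => (hiff y hy.1).1 hy.2) fun y hy => ?_
      exact hA ▸ Subgroup.subset_closure ⟨hBT hy, (hiff y (hBT hy)).2 hy⟩
    rw [hAB]
    exact ⟨hBec.le, sigmaCore_inf_centralizer_eq_bot hG hM hps (hBT.trans hTM) hBe hBec,
      (Cfsg.Agent.S1417.result hG M hM p (mem_tau2_of_elementary hG hM hps (hBT.trans hTM) hBe hBec) _
        ⟨hBT.trans hTM, hBe, hBec⟩).1⟩

end CfsgLib.SigmaGroups
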