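import Cfsg.Agent.Sigma.SigmaDisjoint
import Cfsg.Agent.TypeP.Basic

/-!
The subgroups `R(x)` for `x` in some `M_σ`.
-/

set_option autoImplicit false
set_option linter.unusedSectionVars false
set_option linter.style.haveILetI false

namespace CfsgLib.SigmaGroups

open CfsgLib.BenderUnique CfsgLib.Uniq

universe u

variable {G : Type u} [Group G] [Finite G] {p : ℕ} [hp : Fact p.Prime] {M N L : Subgroup G} {x : G}

omit hp in
/-- `M_F ≤ M_σ`. -/
theorem fittingHallOf_le_sigmaCore (hG : Cfsg.IsMinSimpleOddOrder G) (hM : IsCoatom M) :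
    Cfsg.fittingHallOf M ≤ Cfsg.sigmaCore M := by
  refine le_sigmaCore_of_sigma hG hM (Subgroup.map_subtype_le _) fun t ht hd => ?_
  haveI := Fact.mk ht
  rw [Cfsg.fittingHallOf, Subgroup.card_map_of_injective M.subtype_injective] at hd
  set F := Cfsg.fittingHall ↥M with hF
  haveI : F.Normal := Cfsg.fittingHall_normal _
  obtain ⟨S⟩ : Nonempty (Sylow t ↥M) := inferInstance
  have hSF : (S : Subgroup M) ≤ F := by
    rw [← Subgroup.relIndex_eq_one]
    obtain ⟨n, hn⟩ := S.isPGroup'.exists_card_eq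
    refine Nat.eq_one_iff_not_exists_prime_dvd.2 fun s hs hsd => ?_
    have hst : s = t := (Nat.prime_dvd_prime_iff_eq hs ht).1
      (hs.dvd_of_dvd_pow (hn ▸ hsd.trans (Subgroup.index_dvd_card _)))
    subst hst
    exact Nat.not_coprime_of_dvd_of_dvd hs.one_lt hd (hsd.trans (Subgroup.relIndex_dvd_index_of_normal _ _))
      (CfsgLib.TypeP.fittingHall_coprime ↥M)
  have hfit : F ≤ Cfsg.fittingSubgroup ↥M :=
    sSup_le fun N hN => CfsgLib.Components.le_fittingSubgroup hN.1 hN.2.1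
  have hSp : (S : Subgroup M) = Cfsg.pCore t ↥M :=
    (S.is_maximal' (CfsgLib.Components.pCore_isPGroup t)
      (le_pCore_of_le_fitting S.isPGroup' (hSF.trans hfit))).symm
  haveI : (Cfsg.pCore t ↥M).Characteristic := CfsgLib.Components.pCore_characteristic t
  have htM : t ∣ Nat.card M := hd.trans (Subgroup.card_subgroup_dvd_card _)
  refine ⟨ht, htM, S, ?_⟩
  set T := (S : Subgroup M).map M.subtype with hT
  have hTn : M ≤ Subgroup.normalizer (T : Set G) := by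
    rw [hT, hSp]
    exact Subgroup.le_normalizer.trans (le_normalizer_map_subtype_of_char _)
  have hT1 : T ≠ ⊥ := fun h => by
    have h' := S.dvd_card_of_dvd_card htM
    rw [← Subgroup.card_map_of_injective M.subtype_injective, ← hT, h, Subgroup.card_bot] at h'
    exact ht.not_dvd_one h'
  exact ((hM.le_iff.1 hTn).resolve_left (normalizer_ne_top hG hT1 (pgroup_ne_top hG (S.isPGroup'.map _)))).le

omit hp in
/-- The data behind a nontrivial element of `R(x)`. -/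
theorem supportR_spec (hG : Cfsg.IsMinSimpleOddOrder G) {r : G} (hr : r ∈ Cfsg.supportR M x) (hr1 : r ≠ 1) :
    ∃ L : Subgroup G, IsCoatom L ∧ ¬ Subgroup.centralizer ({x} : Set G) ≤ M ∧
      Subgroup.centralizer ({x} : Set G) ≤ L ∧
      (∀ L' : Subgroup G, IsCoatom L' → Subgroup.centralizer ({x} : Set G) ≤ L' → L' = L) ∧
      r ∈ Cfsg.sigmaCore L ∧ r ∈ Subgroup.centralizer ({x} : Set G) := by
  by_cases h : ¬ Subgroup.centralizer ({x} : Set G) ≤ M ∧
      ∃! L : Subgroup G, IsCoatom L ∧ Subgroup.centralizer ({x} : Set G) ≤ L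
  · rw [Cfsg.supportR, dif_pos h] at hr
    have hL := Classical.choose_spec h.2.exists
    exact ⟨_, hL.1, h.1, hL.2, fun L' hL' hCL' => h.2.unique ⟨hL', hCL'⟩ hL,
      fittingHallOf_le_sigmaCore hG hL.1 hr.1, hr.2⟩
  · rw [Cfsg.supportR, dif_neg h, Subgroup.mem_bot] at hr
    exact absurd hr hr1

/-- The line in a `σ(M)`-element whose centralizer lies only outside `M`. -/
theorem line_neighbour (hG : Cfsg.IsMinSimpleOddOrder G) (hM : IsCoatom M) (hxS : x ∈ Cfsg.sigmaCore M)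
    (hL : IsCoatom L) (hxM : ¬ Subgroup.centralizer ({x} : Set G) ≤ M)
    (hxL : Subgroup.centralizer ({x} : Set G) ≤ L)
    (huniq : ∀ L' : Subgroup G, IsCoatom L' → Subgroup.centralizer ({x} : Set G) ≤ L' → L' = L)
    {z : G} (hz : z ∈ Subgroup.zpowers x) (hzo : orderOf z = p) :
    p ∈ Cfsg.sigma M ∧ (∀ g : G, L ≠ M.map (MulAut.conj g).toMonoidHom) ∧ Cfsg.sigmaCore L ⊓ M = ⊥ := by
  have hz1 : z ≠ 1 := fun h => hp.out.one_lt.ne (by rw [← hzo, h, orderOf_one])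
  have hzS : z ∈ Cfsg.sigmaCore M := Subgroup.zpowers_le.2 hxS hz
  have hzM : z ∈ M := (Subgroup.map_subtype_le _ : Cfsg.sigmaCore M ≤ M) hzS
  have hpM : p ∈ Cfsg.sigma M := mem_sigma_of_dvd M hp.out (hzo ▸ Subgroup.orderOf_dvd_natCard _ hzS)
  have hne : L ≠ M := fun h => hxM (h ▸ hxL)
  set Z := Subgroup.zpowers z with hZ
  have hCx : Subgroup.centralizer ({x} : Set G) ≤ Subgroup.centralizer (Z : Set G) := by
    rw [← centralizer_zpowers x]
    exact Subgroup.centralizer_le (Subgroup.zpowers_le.2 hz)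
  obtain ⟨L', hL', hNL'⟩ := exists_coatom_ge (normalizer_zpowers_ne_top hG hz1)
  rw [huniq L' hL' ((hCx.trans (Subgroup.centralizer_le_normalizer _)).trans hNL')] at hNL'
  have hZp : IsPGroup p Z := IsPGroup.of_card (n := 1) (by rw [hZ, Nat.card_zpowers, hzo, pow_one])
  have hZ1 : Z ≠ ⊥ := fun h => hz1 (Subgroup.zpowers_eq_bot.1 h)
  obtain ⟨S, hS⟩ := exists_max_ge hZp (le_inf (Subgroup.zpowers_le.2 hzM) (Subgroup.le_normalizer.trans hNL') : Z ≤ M ⊓ L)
  have hnc := (embedding_basic hG hM hpM hZp hZ1 hL hne hNL' S hS).1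
  exact ⟨hpM, hnc, (embedding_nonsigma hG hM hpM hZp hZ1 hL hne hNL' S hS (sigma_disjoint hG hM hL hnc hpM)).2.2.1⟩

omit hp in
theorem eq_of_coprime_mul {x y r s : G} (hxr : Commute x r) (hys : Commute y s) (h : x * r = y * s)
    (hc : ((orderOf x).lcm (orderOf y)).Coprime ((orderOf r).lcm (orderOf s))) : x = y := by
  set k := (orderOf r).lcm (orderOf s) with hk
  set n := (orderOf x).lcm (orderOf y) with hn
  have hr : r ^ k = 1 := orderOf_dvd_iff_pow_eq_one.1 (Nat.dvd_lcm_left _ _)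
  have hs : s ^ k = 1 := orderOf_dvd_iff_pow_eq_one.1 (Nat.dvd_lcm_right _ _)
  have he : x ^ k = y ^ k := by
    have h' := congrArg (fun a => a ^ k) h
    simp only [hxr.mul_pow, hys.mul_pow, hr, hs, mul_one] at h'
    exact h'
  obtain ⟨m, hm⟩ := exists_pow_eq_self_of_coprime
    (Nat.Coprime.coprime_dvd_right (Nat.dvd_lcm_left (orderOf x) (orderOf y)) hc.symm)
  obtain ⟨m', hm'⟩ := exists_pow_eq_self_of_coprime
    (Nat.Coprime.coprime_dvd_right (Nat.dvd_lcm_right (orderOf x) (orderOf y)) hc.symm)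
  have hcomm : Commute x y := by
    rw [← hm, ← hm', he]
    exact Commute.pow_pow_self _ _ _
  have h1 : orderOf (x * y⁻¹) ∣ k := orderOf_dvd_of_pow_eq_one (by
    rw [hcomm.inv_right.mul_pow, inv_pow, he, mul_inv_cancel])
  have h2 : orderOf (x * y⁻¹) ∣ n := hcomm.inv_right.orderOf_mul_dvd_lcm.trans (by rw [orderOf_inv])
  exact mul_inv_eq_one.1 (orderOf_eq_one_iff.1 (Nat.dvd_one.1 (hc ▸ Nat.dvd_gcd h2 h1)))

omit hp in
theorem prime_mem_sigma (M : Subgroup G) {a : G} (ha : a ∈ Cfsg.sigmaCore M) {t : ℕ} (ht : t.Prime)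
    (hd : t ∣ orderOf a) : t ∈ Cfsg.sigma M :=
  mem_sigma_of_dvd M ht (hd.trans (Subgroup.orderOf_dvd_natCard _ ha))

omit hp in
theorem lcm_coprime_of_sets {π π' : Set ℕ} {x y r s : G} (hππ : ∀ t ∈ π, t ∉ π')
    (hx : ∀ t : ℕ, t.Prime → t ∣ orderOf x → t ∈ π) (hy : ∀ t : ℕ, t.Prime → t ∣ orderOf y → t ∈ π)
    (hr : ∀ t : ℕ, t.Prime → t ∣ orderOf r → t ∈ π') (hs : ∀ t : ℕ, t.Prime → t ∣ orderOf s → t ∈ π') :
    ((orderOf x).lcm (orderOf y)).Coprime ((orderOf r).lcm (orderOf s)) := by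
  refine Nat.coprime_of_dvd fun t ht h1 h2 => hππ t ?_ ?_
  · rcases ht.dvd_mul.1 (h1.trans (Nat.lcm_dvd_mul _ _)) with h | h
    exacts [hx t ht h, hy t ht h]
  · rcases ht.dvd_mul.1 (h2.trans (Nat.lcm_dvd_mul _ _)) with h | h
    exacts [hr t ht h, hs t ht h]

omit hp in
/-- B&G 14.5: the sets `xR(x)` are disjoint. -/
theorem support_disjoint (hG : Cfsg.IsMinSimpleOddOrder G) (hM : IsCoatom M) (hN : IsCoatom N) {y r s : G}
    (hx : x ∈ Cfsg.sigmaCore M) (hy : y ∈ Cfsg.sigmaCore N) (hx1 : x ≠ 1) (hy1 : y ≠ 1) (hxy : x ≠ y)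
    (hr : r ∈ Cfsg.supportR M x) (hs : s ∈ Cfsg.supportR N y) : x * r ≠ y * s := by
  intro he
  have hdata : ∀ {M : Subgroup G} {x r : G}, IsCoatom M → x ∈ Cfsg.sigmaCore M → x ≠ 1 →
      r ∈ Cfsg.supportR M x → r = 1 ∨ ∃ L : Subgroup G, IsCoatom L ∧ r ∈ Cfsg.sigmaCore L ∧ Commute x r ∧
        Subgroup.centralizer ({x} : Set G) ≤ L ∧ (∀ t ∈ Cfsg.sigma M, t ∉ Cfsg.sigma L) ∧
        ∀ M' : Subgroup G, IsCoatom M' → x ∈ Cfsg.sigmaCore M' →
          ¬ Subgroup.centralizer ({x} : Set G) ≤ M' → Cfsg.sigmaCore L ⊓ M' = ⊥ := by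
    intro M x r hM hx hx1 hr
    by_cases hr1 : r = 1
    · exact Or.inl hr1
    obtain ⟨L, hL, hxM, hxL, huniq, hrL, hrC⟩ := supportR_spec hG hr hr1
    obtain ⟨t, ht, htd⟩ := Nat.exists_prime_and_dvd fun h => hx1 (orderOf_eq_one_iff.1 h)
    haveI := Fact.mk ht
    obtain ⟨⟨z, hz⟩, hzo⟩ := exists_prime_orderOf_dvd_card' (G := Subgroup.zpowers x) t
      (by rwa [Nat.card_zpowers])
    rw [Subgroup.orderOf_mk] at hzo
    refine Or.inr ⟨L, hL, hrL, (Subgroup.mem_centralizer_singleton_iff.1 hrC).symm, hxL, fun v hv => ?_, ?_⟩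
    · haveI := Fact.mk hv.1
      exact sigma_disjoint hG hM hL (line_neighbour hG hM hx hL hxM hxL huniq hz hzo).2.1 hv
    · exact fun M' hM' hx' hxM' => (line_neighbour hG hM' hx' hL hxM' hxL huniq hz hzo).2.2
  have hcx : Commute x r := by
    rcases hdata hM hx hx1 hr with h | ⟨L, -, -, h, -⟩
    · rw [h]; exact Commute.one_right x
    · exact h
  have hcy : Commute y s := by
    rcases hdata hN hy hy1 hs with h | ⟨L, -, -, h, -⟩
    · rw [h]; exact Commute.one_right y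
    · exact h
  have hr' : ∀ t : ℕ, t.Prime → t ∣ orderOf r → t ∉ Cfsg.sigma M := by
    intro t ht hd
    rcases hdata hM hx hx1 hr with h | ⟨L, -, hrL, -, -, hdis, -⟩
    · rw [h, orderOf_one] at hd; exact absurd hd ht.not_dvd_one
    · exact fun h => hdis t h (prime_mem_sigma L hrL ht hd)
  have hs' : ∀ t : ℕ, t.Prime → t ∣ orderOf s → t ∉ Cfsg.sigma N := by
    intro t ht hd
    rcases hdata hN hy hy1 hs with h | ⟨L, -, hsL, -, -, hdis, -⟩
    · rw [h, orderOf_one] at hd; exact absurd hd ht.not_dvd_one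
    · exact fun h => hdis t h (prime_mem_sigma L hsL ht hd)
  by_cases hconj : ∃ g : G, N = M.map (MulAut.conj g).toMonoidHom
  · obtain ⟨g, hg⟩ := hconj
    refine hxy (eq_of_coprime_mul hcx hcy he (lcm_coprime_of_sets (π := Cfsg.sigma M) (π' := (Cfsg.sigma M)ᶜ)
      (fun t h h' => h' h) (fun t ht hd => prime_mem_sigma M hx ht hd) (fun t ht hd => ?_) hr' fun t ht hd h => ?_))
    · haveI := Fact.mk ht
      exact (mem_sigma_conj_iff g).1 (hg ▸ prime_mem_sigma N hy ht hd)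
    · haveI := Fact.mk ht
      exact hs' t ht hd (hg ▸ mem_sigma_conj h g)
  push Not at hconj
  -- the prime sets are forced to agree
  have hkey : ∀ {M N L : Subgroup G} {x y r s : G}, IsCoatom M → IsCoatom N →
      (∀ g : G, N ≠ M.map (MulAut.conj g).toMonoidHom) → x ∈ Cfsg.sigmaCore M → y ∈ Cfsg.sigmaCore N → y ≠ 1 →
      Commute x r → Commute y s → x * r = y * s → (∀ t : ℕ, t.Prime → t ∣ orderOf s → t ∉ Cfsg.sigma N) →
      IsCoatom L → r ∈ Cfsg.sigmaCore L → ∃ g : G, L = N.map (MulAut.conj g).toMonoidHom := by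
    intro M N L x y r s hM hN hnc hx hy hy1 hcx hcy he hs hL hr
    by_contra hno
    push Not at hno
    obtain ⟨t, ht, htd⟩ := Nat.exists_prime_and_dvd fun h => hy1 (orderOf_eq_one_iff.1 h)
    haveI := Fact.mk ht
    have htN : t ∈ Cfsg.sigma N := prime_mem_sigma N hy ht htd
    have hcop : (orderOf y).Coprime (orderOf s) := Nat.coprime_of_dvd fun l hl h1 h2 =>
      hs l hl h2 (prime_mem_sigma N hy hl h1)
    have h1 : t ∣ orderOf (x * r) := by
      rw [he, hcy.orderOf_mul_eq_mul_orderOf_of_coprime hcop]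
      exact htd.trans (dvd_mul_right _ _)
    rcases ht.dvd_mul.1 (h1.trans (hcx.orderOf_mul_dvd_lcm.trans (Nat.lcm_dvd_mul _ _))) with h | h
    · exact sigma_disjoint hG hM hN hnc (prime_mem_sigma M hx ht h) htN
    · exact sigma_disjoint hG hN hL hno htN (prime_mem_sigma L hr ht h)
  rcases hdata hM hx hx1 hr with hr1 | ⟨L, hL, hrL, -, hxL, hdis, hML⟩
  · obtain ⟨g, hg⟩ := hkey hM hN hconj hx hy hy1 hcx hcy he hs' hM (by rw [hr1]; exact one_mem _)
    exact hconj g⁻¹ (by rw [hg, map_conj_map, inv_mul_cancel, map_conj_one])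
  rcases hdata hN hy hy1 hs with hs1 | ⟨L', hL', hsL, -, hyL', hdis', -⟩
  · obtain ⟨g, hg⟩ := hkey hN hM (not_conj_symm hconj) hy hx hx1 hcy hcx he.symm hr' hN (by rw [hs1]; exact one_mem _)
    exact hconj g hg
  obtain ⟨g, hg⟩ := hkey hM hN hconj hx hy hy1 hcx hcy he hs' hL hrL
  obtain ⟨g', hg'⟩ := hkey hN hM (not_conj_symm hconj) hy hx hx1 hcy hcx he.symm hr' hL' hsL
  have hsets : ∀ {t : ℕ}, t.Prime → (t ∈ Cfsg.sigma L ↔ t ∈ Cfsg.sigma N) ∧ (t ∈ Cfsg.sigma L' ↔ t ∈ Cfsg.sigma M) :=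
    fun {t} ht => by
      haveI := Fact.mk ht
      exact ⟨by rw [hg]; exact mem_sigma_conj_iff g, by rw [hg']; exact mem_sigma_conj_iff g'⟩
  -- `x = s` and `y = r`
  have hxs : x = s := eq_of_coprime_mul hcx hcy.symm (he.trans hcy.eq)
    (lcm_coprime_of_sets (π := Cfsg.sigma M) (π' := Cfsg.sigma N)
      (fun t h h' => by haveI := Fact.mk h.1; exact sigma_disjoint hG hM hN hconj h h')
      (fun t ht hd => prime_mem_sigma M hx ht hd) (fun t ht hd => (hsets ht).2.1 (prime_mem_sigma L' hsL ht hd))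
      (fun t ht hd => (hsets ht).1.1 (prime_mem_sigma L hrL ht hd)) fun t ht hd => prime_mem_sigma N hy ht hd)
  have hry : r = y := by
    have h := he
    rw [hcy.eq, ← hxs] at h
    exact mul_left_cancel h
  have hxL' : x ∈ Cfsg.sigmaCore L' := hxs ▸ hsL
  have hbot : Cfsg.sigmaCore L ⊓ L' = ⊥ := by
    refine hML L' hL' hxL' fun hle => ?_
    have hpM : ∃ t, t.Prime ∧ t ∣ orderOf x := Nat.exists_prime_and_dvd fun h => hx1 (orderOf_eq_one_iff.1 h)
    obtain ⟨t, ht, htd⟩ := hpM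
    obtain ⟨-, -, hxM, -⟩ := supportR_spec hG hr (by rw [hry]; exact hy1)
    obtain ⟨L₀, hL₀, -, hxL₀, huniq, hrL₀, -⟩ := supportR_spec hG hr (by rw [hry]; exact hy1)
    have h1 := huniq L hL hxL
    have h2 := huniq L' hL' hle
    rw [← h1] at h2
    exact hdis t (prime_mem_sigma M hx ht htd) (h2 ▸ prime_mem_sigma L' hxL' ht htd)
  refine hy1 (Subgroup.mem_bot.1 (hbot ▸ Subgroup.mem_inf.2 ⟨hry ▸ hrL, hyL' ?_⟩))
  exact Subgroup.mem_centralizer_singleton_iff.2 rfl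

end CfsgLib.SigmaGroups
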