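import Cfsg.Agent.Sigma.TypeTwoSets
import Cfsg.Agent.S1374
import Cfsg.Agent.S1436
import Cfsg.Agent.S1434

/-!
B&G 16: the sets `A₁(M) ⊆ A(M) ⊆ A₀(M)` and the supports `R(a)`.
-/

set_option autoImplicit false
set_option linter.unusedSectionVars false
set_option linter.style.haveILetI false

namespace CfsgLib.SigmaGroups

open CfsgLib.BenderUnique CfsgLib.Uniq CfsgLib.BGFifteen CfsgLib.BGSets
open scoped commutatorElement

universe u

variable {G : Type u} [Group G] [Finite G] {M K U : Subgroup G} {a b g : G}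

theorem decomp_u_ne_bot (hG : Cfsg.IsMinSimpleOddOrder G) (hM : IsCoatom M)
    (h : Cfsg.IsSigmaDecomposition M ⊥ U) : U ≠ ⊥ := fun hU => by
  refine (derived_lt hG hM).ne (le_antisymm (Subgroup.commutator_le_self M) fun m hm => ?_)
  obtain ⟨u, hu, w, hw, rfl⟩ := h.compl.2.2.2 m hm
  rw [hU, Subgroup.mem_bot] at hu
  rw [bot_sup_eq] at hw
  rw [hu, one_mul]
  exact BGFifteen.sigmaCore_le_derived hG hM hw

/-- `M_s = M_σ` for every maximal subgroup. -/
theorem typeCore_eq_sigmaCore (hG : Cfsg.IsMinSimpleOddOrder G) (hM : IsCoatom M) :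
    Cfsg.typeCore M = Cfsg.sigmaCore M := by
  classical
  obtain ⟨K, U, hKU⟩ := exists_decomp_any hG hM
  by_cases hU : U = ⊥
  · have hK : K ≠ ⊥ := fun hK => decomp_u_ne_bot hG hM (hK ▸ hKU) hU
    by_cases h : Cfsg.IsOfTypeIII M ∨ Cfsg.IsOfTypeIV M
    · rw [Cfsg.typeCore, if_pos h, decomp_derived hG hM hKU hK, hU, bot_sup_eq]
    · rw [Cfsg.typeCore, if_neg h]
      by_contra hne
      exact h ((type_three_four_iff hG hM hKU).2 ⟨hK, hU, hne⟩)
  · exact typeCore_of_ne hG hM hKU hU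

theorem mem_typeA_data (hG : Cfsg.IsMinSimpleOddOrder G) (hM : IsCoatom M)
    (hKU : Cfsg.IsSigmaDecomposition M K U) (ha : a ∈ Cfsg.typeA M) :
    a ≠ 1 ∧ a ∈ Cfsg.sigmaA M U := by
  classical
  by_cases hI : Cfsg.IsOfTypeI M
  · obtain ⟨hK, hU⟩ := type_one_data hG hM hKU hI
    rw [Cfsg.typeA, if_pos hI, fittingHallOf_of_ne hG hM hKU hU] at ha
    obtain ⟨haM, ha1, hx⟩ := ha
    refine ⟨ha1, ⟨haM, hx⟩, ?_⟩
    obtain ⟨u, hu, w, hw, rfl⟩ := hKU.compl.2.2.2 a haM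
    rw [hK, bot_sup_eq] at hw
    exact Subgroup.mul_mem_sup hu hw
  · rw [Cfsg.typeA, if_neg hI, typeCore_eq_sigmaCore hG hM] at ha
    obtain ⟨had, ha1, hx⟩ := ha
    have haM := Subgroup.commutator_le_self M had
    refine ⟨ha1, ⟨haM, hx⟩, ?_⟩
    by_cases hK : K = ⊥
    · obtain ⟨u, hu, w, hw, rfl⟩ := hKU.compl.2.2.2 a haM
      rw [hK, bot_sup_eq] at hw
      exact Subgroup.mul_mem_sup hu hw
    · rw [decomp_derived hG hM hKU hK] at had
      exact had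

theorem typeA_conj (hG : Cfsg.IsMinSimpleOddOrder G) (hM : IsCoatom M) {m : G} (hm : m ∈ M)
    (ha : a ∈ Cfsg.typeA M) : m * a * m⁻¹ ∈ Cfsg.typeA M := by
  classical
  have hdn : ∀ {b : G}, b ∈ ⁅M, M⁆ → m * b * m⁻¹ ∈ ⁅M, M⁆ := fun {b} hb => by
    have h := mul_mem (Subgroup.commutator_mem_commutator hm (Subgroup.commutator_le_self M hb)) hb
    convert h using 1
    rw [commutatorElement_def]; group
  have key : ∀ (H : Subgroup G), M ≤ Subgroup.normalizer (H : Set G) → ∀ {b : G},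
      (∃ x ∈ H, x ≠ 1 ∧ b * x = x * b) → ∃ x ∈ H, x ≠ 1 ∧ m * b * m⁻¹ * x = x * (m * b * m⁻¹) := by
    rintro H hH b ⟨x, hx, hx1, hbx⟩
    refine ⟨m * x * m⁻¹, (Subgroup.mem_normalizer_iff.1 (hH hm) x).1 hx, fun h => hx1 (conj_eq_one_iff.1 h), ?_⟩
    calc m * b * m⁻¹ * (m * x * m⁻¹) = m * (b * x) * m⁻¹ := by group
      _ = m * (x * b) * m⁻¹ := by rw [hbx]
      _ = _ := by group
  by_cases hI : Cfsg.IsOfTypeI M
  · rw [Cfsg.typeA, if_pos hI] at ha ⊢
    exact ⟨M.mul_mem (M.mul_mem hm ha.1) (M.inv_mem hm), fun h => ha.2.1 (conj_eq_one_iff.1 h),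
      key _ (BGFifteen.le_normalizer_fittingHallOf M) ha.2.2⟩
  · rw [Cfsg.typeA, if_neg hI, typeCore_eq_sigmaCore hG hM] at ha ⊢
    exact ⟨hdn ha.1, fun h => ha.2.1 (conj_eq_one_iff.1 h), key _ (le_normalizer_sigmaCore M) ha.2.2⟩

theorem mem_typeA_of_sigmaCore (hG : Cfsg.IsMinSimpleOddOrder G) (hM : IsCoatom M)
    (ha : a ∈ Cfsg.sigmaCore M) (ha1 : a ≠ 1) : a ∈ Cfsg.typeA M := by
  classical
  obtain ⟨K, U, hKU⟩ := exists_decomp_any hG hM
  by_cases hI : Cfsg.IsOfTypeI M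
  · rw [Cfsg.typeA, if_pos hI, fittingHallOf_of_ne hG hM hKU (type_one_data hG hM hKU hI).2]
    exact ⟨(Subgroup.map_subtype_le _ : Cfsg.sigmaCore M ≤ M) ha, ha1, a, ha, ha1, rfl⟩
  · rw [Cfsg.typeA, if_neg hI, typeCore_eq_sigmaCore hG hM]
    exact ⟨BGFifteen.sigmaCore_le_derived hG hM ha, ha1, a, ha, ha1, rfl⟩

/-- The elements of `A₀(M)` outside `A(M)` are conjugates of elements of `Ẑ`. -/
theorem mem_typeA0_cases (hG : Cfsg.IsMinSimpleOddOrder G) (hM : IsCoatom M)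
    (hKU : Cfsg.IsSigmaDecomposition M K U) (ha : a ∈ Cfsg.typeA0 M) :
    a ∈ Cfsg.typeA M ∨ (K ≠ ⊥ ∧ ∃ m ∈ M, ∃ z ∈ K ⊔ (Cfsg.sigmaCore M ⊓ Subgroup.centralizer (K : Set G)),
      z ∉ K ∧ z ∉ Cfsg.sigmaCore M ⊓ Subgroup.centralizer (K : Set G) ∧ a = m * z * m⁻¹) := by
  classical
  haveI := isSolvable_of_ne_top hG hM.1
  rcases ha with ha | ⟨-, W₁, V, W₂, hP, m, hm, w, hw, hw1, hw2, rfl⟩
  · exact Or.inl ha
  have hK1 := ne_bot_of_typeP hG hM hKU hP
  refine Or.inr ⟨hK1, ?_⟩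
  have hK := hKU.hall
  have hHn : M ≤ Subgroup.normalizer (Cfsg.sigmaCore M : Set G) := le_normalizer_sigmaCore M
  have hder := decomp_derived hG hM hKU hK1
  have hHd := BGFifteen.sigmaCore_le_derived hG hM
  set S := Cfsg.sigmaCore M ⊓ Subgroup.centralizer (K : Set G) with hS
  have hdn : M ≤ Subgroup.normalizer ((⁅M, M⁆ : Subgroup G) : Set G) := by
    rw [hder]; exact le_normalizer_UMs hG hM hKU
  have hKd : ∀ k ∈ K, k ∈ ⁅M, M⁆ → k = 1 := fun k hk hkd => by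
    by_contra hk1
    obtain ⟨t, ht, hd⟩ := Nat.exists_prime_and_dvd fun h => hk1 (orderOf_eq_one_iff.1 h)
    exact (mem_UMs_iff hG hM hKU (hK.1 hk)).1 (hder ▸ hkd) t ht hd
      (hK.2.1 t ht (hd.trans (Subgroup.orderOf_dvd_natCard K hk)))
  have hstar : ∀ k ∈ K, k ≠ 1 → ∀ b ∈ ⁅M, M⁆, b * k = k * b → b ∈ S := fun k hk hk1 b hb hbk => by
    have h := ((Cfsg.Agent.S1354.result hG M hM K hKU.cyclic hK).2 hK1 k hk hk1).le
      ⟨Subgroup.commutator_le_self M hb, Subgroup.mem_centralizer_singleton_iff.2 hbk⟩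
    obtain ⟨c, hc, s, hs, rfl⟩ := CoprimeAction.exists_mul_of_mem_sup
      (kappaZ_commute.trans (Subgroup.centralizer_le_normalizer _)) h
    rw [hKd c hc (((⁅M, M⁆).mul_mem_cancel_right (hHd hs.1)).1 hb), one_mul]
    exact hs
  have hWM : W₁ ≤ M := hP.W₁_compl.2.1
  have hcard : Nat.card W₁ = Nat.card K := by
    have h1 := CfsgLib.TypeP.card_eq_of_isComplIn hP.W₁_compl
    have h2 : Cfsg.IsComplIn ⁅M, M⁆ K M := ⟨Subgroup.commutator_le_self M, hK.1,
      eq_bot_iff.2 fun k hk => Subgroup.mem_bot.2 (hKd k hk.2 hk.1), fun m hm => by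
        obtain ⟨u, hu, w, hw, rfl⟩ := hKU.compl.2.2.2 m hm
        obtain ⟨k, hk, s, hs, rfl⟩ := CoprimeAction.exists_mul_of_mem_sup (hK.1.trans hHn) hw
        refine ⟨u * (k * s * k⁻¹), ?_, k, hk, by group⟩
        rw [hder]
        exact Subgroup.mul_mem_sup hu ((Subgroup.mem_normalizer_iff.1 (hHn (hK.1 hk)) s).1 hs)⟩
    have h3 := CfsgLib.TypeP.card_eq_of_isComplIn h2
    rw [h1] at h3
    exact Nat.eq_of_mul_eq_mul_left Nat.card_pos h3
  obtain ⟨c, hc, hle⟩ := exists_conj_le_hall hK hWM fun t ht hd => hK.2.1 t ht (hcard ▸ hd)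
  have heK : W₁.map (MulAut.conj c).toMonoidHom = K :=
    Subgroup.eq_of_le_of_card_ge hle (by rw [card_map_conj, hcard])
  obtain ⟨x, hx, hx1⟩ := (Subgroup.bot_or_exists_ne_one _).resolve_left hP.W₁_ne
  set k := c * x * c⁻¹ with hk
  have hkK : k ∈ K := hle ⟨x, hx, rfl⟩
  have hk1 : k ≠ 1 := fun h => hx1 (conj_eq_one_iff.1 h)
  have hW₂ : ∀ b ∈ W₂, c * b * c⁻¹ ∈ S := fun b hb => by
    obtain ⟨hbd, hbx⟩ := (hP.W₂_centralizer x hx hx1).ge hb
    refine hstar k hkK hk1 _ ((Subgroup.mem_normalizer_iff.1 (hdn hc) b).1 hbd) ?_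
    calc c * b * c⁻¹ * k = c * (b * x) * c⁻¹ := by rw [hk]; group
      _ = c * (x * b) * c⁻¹ := by rw [Subgroup.mem_centralizer_singleton_iff.1 hbx]
      _ = k * (c * b * c⁻¹) := by rw [hk]; group
  refine ⟨m * c⁻¹, M.mul_mem hm (M.inv_mem hc), c * w * c⁻¹, ?_, fun h => ?_, fun h => ?_, by group⟩
  · have h1 : c * w * c⁻¹ ∈ (W₁ ⊔ W₂).map (MulAut.conj c).toMonoidHom := ⟨w, hw, rfl⟩
    rw [Subgroup.map_sup] at h1
    refine sup_le_sup hle ?_ h1
    rintro _ ⟨b, hb, rfl⟩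
    exact hW₂ b hb
  · rw [← heK] at h
    obtain ⟨w', hw', he⟩ := h
    exact hw1 ((MulAut.conj c).injective he ▸ hw')
  · refine hw2 ((hP.W₂_centralizer x hx hx1).le ⟨?_, Subgroup.mem_centralizer_singleton_iff.2 ?_⟩)
    · exact (Subgroup.mem_normalizer_iff.1 (hdn hc) w).2 (hHd h.1)
    · have h' : k * (c * w * c⁻¹) = c * w * c⁻¹ * k := Subgroup.mem_centralizer_iff.1 h.2 k hkK
      calc w * x = c⁻¹ * (c * w * c⁻¹ * k) * c := by rw [hk]; group
        _ = c⁻¹ * (k * (c * w * c⁻¹)) * c := by rw [h']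
        _ = x * w := by rw [hk]; group

theorem typeA0_conj (hG : Cfsg.IsMinSimpleOddOrder G) (hM : IsCoatom M) {m : G} (hm : m ∈ M)
    (ha : a ∈ Cfsg.typeA0 M) : m * a * m⁻¹ ∈ Cfsg.typeA0 M := by
  rcases ha with ha | ⟨hn, W₁, V, W₂, hP, c, hc, w, hw, hw1, hw2, rfl⟩
  · exact Or.inl (typeA_conj hG hM hm ha)
  · exact Or.inr ⟨hn, W₁, V, W₂, hP, m * c, M.mul_mem hm hc, w, hw, hw1, hw2, by group⟩

theorem typeA0_subset (hG : Cfsg.IsMinSimpleOddOrder G) (hM : IsCoatom M) (ha : a ∈ Cfsg.typeA0 M) :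
    a ∈ M ∧ a ≠ 1 := by
  obtain ⟨K, U, hKU⟩ := exists_decomp_any hG hM
  rcases mem_typeA0_cases hG hM hKU ha with h | ⟨-, m, hm, z, hz, hzK, -, rfl⟩
  · obtain ⟨h1, h2⟩ := mem_typeA_data hG hM hKU h
    exact ⟨h2.1.1, h1⟩
  · exact ⟨M.mul_mem (M.mul_mem hm (sup_le hKU.hall.1 (inf_le_left.trans (Subgroup.map_subtype_le _)) hz))
      (M.inv_mem hm), fun h => hzK ((conj_eq_one_iff.1 h).symm ▸ one_mem _)⟩

/-- Outside `M_σ`: centralizers of elements of `A₀(M)` lie in `M` and fusion is controlled by `M`. -/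
theorem outer_data (hG : Cfsg.IsMinSimpleOddOrder G) (hM : IsCoatom M) (ha : a ∈ Cfsg.typeA0 M)
    (haS : a ∉ Cfsg.sigmaCore M) :
    Subgroup.centralizer ({a} : Set G) ≤ M ∧ ∀ g : G, g * a * g⁻¹ ∈ Cfsg.typeA0 M → g ∈ M := by
  classical
  obtain ⟨K, U, hKU⟩ := exists_decomp_any hG hM
  have hK := hKU.hall
  set S := Cfsg.sigmaCore M ⊓ Subgroup.centralizer (K : Set G) with hS
  have hSM : Cfsg.sigmaCore M ≤ M := Subgroup.map_subtype_le _
  have hZM : K ⊔ S ≤ M := sup_le hK.1 (inf_le_left.trans hSM)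
  have hkz : ∀ z ∈ K ⊔ S, z ∉ S → ∃ t : ℕ, t.Prime ∧ t ∣ orderOf z ∧ t ∈ Cfsg.kappa M := fun z hz hzS => by
    obtain ⟨u, hu, v, hv, rfl, -, huz, -⟩ := kappaZ_decomp hK hz
    have hu1 : u ≠ 1 := fun h => hzS (by rw [h, one_mul]; exact hv)
    obtain ⟨t, ht, hd⟩ := Nat.exists_prime_and_dvd fun h => hu1 (orderOf_eq_one_iff.1 h)
    refine ⟨t, ht, hd.trans ?_, hK.2.1 t ht (hd.trans (Subgroup.orderOf_dvd_natCard K hu))⟩
    rw [← Nat.card_zpowers (u * v)]
    exact Subgroup.orderOf_dvd_natCard _ huz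
  have hnk : ∀ b ∈ Cfsg.typeA M, ∀ t : ℕ, t.Prime → t ∣ orderOf b → t ∉ Cfsg.kappa M := fun b hb => by
    have h := (mem_typeA_data hG hM hKU hb).2
    exact (mem_UMs_iff hG hM hKU h.1.1).1 h.2
  rcases mem_typeA0_cases hG hM hKU ha with hA | ⟨hK1, m, hm, z, hz, hzK, hzS, rfl⟩
  · have hσ := (mem_typeA_data hG hM hKU hA).2
    obtain ⟨p, hp, hd, hps⟩ := exists_prime_not_sigma hG hM hσ.1.1 haS
    set i := orderOf a / p with hi
    have hle := (unique_power hG hM hKU hσ hp hd hps).1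
    refine ⟨fun c hc => hle (Subgroup.mem_centralizer_singleton_iff.2 ?_), fun g hga => ?_⟩
    · exact ((show Commute c a from Subgroup.mem_centralizer_singleton_iff.1 hc).pow_right i).eq
    rcases mem_typeA0_cases hG hM hKU hga with hgA | ⟨-, c, -, w, hw, -, hwS, he⟩
    · have huniq := (unique_power hG hM hKU (mem_typeA_data hG hM hKU hgA).2 hp
        (by rw [BGSets.orderOf_conj]; exact hd) hps).2
      rw [BGSets.orderOf_conj, conj_pow] at huniq
      rw [← normalizer_coatom hG hM (coatom_ne_bot hG hM)]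
      refine Subgroup.mem_normalizer_iff_map_conj_eq.2 (huniq _ (isCoatom_map _ hM) ?_)
      intro c hc
      have hc' : g⁻¹ * c * g ∈ Subgroup.centralizer ({a ^ i} : Set G) := by
        rw [Subgroup.mem_centralizer_singleton_iff]
        have h := Subgroup.mem_centralizer_singleton_iff.1 hc
        calc g⁻¹ * c * g * a ^ i = g⁻¹ * (c * (g * a ^ i * g⁻¹)) * g := by group
          _ = g⁻¹ * (g * a ^ i * g⁻¹ * c) * g := by rw [h]
          _ = _ := by group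
      exact ⟨g⁻¹ * c * g, hle hc', show g * (g⁻¹ * c * g) * g⁻¹ = c by group⟩
    · obtain ⟨t, ht, htd, htk⟩ := hkz w hw hwS
      refine absurd htk (hnk a hA t ht ?_)
      rw [← BGSets.orderOf_conj g a, he, BGSets.orderOf_conj]
      exact htd
  · obtain ⟨Ms, hMs, P⟩ := exists_kappaPair hG hM hK hK1
    obtain ⟨u, hu, v, hv, rfl, -, -, -⟩ := kappaZ_decomp hK hz
    have hu1 : u ≠ 1 := fun h => hzS (by rw [h, one_mul]; exact hv)
    have hv1 : v ≠ 1 := fun h => hzK (by rw [h, mul_one]; exact hu)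
    refine ⟨fun c hc => ?_, fun g hga => ?_⟩
    · have h1 : m⁻¹ * c * m ∈ Subgroup.centralizer ({u * v} : Set G) := by
        rw [Subgroup.mem_centralizer_singleton_iff]
        have h := Subgroup.mem_centralizer_singleton_iff.1 hc
        calc m⁻¹ * c * m * (u * v) = m⁻¹ * (c * (m * (u * v) * m⁻¹)) * m := by group
          _ = m⁻¹ * (m * (u * v) * m⁻¹ * c) * m := by rw [h]
          _ = _ := by group
      rw [(P.centralizers hG hM hMs hu hu1 hv hv1).2.2] at h1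
      have h2 := M.mul_mem (M.mul_mem hm (hZM h1)) (M.inv_mem hm)
      rwa [show m * (m⁻¹ * c * m) * m⁻¹ = c by group] at h2
    rcases mem_typeA0_cases hG hM hKU hga with hgA | ⟨-, c, hc, w, hw, -, -, he⟩
    · obtain ⟨t, ht, htd, htk⟩ := hkz _ hz hzS
      refine absurd htk (hnk _ hgA t ht ?_)
      rwa [BGSets.orderOf_conj, BGSets.orderOf_conj]
    · have h := kappaZ_mem_of_conj hG hM hK hK1 hz hzK hzS (g := c⁻¹ * g * m) (by
        rw [show c⁻¹ * g * m * (u * v) * (c⁻¹ * g * m)⁻¹ = c⁻¹ * (g * (m * (u * v) * m⁻¹) * g⁻¹) * c by group, he,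
          show c⁻¹ * (c * w * c⁻¹) * c = w by group]
        exact hw)
      have h' := M.mul_mem (M.mul_mem hc (hZM h)) (M.inv_mem hm)
      rwa [show c * (c⁻¹ * g * m) * m⁻¹ = g by group] at h'

theorem sigma_fusion (hG : Cfsg.IsMinSimpleOddOrder G) (hM : IsCoatom M) (ha : a ∈ Cfsg.sigmaCore M) (ha1 : a ≠ 1)
    (hga : g * a * g⁻¹ ∈ M) : ∃ m ∈ M, m * a * m⁻¹ = g * a * g⁻¹ := by
  have hxg : a ∈ M.map (MulAut.conj g⁻¹).toMonoidHom := ⟨_, hga, by
    show g⁻¹ * (g * a * g⁻¹) * g⁻¹⁻¹ = a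
    group⟩
  obtain ⟨r, hr, he⟩ := exists_support_conj hG hM ha ha1 hxg
  refine ⟨g * r, ?_, ?_⟩
  · rw [← normalizer_coatom hG hM (coatom_ne_bot hG hM)]
    refine Subgroup.mem_normalizer_iff_map_conj_eq.2 ?_
    show M.map (MulAut.conj (g * r)).toMonoidHom = M
    rw [← map_conj_map, ← he, map_conj_map, mul_inv_cancel, map_conj_one]
  · rw [show g * r * a * (g * r)⁻¹ = g * (r * a) * r⁻¹ * g⁻¹ by group,
      ← (supportR_primes hG hM ha ha1 hr).1.eq]
    group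

theorem supportR_eq_bot (h : Subgroup.centralizer ({a} : Set G) ≤ M) : Cfsg.supportR M a = ⊥ := by
  rw [Cfsg.supportR, dif_neg fun h' => h'.1 h]

theorem supportR_coprime (hG : Cfsg.IsMinSimpleOddOrder G) (hM : IsCoatom M) (ha : a ∈ Cfsg.typeA0 M)
    (hb : b ∈ Cfsg.typeA0 M) :
    (Nat.card ↥(Cfsg.supportR M a)).Coprime (Nat.card ↥(M ⊓ Subgroup.centralizer ({b} : Set G))) := by
  classical
  refine Nat.coprime_of_dvd fun q hq h1 h2 => ?_
  haveI := Fact.mk hq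
  obtain ⟨r, hr, hro⟩ := exists_elem_prime (p := q) h1
  have hr1 : r ≠ 1 := fun e => hq.one_lt.ne (by rw [← hro, e, orderOf_one])
  obtain ⟨L, hL, haM, haL, -, hrL, -⟩ := supportR_spec hG hr hr1
  have haσ : a ∈ Cfsg.sigmaCore M := by
    by_contra haS
    exact haM (outer_data hG hM ha haS).1
  have hqL : q ∈ Cfsg.sigma L := mem_sigma_of_dvd L hq (hro ▸ Subgroup.orderOf_dvd_natCard _ hrL)
  have hqs : q ∉ Cfsg.sigma M := (supportR_primes hG hM haσ (typeA0_subset hG hM ha).2 hr).2 q hq (hro ▸ dvd_rfl)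
  obtain ⟨w, hw, hwo⟩ := exists_elem_prime (p := q) h2
  obtain ⟨hk, ht2⟩ := (Cfsg.Agent.S1436.result hG M hM a haσ (typeA0_subset hG hM ha).2 haM L hL haL).1
    ⟨q, hqL, hwo ▸ Subgroup.orderOf_dvd_natCard M hw.1⟩
  have hfree : ∀ (y v : G) (p : ℕ), y ∈ Cfsg.sigmaCore M → y ≠ 1 → p.Prime → p ∉ Cfsg.sigma M → v ∈ M →
      orderOf v = p → v * y = y * v → False := fun y v p hy hy1 hp hps hv hvo hvy => by
    have hone : ∀ t : ℕ, t.Prime → t ∣ orderOf v → t = p := fun t ht htd =>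
      (Nat.prime_dvd_prime_iff_eq ht hp).1 (hvo ▸ htd)
    rcases Cfsg.Agent.S1432.result hG M hM y hy hy1 v ⟨hv, Subgroup.mem_centralizer_singleton_iff.2 hvy⟩
        (fun e => hp.one_lt.ne (by rw [← hvo, e, orderOf_one])) (fun t ht htd => (hone t ht htd).symm ▸ hps) with
      ⟨h, -⟩ | ⟨h, -, -⟩
    · have := h p hp (hvo ▸ dvd_rfl)
      rw [hk] at this
      exact this
    · have := h p hp (hvo ▸ dvd_rfl)
      rw [ht2] at this
      exact this
  obtain ⟨K, U, hKU⟩ := exists_decomp_any hG hM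
  rcases mem_typeA0_cases hG hM hKU hb with hbA | ⟨hK1, -⟩
  · obtain ⟨hb1, ⟨hbM, y, hy, hy1, hby⟩, -⟩ := mem_typeA_data hG hM hKU hbA
    by_cases hbS : b ∈ Cfsg.sigmaCore M
    · exact hfree b w q hbS hb1 hq hqs hw.1 hwo (Subgroup.mem_centralizer_singleton_iff.1 hw.2)
    · obtain ⟨p, hp, hd, hps⟩ := exists_prime_not_sigma hG hM hbM hbS
      exact hfree y (b ^ (orderOf b / p)) p hy hy1 hp hps (pow_mem hbM _)
        (orderOf_pow_orderOf_div (orderOf_pos b).ne' hd) ((show Commute b y from hby).pow_left _).eq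
  · obtain ⟨t, ht, hd⟩ := Nat.exists_prime_and_dvd fun e => hK1 (Subgroup.card_eq_one.1 e)
    have := hKU.hall.2.1 t ht hd
    rw [hk] at this
    exact this

theorem dade_hypothesis (hG : Cfsg.IsMinSimpleOddOrder G) (hM : IsCoatom M) {A : Set G}
    (hA : A = Cfsg.typeA1 M ∨ A = Cfsg.typeA M ∨ A = Cfsg.typeA0 M) :
    Subgroup.normalizer A = M ∧ Cfsg.DadeHypothesis A M (Cfsg.supportR M) := by
  classical
  set H := Cfsg.sigmaCore M with hH
  have hHM : H ≤ M := Subgroup.map_subtype_le _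
  have hHn : M ≤ Subgroup.normalizer (H : Set G) := le_normalizer_sigmaCore M
  have hA1 : Cfsg.typeA1 M = (H : Set G) \ {1} := by rw [Cfsg.typeA1, typeCore_eq_sigmaCore hG hM]
  have hsub : A ⊆ Cfsg.typeA0 M := by
    rcases hA with rfl | rfl | rfl
    · rw [hA1]
      exact fun x hx => Or.inl (mem_typeA_of_sigmaCore hG hM hx.1 hx.2)
    · exact fun x hx => Or.inl hx
    · exact subset_rfl
  have hsig : ∀ x ∈ H, x ≠ 1 → x ∈ A := fun x hx hx1 => by
    rcases hA with rfl | rfl | rfl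
    · rw [hA1]; exact ⟨hx, hx1⟩
    · exact mem_typeA_of_sigmaCore hG hM hx hx1
    · exact Or.inl (mem_typeA_of_sigmaCore hG hM hx hx1)
  have hinv : ∀ m ∈ M, ∀ x ∈ A, m * x * m⁻¹ ∈ A := fun m hm x hx => by
    rcases hA with rfl | rfl | rfl
    · rw [hA1] at hx ⊢
      exact ⟨(Subgroup.mem_normalizer_iff.1 (hHn hm) x).1 hx.1, fun h => hx.2 (conj_eq_one_iff.1 h)⟩
    · exact typeA_conj hG hM hm hx
    · exact typeA0_conj hG hM hm hx
  have hiff : ∀ x ∈ A, ∀ g : G, g * x * g⁻¹ ∈ A → (x ∈ H → g * x * g⁻¹ ∈ H) := fun x hx g hgx hxH => by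
    by_contra hgH
    obtain ⟨p, hp, hd, hps⟩ := exists_prime_not_sigma hG hM (typeA0_subset hG hM (hsub hgx)).1 hgH
    rw [BGSets.orderOf_conj] at hd
    exact hps (mem_sigma_of_dvd M hp (hd.trans (Subgroup.orderOf_dvd_natCard H hxH)))
  refine ⟨le_antisymm (fun g hg => ?_) fun m hm => ?_, ?_⟩
  · have hH1 : H ≠ ⊥ := sigmaCore_ne_bot hG hM
    have hle : H.map (MulAut.conj g).toMonoidHom ≤ H := by
      rintro _ ⟨x, hx, rfl⟩
      show g * x * g⁻¹ ∈ H
      by_cases hx1 : x = 1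
      · simp [hx1]
      exact hiff x (hsig x hx hx1) g ((Subgroup.mem_set_normalizer_iff.1 hg x).1 (hsig x hx hx1)) hx
    have hgN : g ∈ Subgroup.normalizer (H : Set G) := Subgroup.mem_normalizer_iff_map_conj_eq.2
      (Subgroup.eq_of_le_of_card_ge hle (card_map_conj H g).ge)
    rwa [(hM.le_iff.1 hHn).resolve_left (CfsgLib.Uniq.normalizer_ne_top hG hH1
      fun h => hM.1 (top_le_iff.1 (h ▸ hHM)))] at hgN
  · refine Subgroup.mem_set_normalizer_iff.2 fun x => ⟨hinv m hm x, fun h => ?_⟩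
    have := hinv m⁻¹ (M.inv_mem hm) _ h
    simpa [mul_assoc] using this
  have hne : ∀ x ∈ A, x ≠ 1 := fun x hx => (typeA0_subset hG hM (hsub hx)).2
  have hcompl : ∀ x ∈ A, Subgroup.centralizer ({x} : Set G) ≤ Subgroup.normalizer (Cfsg.supportR M x : Set G) ∧
      Cfsg.IsComplIn (M ⊓ Subgroup.centralizer ({x} : Set G)) (Cfsg.supportR M x)
        (Subgroup.centralizer ({x} : Set G)) := fun x hx => by
    by_cases hxH : x ∈ H
    · obtain ⟨-, h2, h3, -⟩ := CfsgLib.BGSets.support_complement hG hM hxH (hne x hx)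
      exact ⟨h2, h3⟩
    · have hle := (outer_data hG hM (hsub hx) hxH).1
      rw [supportR_eq_bot hle]
      exact ⟨fun c _ => by rw [Subgroup.mem_normalizer_iff]; intro n; simp,
        inf_le_right, bot_le, inf_bot_eq _, fun c hc => ⟨c, ⟨hle hc, hc⟩, 1, one_mem _, (mul_one c).symm⟩⟩
  exact
    { one_not_mem := fun h => hne 1 h rfl
      subset := fun x hx => (typeA0_subset hG hM (hsub hx)).1
      conj_mem := hinv
      fusion := fun x hx g hgx => by
        by_cases hxH : x ∈ H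
        · exact sigma_fusion hG hM hxH (hne x hx) (hHM (hiff x hx g hgx hxH))
        · exact ⟨g, (outer_data hG hM (hsub hx) hxH).2 g (hsub hgx), rfl⟩
      le_centralizer := fun x hx => (hcompl x hx).2.2.1
      conj_mem_H := fun x hx c hc u hu => (Subgroup.mem_normalizer_iff.1 ((hcompl x hx).1 hc) u).1 hu
      inf_eq_bot := fun x hx => by rw [inf_comm]; exact (hcompl x hx).2.2.2.1
      sup_eq := fun x hx => by
        obtain ⟨h1, h2, -, h4⟩ := (hcompl x hx).2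
        refine le_antisymm (sup_le h2 h1) fun c hc => ?_
        obtain ⟨u, hu, v, hv, rfl⟩ := h4 c hc
        exact mul_mem (Subgroup.mem_sup_right hu) (Subgroup.mem_sup_left hv)
      coprime := fun x hx y hy => supportR_coprime hG hM (hsub hx) (hsub hy) }

end CfsgLib.SigmaGroups
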