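import Cfsg.Agent.Sigma.TypeOneTwo
import Cfsg.Agent.S1354
import Cfsg.Agent.S1372
import Cfsg.Agent.BGSets.SigmaA

/-!
B&G 16: the sets `A₁(M) ⊆ A(M) ⊆ A₀(M)` of a maximal subgroup of type II.
-/

set_option autoImplicit false
set_option linter.unusedSectionVars false
set_option linter.style.haveILetI false

namespace CfsgLib.SigmaGroups

open CfsgLib.BenderUnique CfsgLib.Uniq CfsgLib.BGFifteen CfsgLib.BGSets
open scoped commutatorElement

universe u

variable {G : Type u} [Group G] [Finite G] {M K U : Subgroup G}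

/-- A set fused only by `M` is a TI-set with normalizer `M`. -/
theorem ti_of_fusion {X : Set G} (hinv : ∀ m ∈ M, ∀ a ∈ X, m * a * m⁻¹ ∈ X)
    (hfus : ∀ a ∈ X, a ≠ 1 → ∀ g : G, g * a * g⁻¹ ∈ X → g ∈ M) (hne : ∃ a ∈ X, a ≠ 1) :
    Cfsg.IsTISubset X ∧ Subgroup.normalizer X = M := by
  have hle : M ≤ Subgroup.normalizer X := fun m hm => by
    refine Subgroup.mem_set_normalizer_iff.2 fun a => ⟨hinv m hm a, fun h => ?_⟩
    have := hinv m⁻¹ (M.inv_mem hm) _ h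
    simpa [mul_assoc] using this
  refine ⟨fun g hg a ha hga => ?_, le_antisymm (fun g hg => ?_) hle⟩
  · by_contra ha1
    exact hg (hle (hfus a ha ha1 g hga))
  · obtain ⟨a, ha, ha1⟩ := hne
    exact hfus a ha ha1 g ((Subgroup.mem_set_normalizer_iff.1 hg a).1 ha)

theorem type_two_sets (hG : Cfsg.IsMinSimpleOddOrder G) (hM : IsCoatom M) (hII : Cfsg.IsOfTypeII M) :
    (Cfsg.IsTISubset (Cfsg.typeA0 M) ∧ Subgroup.normalizer (Cfsg.typeA0 M) = M) ∧
      (Cfsg.IsTISubset (Cfsg.typeA M) ∧ Subgroup.normalizer (Cfsg.typeA M) = M) ∧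
      (Cfsg.IsTISubset (Cfsg.typeA1 M) ∧ Subgroup.normalizer (Cfsg.typeA1 M) = M) := by
  classical
  haveI := isSolvable_of_ne_top hG hM.1
  obtain ⟨K, U, hKU⟩ := exists_decomp_any hG hM
  obtain ⟨hK1, hU1⟩ := (type_two_iff hG hM hKU).1 hII
  have hnI : ¬ Cfsg.IsOfTypeI M := fun hI => hK1 (type_one_data hG hM hKU hI).1
  have hK := hKU.hall
  have hcore := typeCore_of_ne hG hM hKU hU1
  have hH := fittingHallOf_of_ne hG hM hKU hU1
  have hder := decomp_derived hG hM hKU hK1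
  set H := Cfsg.sigmaCore M with hHdef
  have hHM : H ≤ M := Subgroup.map_subtype_le _
  have hHn : M ≤ Subgroup.normalizer (H : Set G) := le_normalizer_sigmaCore M
  have hHd : H ≤ ⁅M, M⁆ := BGFifteen.sigmaCore_le_derived hG hM
  have hdn : M ≤ Subgroup.normalizer ((⁅M, M⁆ : Subgroup G) : Set G) := by
    rw [hder]; exact le_normalizer_UMs hG hM hKU
  have hA : Cfsg.typeA M = {a | a ∈ ⁅M, M⁆ ∧ a ≠ 1 ∧ ∃ x ∈ H, x ≠ 1 ∧ a * x = x * a} := by
    rw [Cfsg.typeA, if_neg hnI, hcore]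
  have hA1 : Cfsg.typeA1 M = (H : Set G) \ {1} := by rw [Cfsg.typeA1, hcore]
  have hnk : ∀ a ∈ Cfsg.typeA M, ∀ t : ℕ, t.Prime → t ∣ orderOf a → t ∉ Cfsg.kappa M := fun a ha => by
    rw [hA] at ha
    exact (mem_UMs_iff hG hM hKU (Subgroup.commutator_le_self M ha.1)).1 (hder ▸ ha.1)
  have hσA : ∀ a ∈ Cfsg.typeA M, a ∈ Cfsg.sigmaA M U := fun a ha => by
    rw [hA] at ha
    exact ⟨⟨Subgroup.commutator_le_self M ha.1, ha.2.2⟩, hder ▸ ha.1⟩
  -- fusion of `A₁`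
  have hTI := (Cfsg.Agent.S1372.result hG M hM K U hKU hK1 hU1).2.1
  have hHF : H ≤ Cfsg.fittingOf M := by
    rw [BGFifteen.fitting_eq hG hM, hH]; exact le_sup_right
  have hF1 : Cfsg.fittingOf M ≠ ⊥ := fun h => (derived_mod hG hM).1 (le_bot_iff.1 (by rw [hH, ← h]; exact hHF))
  have hFM : Cfsg.fittingOf M ≤ M := Subgroup.map_subtype_le _
  have hNF : Subgroup.normalizer (Cfsg.fittingOf M : Set G) = M :=
    (hM.le_iff.1 (Subgroup.le_normalizer.trans (normalizer_le_normalizer_fittingOf M))).resolve_left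
      (CfsgLib.Uniq.normalizer_ne_top hG hF1 fun h => hM.1 (top_le_iff.1 (h ▸ hFM)))
  have hfus1 : ∀ a ∈ H, a ≠ 1 → ∀ g : G, g * a * g⁻¹ ∈ H → g ∈ M := fun a ha ha1 g hga => by
    by_contra hg
    exact ha1 (hTI g (by rwa [hNF]) a (hHF ha) (hHF hga))
  -- fusion of `A`
  have hfus : ∀ a ∈ Cfsg.typeA M, ∀ g : G, g * a * g⁻¹ ∈ Cfsg.typeA M → g ∈ M := fun a ha g hga => by
    have haM : a ∈ M := (hσA a ha).1.1
    by_cases haH : a ∈ H
    · by_cases hgH : g * a * g⁻¹ ∈ H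
      · have ha1 : a ≠ 1 := by rw [hA] at ha; exact ha.2.1
        exact hfus1 a haH ha1 g hgH
      · obtain ⟨p, hp, hd, hps⟩ := exists_prime_not_sigma hG hM (hσA _ hga).1.1 hgH
        rw [BGSets.orderOf_conj] at hd
        exact absurd (mem_sigma_of_dvd M hp (hd.trans (Subgroup.orderOf_dvd_natCard H haH))) hps
    · obtain ⟨p, hp, hd, hps⟩ := exists_prime_not_sigma hG hM haM haH
      have hle := (unique_power hG hM hKU (hσA a ha) hp hd hps).1
      have huniq := (unique_power hG hM hKU (hσA _ hga) hp (by rw [BGSets.orderOf_conj]; exact hd) hps).2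
      rw [BGSets.orderOf_conj, conj_pow] at huniq
      set i := orderOf a / p with hi
      rw [← normalizer_coatom hG hM (coatom_ne_bot hG hM)]
      refine Subgroup.mem_normalizer_iff_map_conj_eq.2 (huniq _ (isCoatom_map _ hM) ?_)
      intro c hc
      have hc' : g⁻¹ * c * g ∈ Subgroup.centralizer ({a ^ i} : Set G) := by
        rw [Subgroup.mem_centralizer_singleton_iff]
        have h := Subgroup.mem_centralizer_singleton_iff.1 hc
        calc g⁻¹ * c * g * a ^ i = g⁻¹ * (c * (g * a ^ i * g⁻¹)) * g := by group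
          _ = g⁻¹ * (g * a ^ i * g⁻¹ * c) * g := by rw [h]
          _ = _ := by group
      exact ⟨g⁻¹ * c * g, hle hc', show g * (g⁻¹ * c * g) * g⁻¹ = c by group⟩
  -- the extra elements of `A₀`
  set S := H ⊓ Subgroup.centralizer (K : Set G) with hS
  set Z := K ⊔ S with hZ
  have hZM : Z ≤ M := sup_le hK.1 (inf_le_left.trans hHM)
  have hKd : ∀ k ∈ K, k ∈ ⁅M, M⁆ → k = 1 := fun k hk hkd => by
    by_contra hk1
    obtain ⟨t, ht, hd⟩ := Nat.exists_prime_and_dvd fun h => hk1 (orderOf_eq_one_iff.1 h)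
    exact (mem_UMs_iff hG hM hKU (hK.1 hk)).1 (hder ▸ hkd) t ht hd
      (hK.2.1 t ht (hd.trans (Subgroup.orderOf_dvd_natCard K hk)))
  have hstar : ∀ k ∈ K, k ≠ 1 → ∀ b ∈ ⁅M, M⁆, b * k = k * b → b ∈ S := fun k hk hk1 b hb hbk => by
    have h := ((Cfsg.Agent.S1354.result hG M hM K hKU.cyclic hK).2 hK1 k hk hk1).le
      ⟨Subgroup.commutator_le_self M hb, Subgroup.mem_centralizer_singleton_iff.2 hbk⟩
    obtain ⟨c, hc, s, hs, rfl⟩ := CoprimeAction.exists_mul_of_mem_sup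
      (kappaZ_commute.trans (Subgroup.centralizer_le_normalizer _)) h
    rw [hKd c hc (((⁅M, M⁆).mul_mem_cancel_right (hHd hs.1)).1 hb), one_mul]
    exact hs
  have hA0 : ∀ v ∈ Cfsg.typeA0 M, v ∈ Cfsg.typeA M ∨
      ∃ m ∈ M, ∃ z ∈ Z, z ∉ K ∧ z ∉ S ∧ v = m * z * m⁻¹ := fun v hv => by
    rcases hv with hv | ⟨-, W₁, V, W₂, hP, m, hm, w, hw, hw1, hw2, rfl⟩
    · exact Or.inl hv
    refine Or.inr ?_
    have hWM : W₁ ≤ M := hP.W₁_compl.2.1
    have hcard : Nat.card W₁ = Nat.card K := by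
      have h1 := CfsgLib.TypeP.card_eq_of_isComplIn hP.W₁_compl
      have h2 : Cfsg.IsComplIn ⁅M, M⁆ K M := ⟨Subgroup.commutator_le_self M, hK.1,
        eq_bot_iff.2 fun k hk => Subgroup.mem_bot.2 (hKd k hk.2 hk.1), fun m hm => by
          obtain ⟨u, hu, w, hw, rfl⟩ := hKU.compl.2.2.2 m hm
          obtain ⟨k, hk, s, hs, rfl⟩ := CoprimeAction.exists_mul_of_mem_sup (hK.1.trans hHn) hw
          refine ⟨u * (k * s * k⁻¹), ?_, k, hk, by group⟩
          rw [hder]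
          exact Subgroup.mul_mem_sup hu ((Subgroup.mem_normalizer_iff.1 (hHn (hK.1 hk)) s).1 hs)⟩
      have h3 := CfsgLib.TypeP.card_eq_of_isComplIn h2
      rw [h1] at h3
      exact Nat.eq_of_mul_eq_mul_left Nat.card_pos h3
    obtain ⟨a, ha, hle⟩ := exists_conj_le_hall hK hWM fun t ht hd => hK.2.1 t ht (hcard ▸ hd)
    have heK : W₁.map (MulAut.conj a).toMonoidHom = K :=
      Subgroup.eq_of_le_of_card_ge hle (by rw [card_map_conj, hcard])
    obtain ⟨x, hx, hx1⟩ := (Subgroup.bot_or_exists_ne_one _).resolve_left hP.W₁_ne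
    set k := a * x * a⁻¹ with hk
    have hkK : k ∈ K := hle ⟨x, hx, rfl⟩
    have hk1 : k ≠ 1 := fun h => hx1 (conj_eq_one_iff.1 h)
    have hconjd : ∀ c ∈ M, ∀ b, b ∈ ⁅M, M⁆ → c * b * c⁻¹ ∈ ⁅M, M⁆ := fun c hc b hb =>
      (Subgroup.mem_normalizer_iff.1 (hdn hc) b).1 hb
    have hW₂ : ∀ b ∈ W₂, a * b * a⁻¹ ∈ S := fun b hb => by
      obtain ⟨hbd, hbx⟩ := (hP.W₂_centralizer x hx hx1).ge hb
      refine hstar k hkK hk1 _ (hconjd a ha b hbd) ?_
      calc a * b * a⁻¹ * k = a * (b * x) * a⁻¹ := by rw [hk]; group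
        _ = a * (x * b) * a⁻¹ := by rw [Subgroup.mem_centralizer_singleton_iff.1 hbx]
        _ = k * (a * b * a⁻¹) := by rw [hk]; group
    refine ⟨m * a⁻¹, M.mul_mem hm (M.inv_mem ha), a * w * a⁻¹, ?_, fun h => ?_, fun h => ?_, by group⟩
    · have h1 : a * w * a⁻¹ ∈ (W₁ ⊔ W₂).map (MulAut.conj a).toMonoidHom := ⟨w, hw, rfl⟩
      rw [Subgroup.map_sup] at h1
      refine sup_le_sup hle ?_ h1
      rintro _ ⟨b, hb, rfl⟩
      exact hW₂ b hb
    · rw [← heK] at h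
      obtain ⟨w', hw', he⟩ := h
      exact hw1 ((MulAut.conj a).injective he ▸ hw')
    · refine hw2 ((hP.W₂_centralizer x hx hx1).le ⟨?_, Subgroup.mem_centralizer_singleton_iff.2 ?_⟩)
      · have h' := hconjd a⁻¹ (M.inv_mem ha) _ (hHd h.1)
        simpa [mul_assoc] using h'
      · have h' : k * (a * w * a⁻¹) = a * w * a⁻¹ * k := Subgroup.mem_centralizer_iff.1 h.2 k hkK
        calc w * x = a⁻¹ * (a * w * a⁻¹ * k) * a := by rw [hk]; group
          _ = a⁻¹ * (k * (a * w * a⁻¹)) * a := by rw [h']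
          _ = x * w := by rw [hk]; group
  have hkz : ∀ z ∈ Z, z ∉ S → ∃ t : ℕ, t.Prime ∧ t ∣ orderOf z ∧ t ∈ Cfsg.kappa M := fun z hz hzS => by
    obtain ⟨u, hu, v, hv, rfl, -, huz, -⟩ := kappaZ_decomp hK hz
    have hu1 : u ≠ 1 := fun h => hzS (by rw [h, one_mul]; exact hv)
    obtain ⟨t, ht, hd⟩ := Nat.exists_prime_and_dvd fun h => hu1 (orderOf_eq_one_iff.1 h)
    refine ⟨t, ht, hd.trans ?_, hK.2.1 t ht (hd.trans (Subgroup.orderOf_dvd_natCard K hu))⟩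
    rw [← Nat.card_zpowers (u * v)]
    exact Subgroup.orderOf_dvd_natCard _ huz
  have hinvA : ∀ m ∈ M, ∀ a ∈ Cfsg.typeA M, m * a * m⁻¹ ∈ Cfsg.typeA M := fun m hm a ha => by
    rw [hA] at ha ⊢
    obtain ⟨had, ha1, x, hx, hx1, hax⟩ := ha
    refine ⟨(Subgroup.mem_normalizer_iff.1 (hdn hm) a).1 had, fun h => ha1 (conj_eq_one_iff.1 h), m * x * m⁻¹,
      (Subgroup.mem_normalizer_iff.1 (hHn hm) x).1 hx, fun h => hx1 (conj_eq_one_iff.1 h), ?_⟩
    calc m * a * m⁻¹ * (m * x * m⁻¹) = m * (a * x) * m⁻¹ := by group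
      _ = m * (x * a) * m⁻¹ := by rw [hax]
      _ = _ := by group
  obtain ⟨h0, hh0, hh01⟩ := (Subgroup.bot_or_exists_ne_one _).resolve_left (hH ▸ (derived_mod hG hM).1)
  have hmemA : h0 ∈ Cfsg.typeA M := by rw [hA]; exact ⟨hHd hh0, hh01, h0, hh0, hh01, rfl⟩
  refine ⟨?_, ?_, ?_⟩
  · refine ti_of_fusion (fun m hm v hv => ?_) (fun v hv _ g hgv => ?_) ⟨h0, Or.inl hmemA, hh01⟩
    · rcases hv with hv | ⟨hn, W₁, V, W₂, hP, c, hc, w, hw, hw1, hw2, rfl⟩
      · exact Or.inl (hinvA m hm v hv)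
      · exact Or.inr ⟨hn, W₁, V, W₂, hP, m * c, M.mul_mem hm hc, w, hw, hw1, hw2, by group⟩
    · rcases hA0 v hv with hv | ⟨c, hc, z, hz, hzK, hzS, rfl⟩ <;>
        rcases hA0 _ hgv with hgv | ⟨c', hc', z', hz', hzK', hzS', he⟩
      · exact hfus v hv g hgv
      · obtain ⟨t, ht, hd, hk⟩ := hkz z' hz' hzS'
        have ho : orderOf z' = orderOf v := by
          rw [← BGSets.orderOf_conj c' z', ← he, BGSets.orderOf_conj]
        exact absurd hk (hnk v hv t ht (ho ▸ hd))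
      · obtain ⟨t, ht, hd, hk⟩ := hkz z hz hzS
        refine absurd hk (hnk _ hgv t ht ?_)
        rwa [BGSets.orderOf_conj, BGSets.orderOf_conj]
      · have h := kappaZ_mem_of_conj hG hM hK hK1 hz hzK hzS (g := c'⁻¹ * g * c) (by
          rw [show c'⁻¹ * g * c * z * (c'⁻¹ * g * c)⁻¹ = c'⁻¹ * (g * (c * z * c⁻¹) * g⁻¹) * c' by group, he,
            show c'⁻¹ * (c' * z' * c'⁻¹) * c' = z' by group]
          exact hz')
        have h' := M.mul_mem (M.mul_mem hc' (hZM h)) (M.inv_mem hc)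
        rwa [show c' * (c'⁻¹ * g * c) * c⁻¹ = g by group] at h'
  · exact ti_of_fusion hinvA (fun a ha _ g hga => hfus a ha g hga) ⟨h0, hmemA, hh01⟩
  · rw [hA1]
    refine ti_of_fusion (fun m hm a ha => ⟨(Subgroup.mem_normalizer_iff.1 (hHn hm) a).1 ha.1, fun h =>
      ha.2 (conj_eq_one_iff.1 h)⟩) (fun a ha ha1 g hga => hfus1 a ha.1 ha1 g hga.1) ⟨h0, ⟨hh0, hh01⟩, hh01⟩

end CfsgLib.SigmaGroups
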