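import Cfsg.Agent.Sigma.TauTwoNonabelian
import Cfsg.Agent.Sigma.FixedPoints
import Cfsg.Agent.Uniqueness.Theorem

/-!
B&G 12.8: a prime of `τ₂(M)` with an abelian Sylow subgroup.
-/

set_option autoImplicit false
set_option linter.unusedSectionVars false
set_option linter.style.haveILetI false

namespace CfsgLib.SigmaGroups

open CfsgLib.BenderUnique CfsgLib.Uniq
open scoped commutatorElement

universe u

variable {G : Type u} [Group G] [Finite G] {p : ℕ} [hp : Fact p.Prime] {M E A : Subgroup G}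

theorem mem_tau13_or_tau2 (hG : Cfsg.IsMinSimpleOddOrder G) (hM : IsCoatom M) {q : ℕ} [hq : Fact q.Prime]
    (hd : q ∣ Nat.card M) (hqs : q ∉ Cfsg.sigma M) :
    (q ∈ Cfsg.tau1 M ∪ Cfsg.tau3 M ∧ Cfsg.PRankLE q 1 M) ∨ q ∈ Cfsg.tau2 M := by
  by_cases hr : Cfsg.PRankLE q 1 M
  · refine Or.inl ⟨?_, hr⟩
    by_cases hd' : q ∣ Nat.card ↥⁅M, M⁆
    · exact Or.inr ⟨hq.out, hqs, hd', hr⟩
    · exact Or.inl ⟨hq.out, hqs, hd, hd', hr⟩
  · exact Or.inr ⟨hq.out, hqs, prankLE_two_of_not_sigma hG hM hqs, hr⟩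

theorem isCyclic_of_inf_card (hp2 : p ≠ 2) {Y : Subgroup G} (hY : IsPGroup p Y) (hA : ∀ y ∈ Y, y ^ p = 1 → y ∈ A)
    (hc : Nat.card ↥(Y ⊓ A) ≤ p) : IsCyclic Y := by
  by_contra hn
  obtain ⟨B, hBY, hB, hBc⟩ := exists_elem_sq hp2 hY hn
  have := (Subgroup.card_le_of_le (le_inf hBY fun b hb => hA b (hBY hb) (hB.2 b hb))).trans hc
  rw [hBc] at this
  exact absurd this (not_le.2 (lt_self_pow₀ hp.out.one_lt one_lt_two))

/-- The first consequences of an abelian Sylow subgroup at a prime of `τ₂(M)`. -/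
theorem abelian_sylow_basic (hG : Cfsg.IsMinSimpleOddOrder G) (hM : IsCoatom M)
    (hE : Cfsg.IsComplIn E (Cfsg.sigmaCore M) M) (hps : p ∉ Cfsg.sigma M) (hAE : A ≤ E)
    (hA : Cfsg.IsElementaryAbelian p A) (hAc : Nat.card A = p ^ 2) (P : Sylow p G)
    (hAP : A ≤ (P : Subgroup G)) (hPc : IsMulCommutative (P : Subgroup G)) :
    (P : Subgroup G) ≤ E ∧ Subgroup.centralizer (A : Set G) ≤ Subgroup.centralizer ((P : Subgroup G) : Set G) ∧
      Subgroup.normalizer (A : Set G) = Subgroup.normalizer ((P : Subgroup G) : Set G) ∧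
      ∀ x ∈ (P : Subgroup G), x ^ p = 1 ↔ x ∈ A := by
  haveI := hA.1
  haveI := hPc
  have hAM : A ≤ M := hAE.trans hE.1
  have ht2 := mem_tau2_of_elementary hG hM hps hAM hA hAc
  obtain ⟨-, ⟨hCle, hNE, hNM⟩, -⟩ := Cfsg.Agent.S1418.result hG M hM E hE p ht2 A ⟨hAE, hA, hAc⟩
  have hPCA : (P : Subgroup G) ≤ Subgroup.centralizer (A : Set G) := fun x hx =>
    Subgroup.mem_centralizer_iff.2 fun a ha => setLike_mul_comm (hAP ha) hx
  have hCE : Subgroup.centralizer (A : Set G) ≤ E := hCle.trans hNE.le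
  have hPE : (P : Subgroup G) ≤ E := hPCA.trans hCE
  have hPM : (P : Subgroup G) ≤ M := hPE.trans hE.1
  have hΩ : ∀ x ∈ (P : Subgroup G), x ^ p = 1 ↔ x ∈ A := by
    obtain ⟨S, hS⟩ := exists_max_ge P.isPGroup' hPM
    have hSe : (S : Subgroup M).map M.subtype = P := P.is_maximal' (S.isPGroup'.map _) hS
    intro x hx
    exact mem_iff_pow_eq_one hG hM hps hA hAc S (hSe.symm ▸ hAP) x (hSe.symm ▸ hx)
  have hp2 : p ≠ 2 := ne_two hG (dvd_card_of_elementary (k := 1) hAc)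
  set D := Subgroup.centralizer (A : Set G) with hD
  set N := Subgroup.normalizer (A : Set G) with hN
  have hNPA : Subgroup.normalizer ((P : Subgroup G) : Set G) ≤ N := fun g hg => by
    refine mem_normalizer_of_map_le ?_
    rintro _ ⟨a, ha, rfl⟩
    exact (hΩ _ ((Subgroup.mem_normalizer_iff.1 hg a).1 (hAP ha))).1
      (by rw [← MulAut.conj_apply, ← map_pow, hA.2 a ha, map_one])
  have hND : N ≤ Subgroup.normalizer (D : Set G) := Components.normalizer_le_normalizer_centralizer _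
  have hA1 := ne_bot_of_card_sq hAc
  have hNtop : N ≠ ⊤ := normalizer_ne_top hG hA1 (pgroup_ne_top hG (isPGroup_of_elementary hA))
  have hPN' : (P : Subgroup G) ≤ ⁅N, N⁆ :=
    (sylow_le_derived_normalizer hG P).trans (Subgroup.commutator_mono hNPA hNPA)
  have hDN : D ≤ N := Subgroup.centralizer_le_normalizer _
  have hDtop : D ≠ ⊤ := fun h => hNtop (top_unique (h.symm.trans_le hDN))
  have hcore : ∀ r : ℕ, r.Prime → (P : Subgroup G) ≤ Subgroup.centralizer (Cfsg.pCoreOf r D : Set G) := by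
    intro r hr
    haveI := Fact.mk hr
    have hRD : Cfsg.pCoreOf r D ≤ D := pCoreOf_le r D
    by_cases hrp : r = p
    · subst hrp
      have hsup : IsPGroup r (Cfsg.pCoreOf r D ⊔ (P : Subgroup G) : Subgroup G) :=
        IsPGroup.to_sup_of_normal_left' (isPGroup_pCoreOf r D) P.isPGroup'
          (hPCA.trans (Subgroup.le_normalizer.trans (normalizer_le_normalizer_pCoreOf r D)))
      have hRP : Cfsg.pCoreOf r D ≤ (P : Subgroup G) := le_sup_left.trans (P.is_maximal' hsup le_sup_right).le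
      exact fun x hx => Subgroup.mem_centralizer_iff.2 fun y hy => setLike_mul_comm (hRP hy) hx
    set R := Cfsg.pCoreOf r N with hR
    have hDR : Cfsg.pCoreOf r D ≤ R :=
      le_pCoreOf (hRD.trans hDN) (hND.trans (normalizer_le_normalizer_pCoreOf r D)) (isPGroup_pCoreOf r D)
    have hRA : R ≤ D := by
      rw [hD, ← Subgroup.commutator_eq_bot_iff_le_centralizer, eq_bot_iff]
      have hinf : R ⊓ A = ⊥ := IsPGroup.disjoint_of_ne r p hrp R A (isPGroup_pCoreOf r N)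
        (isPGroup_of_elementary hA) |>.eq_bot
      rw [← hinf]
      refine le_inf (CoprimeAction.commutator_le_of_normalizer
        ((Subgroup.le_normalizer : A ≤ N).trans (Subgroup.le_normalizer.trans (normalizer_le_normalizer_pCoreOf r N)))) ?_
      rw [Subgroup.commutator_comm]
      exact CoprimeAction.commutator_le_of_normalizer ((pCoreOf_le r N))
    by_cases hr2 : r = 2
    · subst hr2
      have : R = ⊥ := by
        by_contra h
        exact ne_two hG ((dvd_card_of_ne_bot (isPGroup_pCoreOf 2 N) h).trans (Subgroup.card_subgroup_dvd_card _)) rfl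
      rw [le_bot_iff.1 (hDR.trans this.le)]
      exact fun x _ => Subgroup.mem_centralizer_iff.2 fun y hy => by
        rw [SetLike.mem_coe, Subgroup.mem_bot] at hy
        rw [hy, one_mul, mul_one]
    have hnar : Cfsg.IsNarrow r ↥(Cfsg.pCore r N) := by
      refine Or.inl fun B hB hBe => ?_
      haveI := hB
      by_contra hlt
      have hel : Cfsg.IsElementaryAbelian r ((B.map (Cfsg.pCore r N).subtype).map N.subtype) := by
        refine ⟨inferInstance, ?_⟩
        rintro _ ⟨_, ⟨b, hb, rfl⟩, rfl⟩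
        rw [← map_pow, ← map_pow, hBe b hb, map_one, map_one]
      refine not_prank_of_elem ((Subgroup.map_mono (Subgroup.map_subtype_le B)).trans (hRA.trans hCE)) hel ?_
        (rankLE_complement hG hM hE r hr)
      rw [Subgroup.card_map_of_injective N.subtype_injective,
        Subgroup.card_map_of_injective (Cfsg.pCore r N).subtype_injective]
      exact not_le.1 hlt
    exact (le_centralizer_pCoreOf_of_narrow (q := r) hrp hr2 (odd_card hG N) P.isPGroup' hPN' hnar).trans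
      (Subgroup.centralizer_le hDR)
  haveI := isSolvable_of_ne_top hG hDtop
  have hPF : (P : Subgroup G) ≤ Cfsg.fittingOf D := by
    intro x hx
    refine mem_fittingOf_of_centralizer (hPCA hx) ?_
    suffices h : Cfsg.fittingOf D ≤ Subgroup.centralizer ((P : Subgroup G) : Set G) from
      Subgroup.le_centralizer_iff.1 h hx
    refine le_of_prime_subgroups fun r hr T hT hTF => ?_
    haveI := Fact.mk hr
    have hTD : T ≤ D := hTF.trans (fittingOf_le D)
    refine le_trans ?_ (Subgroup.le_centralizer_iff.1 (hcore r hr))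
    rw [← Subgroup.map_subgroupOf_eq_of_le hTD]
    refine Subgroup.map_mono (le_pCore_of_le_fitting
      (hT.of_equiv (Subgroup.subgroupOfEquivOfLe hTD).symm) ?_)
    intro y hy
    obtain ⟨z, hz, hzy⟩ := hTF hy
    rwa [← Subtype.ext hzy]
  have hPcore : (P : Subgroup G) = Cfsg.pCoreOf p D := by
    refine (P.is_maximal' (isPGroup_pCoreOf p D) ?_).symm
    rw [← Subgroup.map_subgroupOf_eq_of_le hPCA]
    refine Subgroup.map_mono (le_pCore_of_le_fitting
      (P.isPGroup'.of_equiv (Subgroup.subgroupOfEquivOfLe hPCA).symm) ?_)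
    intro y hy
    obtain ⟨z, hz, hzy⟩ := hPF hy
    rwa [← Subtype.ext hzy]
  have hNP : N ≤ Subgroup.normalizer ((P : Subgroup G) : Set G) := by
    rw [hPcore]
    exact hND.trans (normalizer_le_normalizer_pCoreOf p D)
  refine ⟨hPE, le_of_prime_subgroups fun t ht T hT hTD => ?_, le_antisymm hNP hNPA, hΩ⟩
  haveI := Fact.mk ht
  have hTN : T ≤ Subgroup.normalizer ((P : Subgroup G) : Set G) := (hTD.trans hDN).trans hNP
  by_cases htp : t = p
  · subst htp
    have hTP : T ≤ (P : Subgroup G) :=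
      le_sup_left.trans (P.is_maximal' (IsPGroup.to_sup_of_normal_right' hT P.isPGroup' hTN) le_sup_right).le
    exact fun x hx => Subgroup.mem_centralizer_iff.2 fun y hy => setLike_mul_comm hy (hTP hx)
  refine CoprimeAction.le_centralizer_of_fixes_prime_order hTN (IsPGroup.coprime_card_of_ne t p htp T _ hT P.isPGroup')
    fun v hv hvo a ha => ?_
  have hvp : v ^ p = 1 := by
    obtain ⟨n, hn⟩ := IsPGroup.iff_orderOf.1 P.isPGroup' ⟨v, hv⟩
    rw [Subgroup.orderOf_mk] at hn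
    rw [← (Nat.prime_dvd_prime_iff_eq hvo hp.out).1 (hvo.dvd_of_dvd_pow (dvd_of_eq hn))]
    exact pow_orderOf_eq_one v
  exact (Subgroup.mem_centralizer_iff.1 (hTD ha) v ((hΩ v hv).1 hvp)).symm

/-- `N_G(A)` acts on `A` as an abelian `p'`-group. -/
theorem commutator_mem_centralizer (hG : Cfsg.IsMinSimpleOddOrder G) (hA : Cfsg.IsElementaryAbelian p A)
    (hAc : Nat.card A = p ^ 2) (P : Sylow p G) (hPA : (P : Subgroup G) ≤ Subgroup.centralizer (A : Set G))
    (φ : ↥(Subgroup.normalizer (A : Set G)) →* MulAut A)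
    (hφ : φ = A.normalizerMonoidHom) :
    (Nat.card φ.range).Coprime (Nat.card A) ∧ IsMulCommutative φ.range ∧
      ∀ t : ↥(Subgroup.normalizer (A : Set G)), φ t = 1 ↔ (t : G) ∈ Subgroup.centralizer (A : Set G) := by
  haveI := hA.1
  have hp2 : p ≠ 2 := ne_two hG (dvd_card_of_elementary (k := 1) hAc)
  have hker : ∀ t : ↥(Subgroup.normalizer (A : Set G)), φ t = 1 ↔ (t : G) ∈ Subgroup.centralizer (A : Set G) := by
    subst hφ
    intro t
    constructor
    · intro h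
      refine Subgroup.mem_centralizer_iff.2 fun a ha => ?_
      have h' := congrArg Subtype.val (DFunLike.congr_fun h (⟨a, ha⟩ : A))
      exact (mul_inv_eq_iff_eq_mul.1 h').symm
    · intro h
      ext a
      show (t : G) * a * (t : G)⁻¹ = a
      rw [← Subgroup.mem_centralizer_iff.1 h a a.2, mul_inv_cancel_right]
  have hPN : (P : Subgroup G) ≤ (Subgroup.normalizer (A : Set G)) := hPA.trans (Subgroup.centralizer_le_normalizer _)
  have hcop : (Nat.card φ.range).Coprime p := by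
    rw [← Subgroup.index_ker]
    refine (hp.out.coprime_iff_not_dvd.2 fun h => P.not_dvd_index (h.trans ?_)).symm
    refine (Subgroup.index_dvd_of_le (show (P : Subgroup G).subgroupOf (Subgroup.normalizer (A : Set G)) ≤ φ.ker from fun x hx =>
      (hker x).2 (hPA hx))).trans ⟨_, (Subgroup.relIndex_mul_index hPN).symm⟩
  refine ⟨hAc ▸ hcop.pow_right 2, ⟨⟨?_⟩⟩, hker⟩
  rintro ⟨_, s, rfl⟩ ⟨_, t, rfl⟩
  refine Subtype.ext ?_
  show φ s * φ t = φ t * φ s
  have hsmall : OddFitting.Small p A := Or.inl fun B hB hBe =>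
    (Subgroup.card_le_card_group B).trans hAc.le
  obtain ⟨n, hn⟩ := hsmall.action hp2 (isPGroup_of_elementary hA) (odd_card hG (Subgroup.normalizer (A : Set G))) φ
    (m := ⁅s, t⁆) (Subgroup.commutator_mem_commutator (Subgroup.mem_top s) (Subgroup.mem_top t))
  have h1 : φ ⁅s, t⁆ = 1 := by
    rw [← orderOf_eq_one_iff]
    refine Nat.eq_one_of_dvd_coprimes (hcop.pow_right n) ?_ (orderOf_dvd_of_pow_eq_one hn)
    exact Subgroup.orderOf_dvd_natCard φ.range ⟨_, rfl⟩
  rw [map_commutatorElement] at h1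
  exact commutatorElement_eq_one_iff_mul_comm.1 h1

/-- An `N_G(A)`-invariant line has no fixed points on `M_σ`. -/
theorem free_of_invariant (hG : Cfsg.IsMinSimpleOddOrder G) (hM : IsCoatom M)
    (hE : Cfsg.IsComplIn E (Cfsg.sigmaCore M) M) (hps : p ∉ Cfsg.sigma M) (hAE : A ≤ E)
    (hA : Cfsg.IsElementaryAbelian p A) (hAc : Nat.card A = p ^ 2) {X : Subgroup G} (hXA : X ≤ A)
    (hXc : Nat.card X = p) (hX : Subgroup.normalizer (A : Set G) ≤ Subgroup.normalizer (X : Set G)) :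
    Cfsg.sigmaCore M ⊓ Subgroup.centralizer (X : Set G) = ⊥ := by
  by_contra hfix
  obtain ⟨-, ⟨-, -, hNM⟩, hU⟩ := Cfsg.Agent.S1418.result hG M hM E hE p
    (mem_tau2_of_elementary hG hM hps (hAE.trans hE.1) hA hAc) A ⟨hAE, hA, hAc⟩
  obtain ⟨hCX, hXU⟩ := hU X hXA hXc hfix
  refine hNM fun g hg => ?_
  rw [← normalizer_coatom hG hM (coatom_ne_bot hG hM), Subgroup.mem_normalizer_iff_map_conj_eq]
  refine hXU _ (isCoatom_map _ hM) ?_
  refine le_trans (le_of_eq ?_) (Subgroup.map_mono hCX)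
  rw [Subgroup.mem_normalizer_iff_map_conj_eq.1
    (Components.normalizer_le_normalizer_centralizer _ (hX hg))]

/-- An element of prime order acting freely on `M_σ` centralizes `A`. -/
theorem mem_centralizer_of_free (hG : Cfsg.IsMinSimpleOddOrder G) (hM : IsCoatom M)
    (hE : Cfsg.IsComplIn E (Cfsg.sigmaCore M) M) (hps : p ∉ Cfsg.sigma M) (hAE : A ≤ E)
    (hA : Cfsg.IsElementaryAbelian p A) (hAc : Nat.card A = p ^ 2) (P : Sylow p G)
    (hAP : A ≤ (P : Subgroup G)) (hPc : IsMulCommutative (P : Subgroup G)) {q : ℕ} [hq : Fact q.Prime] (hqp : q ≠ p)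
    {x : G} (hxE : x ∈ E) (hxo : orderOf x = q)
    (hfree : Cfsg.sigmaCore M ⊓ Subgroup.centralizer ({x} : Set G) = ⊥) :
    x ∈ Subgroup.centralizer (A : Set G) := by
  haveI := hA.1
  set S := Cfsg.sigmaCore M with hS
  have hAM : A ≤ M := hAE.trans hE.1
  have hp2 : p ≠ 2 := ne_two hG (dvd_card_of_elementary (k := 1) hAc)
  obtain ⟨-, hCP, -, -⟩ := abelian_sylow_basic hG hM hE hps hAE hA hAc P hAP hPc
  obtain ⟨hnil, -, -, hCA, -, -⟩ :=
    Cfsg.Agent.S1417.result hG M hM p (mem_tau2_of_elementary hG hM hps hAM hA hAc) A ⟨hAM, hA, hAc⟩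
  set X := Subgroup.zpowers x with hX
  have hXc : Nat.card X = q := by rw [hX, Nat.card_zpowers, hxo]
  have hXE : X ≤ E := Subgroup.zpowers_le.2 hxE
  have hXA : X ≤ Subgroup.normalizer (A : Set G) := hXE.trans (le_normalizer_elementary hG hM hE hps hAE hA hAc)
  set W := ⁅A, X⁆ with hW
  have hWA : W ≤ A := CoprimeAction.commutator_le_of_normalizer hXA
  have hqs : q ∉ Cfsg.sigma M := fun h => not_dvd_card_complement hG hM hE hq.out h
    (hxo ▸ Subgroup.orderOf_dvd_natCard E hxE)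
  have hSW : S ≤ Subgroup.centralizer (W : Set G) := by
    refine le_of_prime_subgroups fun l hl U hU hUS => ?_
    haveI := Fact.mk hl
    by_cases hU1 : U = ⊥
    · exact hU1 ▸ bot_le
    have hls : l ∈ Cfsg.sigma M :=
      mem_sigma_of_dvd M hl ((dvd_card_of_ne_bot hU hU1).trans (Subgroup.card_dvd_of_le hUS))
    haveI := hnil
    set T := Cfsg.pCoreOf l S with hT
    have hUT : U ≤ T := by
      rw [← Subgroup.map_subgroupOf_eq_of_le hUS]
      exact Subgroup.map_mono (le_pCore_of_le_fitting (hU.of_equiv (Subgroup.subgroupOfEquivOfLe hUS).symm)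
        (le_trans le_top (Components.le_fittingSubgroup inferInstance inferInstance)))
    have hMT : M ≤ Subgroup.normalizer (T : Set G) :=
      (le_normalizer_sigmaCore M).trans (normalizer_le_normalizer_pCoreOf l S)
    have h := commutator_le_centralizer_of_fixed (S := A) (X := X) (M := T) hl hp.out hq.out
      (fun e => hps (e ▸ hls)) (fun e => hqs (e ▸ hls)) hqp.symm hp2 (isPGroup_of_elementary hA) hXc
      (isPGroup_pCoreOf l S) hXA (hAM.trans hMT) ((hXE.trans hE.1).trans hMT)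
      (le_trans (le_trans (inf_le_inf (pCoreOf_le l S) (le_of_eq (centralizer_zpowers x))) hfree.le) bot_le)
    exact hUT.trans (Subgroup.le_centralizer_iff.1 h)
  by_cases hW1 : W = ⊥
  · exact Subgroup.le_centralizer_iff.1 (Subgroup.commutator_eq_bot_iff_le_centralizer.1 hW1)
      (Subgroup.mem_zpowers x)
  exfalso
  have hσ1 := sigmaCore_ne_bot hG hM
  have hWc : Nat.card W = p := by
    obtain ⟨n, hn⟩ := ((isPGroup_of_elementary hA).to_le hWA).exists_card_eq
    have hn0 : n ≠ 0 := fun h => hW1 (Subgroup.card_eq_one.1 (by rw [hn, h, pow_zero]))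
    have hn2 : n ≤ 2 := (Nat.pow_le_pow_iff_right hp.out.one_lt).1
      (hn ▸ hAc ▸ Subgroup.card_le_of_le hWA)
    have : n ≠ 2 := fun h => hσ1 (by
      rw [Subgroup.eq_of_le_of_card_ge hWA (by rw [hn, h, hAc])] at hSW
      rw [← hCA]
      exact (inf_eq_left.2 hSW).symm)
    rw [hn, show n = 1 by omega, pow_one]
  obtain ⟨hcop, hcomm, hker⟩ := commutator_mem_centralizer hG hA hAc P
    (fun y hy => Subgroup.mem_centralizer_iff.2 fun a ha => haveI := hPc; setLike_mul_comm (hAP ha) hy) _ rfl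
  refine hσ1 ?_
  rw [← free_of_invariant hG hM hE hps hAE hA hAc hWA hWc ?_]
  · exact (inf_eq_left.2 hSW).symm
  intro g hg
  refine mem_normalizer_of_map_le ?_
  rw [hW, Subgroup.map_commutator, map_conj_eq_of_normalizer hg, Subgroup.commutator_le]
  rintro a ha _ ⟨y, hy, rfl⟩
  -- `g y g⁻¹ ∈ y C_G(A)`
  set c := y⁻¹ * (g * y * g⁻¹) with hc
  have hcC : c ∈ Subgroup.centralizer (A : Set G) := by
    set φ : ↥(Subgroup.normalizer (A : Set G)) →* MulAut A := A.normalizerMonoidHom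
    have hmem := (hker (⟨y, hXA hy⟩⁻¹ * (⟨g, hg⟩ * ⟨y, hXA hy⟩ * ⟨g, hg⟩⁻¹))).1 (by
      have h : φ ⟨g, hg⟩ * φ ⟨y, hXA hy⟩ = φ ⟨y, hXA hy⟩ * φ ⟨g, hg⟩ :=
        congrArg Subtype.val (hcomm.is_comm.comm ⟨_, ⟨⟨g, hg⟩, rfl⟩⟩ ⟨_, ⟨⟨y, hXA hy⟩, rfl⟩⟩)
      rw [map_mul, map_mul, map_mul, map_inv, map_inv, h, mul_inv_cancel_right, inv_mul_cancel])
    exact hmem
  have heq : ⁅a, g * y * g⁻¹⁆ = ⁅a, y⁆ := by
    have h1 : a * c = c * a := Subgroup.mem_centralizer_iff.1 hcC a ha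
    rw [show g * y * g⁻¹ = y * c by rw [hc]; group, commutatorElement_def, commutatorElement_def]
    calc a * (y * c) * a⁻¹ * (y * c)⁻¹ = a * y * (c * a⁻¹) * c⁻¹ * y⁻¹ := by group
      _ = a * y * (a⁻¹ * c) * c⁻¹ * y⁻¹ := by rw [(Commute.inv_left (show Commute a c from h1)).eq]
      _ = a * y * a⁻¹ * y⁻¹ := by group
  show ⁅a, g * y * g⁻¹⁆ ∈ _
  rw [heq]
  exact Subgroup.commutator_mem_commutator ha hy

/-- An element moving `A` whose prime has rank one produces a forbidden configuration. -/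
theorem false_of_moves (hG : Cfsg.IsMinSimpleOddOrder G) (hM : IsCoatom M)
    (hE : Cfsg.IsComplIn E (Cfsg.sigmaCore M) M) (hps : p ∉ Cfsg.sigma M) (hAE : A ≤ E)
    (hA : Cfsg.IsElementaryAbelian p A) (hAc : Nat.card A = p ^ 2) (P : Sylow p G)
    (hAP : A ≤ (P : Subgroup G)) (hPc : IsMulCommutative (P : Subgroup G))
    (hfpf : ∀ t ∈ Subgroup.normalizer (A : Set G), t ∉ Subgroup.centralizer (A : Set G) →
      A ⊓ Subgroup.centralizer ({t} : Set G) = ⊥)
    {q : ℕ} [hq : Fact q.Prime] (hqp : q ≠ p) (hqs : q ∉ Cfsg.sigma M) (hqr : Cfsg.PRankLE q 1 M) {h : G}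
    (hhE : h ∈ E) (hhA : h ∉ Subgroup.centralizer (A : Set G)) (hhq : h ^ q ∈ Subgroup.centralizer (A : Set G))
    {n : ℕ} (hho : orderOf h = q ^ (n + 2)) : False := by
  haveI := hA.1
  haveI := hPc
  obtain ⟨hPE, hCP, hNAP, hΩ⟩ := abelian_sylow_basic hG hM hE hps hAE hA hAc P hAP hPc
  have hAM : A ≤ M := hAE.trans hE.1
  have ht2 := mem_tau2_of_elementary hG hM hps hAM hA hAc
  have hA1 := ne_bot_of_card_sq hAc
  have hP1 : (P : Subgroup G) ≠ ⊥ := ne_bot_of_le_ne_bot hA1 hAP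
  set w := h ^ q ^ (n + 1) with hw
  have hwo : orderOf w = q := by
    rw [hw, orderOf_pow, hho, Nat.gcd_eq_right (pow_dvd_pow q (by omega)),
      Nat.pow_div (by omega) hq.out.pos, show n + 2 - (n + 1) = 1 by omega, pow_one]
  have hw1 : w ≠ 1 := fun e => by rw [e, orderOf_one] at hwo; exact hq.out.one_lt.ne hwo
  have hwC : w ∈ Subgroup.centralizer (A : Set G) := by
    rw [hw, pow_succ', pow_mul]
    exact pow_mem hhq _
  have hWp : IsPGroup q (Subgroup.zpowers w) := IsPGroup.of_card (n := 1) (by rw [Nat.card_zpowers, hwo, pow_one])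
  obtain ⟨L, hL, hNL⟩ := exists_coatom_ge (normalizer_zpowers_ne_top hG hw1)
  have hCL : Subgroup.centralizer ({w} : Set G) ≤ L := by
    rw [← centralizer_zpowers]
    exact (Subgroup.centralizer_le_normalizer _).trans hNL
  have hPL : (P : Subgroup G) ≤ L := fun x hx => hCL (Subgroup.mem_centralizer_singleton_iff.2
    (Subgroup.mem_centralizer_iff.1 (hCP hwC) x hx))
  have hhL : h ∈ L := hCL (Subgroup.mem_centralizer_singleton_iff.2 (Commute.pow_right (Commute.refl h) _).eq)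
  have hwL : w ∈ L := pow_mem hhL _
  have hAL : A ≤ L := hAP.trans hPL
  have hhp : IsPGroup q (Subgroup.zpowers h) := IsPGroup.of_card (n := n + 2) (by rw [Nat.card_zpowers, hho])
  have hhN : h ∈ Subgroup.normalizer (A : Set G) := le_normalizer_elementary hG hM hE hps hAE hA hAc hhE
  by_cases hqL : q ∈ Cfsg.sigma L
  · by_cases hpL : p ∈ Cfsg.sigma L
    · have hpb : p ∉ Cfsg.beta L := fun hb => not_ideal hG hM hps ht2.2.2.2 hb.2
      have hle : Subgroup.zpowers h ≤ ⁅L, L⁆ := by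
        refine (le_sigmaCore hG hL hqL hhp (Subgroup.zpowers_le.2 hhL)).trans ?_
        rw [Cfsg.sigmaCore, ← Subgroup.map_subtype_commutator]
        exact Subgroup.map_mono (piCore_le_commutator hG hL subset_rfl)
      have hC := le_centralizer_of_not_beta hG hL hpL hpb P.isPGroup' hPL hle
        (by rw [Nat.card_zpowers, hho]; exact ((Nat.coprime_primes hq.out hp.out).2 hqp).pow_left _)
        (by rw [Subgroup.zpowers_le, ← hNAP]; exact hhN)
      exact hhA (Subgroup.centralizer_le hAP (hC (Subgroup.mem_zpowers h)))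
    · refine hw1 (Subgroup.mem_bot.1 ?_)
      rw [← sigmaCore_inf_centralizer_eq_bot hG hL hpL hAL hA hAc]
      exact ⟨le_sigmaCore hG hL hqL hWp (Subgroup.zpowers_le.2 hwL) (Subgroup.mem_zpowers w), hwC⟩
  obtain ⟨⟨hqr2, hqr1⟩, -, B, hB, hBc, hWB⟩ :=
    normalizer_in_maximal hG hL hqL (by rw [Nat.card_zpowers, hwo]) hNL
  haveI := hB.1
  have hBL : B ≤ L := fun b hb => hCL (Subgroup.mem_centralizer_singleton_iff.2
    (setLike_mul_comm hb (hWB (Subgroup.mem_zpowers w))))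
  have hq2t : q ∈ Cfsg.tau2 L := mem_tau2_of_elementary hG hL hqL hBL hB hBc
  by_cases hpL : p ∈ Cfsg.sigma L
  swap
  · -- both primes lie in `τ₂(L)`
    have hsub : ∀ t : ℕ, t.Prime → t ∣ Nat.card ↥(Subgroup.zpowers h ⊔ (P : Subgroup G) : Subgroup G) →
        t ∉ Cfsg.sigma L := by
      intro t ht hd
      set K := Subgroup.normalizer ((P : Subgroup G) : Set G) with hK
      have hPK : (P : Subgroup G) ≤ K := Subgroup.le_normalizer
      have hhK : Subgroup.zpowers h ≤ K := by rw [Subgroup.zpowers_le, ← hNAP]; exact hhN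
      haveI : ((P : Subgroup G).subgroupOf K).Normal := Subgroup.normal_in_normalizer
      have h1 := PCore.card_sup_dvd ((P : Subgroup G).subgroupOf K) ((Subgroup.zpowers h).subgroupOf K)
      rw [← Subgroup.subgroupOf_sup hhK hPK, Nat.card_congr (Subgroup.subgroupOfEquivOfLe (sup_le hhK hPK)).toEquiv,
        Nat.card_congr (Subgroup.subgroupOfEquivOfLe hhK).toEquiv,
        Nat.card_congr (Subgroup.subgroupOfEquivOfLe hPK).toEquiv] at h1
      obtain ⟨m, hm⟩ := P.isPGroup'.exists_card_eq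
      rw [Nat.card_zpowers, hho, hm] at h1
      rcases ht.dvd_mul.1 (hd.trans h1) with h2 | h2
      · exact (Nat.prime_dvd_prime_iff_eq ht hq.out).1 (ht.dvd_of_dvd_pow h2) ▸ hqL
      · exact (Nat.prime_dvd_prime_iff_eq ht hp.out).1 (ht.dvd_of_dvd_pow h2) ▸ hpL
    obtain ⟨E', hle, hE'⟩ := exists_complement_ge hG hL (sup_le (Subgroup.zpowers_le.2 hhL) hPL) hsub
    exact hhA (tau2_commute hG hL hE' hpL ((hAP.trans le_sup_right).trans hle) hA hAc hq2t hhp
      (le_sup_left.trans hle) (Subgroup.mem_zpowers h))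
  obtain ⟨hnil, -, -, hCB, -, -⟩ := Cfsg.Agent.S1417.result hG L hL q hq2t B ⟨hBL, hB, hBc⟩
  have hNL' : Subgroup.normalizer (A : Set G) = L := by
    rw [hNAP]
    exact normalizer_eq_of_nilpotent hG hL hnil hpL P hP1 hPL
  obtain ⟨y, hyB, hyW⟩ : ∃ y ∈ B, y ∉ Subgroup.zpowers w := by
    by_contra hno
    push Not at hno
    have := Subgroup.card_le_of_le (show B ≤ Subgroup.zpowers w from hno)
    rw [hBc, Nat.card_zpowers, hwo] at this
    exact absurd this (not_le.2 (lt_self_pow₀ hq.out.one_lt one_lt_two))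
  have hy1 : y ≠ 1 := fun e => hyW (e ▸ one_mem _)
  have hBsup : Subgroup.zpowers w ⊔ Subgroup.zpowers y = B :=
    sup_lines_eq hB hBc hWB (Subgroup.zpowers_le.2 hyB) (by rw [Nat.card_zpowers, hwo])
      (by rw [Nat.card_zpowers, orderOf_eq_prime (hB.2 y hyB) hy1]) fun e => hyW (e.ge (Subgroup.mem_zpowers y))
  have hyA : y ∉ Subgroup.centralizer (A : Set G) := fun hy => hA1 (le_bot_iff.1 (le_trans ?_ hCB.le))
  swap
  · refine le_inf (le_sigmaCore hG hL hpL (isPGroup_of_elementary hA) hAL) (Subgroup.le_centralizer_iff.1 ?_)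
    rw [← hBsup]
    exact sup_le (Subgroup.zpowers_le.2 hwC) (Subgroup.zpowers_le.2 hy)
  set φ : ↥(Subgroup.normalizer (A : Set G)) →* MulAut A := A.normalizerMonoidHom with hφ
  obtain ⟨hcop, hcomm, hker⟩ := commutator_mem_centralizer hG hA hAc P
    (fun x hx => Subgroup.mem_centralizer_iff.2 fun a ha => setLike_mul_comm (hAP ha) hx) φ rfl
  haveI := hcomm
  -- the image of `N_G(A)` is cyclic
  haveI hcyc : IsCyclic φ.range := by
    by_contra hnc
    refine hA1 ((Subgroup.eq_bot_iff_forall _).2 fun a ha => ?_)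
    have hmem := CoprimeAction.mem_closure_fixed φ.range.subtype hnc hcop (⟨a, ha⟩ : ↥A)
    have hle : Subgroup.closure {v : ↥A | ∃ s : ↥φ.range, s ≠ 1 ∧ φ.range.subtype s v = v} ≤ ⊥ := by
      rw [Subgroup.closure_le]
      rintro v ⟨⟨_, t, rfl⟩, hs1, hsv⟩
      have htA : (t : G) ∉ Subgroup.centralizer (A : Set G) := fun hC => hs1 (Subtype.ext ((hker t).2 hC))
      have hv : (v : G) ∈ A ⊓ Subgroup.centralizer ({(t : G)} : Set G) := by
        refine ⟨v.2, Subgroup.mem_centralizer_singleton_iff.2 ?_⟩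
        have h' : (t : G) * v * (t : G)⁻¹ = v := congrArg Subtype.val hsv
        exact (mul_inv_eq_iff_eq_mul.1 h').symm
      rw [hfpf t t.2 htA, Subgroup.mem_bot] at hv
      exact Subgroup.mem_bot.2 (Subtype.ext hv)
    exact congrArg Subtype.val (Subgroup.mem_bot.1 (hle hmem))
  have hyN : y ∈ Subgroup.normalizer (A : Set G) := hNL'.symm ▸ hBL hyB
  have hhq1 : φ ⟨h, hhN⟩ ^ q = 1 := by rw [← map_pow]; exact (hker _).2 hhq
  have hh1 : φ ⟨h, hhN⟩ ≠ 1 := fun e => hhA ((hker _).1 e)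
  have hyq1 : φ ⟨y, hyN⟩ ^ q = 1 := by
    rw [← map_pow, show (⟨y, hyN⟩ : ↥(Subgroup.normalizer (A : Set G))) ^ q = 1 from Subtype.ext (hB.2 y hyB), map_one]
  have hy1' : φ ⟨y, hyN⟩ ≠ 1 := fun e => hyA ((hker _).1 e)
  have heq : Subgroup.zpowers (φ ⟨y, hyN⟩) = Subgroup.zpowers (φ ⟨h, hhN⟩) :=
    Chev.Ree.GL0.eq_of_card_eq (A := φ.range) (Subgroup.zpowers_le.2 ⟨_, rfl⟩) (Subgroup.zpowers_le.2 ⟨_, rfl⟩)
      (by rw [Nat.card_zpowers, Nat.card_zpowers, orderOf_eq_prime hyq1 hy1', orderOf_eq_prime hhq1 hh1])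
  obtain ⟨i, hi⟩ := Subgroup.mem_zpowers_iff.1 (heq ▸ Subgroup.mem_zpowers (φ ⟨y, hyN⟩))
  have hyM : y ∈ M := by
    have h1 := (hker ((⟨h, hhN⟩ ^ i)⁻¹ * ⟨y, hyN⟩)).1 (by rw [map_mul, map_inv, map_zpow, hi, inv_mul_cancel])
    have h2 : (h ^ i)⁻¹ * y ∈ M := centralizer_le_maximal hG hM hAM hA hAc h1
    have h3 := M.mul_mem (M.zpow_mem (hE.1 hhE) i) h2
    rwa [mul_inv_cancel_left] at h3
  refine not_prank_of_elem (k := 1) ?_ hB (by rw [pow_one, hBc]; exact lt_self_pow₀ hq.out.one_lt one_lt_two) hqr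
  rw [← hBsup]
  exact sup_le (Subgroup.zpowers_le.2 (M.pow_mem (hE.1 hhE) _)) (Subgroup.zpowers_le.2 hyM)

/-- The cyclic subgroup of `P` used in B&G 12.11. -/
theorem exists_free_cyclic (hG : Cfsg.IsMinSimpleOddOrder G) (hM : IsCoatom M)
    (hE : Cfsg.IsComplIn E (Cfsg.sigmaCore M) M) (hps : p ∉ Cfsg.sigma M) (hAE : A ≤ E)
    (hA : Cfsg.IsElementaryAbelian p A) (hAc : Nat.card A = p ^ 2) (P : Sylow p G)
    (hAP : A ≤ (P : Subgroup G)) (hPc : IsMulCommutative (P : Subgroup G))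
    (hreg : ∀ e ∈ E, e ≠ 1 → (∀ t : ℕ, t.Prime → t ∣ orderOf e → t ∈ Cfsg.tau1 M ∪ Cfsg.tau3 M) →
      Cfsg.sigmaCore M ⊓ Subgroup.centralizer ({e} : Set G) = ⊥) :
    ∃ y ∈ (P : Subgroup G), (∀ x ∈ (P : Subgroup G), orderOf x ∣ orderOf y) ∧
      E ≤ Subgroup.normalizer (Subgroup.zpowers y : Set G) ∧
      ∀ u ∈ Subgroup.zpowers y, orderOf u = p → Cfsg.sigmaCore M ⊓ Subgroup.centralizer ({u} : Set G) = ⊥ := by
  haveI := hA.1
  haveI := hPc
  obtain ⟨hPE, hCP, hNAP, hΩ⟩ := abelian_sylow_basic hG hM hE hps hAE hA hAc P hAP hPc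
  have hAM : A ≤ M := hAE.trans hE.1
  have hp2 : p ≠ 2 := ne_two hG (dvd_card_of_elementary (k := 1) hAc)
  have hEN := le_normalizer_elementary hG hM hE hps hAE hA hAc
  have hPp := P.isPGroup'
  have hord : ∀ x ∈ (P : Subgroup G), ∃ k : ℕ, orderOf x = p ^ k := fun x hx => by
    obtain ⟨k, hk⟩ := IsPGroup.iff_orderOf.1 hPp ⟨x, hx⟩
    exact ⟨k, by rwa [Subgroup.orderOf_mk] at hk⟩
  obtain ⟨⟨y₀, hy₀⟩, hy₀max⟩ := Finite.exists_max fun x : ↥(P : Subgroup G) => orderOf (x : G)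
  have hdvd : ∀ y ∈ (P : Subgroup G), orderOf y₀ ≤ orderOf y → ∀ x ∈ (P : Subgroup G), orderOf x ∣ orderOf y := by
    intro y hy hle x hx
    obtain ⟨a, ha⟩ := hord x hx
    obtain ⟨b, hb⟩ := hord y hy
    rw [ha, hb]
    refine pow_dvd_pow p ((Nat.pow_le_pow_iff_right hp.out.one_lt).1 ?_)
    rw [← ha, ← hb]
    exact (hy₀max ⟨x, hx⟩).trans hle
  have hline : ∀ y ∈ (P : Subgroup G), ∀ Z : Subgroup G, Nat.card Z = p → Z ≤ A →
      Cfsg.sigmaCore M ⊓ Subgroup.centralizer (Z : Set G) = ⊥ → Subgroup.zpowers y ⊓ A = Z →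
      ∀ u ∈ Subgroup.zpowers y, orderOf u = p → Cfsg.sigmaCore M ⊓ Subgroup.centralizer ({u} : Set G) = ⊥ := by
    intro y hy Z hZc hZA hZ hYZ u hu huo
    have huP : u ∈ (P : Subgroup G) := (Subgroup.zpowers_le.2 hy) hu
    have huZ : u ∈ Z := hYZ ▸ ⟨hu, (hΩ u huP).1 (huo ▸ pow_orderOf_eq_one u)⟩
    have he : Subgroup.zpowers u = Z := Subgroup.eq_of_le_of_card_ge (Subgroup.zpowers_le.2 huZ)
      (by rw [hZc, Nat.card_zpowers, huo])
    rw [← centralizer_zpowers, he]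
    exact hZ
  set φ : ↥(Subgroup.normalizer (A : Set G)) →* MulAut A := A.normalizerMonoidHom with hφ
  obtain ⟨hcop, hcomm, hker⟩ := commutator_mem_centralizer hG hA hAc P
    (fun x hx => Subgroup.mem_centralizer_iff.2 fun a ha => setLike_mul_comm (hAP ha) hx) φ rfl
  by_cases hfpf : ∀ t ∈ Subgroup.normalizer (A : Set G), t ∉ Subgroup.centralizer (A : Set G) →
      A ⊓ Subgroup.centralizer ({t} : Set G) = ⊥
  · -- `E` centralizes `P`
    have hEC : E ≤ Subgroup.centralizer (A : Set G) := by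
      refine le_of_prime_subgroups fun q hq T hT hTE x hx => ?_
      haveI := Fact.mk hq
      by_contra hxA
      have hqp : q ≠ p := by
        rintro rfl
        have hxN : Subgroup.zpowers x ≤ Subgroup.normalizer ((P : Subgroup G) : Set G) := by
          rw [Subgroup.zpowers_le, ← hNAP]
          exact hEN (hTE hx)
        have hxP : x ∈ (P : Subgroup G) := (P.is_maximal' (IsPGroup.to_sup_of_normal_right'
          (hT.to_le (Subgroup.zpowers_le.2 hx)) hPp hxN) le_sup_right).le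
            (Subgroup.mem_sup_left (Subgroup.mem_zpowers x))
        exact hxA (Subgroup.mem_centralizer_iff.2 fun a ha => setLike_mul_comm (hAP ha) hxP)
      have hxM : x ∈ M := hE.1 (hTE hx)
      have hqd : q ∣ Nat.card E := (dvd_card_of_ne_bot hT fun h => hxA (by
        rw [h, Subgroup.mem_bot] at hx; exact hx ▸ one_mem _)).trans (Subgroup.card_dvd_of_le hTE)
      have hqs : q ∉ Cfsg.sigma M := fun h => not_dvd_card_complement hG hM hE hq h hqd
      rcases mem_tau13_or_tau2 hG hM (hqd.trans (Subgroup.card_dvd_of_le hE.1)) hqs with ⟨h13, hqr⟩ | h2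
      swap
      · exact hxA (tau2_commute hG hM hE hps hAE hA hAc h2 hT hTE hx)
      classical
      obtain ⟨k, hk⟩ := IsPGroup.iff_orderOf.1 hT ⟨x, hx⟩
      rw [Subgroup.orderOf_mk] at hk
      have hex : ∃ j, x ^ q ^ j ∈ Subgroup.centralizer (A : Set G) :=
        ⟨k, by rw [← hk, pow_orderOf_eq_one]; exact one_mem _⟩
      have hj0 : Nat.find hex ≠ 0 := fun h => hxA (by
        have := Nat.find_spec hex
        rwa [h, pow_zero, pow_one] at this)
      obtain ⟨j, hj⟩ := Nat.exists_eq_succ_of_ne_zero hj0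
      set h := x ^ q ^ j with hh
      have hhA : h ∉ Subgroup.centralizer (A : Set G) := Nat.find_min hex (by omega)
      have hhq : h ^ q ∈ Subgroup.centralizer (A : Set G) := by
        rw [hh, ← pow_mul, ← pow_succ, ← Nat.succ_eq_add_one, ← hj]
        exact Nat.find_spec hex
      have hhT : h ∈ T := pow_mem hx _
      obtain ⟨e, he⟩ := IsPGroup.iff_orderOf.1 hT ⟨h, hhT⟩
      rw [Subgroup.orderOf_mk] at he
      rcases e with _ | _ | n
      · rw [pow_zero, orderOf_eq_one_iff] at he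
        exact hhA (he ▸ one_mem _)
      · rw [zero_add, pow_one] at he
        refine hhA (mem_centralizer_of_free hG hM hE hps hAE hA hAc P hAP hPc hqp (hTE hhT) he ?_)
        refine hreg h (hTE hhT) (fun h1 => hhA (h1 ▸ one_mem _)) fun t ht hd => ?_
        rw [he] at hd
        exact (Nat.prime_dvd_prime_iff_eq ht hq).1 hd ▸ h13
      · exact false_of_moves hG hM hE hps hAE hA hAc P hAP hPc hfpf hqp hqs hqr (hTE hhT) hhA hhq he
    have hnorm : ∀ y ∈ (P : Subgroup G), E ≤ Subgroup.normalizer (Subgroup.zpowers y : Set G) := fun y hy =>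
      ((hEC.trans hCP).trans (Subgroup.centralizer_le (Subgroup.zpowers_le.2 hy))).trans
        (Subgroup.centralizer_le_normalizer _)
    obtain ⟨k, hk⟩ := hord y₀ hy₀
    have hk0 : k ≠ 0 := by
      rintro rfl
      obtain ⟨⟨a, ha⟩, hao⟩ := exists_prime_orderOf_dvd_card' (G := A) p (hAc ▸ dvd_pow_self p two_ne_zero)
      rw [Subgroup.orderOf_mk] at hao
      have := hy₀max ⟨a, hAP ha⟩
      simp only [hao, hk, pow_zero] at this
      exact absurd this (not_le.2 hp.out.one_lt)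
    -- the image of the power map on `P`
    let V : Subgroup G :=
      { carrier := {v | ∃ x ∈ (P : Subgroup G), x ^ p ^ (k - 1) = v}
        one_mem' := ⟨1, one_mem _, one_pow _⟩
        mul_mem' := fun {a b} ha hb => by
          obtain ⟨x, hx, rfl⟩ := ha
          obtain ⟨z, hz, rfl⟩ := hb
          exact ⟨x * z, mul_mem hx hz, (show Commute x z from setLike_mul_comm hx hz).mul_pow _⟩
        inv_mem' := fun {a} ha => by
          obtain ⟨x, hx, rfl⟩ := ha
          exact ⟨x⁻¹, inv_mem hx, inv_pow x _⟩ }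
    have hmemV : ∀ v, v ∈ V ↔ ∃ x ∈ (P : Subgroup G), x ^ p ^ (k - 1) = v := fun v => Iff.rfl
    have hVA : V ≤ A := by
      intro v hv
      obtain ⟨x, hx, rfl⟩ := (hmemV v).1 hv
      refine (hΩ _ (pow_mem hx _)).1 ?_
      rw [← pow_mul, ← pow_succ, Nat.sub_add_cancel (Nat.one_le_iff_ne_zero.2 hk0)]
      exact orderOf_dvd_iff_pow_eq_one.1 (hk ▸ hdvd y₀ hy₀ le_rfl x hx)
    have hlast : ∀ x ∈ (P : Subgroup G), x ^ p ^ (k - 1) ≠ 1 → orderOf y₀ ≤ orderOf x ∧
        Nat.card ↥(Subgroup.zpowers (x ^ p ^ (k - 1))) = p ∧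
        Subgroup.zpowers x ⊓ A = Subgroup.zpowers (x ^ p ^ (k - 1)) := by
      intro x hx hne
      obtain ⟨a, ha⟩ := hord x hx
      have hak : a ≤ k := by
        have := hdvd y₀ hy₀ le_rfl x hx
        rw [ha, hk] at this
        exact (Nat.pow_dvd_pow_iff_le_right hp.out.one_lt).1 this
      have hka : k ≤ a := by
        by_contra hlt
        refine hne (orderOf_dvd_iff_pow_eq_one.1 (ha ▸ pow_dvd_pow p (by omega)))
      have hc : Nat.card ↥(Subgroup.zpowers (x ^ p ^ (k - 1))) = p := by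
        rw [Nat.card_zpowers, orderOf_pow, ha, Nat.gcd_eq_right (pow_dvd_pow p (by omega)),
          Nat.pow_div (by omega) hp.out.pos, show a - (k - 1) = 1 by omega, pow_one]
      refine ⟨by rw [hk, ha]; exact Nat.pow_le_pow_right hp.out.pos hka, hc, ?_⟩
      refine le_antisymm (fun u hu => ?_) (le_inf (Subgroup.zpowers_le.2 (pow_mem (Subgroup.mem_zpowers x) _))
        (Subgroup.zpowers_le.2 (hVA ((hmemV _).2 ⟨x, hx, rfl⟩))))
      by_cases hu1 : u = 1
      · exact hu1 ▸ one_mem _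
      have he : Subgroup.zpowers u = Subgroup.zpowers (x ^ p ^ (k - 1)) :=
        Chev.Ree.GL0.eq_of_card_eq (A := Subgroup.zpowers x) (Subgroup.zpowers_le.2 hu.1)
          (Subgroup.zpowers_le.2 (pow_mem (Subgroup.mem_zpowers x) _))
          (by rw [hc, Nat.card_zpowers, orderOf_eq_prime (hA.2 u hu.2) hu1])
      exact he ▸ Subgroup.mem_zpowers u
    by_cases hVc : V = A
    · obtain ⟨A₁, hA₁A, hA₁c, hA₁⟩ := exists_free_line hG hM hps hAM hA hAc
      obtain ⟨⟨a, ha⟩, hao⟩ := exists_prime_orderOf_dvd_card' (G := A₁) p (dvd_of_eq hA₁c.symm)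
      rw [Subgroup.orderOf_mk] at hao
      obtain ⟨y, hy, hya⟩ := (hmemV a).1 (hVc ▸ hA₁A ha)
      obtain ⟨hle, hc, hinf⟩ := hlast y hy (hya ▸ fun h => by rw [h, orderOf_one] at hao; exact hp.out.one_lt.ne hao)
      have he : Subgroup.zpowers (y ^ p ^ (k - 1)) = A₁ := Subgroup.eq_of_le_of_card_ge
        (Subgroup.zpowers_le.2 (hya ▸ ha)) (by rw [hc, hA₁c])
      exact ⟨y, hy, hdvd y hy hle, hnorm y hy, hline y hy A₁ hA₁c hA₁A hA₁ (hinf.trans he)⟩
    · have hne : y₀ ^ p ^ (k - 1) ≠ 1 := fun h => by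
        have := hk ▸ orderOf_dvd_of_pow_eq_one h
        have := (Nat.pow_dvd_pow_iff_le_right hp.out.one_lt).1 this
        omega
      obtain ⟨-, hc, hinf⟩ := hlast y₀ hy₀ hne
      have hVe : V = Subgroup.zpowers (y₀ ^ p ^ (k - 1)) := by
        refine (Subgroup.eq_of_le_of_card_ge (Subgroup.zpowers_le.2 ((hmemV _).2 ⟨y₀, hy₀, rfl⟩)) ?_).symm
        obtain ⟨j, hj⟩ := ((isPGroup_of_elementary hA).to_le hVA).exists_card_eq
        have := card_lt_of_lt (lt_of_le_of_ne hVA hVc)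
        rw [hj, hAc, Nat.pow_lt_pow_iff_right hp.out.one_lt] at this
        rw [hc, hj]
        calc p ^ j ≤ p ^ 1 := Nat.pow_le_pow_right hp.out.pos (by omega)
          _ = p := pow_one p
      refine ⟨y₀, hy₀, hdvd y₀ hy₀ le_rfl, hnorm y₀ hy₀, hline y₀ hy₀ _ hc
        (Subgroup.zpowers_le.2 (hVA ((hmemV _).2 ⟨y₀, hy₀, rfl⟩))) ?_ hinf⟩
      refine free_of_invariant hG hM hE hps hAE hA hAc (Subgroup.zpowers_le.2 (hVA ((hmemV _).2 ⟨y₀, hy₀, rfl⟩))) hc ?_
      rw [← hVe, hNAP]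
      intro g hg
      refine mem_normalizer_of_map_le ?_
      rintro _ ⟨v, hv, rfl⟩
      obtain ⟨x, hx, rfl⟩ := (hmemV v).1 hv
      exact (hmemV _).2 ⟨g * x * g⁻¹, (Subgroup.mem_normalizer_iff.1 hg x).1 hx,
        by rw [conj_pow]; rfl⟩
  -- an element of `N_G(A)` with a line of fixed points splits `P`
  push Not at hfpf
  obtain ⟨t₁, ht₁N, ht₁A, hfix⟩ := hfpf
  obtain ⟨s, hsC, hsN, hscop, hsfix⟩ : ∃ s : G, s ∉ Subgroup.centralizer (A : Set G) ∧
      s ∈ Subgroup.normalizer (A : Set G) ∧ (orderOf s).Coprime p ∧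
      A ⊓ Subgroup.centralizer ({s} : Set G) ≠ ⊥ := by
    refine ⟨t₁ ^ p ^ (orderOf t₁).factorization p, fun hC => ?_, pow_mem ht₁N _, ?_, ne_bot_of_le_ne_bot hfix ?_⟩
    · refine ht₁A ((hker ⟨t₁, ht₁N⟩).1 ?_)
      have h1 : φ ⟨t₁, ht₁N⟩ ^ p ^ (orderOf t₁).factorization p = 1 := by
        rw [← map_pow]
        exact (hker _).2 hC
      rw [← orderOf_eq_one_iff]
      refine Nat.eq_one_of_dvd_coprimes ?_ (Subgroup.orderOf_dvd_natCard φ.range ⟨_, rfl⟩)
        (orderOf_dvd_of_pow_eq_one h1)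
      rw [hAc] at hcop
      exact ((Nat.coprime_pow_right_iff two_pos _ _).1 hcop).pow_right _
    · rw [orderOf_pow, Nat.gcd_eq_right (Nat.ordProj_dvd _ _)]
      exact (hp.out.coprime_iff_not_dvd.2 (Nat.not_dvd_ordCompl hp.out (orderOf_pos t₁).ne')).symm
    · refine inf_le_inf le_rfl fun c hc => Subgroup.mem_centralizer_singleton_iff.2 ?_
      exact ((show Commute c t₁ from Subgroup.mem_centralizer_singleton_iff.1 hc).pow_right _).eq
  set T := Subgroup.zpowers s with hT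
  have hTP : T ≤ Subgroup.normalizer ((P : Subgroup G) : Set G) := by rw [hT, Subgroup.zpowers_le, ← hNAP]; exact hsN
  have hTcop : (Nat.card T).Coprime (Nat.card (P : Subgroup G)) := by
    obtain ⟨m, hm⟩ := hPp.exists_card_eq
    rw [hT, Nat.card_zpowers, hm]
    exact hscop.pow_right m
  set Y₁ := (P : Subgroup G) ⊓ Subgroup.centralizer (T : Set G) with hY₁
  set Y₂ := ⁅(P : Subgroup G), T⁆ with hY₂
  have hY₁P : Y₁ ≤ (P : Subgroup G) := inf_le_left
  have hY₂P : Y₂ ≤ (P : Subgroup G) := CoprimeAction.commutator_le_of_normalizer hTP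
  have hint : Y₁ ⊓ Y₂ = ⊥ := CoprimeAction.centralizer_inf_commutator_eq_bot hTP hTcop
  have hsup : Y₂ ⊔ Y₁ = (P : Subgroup G) := CoprimeAction.commutator_sup_centralizer hTP hTcop (Or.inl (Group.isSolvable_of_comm mul_comm'))
  have hY₁A : A ⊓ Subgroup.centralizer ({s} : Set G) ≤ Y₁ ⊓ A := fun a ha =>
    ⟨⟨hAP ha.1, by rw [hT, centralizer_zpowers]; exact ha.2⟩, ha.1⟩
  have hY₂1 : Y₂ ≠ ⊥ := fun h => hsC (Subgroup.centralizer_le hAP
    (Subgroup.le_centralizer_iff.1 (Subgroup.commutator_eq_bot_iff_le_centralizer.1 h) (Subgroup.mem_zpowers s)))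
  have hA' : ∀ Y : Subgroup G, Y ≤ (P : Subgroup G) → Y ≠ ⊥ → Y ⊓ A ≠ ⊥ := by
    intro Y hYP hY1 h
    obtain ⟨z, hzY, hzo, -⟩ := exists_elem_pow (hPp.to_le hYP) hY1
    have hz : z ∈ Y ⊓ A := ⟨hzY, (hΩ z (hYP hzY)).1 (hzo ▸ pow_orderOf_eq_one z)⟩
    rw [h, Subgroup.mem_bot] at hz
    rw [hz, orderOf_one] at hzo
    exact hp.out.one_lt.ne hzo
  have hY₁1 : Y₁ ≠ ⊥ := ne_bot_of_le_ne_bot hsfix (hY₁A.trans inf_le_left)
  have hcard : ∀ Y Y' : Subgroup G, Y ≤ (P : Subgroup G) → Y' ≤ (P : Subgroup G) → Y' ≠ ⊥ → Y ⊓ Y' = ⊥ →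
      Y ≠ ⊥ → Nat.card ↥(Y ⊓ A) = p := by
    intro Y Y' hY hY' hY'1 hYY' hY1
    obtain ⟨j, hj⟩ := ((isPGroup_of_elementary hA).to_le (inf_le_right : Y ⊓ A ≤ A)).exists_card_eq
    have hj0 : j ≠ 0 := fun h => hA' Y hY hY1 (Subgroup.card_eq_one.1 (by rw [hj, h, pow_zero]))
    have hlt : Y ⊓ A < A := lt_of_le_of_ne inf_le_right fun h => hA' Y' hY' hY'1 (le_bot_iff.1
      (hYY' ▸ le_inf (inf_le_right.trans (h.ge.trans inf_le_left)) inf_le_left))
    have := card_lt_of_lt hlt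
    rw [hj, hAc, Nat.pow_lt_pow_iff_right hp.out.one_lt] at this
    rw [hj, show j = 1 by omega, pow_one]
  have hc₁ := hcard Y₁ Y₂ hY₁P hY₂P hY₂1 hint hY₁1
  have hc₂ := hcard Y₂ Y₁ hY₂P hY₁P hY₁1 (inf_comm Y₂ Y₁ ▸ hint) hY₂1
  have hmove : ∀ g ∈ Subgroup.normalizer (A : Set G), ∀ u ∈ T, ∃ c ∈ Subgroup.centralizer ((P : Subgroup G) : Set G),
      g * u * g⁻¹ = u * c := by
    intro g hg u hu
    refine ⟨u⁻¹ * (g * u * g⁻¹), hCP ?_, by group⟩
    have huN : u ∈ Subgroup.normalizer (A : Set G) := (Subgroup.zpowers_le.2 hsN) hu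
    exact (hker (⟨u, huN⟩⁻¹ * (⟨g, hg⟩ * ⟨u, huN⟩ * ⟨g, hg⟩⁻¹))).1 (by
      have h : φ ⟨g, hg⟩ * φ ⟨u, huN⟩ = φ ⟨u, huN⟩ * φ ⟨g, hg⟩ :=
        congrArg Subtype.val (hcomm.is_comm.comm ⟨_, ⟨⟨g, hg⟩, rfl⟩⟩ ⟨_, ⟨⟨u, huN⟩, rfl⟩⟩)
      rw [map_mul, map_mul, map_mul, map_inv, map_inv, h, mul_inv_cancel_right, inv_mul_cancel])
  have hn₂ : Subgroup.normalizer (A : Set G) ≤ Subgroup.normalizer (Y₂ : Set G) := by
    intro g hg
    refine mem_normalizer_of_map_le ?_
    rw [hY₂, Subgroup.map_commutator, map_conj_eq_of_normalizer (hNAP ▸ hg), Subgroup.commutator_le]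
    rintro a ha _ ⟨u, hu, rfl⟩
    obtain ⟨c, hc, hgc⟩ := hmove g hg u hu
    show ⁅a, g * u * g⁻¹⁆ ∈ _
    rw [hgc, show ⁅a, u * c⁆ = ⁅a, u⁆ by
      have h1 : Commute a c := Subgroup.mem_centralizer_iff.1 hc a ha
      rw [commutatorElement_def, commutatorElement_def]
      calc a * (u * c) * a⁻¹ * (u * c)⁻¹ = a * u * (c * a⁻¹) * c⁻¹ * u⁻¹ := by group
        _ = a * u * (a⁻¹ * c) * c⁻¹ * u⁻¹ := by rw [h1.inv_left.eq]
        _ = a * u * a⁻¹ * u⁻¹ := by group]
    exact Subgroup.commutator_mem_commutator ha hu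
  have hn₁ : Subgroup.normalizer (A : Set G) ≤ Subgroup.normalizer (Y₁ : Set G) := by
    intro g hg
    refine mem_normalizer_of_map_le ?_
    rintro _ ⟨a, ha, rfl⟩
    refine ⟨(Subgroup.mem_normalizer_iff.1 (hNAP ▸ hg) a).1 ha.1, Subgroup.mem_centralizer_iff.2 fun u hu => ?_⟩
    obtain ⟨c, hc, hgc⟩ := hmove g⁻¹ (inv_mem hg) u hu
    rw [inv_inv] at hgc
    have h1 : Commute u a := Subgroup.mem_centralizer_iff.1 ha.2 u hu
    have h2 : Commute c a := (Subgroup.mem_centralizer_iff.1 hc a ha.1).symm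
    show u * (g * a * g⁻¹) = g * a * g⁻¹ * u
    calc u * (g * a * g⁻¹) = g * ((g⁻¹ * u * g) * a) * g⁻¹ := by group
      _ = g * (a * (g⁻¹ * u * g)) * g⁻¹ := by rw [hgc, (h1.mul_left h2).eq]
      _ = g * a * g⁻¹ * u := by group
  have hfin : ∀ Y : Subgroup G, Y ≤ (P : Subgroup G) → Nat.card ↥(Y ⊓ A) = p →
      Subgroup.normalizer (A : Set G) ≤ Subgroup.normalizer (Y : Set G) → ∀ y ∈ Y, orderOf y₀ ≤ orderOf y →
      ∃ y ∈ (P : Subgroup G), (∀ x ∈ (P : Subgroup G), orderOf x ∣ orderOf y) ∧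
        E ≤ Subgroup.normalizer (Subgroup.zpowers y : Set G) ∧
        ∀ u ∈ Subgroup.zpowers y, orderOf u = p → Cfsg.sigmaCore M ⊓ Subgroup.centralizer ({u} : Set G) = ⊥ := by
    intro Y hYP hYc hYn y hy hle
    haveI hYcyc : IsCyclic Y := isCyclic_of_inf_card hp2 (hPp.to_le hYP) (fun v hv => (hΩ v (hYP hv)).1) hYc.le
    refine ⟨y, hYP hy, hdvd y (hYP hy) hle,
      (hEN.trans hYn).trans (normalizer_le_normalizer_of_cyclic (Subgroup.zpowers_le.2 hy)), ?_⟩
    refine fun u hu huo => ?_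
    have huY : u ∈ Y ⊓ A := ⟨(Subgroup.zpowers_le.2 hy) hu,
      (hΩ u (hYP ((Subgroup.zpowers_le.2 hy) hu))).1 (huo ▸ pow_orderOf_eq_one u)⟩
    have he : Subgroup.zpowers u = Y ⊓ A := Subgroup.eq_of_le_of_card_ge (Subgroup.zpowers_le.2 huY)
      (by rw [hYc, Nat.card_zpowers, huo])
    rw [← centralizer_zpowers, he]
    exact free_of_invariant hG hM hE hps hAE hA hAc inf_le_right hYc
      ((le_inf hYn le_rfl).trans Subgroup.inf_normalizer_le_normalizer_inf)
  have hy₀' : y₀ ∈ (↑(Y₂ ⊔ Y₁) : Set G) := by rw [hsup]; exact hy₀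
  rw [Subgroup.coe_mul_of_right_le_normalizer_left Y₂ Y₁
    (le_normalizer_of_commute fun v hv => Subgroup.mem_centralizer_iff.2 fun u hu =>
      setLike_mul_comm (hY₂P hu) (hY₁P hv))] at hy₀'
  obtain ⟨u, hu, v, hv, huv⟩ := Set.mem_mul.1 hy₀'
  obtain ⟨a, ha⟩ := hord u (hY₂P hu)
  obtain ⟨b, hb⟩ := hord v (hY₁P hv)
  obtain ⟨k, hk⟩ := hord y₀ hy₀
  have hdiv : p ^ k ∣ p ^ max a b := by
    rw [← hk, ← huv]
    refine ((show Commute u v from setLike_mul_comm (hY₂P hu) (hY₁P hv)).orderOf_mul_dvd_lcm).trans ?_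
    rw [ha, hb]
    exact Nat.lcm_dvd (pow_dvd_pow p (le_max_left a b)) (pow_dvd_pow p (le_max_right a b))
  have hkm := (Nat.pow_dvd_pow_iff_le_right hp.out.one_lt).1 hdiv
  rcases max_choice a b with h | h <;> rw [h] at hkm
  · exact hfin Y₂ hY₂P hc₂ hn₂ u hu (by rw [hk, ha]; exact Nat.pow_le_pow_right hp.out.pos hkm)
  · exact hfin Y₁ hY₁P hc₁ hn₁ v hv (by rw [hk, hb]; exact Nat.pow_le_pow_right hp.out.pos hkm)

end CfsgLib.SigmaGroups
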