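import Cfsg.Agent.Sigma.KappaBasic
import Cfsg.Agent.Sigma.TauTwoAbelian
import Cfsg.Agent.Sigma.TauTwoNonabelian
import Cfsg.Agent.S1415
import Cfsg.Agent.S1459

/-!
For a rank one prime `p ∉ σ(M)` with a nonfree line `P`, the maximal subgroups over `N_G(P)` have `p` in `σ`.
-/

set_option autoImplicit false
set_option linter.unusedSectionVars false
set_option linter.style.haveILetI false

namespace CfsgLib.SigmaGroups

open CfsgLib.BenderUnique CfsgLib.Uniq
open scoped commutatorElement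

universe u

variable {G : Type u} [Group G] [Finite G] {p : ℕ} [hp : Fact p.Prime] {M N A : Subgroup G}

/-- Rank one `σ(N)'`-subgroups at primes dividing `|N'|` lie in `N'`. -/
theorem le_derived_of_dvd (hG : Cfsg.IsMinSimpleOddOrder G) (hN : IsCoatom N) {E : Subgroup G}
    (hE : Cfsg.IsComplIn E (Cfsg.sigmaCore N) N) {q : ℕ} [Fact q.Prime] (hqs : q ∉ Cfsg.sigma N)
    (hrk : Cfsg.PRankLE q 1 ↥N) (hd : q ∣ Nat.card ↥⁅N, N⁆) {T : Subgroup G} (hT : IsPGroup q T) (hTE : T ≤ E) :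
    T ≤ ⁅N, N⁆ :=
  (le_commutator_of_cyclic hG hrk hE.1 (dvd_card_derived_complement hE Fact.out hqs hd) hT hTE).trans
    (Subgroup.commutator_mono hE.1 hE.1)

/-- A complement of a Sylow subgroup in its normalizer over a given `p'`-subgroup. -/
theorem exists_normalizer_complement_ge (hG : Cfsg.IsMinSimpleOddOrder G) (S : Sylow p G)
    (hS1 : (S : Subgroup G) ≠ ⊥) {X : Subgroup G} (hX : ¬ p ∣ Nat.card X)
    (hXS : X ≤ Subgroup.normalizer ((S : Subgroup G) : Set G)) :
    ∃ V : Subgroup G, X ≤ V ∧ ¬ p ∣ Nat.card V ∧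
      Cfsg.IsComplIn (S : Subgroup G) V (Subgroup.normalizer ((S : Subgroup G) : Set G)) := by
  set Sg := (S : Subgroup G) with hSg
  set W := Subgroup.normalizer (Sg : Set G) with hW
  haveI := isSolvable_of_ne_top hG (normalizer_ne_top hG hS1 (pgroup_ne_top hG S.isPGroup'))
  obtain ⟨H, hH, hXH⟩ := Hall.exists_isPiHall_ge (π := {q | q ≠ p}) (K := X.subgroupOf W)
    fun t _ hd e => hX (by rwa [← e, ← Nat.card_congr (Subgroup.subgroupOfEquivOfLe hXS).toEquiv])
  obtain ⟨hVW, hV1, hV2⟩ := Hall.isPiHallOf_map (M := W) hH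
  set V := H.map W.subtype with hV
  have hpV : ¬ p ∣ Nat.card V := fun h => hV1 p hp.out h rfl
  refine ⟨V, ?_, hpV, Subgroup.le_normalizer, hVW, ?_, fun m hm => ?_⟩
  · rw [← Subgroup.map_subgroupOf_eq_of_le hXS]
    exact Subgroup.map_mono hXH
  · refine CoprimeAction.inf_eq_bot_of_coprime ?_
    obtain ⟨n, hn⟩ := S.isPGroup'.exists_card_eq
    rw [← hSg] at hn
    rw [hn]
    exact ((Nat.Prime.coprime_iff_not_dvd hp.out).2 hpV).pow_left n
  · have hle : W ≤ V ⊔ Sg := by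
      rw [← Subgroup.relIndex_eq_one]
      refine Nat.eq_one_iff_not_exists_prime_dvd.2 fun t ht hd => ?_
      by_cases htp : t = p
      · subst htp
        refine S.not_dvd_index ((hd.trans (Subgroup.relIndex_dvd_of_le_left _ le_sup_right)).trans ?_)
        exact ⟨W.index, (Subgroup.relIndex_mul_index Subgroup.le_normalizer).symm⟩
      · exact hV2 t ht htp (hd.trans (Subgroup.relIndex_dvd_of_le_left _ le_sup_left))
    have h := hle hm
    rw [sup_comm, ← SetLike.mem_coe, Subgroup.coe_mul_of_right_le_normalizer_left Sg V hVW] at h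
    obtain ⟨a, ha, b, hb, rfl⟩ := h
    exact ⟨a, ha, b, hb, rfl⟩

/-- An element whose commutator with `z` centralizes `S` preserves `C_S(z)`. -/
theorem conj_mem_inf_centralizer {S : Subgroup G} {f z u : G} (hf : f ∈ Subgroup.normalizer (S : Set G))
    (hc : f⁻¹ * z * f * z⁻¹ ∈ Subgroup.centralizer (S : Set G))
    (hu : u ∈ S ⊓ Subgroup.centralizer ({z} : Set G)) :
    f * u * f⁻¹ ∈ S ⊓ Subgroup.centralizer ({z} : Set G) := by
  refine ⟨(Subgroup.mem_normalizer_iff.1 hf u).1 hu.1, Subgroup.mem_centralizer_singleton_iff.2 ?_⟩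
  have h1 := Subgroup.mem_centralizer_iff.1 hc u hu.1
  have h2 := Subgroup.mem_centralizer_singleton_iff.1 hu.2
  calc f * u * f⁻¹ * z = f * (u * (f⁻¹ * z * f * z⁻¹)) * (z * f⁻¹) := by group
    _ = f * ((f⁻¹ * z * f * z⁻¹) * u) * (z * f⁻¹) := by rw [h1]
    _ = z * f * z⁻¹ * (u * z) * f⁻¹ := by group
    _ = z * f * z⁻¹ * (z * u) * f⁻¹ := by rw [h2]
    _ = z * (f * u * f⁻¹) := by group

/-- No `τ₂`-line sees a nonfree rank one line of `M`: the main case of B&G 14.2 (e). -/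
theorem false_of_tau_two_neighbour (hG : Cfsg.IsMinSimpleOddOrder G) (hM : IsCoatom M) (hN : IsCoatom N)
    (hnc : ∀ g : G, N ≠ M.map (MulAut.conj g).toMonoidHom) (hps : p ∉ Cfsg.sigma M)
    (hr : Cfsg.PRankLE p 1 ↥M) {P : Subgroup G} (hP : Nat.card P = p) (hPM : P ≤ M)
    (hNP : Subgroup.normalizer (P : Set G) ≤ N) (hpN : p ∉ Cfsg.sigma N) (hAN : A ≤ N)
    (hA : Cfsg.IsElementaryAbelian p A) (hAc : Nat.card A = p ^ 2) {z : G} (hzS : z ∈ Cfsg.sigmaCore M)
    (hzP : z ∈ Subgroup.centralizer (P : Set G)) {q : ℕ} [hq : Fact q.Prime] (hzo : orderOf z = q) : False := by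
  have hni : ¬ Cfsg.IsIdealPrime p G := not_ideal hG hN hpN fun h => elementary_card_contra h hAN hA hAc
  have hbL : ∀ L : Subgroup G, p ∉ Cfsg.beta L := fun L h => hni h.2
  have hPp : IsPGroup p P := IsPGroup.of_card (n := 1) (by rw [hP, pow_one])
  have hP1 : P ≠ ⊥ := fun h => hp.out.one_lt.ne (by rw [← hP, h, Subgroup.card_bot])
  have hp2 : p ≠ 2 := ne_two hG (dvd_card_of_elementary (k := 1) hAc)
  set Y := Subgroup.zpowers z with hY
  have hYc : Nat.card Y = q := by rw [hY, Nat.card_zpowers, hzo]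
  have hYp : IsPGroup q Y := IsPGroup.of_card (n := 1) (by rw [hYc, pow_one])
  have hY1 : Y ≠ ⊥ := fun h => hq.out.one_lt.ne (by rw [← hYc, h, Subgroup.card_bot])
  have hzM : z ∈ M := (Subgroup.map_subtype_le _ : Cfsg.sigmaCore M ≤ M) hzS
  have hqM : q ∈ Cfsg.sigma M := mem_sigma_of_dvd M hq.out (hzo ▸ Subgroup.orderOf_dvd_natCard _ hzS)
  have hqp : q ≠ p := fun e => hps (e ▸ hqM)
  have hqN : q ∉ Cfsg.sigma N := fun h => false_of_shared_sigma hG hM hN hnc hqM h hAN hA hAc hpN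
  have hPY : P ≤ Subgroup.centralizer (Y : Set G) := by
    rw [hY, centralizer_zpowers]
    exact fun x hx => Subgroup.mem_centralizer_singleton_iff.2 (Subgroup.mem_centralizer_iff.1 hzP x hx)
  have hzN : z ∈ N := hNP (Subgroup.centralizer_le_normalizer _ hzP)
  have hYP : Y ≤ Subgroup.centralizer (P : Set G) := Subgroup.zpowers_le.2 hzP
  -- `p`-subgroups centralizing `z` are cyclic
  have hcyc : ∀ U : Subgroup G, IsPGroup p U → U ≤ Subgroup.centralizer ({z} : Set G) → IsCyclic U := by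
    intro U hU hUz
    by_contra hc
    obtain ⟨B, hBU, hB, hBc⟩ := exists_elem_sq hp2 hU hc
    obtain ⟨L, -, -, hb⟩ := exists_sigma_beta_of_rank_two hG hM hr hPp hP1 hPM hqM hYp hY1
      (Subgroup.zpowers_le.2 hzM) hPY hB hBc (by rw [hY, centralizer_zpowers]; exact hBU.trans hUz)
    exact hbL L hb
  -- a complement containing `P` and `z`
  obtain ⟨E, hPYE, hE⟩ := exists_complement_ge hG hN (Y := Y ⊔ P)
    (sup_le (Subgroup.zpowers_le.2 hzN) (Subgroup.le_normalizer.trans hNP)) fun t ht hd => by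
      have h := ZJ.card_sup_mul_card_inf_of_le_normalizer (hYP.trans (Subgroup.centralizer_le_normalizer _))
      rcases ht.dvd_mul.1 (h ▸ hd.trans (dvd_mul_right _ _)) with h' | h'
      · rw [hYc] at h'
        exact (Nat.prime_dvd_prime_iff_eq ht hq.out).1 h' ▸ hqN
      · rw [hP] at h'
        exact (Nat.prime_dvd_prime_iff_eq ht hp.out).1 h' ▸ hpN
  obtain ⟨B, hBE, hB, hBc⟩ := exists_elementary_in_complement hG hN hE hpN
    fun h => elementary_card_contra h hAN hA hAc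
  have hBN : B ≤ N := hBE.trans hE.1
  haveI := hB.1
  obtain ⟨⟨hEB, hline⟩, ⟨-, -, hNBn⟩, -⟩ := Cfsg.Agent.S1418.result hG N hN E hE p
    (mem_tau2_of_elementary hG hN hpN hBN hB hBc) B ⟨hBE, hB, hBc⟩
  have hPE : P ≤ E := le_sup_right.trans hPYE
  have hzE : z ∈ E := hPYE (Subgroup.mem_sup_left (Subgroup.mem_zpowers z))
  have hPB : P ≤ B := hline P hPE hP
  have hzB : z ∉ Subgroup.centralizer (B : Set G) := fun h => by
    refine not_isCyclic_of_card_sq hB hBc (hcyc B (isPGroup_of_elementary hB) fun b hb => ?_)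
    exact Subgroup.mem_centralizer_singleton_iff.2 (Subgroup.mem_centralizer_iff.1 h b hb)
  -- elements of `N'` and `τ₂(N)`-elements centralize `B`
  have hder : ∀ {t : ℕ} [Fact t.Prime] (T : Subgroup G), IsPGroup t T → t ≠ p → T ≤ ⁅N, N⁆ →
      T ≤ Subgroup.normalizer (B : Set G) → T ≤ Subgroup.centralizer (B : Set G) := fun {t} _ T hT htp hTd hTn =>
    le_centralizer_of_derived hG hN (hbL N) (isPGroup_of_elementary hB) hBN hTd (card_coprime (p := p) (q := t) hT htp) hTn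
  have hYE : Y ≤ E := le_sup_left.trans hPYE
  rcases mem_tau13_or_tau2 hG hN ((hYc ▸ dvd_rfl : q ∣ Nat.card Y).trans (Subgroup.card_dvd_of_le (hYE.trans hE.1)))
    hqN with ⟨hq13, hqrk⟩ | hq2'
  swap
  · exact hzB (tau2_commute hG hN hE hpN hBE hB hBc hq2' hYp hYE (Subgroup.mem_zpowers z))
  have hq1 : q ∈ Cfsg.tau1 N := by
    rcases hq13 with h | h
    · exact h
    · exact absurd (hder Y hYp hqp (le_derived_of_dvd hG hN hE hqN hqrk h.2.2.1 hYp hYE) (hYE.trans hEB)
        (Subgroup.mem_zpowers z)) hzB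
  have hzfix : B ⊓ Subgroup.centralizer ({z} : Set G) ≤ P := fun b hb =>
    mem_of_pow_eq_one (hcyc _ ((isPGroup_of_elementary hB).to_le inf_le_left) inf_le_right)
      (le_inf hPB (by rw [← centralizer_zpowers]; exact hPY)) hP hb (hB.2 b hb.1)
  by_cases hab : ∃ S : Sylow p G, IsMulCommutative (S : Subgroup G)
  · obtain ⟨S₀, hS₀⟩ := hab
    obtain ⟨S, hBS⟩ := IsPGroup.exists_le_sylow (isPGroup_of_elementary hB)
    haveI hSc : IsMulCommutative (S : Subgroup G) :=
      ⟨⟨fun a b => (S.equiv S₀).injective (by rw [map_mul, map_mul]; exact hS₀.is_comm.comm _ _)⟩⟩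
    obtain ⟨-, hcomm, -⟩ := commutator_mem_centralizer hG hB hBc S (fun x hx =>
      Subgroup.mem_centralizer_iff.2 fun a ha => setLike_mul_comm (hBS ha) hx) _ rfl
    refine hNBn fun n hn => hNP (mem_normalizer_of_map_le ?_)
    rintro _ ⟨a, ha, rfl⟩
    refine hzfix ⟨(Subgroup.mem_normalizer_iff.1 hn a).1 (hPB ha), Subgroup.mem_centralizer_singleton_iff.2 ?_⟩
    set φ := B.normalizerMonoidHom with hφ
    have h : φ ⟨z, hEB hzE⟩ * φ ⟨n, hn⟩ = φ ⟨n, hn⟩ * φ ⟨z, hEB hzE⟩ :=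
      congrArg Subtype.val (hcomm.is_comm.comm (⟨_, ⟨⟨z, hEB hzE⟩, rfl⟩⟩ : φ.range) ⟨_, ⟨⟨n, hn⟩, rfl⟩⟩)
    have h' : z * (n * a * n⁻¹) * z⁻¹ = n * (z * a * z⁻¹) * n⁻¹ :=
      congrArg (fun e : MulAut B => ((e ⟨a, hPB ha⟩ : B) : G)) h
    have hza : z * a * z⁻¹ = a := by
      rw [← Subgroup.mem_centralizer_iff.1 hzP a ha, mul_inv_cancel_right]
    rw [hza] at h'
    exact (mul_inv_eq_iff_eq_mul.1 h').symm
  push Not at hab
  obtain ⟨A₀, hA₀B, hA₀c, hA₀def, hA₀free, hτ, -⟩ := nonabelian_tau_two hG hN hpN hBN hB hBc hab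
  have hPA₀ : P = A₀ := by
    by_contra hne
    exact (hA₀free P hPB hP hne).2 ((Subgroup.centralizer_le_normalizer _).trans hNP)
  have hσP : Cfsg.sigmaCore N ≤ Subgroup.centralizer (P : Set G) := by
    rw [hPA₀, ← hA₀def]
    exact Subgroup.le_centralizer_iff.1 inf_le_right
  have hEP : E ≤ Subgroup.normalizer (P : Set G) := by
    rw [hPA₀, ← hA₀def]
    exact (le_inf hEB ((hE.1.trans (le_normalizer_sigmaCore N)).trans
      (Components.normalizer_le_normalizer_centralizer _))).trans Subgroup.inf_normalizer_le_normalizer_inf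
  -- the maximal subgroup over `N_G(B)`
  obtain ⟨L, hL, hNL⟩ := exists_coatom_ge
    (normalizer_ne_top hG (ne_bot_of_card_sq hBc) (pgroup_ne_top hG (isPGroup_of_elementary hB)))
  have hpL : p ∈ Cfsg.sigma L := sigma_of_normalizer_elementary hG hB hBc hL hNL
  have hBL : B ≤ L := Subgroup.le_normalizer.trans hNL
  have hPL : P ≤ L := hPB.trans hBL
  have hzL : z ∈ L := hNL (hEB hzE)
  have hderL : ∀ {t : ℕ} [Fact t.Prime] (T : Subgroup G), IsPGroup t T → t ≠ p → T ≤ ⁅L, L⁆ →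
      T ≤ Subgroup.normalizer (B : Set G) → T ≤ Subgroup.centralizer (B : Set G) := fun {t} _ T hT htp hTd hTn =>
    le_centralizer_of_derived hG hL (hbL L) (isPGroup_of_elementary hB) hBL hTd (card_coprime (p := p) (q := t) hT htp) hTn
  have hqL : q ∉ Cfsg.sigma L := fun h => hzB (hderL Y hYp hqp
    ((le_sigmaCore hG hL h hYp (Subgroup.zpowers_le.2 hzL)).trans (sigmaCore_le_derived hG hL))
    (hYE.trans hEB) (Subgroup.mem_zpowers z))
  haveI : Group.IsSolvable ↥(Cfsg.sigmaCore L) :=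
    isSolvable_of_ne_top hG fun h => hL.1 (top_le_iff.1 (h ▸ Subgroup.map_subtype_le _))
  have hPLσ : P ≤ Cfsg.sigmaCore L := le_sigmaCore hG hL hpL hPp hPL
  have hYn : Y ≤ Subgroup.normalizer (Cfsg.sigmaCore L : Set G) :=
    (Subgroup.zpowers_le.2 hzL).trans (le_normalizer_sigmaCore L)
  have hYcop : (Nat.card Y).Coprime (Nat.card ↥(Cfsg.sigmaCore L)) := by
    rw [hYc]
    exact (Nat.Prime.coprime_iff_not_dvd hq.out).2 (not_dvd_card_sigmaCore hqL)
  have hYPn : Y ≤ Subgroup.normalizer (P : Set G) := hYP.trans (Subgroup.centralizer_le_normalizer _)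
  obtain ⟨Sz, hPSz, hYSz⟩ := CoprimeAction.exists_invariant_sylow_ge (p := p) hYn hYcop (Or.inr inferInstance)
    hPLσ hPp hYPn
  -- `L` has rank one outside `σ(L)`
  have hrank : ∀ r : ℕ, Fact r.Prime → r ∉ Cfsg.sigma L → Cfsg.PRankLE r 1 ↥L := by
    intro r hr' hrL
    by_contra hrk
    obtain ⟨EL, hYEL, hEL⟩ := exists_complement_ge hG hL (Subgroup.zpowers_le.2 hzL : Y ≤ L) fun t ht hd => by
      rw [hYc] at hd
      exact (Nat.prime_dvd_prime_iff_eq ht hq.out).1 hd ▸ hqL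
    obtain ⟨F, hFE, hF, hFc⟩ := exists_elementary_in_complement hG hL hEL hrL hrk
    have hrp : r ≠ p := fun e => hrL (e ▸ hpL)
    have hFL : F ≤ L := hFE.trans hEL.1
    have hYF : Y ≤ Subgroup.normalizer (F : Set G) :=
      hYEL.trans (le_normalizer_elementary hG hL hEL hrL hFE hF hFc)
    set X := Y ⊔ F with hX
    have hXn : X ≤ Subgroup.normalizer (Cfsg.sigmaCore L : Set G) := sup_le hYn (hFL.trans (le_normalizer_sigmaCore L))
    have hXcop : (Nat.card X).Coprime (Nat.card ↥(Cfsg.sigmaCore L)) := by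
      refine Nat.coprime_of_dvd fun t ht h1 h2 => ?_
      have h := ZJ.card_sup_mul_card_inf_of_le_normalizer hYF
      rcases ht.dvd_mul.1 (h ▸ h1.trans (dvd_mul_right _ _)) with h' | h'
      · rw [hYc] at h'
        exact hqL ((Nat.prime_dvd_prime_iff_eq ht hq.out).1 h' ▸ mem_sigma_of_dvd L ht h2)
      · rw [hFc] at h'
        exact hrL ((Nat.prime_dvd_prime_iff_eq ht hr'.out).1 (ht.dvd_of_dvd_pow h') ▸ mem_sigma_of_dvd L ht h2)
    obtain ⟨S₀, hXS₀⟩ := CoprimeAction.exists_invariant_sylow hXn hXcop (Or.inr inferInstance) p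
    obtain ⟨c, hcY, hce⟩ := CoprimeAction.invariant_sylow_conj hYn hYcop (Or.inr inferInstance) Sz S₀
      hYSz (le_sup_left.trans hXS₀)
    set S' := (S₀ : Subgroup ↥(Cfsg.sigmaCore L)).map (Cfsg.sigmaCore L).subtype with hS'
    set P' := P.map (MulAut.conj (c : G)).toMonoidHom with hP'
    have hP'S : P' ≤ S' := by
      rintro _ ⟨x, hx, rfl⟩
      obtain ⟨y, hy, hyx⟩ := hPSz hx
      refine ⟨c * y * c⁻¹, ?_, by rw [← hyx]; rfl⟩
      rw [← hce]
      exact ⟨y, hy, rfl⟩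
    have hP'c : Nat.card P' = p := by rw [hP', card_map_conj, hP]
    have hP'z : P' ≤ Subgroup.centralizer ({z} : Set G) := by
      rintro _ ⟨x, hx, rfl⟩
      rw [← centralizer_zpowers]
      refine mul_mem (mul_mem ?_ (hPY hx)) (inv_mem ?_) <;> exact hcY
    have hS'p : IsPGroup p S' := S₀.isPGroup'.map _
    have hS'L : S' ≤ L := (Subgroup.map_subtype_le _).trans (Subgroup.map_subtype_le _)
    have hcycS : IsCyclic ↥(S' ⊓ Subgroup.centralizer ({z} : Set G)) :=
      hcyc _ (hS'p.to_le inf_le_left) inf_le_right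
    set N' := N.map (MulAut.conj (c : G)).toMonoidHom with hN'
    have hNP' : Subgroup.normalizer (P' : Set G) ≤ N' := by
      rw [hP', show Subgroup.normalizer ((P.map (MulAut.conj (c : G)).toMonoidHom : Subgroup G) : Set G) =
        (Subgroup.normalizer (P : Set G)).map (MulAut.conj (c : G)).toMonoidHom from
          (Subgroup.map_equiv_normalizer_eq _ (MulAut.conj (c : G))).symm]
      exact Subgroup.map_mono hNP
    have hFP' : F ≤ Subgroup.normalizer (P' : Set G) := by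
      intro f hf
      have hfS : f ∈ Subgroup.normalizer (S' : Set G) := hXS₀ (Subgroup.mem_sup_right hf)
      have hcF : f⁻¹ * z * f * z⁻¹ ∈ F := by
        have hzf : z * f * z⁻¹ ∈ F := (Subgroup.mem_normalizer_iff.1 (hYF (Subgroup.mem_zpowers z)) f).1 hf
        rw [show f⁻¹ * z * f * z⁻¹ = f⁻¹ * (z * f * z⁻¹) by group]
        exact mul_mem (inv_mem hf) hzf
      have hcD : f⁻¹ * z * f * z⁻¹ ∈ ⁅L, L⁆ := by
        rw [show f⁻¹ * z * f * z⁻¹ = ⁅f⁻¹, z⁆ by rw [commutatorElement_def, inv_inv]]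
        exact Subgroup.commutator_mem_commutator (inv_mem (hFL hf)) hzL
      have hcS := le_centralizer_of_derived hG hL (hbL L) hS'p hS'L
        (Subgroup.zpowers_le.2 hcD : Subgroup.zpowers _ ≤ _)
        (card_coprime (p := p) (q := r) ((isPGroup_of_elementary hF).to_le (Subgroup.zpowers_le.2 hcF)) hrp)
        (Subgroup.zpowers_le.2 (hXS₀ (Subgroup.mem_sup_right hcF))) (Subgroup.mem_zpowers _)
      refine mem_normalizer_of_map_le ?_
      rintro _ ⟨x, hx, rfl⟩
      refine mem_of_pow_eq_one hcycS (le_inf hP'S hP'z) hP'c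
        (conj_mem_inf_centralizer hfS hcS ⟨hP'S hx, hP'z hx⟩) ?_
      have hxp := pow_card_eq_one' (x := (⟨x, hx⟩ : P'))
      rw [hP'c] at hxp
      rw [← map_pow, show x ^ p = 1 from congrArg Subtype.val hxp, map_one]
    have hFN' : F ≤ N' := hFP'.trans hNP'
    have hP'N' : P' ≤ N' := Subgroup.le_normalizer.trans hNP'
    by_cases hrN : r ∈ Cfsg.sigma N'
    · have hN'c : IsCoatom N' := isCoatom_map _ hN
      have hFP := le_centralizer_of_derived hG hN'c (hbL N') (hPp.map _) hP'N'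
        ((le_sigmaCore hG hN'c hrN (isPGroup_of_elementary hF) hFN').trans (sigmaCore_le_derived hG hN'c))
        (card_coprime (p := p) (q := r) (isPGroup_of_elementary hF) hrp) hFP'
      have h := le_inf (hP'S.trans (Subgroup.map_subtype_le _)) (Subgroup.le_centralizer_iff.1 hFP)
      rw [sigmaCore_inf_centralizer_eq_bot hG hL hrL hFL hF hFc] at h
      have h' := Subgroup.card_le_of_le h
      rw [hP'c, Subgroup.card_bot] at h'
      exact absurd h' (not_le.2 hp.out.one_lt)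
    · have hmem := mem_tau2_of_elementary hG hN (fun h => hrN ((mem_sigma_conj_iff _).2 h))
        (show F.map (MulAut.conj (c : G)⁻¹).toMonoidHom ≤ N by rw [map_conj_le_iff, inv_inv]; exact hFN')
        (elementary_map_conj hF _) (by rw [card_map_conj, hFc])
      rw [hτ] at hmem
      exact hrp hmem
  have hqL1 : q ∈ Cfsg.tau1 L := by
    have hd : q ∣ Nat.card L := (hYc ▸ dvd_rfl : q ∣ Nat.card Y).trans (Subgroup.card_dvd_of_le (Subgroup.zpowers_le.2 hzL))
    refine ⟨hq.out, hqL, hd, fun hdd => hzB ?_, hrank q hq hqL⟩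
    obtain ⟨EL, hYEL, hEL⟩ := exists_complement_ge hG hL (Subgroup.zpowers_le.2 hzL : Y ≤ L) fun t ht hd => by
      rw [hYc] at hd
      exact (Nat.prime_dvd_prime_iff_eq ht hq.out).1 hd ▸ hqL
    exact hderL Y hYp hqp (le_derived_of_dvd hG hL hEL hqL (hrank q hq hqL) hdd hYp hYEL) (hYE.trans hEB)
      (Subgroup.mem_zpowers z)
  -- `N` moves `P`
  have hmove : ¬ E ≤ Subgroup.centralizer (P : Set G) := by
    intro hEC
    have hNC : N ≤ Subgroup.centralizer (P : Set G) := fun n hn => by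
      obtain ⟨e, he, k, hk, rfl⟩ := hE.2.2.2 n hn
      exact mul_mem (hEC he) (hσP hk)
    obtain ⟨S, hS, hSL, hNS⟩ := exists_sylow_of_sigmaCore hG hL hpL Sz
    rw [← hS] at hPSz hYSz
    have hS1 : (S : Subgroup G) ≠ ⊥ := fun h => hP1 (le_bot_iff.1 (hPSz.trans h.le))
    obtain ⟨V, hYV, hpV, hV⟩ := exists_normalizer_complement_ge hG S hS1 (X := Y)
      (by rw [hYc]; exact fun h => hqp ((Nat.prime_dvd_prime_iff_eq hp.out hq.out).1 h).symm) hYSz
    have hcycS : IsCyclic ↥((S : Subgroup G) ⊓ Subgroup.centralizer ({z} : Set G)) :=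
      hcyc _ (S.isPGroup'.to_le inf_le_left) inf_le_right
    have hVP : V ≤ Subgroup.centralizer (P : Set G) := by
      intro v hv
      refine hNC (hNP (mem_normalizer_of_map_le ?_))
      have hvS := hV.2.1 hv
      have hc : v⁻¹ * z * v * z⁻¹ ∈ ⁅L, L⁆ := by
        rw [show v⁻¹ * z * v * z⁻¹ = ⁅v⁻¹, z⁆ by rw [commutatorElement_def, inv_inv]]
        exact Subgroup.commutator_mem_commutator (inv_mem (hNS hvS)) hzL
      have hcV : v⁻¹ * z * v * z⁻¹ ∈ V :=
        mul_mem (mul_mem (mul_mem (inv_mem hv) (hYV (Subgroup.mem_zpowers z))) hv) (inv_mem (hYV (Subgroup.mem_zpowers z)))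
      have hcS := le_centralizer_of_derived hG hL (hbL L) S.isPGroup' hSL
        (Subgroup.zpowers_le.2 hc : Subgroup.zpowers _ ≤ _)
        (((Nat.Prime.coprime_iff_not_dvd hp.out).2 fun h =>
          hpV (h.trans (Subgroup.card_dvd_of_le (Subgroup.zpowers_le.2 hcV)))).symm)
        (Subgroup.zpowers_le.2 (hV.2.1 hcV)) (Subgroup.mem_zpowers _)
      have hPz : P ≤ Subgroup.centralizer ({z} : Set G) := by rw [← centralizer_zpowers]; exact hPY
      rintro _ ⟨x, hx, rfl⟩
      refine mem_of_pow_eq_one hcycS (le_inf hPSz hPz) hP (conj_mem_inf_centralizer hvS hcS ⟨hPSz hx, hPz hx⟩) ?_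
      rw [← map_pow, show x ^ p = 1 from hB.2 x (hPB hx), map_one]
    set W := Subgroup.normalizer ((S : Subgroup G) : Set G) with hW
    haveI := isSolvable_of_ne_top hG (normalizer_ne_top hG hS1 (pgroup_ne_top hG S.isPGroup'))
    haveI : ((S : Subgroup G).subgroupOf W).Normal := Subgroup.normal_in_normalizer
    have hcompl : Subgroup.IsComplement' ((S : Subgroup G).subgroupOf W) (V.subgroupOf W) := by
      refine Subgroup.isComplement'_of_disjoint_and_mul_eq_univ ?_ (Set.eq_univ_of_forall fun t => ?_)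
      · rw [disjoint_iff, eq_bot_iff]
        rintro x ⟨hx1, hx2⟩
        have h4 : (x : G) ∈ (⊥ : Subgroup G) := hV.2.2.1 ▸ Subgroup.mem_inf.2 ⟨hx1, hx2⟩
        exact Subgroup.mem_bot.2 (Subtype.ext (Subgroup.mem_bot.1 h4))
      · obtain ⟨a, ha, b, hb, he⟩ := hV.2.2.2 t t.2
        exact ⟨⟨a, hV.1 ha⟩, ha, ⟨b, hV.2.1 hb⟩, hb, Subtype.ext he.symm⟩
    have hle : (S : Subgroup G).subgroupOf W ≤ commutator W := by
      rw [← Subgroup.map_subtype_le_map_subtype, Subgroup.map_subtype_commutator,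
        Subgroup.map_subgroupOf_eq_of_le hV.1]
      exact sylow_le_derived_normalizer hG S
    have hSd := ((Cfsg.Agent.S1459.result (G := W)).1 ((S : Subgroup G).subgroupOf W) (V.subgroupOf W) inferInstance (S.subtype hV.1).card_coprime_index hcompl hle).2
    obtain ⟨⟨x, hx⟩, hxo⟩ := exists_prime_orderOf_dvd_card' (G := P) p (dvd_of_eq hP.symm)
    rw [Subgroup.orderOf_mk] at hxo
    have hxd : x ∈ ⁅Cfsg.sigmaCore L, Cfsg.sigmaCore L⁆ := by
      have h := hSd (x := ⟨x, hV.1 (hPSz hx)⟩) ⟨hPSz hx, Subgroup.mem_centralizer_iff.2 fun v hv =>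
        Subtype.ext (Subgroup.mem_centralizer_iff.1 (hVP hv) x hx).symm⟩
      have h' := Subgroup.mem_map_of_mem W.subtype h
      rw [Subgroup.map_commutator, Subgroup.map_subgroupOf_eq_of_le hV.1] at h'
      exact Subgroup.commutator_mono (le_sigmaCore hG hL hpL S.isPGroup' hSL)
        (le_sigmaCore hG hL hpL S.isPGroup' hSL) h'
    obtain ⟨hU, hCL, -⟩ := derived_sigma_unique hG hL hpL (hbL L) hxo (hPL hx) hxd
    have hxP : Subgroup.zpowers x = P :=
      Subgroup.eq_of_le_of_card_ge (Subgroup.zpowers_le.2 hx) (by rw [Nat.card_zpowers, hxo, hP])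
    have hCN : Subgroup.centralizer ({x} : Set G) ≤ N := by
      rw [← centralizer_zpowers, hxP]
      exact (Subgroup.centralizer_le_normalizer _).trans hNP
    exact hpN (hU.unique ⟨hN, hCN⟩ ⟨hL, hCL⟩ ▸ hpL)
  -- a `τ₁(N)`-element of `E` commuting with `z` moves `P`
  refine hmove (le_of_prime_subgroups fun t ht T hT hTE => ?_)
  haveI := Fact.mk ht
  by_cases hT1 : T = ⊥
  · exact hT1 ▸ bot_le
  have htE : t ∣ Nat.card E := (dvd_card_of_ne_bot hT hT1).trans (Subgroup.card_dvd_of_le hTE)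
  have htN : t ∉ Cfsg.sigma N := fun h => not_dvd_card_complement hG hN hE ht h htE
  by_cases htp : t = p
  · subst htp
    have hc := commute_of_not_sigma hG hN htN (T := T ⊔ B)
      (hT.to_sup_of_normal_right' (isPGroup_of_elementary hB) (hTE.trans hEB)) (sup_le (hTE.trans hE.1) hBN)
    exact fun x hx => Subgroup.mem_centralizer_iff.2 fun a ha =>
      hc a (Subgroup.mem_sup_right (hPB ha)) x (Subgroup.mem_sup_left hx)
  rcases mem_tau13_or_tau2 hG hN (htE.trans (Subgroup.card_dvd_of_le hE.1)) htN with ⟨ht13, htrk⟩ | ht2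
  swap
  · rw [hτ] at ht2
    exact absurd ht2 htp
  rcases ht13 with ht1 | ht3
  swap
  · exact (hder T hT htp (le_derived_of_dvd hG hN hE htN htrk ht3.2.2.1 hT hTE) (hTE.trans hEB)).trans
      (Subgroup.centralizer_le hPB)
  -- move `T` to the cyclic group containing `z`
  haveI := isSolvable_of_ne_top hG (fun h => hN.1 (top_le_iff.1 (h ▸ hE.1)) : E ≠ ⊤)
  obtain ⟨H₁, hH₁, hYH₁⟩ := Hall.exists_isPiHall_ge (π := Cfsg.tau1 N) (K := Y.subgroupOf E) fun s hs hd => by
    rw [Nat.card_congr (Subgroup.subgroupOfEquivOfLe hYE).toEquiv, hYc] at hd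
    exact (Nat.prime_dvd_prime_iff_eq hs hq.out).1 hd ▸ hq1
  obtain ⟨H₂, hH₂, hTH₂⟩ := Hall.exists_isPiHall_ge (π := Cfsg.tau1 N) (K := T.subgroupOf E) fun s hs hd => by
    rw [Nat.card_congr (Subgroup.subgroupOfEquivOfLe hTE).toEquiv] at hd
    obtain ⟨n, hn⟩ := hT.exists_card_eq
    rw [hn] at hd
    exact (Nat.prime_dvd_prime_iff_eq hs ht).1 (hs.dvd_of_dvd_pow hd) ▸ ht1
  set E₁ := H₁.map E.subtype with hE₁
  obtain ⟨e, he, hee⟩ := Hall.piHallOf_conj (Hall.isPiHallOf_map hH₂) (Hall.isPiHallOf_map hH₁)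
  haveI hE₁c : IsCyclic E₁ := (Cfsg.Agent.S1415.result hG N hN E hE).2.1 E₁ (Hall.isPiHallOf_map hH₁)
  haveI : IsMulCommutative E₁ := IsCyclic.isMulCommutative
  have hE₁E : E₁ ≤ E := Subgroup.map_subtype_le _
  have hzE₁ : z ∈ E₁ := by
    have h : Y ≤ E₁ := by rw [← Subgroup.map_subgroupOf_eq_of_le hYE]; exact Subgroup.map_mono hYH₁
    exact h (Subgroup.mem_zpowers z)
  set T' := T.map (MulAut.conj e).toMonoidHom with hT'
  have hT'E₁ : T' ≤ E₁ := by
    rintro _ ⟨x, hx, rfl⟩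
    have hx2 : x ∈ H₂.map E.subtype := ⟨⟨x, hTE hx⟩, hTH₂ hx, rfl⟩
    have h := Subgroup.smul_mem_pointwise_smul x (MulAut.conj e) _ hx2
    rw [hee] at h
    exact h
  suffices h : T' ≤ Subgroup.centralizer (P : Set G) by
    intro x hx
    refine Subgroup.mem_centralizer_iff.2 fun a ha => ?_
    have h1 := Subgroup.mem_centralizer_iff.1 (h ⟨x, hx, rfl⟩) (e * a * e⁻¹)
      ((Subgroup.mem_normalizer_iff.1 (hEP he) a).1 ha)
    have h2 : (e * a * e⁻¹) * (e * x * e⁻¹) = (e * x * e⁻¹) * (e * a * e⁻¹) := h1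
    have := congrArg (fun y => e⁻¹ * y * e) h2
    simpa [mul_assoc] using this
  have hT'p : IsPGroup t T' := hT.map _
  have hT'E : T' ≤ E := hT'E₁.trans hE₁E
  have hT'L : T' ≤ L := (hT'E.trans hEB).trans hNL
  by_cases htL : t ∈ Cfsg.sigma L
  · exact (hderL T' hT'p htp ((le_sigmaCore hG hL htL hT'p hT'L).trans (sigmaCore_le_derived hG hL))
      (hT'E.trans hEB)).trans (Subgroup.centralizer_le hPB)
  have hT'1 : T' ≠ ⊥ := fun h => hT1 ((Subgroup.map_eq_bot_iff_of_injective _ (MulAut.conj e).injective).1 h)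
  obtain ⟨⟨x, hx⟩, hxo⟩ := exists_prime_orderOf_dvd_card' (G := T') t (dvd_card_of_ne_bot hT'p hT'1)
  rw [Subgroup.orderOf_mk] at hxo
  have hxY : Subgroup.zpowers x ≤ Subgroup.centralizer (Y : Set G) := Subgroup.zpowers_le.2
    (Subgroup.mem_centralizer_iff.2 fun y hy => setLike_mul_comm
      ((Subgroup.zpowers_le.2 hzE₁ : Y ≤ E₁) hy) (hT'E₁ hx))
  have h4 := tau_one_centralizer_le hG hL hqL1 hYc (Subgroup.zpowers_le.2 hzL) (Subgroup.zpowers_le.2 (hT'L hx))
    hxY (by rw [Nat.card_zpowers, hxo]) htL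
  have hPx : P ≤ Subgroup.centralizer ({x} : Set G) := by
    rw [← centralizer_zpowers]
    exact (le_inf hPLσ hPY).trans h4
  exact Subgroup.le_centralizer_iff.1 ((le_inf hPLσ hPx).trans
    (prime_action_of_rank_one hG hL htL (hrank t inferInstance htL) hT'p hT'L hx
      (fun h => ht.one_lt.ne (by rw [← hxo, h, orderOf_one]))))

/-- B&G 14.2 (e): a nonfree rank one line outside `σ(M)` lies in `σ` of the maximal subgroups over its normalizer. -/
theorem mem_sigma_neighbour (hG : Cfsg.IsMinSimpleOddOrder G) (hM : IsCoatom M) (hps : p ∉ Cfsg.sigma M)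
    (hr : Cfsg.PRankLE p 1 ↥M) {P : Subgroup G} (hP : Nat.card P = p) (hPM : P ≤ M)
    (hfix : Cfsg.sigmaCore M ⊓ Subgroup.centralizer (P : Set G) ≠ ⊥) (hN : IsCoatom N)
    (hNP : Subgroup.normalizer (P : Set G) ≤ N) : p ∈ Cfsg.sigma N := by
  by_contra hpN
  obtain ⟨A, hAN, hA, hAc⟩ := exists_elem_of_not_prank (normalizer_in_maximal hG hN hpN hP hNP).1.2
  have hnc : ∀ g : G, N ≠ M.map (MulAut.conj g).toMonoidHom := by
    rintro g rfl
    exact elementary_card_contra (prank_one_conj hr g) hAN hA hAc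
  obtain ⟨q, hq, hqd⟩ := Nat.exists_prime_and_dvd fun h => hfix (Subgroup.card_eq_one.1 h)
  haveI := Fact.mk hq
  obtain ⟨⟨z, hz⟩, hzo⟩ := exists_prime_orderOf_dvd_card' q hqd
  rw [Subgroup.orderOf_mk] at hzo
  exact false_of_tau_two_neighbour hG hM hN hnc hps hr hP hPM hNP hpN hAN hA hAc hz.1 hz.2 hzo

end CfsgLib.SigmaGroups
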