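import Cfsg.Agent.Sigma.KappaNeighbour

/-!
B&G 13.9: nonconjugate maximal subgroups have disjoint sets `σ`.
-/

set_option autoImplicit false
set_option linter.unusedSectionVars false
set_option linter.style.haveILetI false

namespace CfsgLib.SigmaGroups

open CfsgLib.BenderUnique CfsgLib.Uniq
open scoped commutatorElement

universe u

variable {G : Type u} [Group G] [Finite G] {p q r : ℕ} [hp : Fact p.Prime] [hq : Fact q.Prime] [hr : Fact r.Prime]
  {M N R T : Subgroup G}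

omit hp hq hr in
/-- In a solvable subgroup, `π`-subgroups are conjugate into a Hall `π`-subgroup over a given one. -/
theorem exists_hall_over {π : Set ℕ} {W X : Subgroup G} [Group.IsSolvable W] (hXW : X ≤ W)
    (hX : ∀ t : ℕ, t.Prime → t ∣ Nat.card X → t ∈ π) :
    ∃ F : Subgroup G, X ≤ F ∧ Cfsg.IsPiHallOf π F W ∧ ∀ Y : Subgroup G, Y ≤ W →
      (∀ t : ℕ, t.Prime → t ∣ Nat.card Y → t ∈ π) → ∃ a ∈ W, Y.map (MulAut.conj a).toMonoidHom ≤ F := by
  obtain ⟨H, hH, hXH⟩ := Hall.exists_isPiHall_ge (π := π) (K := X.subgroupOf W) fun t ht hd =>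
    hX t ht (by rwa [Nat.card_congr (Subgroup.subgroupOfEquivOfLe hXW).toEquiv] at hd)
  refine ⟨H.map W.subtype, ?_, Hall.isPiHallOf_map hH, fun Y hYW hY => ?_⟩
  · rw [← Subgroup.map_subgroupOf_eq_of_le hXW]
    exact Subgroup.map_mono hXH
  obtain ⟨H', hH', hYH'⟩ := Hall.exists_isPiHall_ge (π := π) (K := Y.subgroupOf W) fun t ht hd =>
    hY t ht (by rwa [Nat.card_congr (Subgroup.subgroupOfEquivOfLe hYW).toEquiv] at hd)
  obtain ⟨a, ha, he⟩ := Hall.piHallOf_conj (Hall.isPiHallOf_map (M := W) hH') (Hall.isPiHallOf_map hH)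
  refine ⟨a, ha, ?_⟩
  rintro _ ⟨y, hy, rfl⟩
  rw [← he]
  exact Subgroup.smul_mem_pointwise_smul y (MulAut.conj a) _ ⟨⟨y, hYW hy⟩, hYH' hy, rfl⟩

omit hp hq hr in
theorem isCyclic_of_tau_one_group (hG : Cfsg.IsMinSimpleOddOrder G) (hM : IsCoatom M) {H : Subgroup G} (hHM : H ≤ M)
    (hH : ∀ t : ℕ, t.Prime → t ∣ Nat.card H → t ∈ Cfsg.tau1 M) : IsCyclic H := by
  obtain ⟨E, hHE, hE⟩ := exists_complement_ge hG hM hHM fun t ht hd => (hH t ht hd).2.1
  haveI := isSolvable_of_ne_top hG (fun h => hM.1 (top_le_iff.1 (h ▸ hE.1)) : E ≠ ⊤)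
  obtain ⟨F, hHF, hF, -⟩ := exists_hall_over hHE hH
  haveI := (Cfsg.Agent.S1415.result hG M hM E hE).2.1 F hF
  exact isCyclic_of_injective (Subgroup.inclusion hHF) (Subgroup.inclusion_injective _)

omit hp hq hr in
theorem primes_of_pgroup {t : ℕ} (ht : t.Prime) {U : Subgroup G} (hU : IsPGroup t U) :
    ∀ s : ℕ, s.Prime → s ∣ Nat.card U → s = t := fun s hs hd => by
  haveI := Fact.mk ht
  obtain ⟨n, hn⟩ := hU.exists_card_eq
  rw [hn] at hd
  exact (Nat.prime_dvd_prime_iff_eq hs ht).1 (hs.dvd_of_dvd_pow hd)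

omit hp hr in
/-- The `q'`-elements moving a shared Sylow `q`-subgroup are `τ₁` in both maximal subgroups. -/
theorem tau_one_of_moves (hG : Cfsg.IsMinSimpleOddOrder G) (hM : IsCoatom M) (hN : IsCoatom N)
    (hnc : ∀ g : G, N ≠ M.map (MulAut.conj g).toMonoidHom) (hqM : q ∈ Cfsg.sigma M) (hqN : q ∈ Cfsg.sigma N)
    (hT : IsPGroup q T) (hTM : T ≤ M) {t : ℕ} [Fact t.Prime] (htq : t ≠ q)
    {U : Subgroup G} (hU : IsPGroup t U) (hUn : U ≤ Subgroup.normalizer (T : Set G)) (hUM : U ≤ M) (hUN : U ≤ N)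
    (hmove : ¬ U ≤ Subgroup.centralizer (T : Set G)) :
    t ∈ Cfsg.tau1 M := by
  have hqb : q ∉ Cfsg.beta M := not_beta_of_sigma hG hN hM (not_conj_symm hnc) hqN
  have hU1 : U ≠ ⊥ := fun h => hmove (h ▸ bot_le)
  have hkill : ¬ U ≤ ⁅M, M⁆ := fun h =>
    hmove (le_centralizer_of_derived hG hM hqb hT hTM h (card_coprime (p := q) (q := t) hU htq) hUn)
  have hts : t ∉ Cfsg.sigma M := fun h => hkill ((le_sigmaCore hG hM h hU hUM).trans (sigmaCore_le_derived hG hM))
  have hrk : Cfsg.PRankLE t 1 ↥M := by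
    by_contra h
    obtain ⟨A, hAM, hA, hAc⟩ := exists_elem_of_not_prank h
    exact false_of_shared_sigma hG hN hM (not_conj_symm hnc) hqN hqM hAM hA hAc hts
  refine ⟨Fact.out, hts, (dvd_card_of_ne_bot hU hU1).trans (Subgroup.card_dvd_of_le hUM), fun hd => hkill ?_, hrk⟩
  obtain ⟨E, hUE, hE⟩ := exists_complement_ge hG hM hUM fun s hs hd' => primes_of_pgroup Fact.out hU s hs hd' ▸ hts
  exact le_derived_of_dvd hG hM hE hts hrk hd hU hUE

omit hp in
/-- A moving line fixes no point of the shared Sylow subgroup. -/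
theorem commutator_eq_of_moving (hG : Cfsg.IsMinSimpleOddOrder G) (hM : IsCoatom M) (hN : IsCoatom N)
    (hnc : ∀ g : G, N ≠ M.map (MulAut.conj g).toMonoidHom) (hqM : q ∈ Cfsg.sigma M) (hqN : q ∈ Cfsg.sigma N)
    (T : Sylow q G) (hNT : Subgroup.normalizer ((T : Subgroup G) : Set G) ≤ M ⊓ N)
    (hR : Nat.card R = r) (hrt : r ∈ Cfsg.tau1 M) (hRn : R ≤ Subgroup.normalizer ((T : Subgroup G) : Set G)) :
    ⁅(T : Subgroup G), R⁆ = T := by
  set Tg := (T : Subgroup G) with hTg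
  have hTM : Tg ≤ M := Subgroup.le_normalizer.trans (hNT.trans inf_le_left)
  have hTN : Tg ≤ N := Subgroup.le_normalizer.trans (hNT.trans inf_le_right)
  haveI hTab : IsMulCommutative Tg := by
    by_contra h
    exact hnc 1 (by rw [map_conj_one]; exact (nonabelian_unique hG T.isPGroup' h).unique ⟨hN, hTN⟩ ⟨hM, hTM⟩)
  have hrs := hrt.2.1
  have hrq : r ≠ q := fun e => hrs (e ▸ hqM)
  have hRM : R ≤ M := hRn.trans (hNT.trans inf_le_left)
  have hqb : q ∉ Cfsg.beta M := not_beta_of_sigma hG hN hM (not_conj_symm hnc) hqN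
  set W := Subgroup.normalizer (Tg : Set G) with hW
  have hWM : W ≤ M := hNT.trans inf_le_left
  haveI : Group.IsSolvable W := isSolvable_of_ne_top hG fun h => hM.1 (top_le_iff.1 (h ▸ hWM))
  -- `W'` centralizes `T`
  have hWd : ⁅W, W⁆ ≤ Subgroup.centralizer (Tg : Set G) := le_of_prime_subgroups fun t ht U hU hUW => by
    haveI := Fact.mk ht
    have hUW' : U ≤ W := hUW.trans (Subgroup.commutator_le_self W)
    by_cases htq : t = q
    · subst htq
      exact (le_sup_left.trans (T.is_maximal' (IsPGroup.to_sup_of_normal_right' hU T.isPGroup' hUW') le_sup_right).le).trans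
        fun a ha => Subgroup.mem_centralizer_iff.2 fun b hb => setLike_mul_comm hb ha
    exact le_centralizer_of_derived hG hM hqb T.isPGroup' hTM (hUW.trans (Subgroup.commutator_mono hWM hWM))
      (card_coprime (p := q) (q := t) hU htq) hUW'
  obtain ⟨F, hRF, hF, hFconj⟩ := exists_hall_over (π := Cfsg.tau1 M) (X := R) hRn fun t ht hd => by
    rw [hR] at hd
    exact (Nat.prime_dvd_prime_iff_eq ht hr.out).1 hd ▸ hrt
  haveI hFc : IsCyclic F := isCyclic_of_tau_one_group hG hM (hF.1.trans hWM) fun t ht hd => hF.2.1 t ht hd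
  haveI : IsMulCommutative F := IsCyclic.isMulCommutative
  set U := Tg ⊓ Subgroup.centralizer (R : Set G) with hU
  obtain ⟨V, hV⟩ := exists_normalizer_complement T
  have hVW : V ≤ W := hV.2.1
  have hTV := sylow_eq_commutator hG T V hV
  have hVq : (Nat.card V).Coprime (Nat.card Tg) := by
    obtain ⟨n, hn⟩ := T.isPGroup'.exists_card_eq
    rw [← hTg] at hn
    rw [hn]
    refine Nat.Coprime.pow_right _ ((Nat.Prime.coprime_iff_not_dvd hq.out).2 fun hd => ?_).symm
    obtain ⟨⟨v, hv⟩, hvo⟩ := exists_prime_orderOf_dvd_card' (G := V) q hd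
    rw [Subgroup.orderOf_mk] at hvo
    have hvp : IsPGroup q (Subgroup.zpowers v) := IsPGroup.of_card (n := 1) (by rw [Nat.card_zpowers, hvo, pow_one])
    have hvT : v ∈ Tg := (le_sup_left.trans (T.is_maximal' (IsPGroup.to_sup_of_normal_right' hvp T.isPGroup'
      (Subgroup.zpowers_le.2 (hVW hv))) le_sup_right).le) (Subgroup.mem_zpowers v)
    have h1 : v ∈ (⊥ : Subgroup G) := hV.2.2.1 ▸ Subgroup.mem_inf.2 ⟨hvT, hv⟩
    rw [Subgroup.mem_bot.1 h1, orderOf_one] at hvo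
    exact hq.out.one_lt.ne hvo
  have hUV : U ≤ Subgroup.centralizer (V : Set G) := by
    rw [Subgroup.le_centralizer_iff]
    refine le_of_prime_subgroups fun t ht S hS hSV => ?_
    haveI := Fact.mk ht
    by_cases hcent : S ≤ Subgroup.centralizer (Tg : Set G)
    · exact hcent.trans (Subgroup.centralizer_le inf_le_left)
    have hS1 : S ≠ ⊥ := fun h => hcent (h ▸ bot_le)
    have hSW : S ≤ W := hSV.trans hVW
    have htq : t ≠ q := fun e => hq.out.not_dvd_one <| by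
      have h := (dvd_card_of_ne_bot hS hS1).trans (Subgroup.card_dvd_of_le hSV)
      have h' := Nat.dvd_gcd (e ▸ h) (show q ∣ Nat.card Tg from
        T.dvd_card_of_dvd_card (hqM.2.1.trans (Subgroup.card_subgroup_dvd_card M)))
      rwa [hVq.gcd_eq_one] at h'
    have ht1 := tau_one_of_moves hG hM hN hnc hqM hqN T.isPGroup' hTM htq hS hSW (hSW.trans hWM)
      (hSW.trans (hNT.trans inf_le_right)) hcent
    obtain ⟨a, ha, hSF⟩ := hFconj S hSW fun s hs hd => primes_of_pgroup ht hS s hs hd ▸ ht1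
    intro v hv
    refine Subgroup.mem_centralizer_iff.2 fun u hu => ?_
    set v' := a * v * a⁻¹ with hv'
    have hv'u : v' * u * v'⁻¹ = u := by
      have hS' : IsPGroup t ↥(S.map (MulAut.conj a).toMonoidHom) := hS.map _
      obtain ⟨⟨x, hx⟩, hxo⟩ := exists_prime_orderOf_dvd_card'
        (G := ↥(S.map (MulAut.conj a).toMonoidHom)) t (by rw [card_map_conj]; exact dvd_card_of_ne_bot hS hS1)
      rw [Subgroup.orderOf_mk] at hxo
      have hxR : Subgroup.zpowers x ≤ Subgroup.centralizer (R : Set G) := Subgroup.zpowers_le.2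
        (Subgroup.mem_centralizer_iff.2 fun y hy => setLike_mul_comm (hRF hy) (hSF hx))
      have hSFM : S.map (MulAut.conj a).toMonoidHom ≤ M := hSF.trans (hF.1.trans hWM)
      have h4 := tau_one_centralizer_le hG hM hrt hR hRM (Subgroup.zpowers_le.2 (hSFM hx)) hxR
        (by rw [Nat.card_zpowers, hxo]) ht1.2.1
      have hu' : u ∈ Cfsg.sigmaCore M ⊓ Subgroup.centralizer ({x} : Set G) := by
        refine ⟨le_sigmaCore hG hM hqM T.isPGroup' hTM hu.1, ?_⟩
        rw [← centralizer_zpowers]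
        exact h4 ⟨le_sigmaCore hG hM hqM T.isPGroup' hTM hu.1, hu.2⟩
      have h3 := prime_action_of_rank_one hG hM ht1.2.1 ht1.2.2.2.2 hS' hSFM hx
        (fun h => ht.one_lt.ne (by rw [← hxo, h, orderOf_one])) hu'
      rw [Subgroup.mem_centralizer_iff.1 h3 v' ⟨v, hv, rfl⟩, mul_inv_cancel_right]
    have hc : v'⁻¹ * v ∈ Subgroup.centralizer (Tg : Set G) := by
      refine hWd ?_
      rw [show v'⁻¹ * v = ⁅a, v⁻¹⁆ by rw [hv', commutatorElement_def]; group]
      exact Subgroup.commutator_mem_commutator ha (inv_mem (hSW hv))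
    have h2 := Subgroup.mem_centralizer_iff.1 hc u hu.1
    calc u * v = (v' * u * v'⁻¹) * v := by rw [hv'u]
      _ = v' * (u * (v'⁻¹ * v)) := by group
      _ = v' * ((v'⁻¹ * v) * u) := by rw [h2]
      _ = v * u := by group
  have hU1 : U = ⊥ := by
    refine le_bot_iff.1 ?_
    rw [← CoprimeAction.centralizer_inf_commutator_eq_bot (A := V) (V := Tg) hVW hVq, ← hTV]
    exact le_inf (le_inf inf_le_left hUV) inf_le_left
  have hsup := CoprimeAction.commutator_sup_centralizer (A := R) (K := Tg) hRn (by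
    rw [hR]
    obtain ⟨n, hn⟩ := T.isPGroup'.exists_card_eq
    rw [← hTg] at hn
    rw [hn]
    exact ((Nat.coprime_primes hr.out hq.out).2 hrq).pow_right n)
    (Or.inr (Group.isSolvable_of_comm mul_comm'))
  rwa [← hU, hU1, sup_bot_eq] at hsup

omit hp in
/-- A moving line exists. -/
theorem exists_moving_line (hG : Cfsg.IsMinSimpleOddOrder G) (hM : IsCoatom M) (hN : IsCoatom N)
    (hnc : ∀ g : G, N ≠ M.map (MulAut.conj g).toMonoidHom) (hqM : q ∈ Cfsg.sigma M) (hqN : q ∈ Cfsg.sigma N)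
    (T : Sylow q G) (hNT : Subgroup.normalizer ((T : Subgroup G) : Set G) ≤ M ⊓ N) :
    ∃ (t : ℕ) (R : Subgroup G), t.Prime ∧ t ∈ Cfsg.tau1 M ∧ t ∈ Cfsg.tau1 N ∧ Nat.card R = t ∧
      R ≤ Subgroup.normalizer ((T : Subgroup G) : Set G) := by
  set Tg := (T : Subgroup G) with hTg
  have hT1 : Tg ≠ ⊥ := fun h => by
    have := T.dvd_card_of_dvd_card (hqN.2.1.trans (Subgroup.card_subgroup_dvd_card N))
    rw [← hTg, h, Subgroup.card_bot] at this
    exact hq.out.not_dvd_one this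
  have hTM : Tg ≤ M := Subgroup.le_normalizer.trans (hNT.trans inf_le_left)
  have hTN : Tg ≤ N := Subgroup.le_normalizer.trans (hNT.trans inf_le_right)
  obtain ⟨V, hV⟩ := exists_normalizer_complement T
  have hmove : ¬ V ≤ Subgroup.centralizer (Tg : Set G) := fun h => hT1 ((sylow_eq_commutator hG T V hV).trans
    (Subgroup.commutator_eq_bot_iff_le_centralizer.2 (Subgroup.le_centralizer_iff.1 h)))
  by_contra hno
  push Not at hno
  refine hmove (le_of_prime_subgroups fun t ht S hS hSV => ?_)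
  haveI := Fact.mk ht
  by_contra hS'
  have hS1 : S ≠ ⊥ := fun h => hS' (h ▸ bot_le)
  have hSW := hSV.trans hV.2.1
  have htq : t ≠ q := by
    rintro rfl
    have hST : S ≤ Tg := le_sup_left.trans (T.is_maximal' (IsPGroup.to_sup_of_normal_right' hS T.isPGroup' hSW) le_sup_right).le
    exact hS1 (le_bot_iff.1 (hV.2.2.1 ▸ le_inf hST hSV))
  have h1 := tau_one_of_moves hG hM hN hnc hqM hqN T.isPGroup' hTM htq hS hSW (hSW.trans (hNT.trans inf_le_left))
    (hSW.trans (hNT.trans inf_le_right)) hS'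
  have h2 := tau_one_of_moves hG hN hM (not_conj_symm hnc) hqN hqM T.isPGroup' hTN htq hS hSW
    (hSW.trans (hNT.trans inf_le_right)) (hSW.trans (hNT.trans inf_le_left)) hS'
  obtain ⟨⟨x, hx⟩, hxo⟩ := exists_prime_orderOf_dvd_card' (G := S) t (dvd_card_of_ne_bot hS hS1)
  rw [Subgroup.orderOf_mk] at hxo
  exact hno t (Subgroup.zpowers x) ht h1 h2 (by rw [Nat.card_zpowers, hxo]) (Subgroup.zpowers_le.2 (hSW hx))

/-- A `β(N)`-line of `M` centralized by the moving line gives a contradiction. -/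
theorem false_of_shared_line (hG : Cfsg.IsMinSimpleOddOrder G) (hM : IsCoatom M) (hN : IsCoatom N)
    (hnc : ∀ g : G, N ≠ M.map (MulAut.conj g).toMonoidHom) (hqM : q ∈ Cfsg.sigma M) (hqN : q ∈ Cfsg.sigma N)
    (T : Sylow q G) (hNT : Subgroup.normalizer ((T : Subgroup G) : Set G) ≤ M ⊓ N)
    (hb : p ∈ Cfsg.beta N) (hR : Nat.card R = r) (hrM : r ∈ Cfsg.tau1 M) (hrN : r ∈ Cfsg.tau1 N)
    (hRn : R ≤ Subgroup.normalizer ((T : Subgroup G) : Set G)) {Y : Subgroup G} (hY : Nat.card Y = p)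
    (hYM : Y ≤ M) (hYR : Y ≤ Subgroup.centralizer (R : Set G)) : False := by
  set Tg := (T : Subgroup G) with hTg
  have hTM : Tg ≤ M := Subgroup.le_normalizer.trans (hNT.trans inf_le_left)
  have hTN : Tg ≤ N := Subgroup.le_normalizer.trans (hNT.trans inf_le_right)
  have hRM : R ≤ M := hRn.trans (hNT.trans inf_le_left)
  have hRN : R ≤ N := hRn.trans (hNT.trans inf_le_right)
  have hpa : p ∈ Cfsg.alpha N := hb.1
  have hps : p ∉ Cfsg.sigma M := fun h => not_alpha_of_sigma hG hM hN hnc h hpa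
  have hrk : Cfsg.PRankLE p 1 ↥M := by
    by_contra h
    exact not_ideal hG hM hps h hb.2
  have hd : p ∣ Nat.card ↥⁅M, M⁆ := by
    by_contra hd
    have ht : p ∈ Cfsg.tau1 M := ⟨hp.out, hps, hY ▸ Subgroup.card_dvd_of_le hYM, hd, hrk⟩
    obtain ⟨L, hL, hNL, -, hncL, hcase⟩ := exists_max_normalizer hG hM hps hrk hY
    refine sigma_disjoint_of_tau_one hG hM hL hncL ht hY hYM hNL hqM ?_
    rcases hcase with hs | ⟨hs, A, hAL, hA, hAc⟩
    · obtain ⟨B, -, hB, hBc⟩ := exists_elem_of_not_prank hpa.2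
      obtain ⟨g, hg⟩ := exists_conj_eq_of_alpha hG hN hL hpa (mem_alpha_of_elementary hs hB hBc)
      rw [hg]
      exact mem_sigma_conj hqN g
    · exact absurd hb.2 (not_ideal hG hL hs fun h => elementary_card_contra h hAL hA hAc)
  have hYp : IsPGroup p Y := IsPGroup.of_card (n := 1) (by rw [hY, pow_one])
  obtain ⟨E, hYE, hE⟩ := exists_complement_ge hG hM hYM fun s hs hd' => primes_of_pgroup hp.out hYp s hs hd' ▸ hps
  have hYd : Y ≤ ⁅M, M⁆ := le_derived_of_dvd hG hM hE hps hrk hd hYp hYE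
  set K := Cfsg.sigmaCore M ⊔ Y with hK
  have hKM : K ≤ M := sup_le (Subgroup.map_subtype_le _) hYM
  have hKn : M ≤ Subgroup.normalizer (K : Set G) := le_normalizer_sigmaCore_sup_line hG hM hps hrk hY hYd
  have hKd : K ≤ ⁅M, M⁆ := sup_le (sigmaCore_le_derived hG hM) hYd
  have hYσn : Y ≤ Subgroup.normalizer (Cfsg.sigmaCore M : Set G) := hYM.trans (le_normalizer_sigmaCore M)
  set Z := K ⊓ Subgroup.normalizer (Tg : Set G) with hZ
  -- `p` divides `|K ∩ N(T)|`
  have hKdvd : ∀ {t : ℕ}, t.Prime → t ∣ Nat.card K → t = p ∨ t ∈ Cfsg.sigma M := fun {t} ht hdt => by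
    have h := ZJ.card_sup_mul_card_inf_of_le_normalizer hYσn
    rw [hK, sup_comm] at hdt
    rcases ht.dvd_mul.1 (h ▸ hdt.trans (dvd_mul_right _ _)) with h' | h'
    · rw [hY] at h'
      exact Or.inl ((Nat.prime_dvd_prime_iff_eq ht hp.out).1 h')
    · exact Or.inr (mem_sigma_of_dvd M ht h')
  have hKp : (Nat.card K).factorization p ≤ 1 := by
    have hdvd : Nat.card K ∣ Nat.card Y * Nat.card ↥(Cfsg.sigmaCore M) := by
      have h := ZJ.card_sup_mul_card_inf_of_le_normalizer hYσn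
      rw [← h, hK, sup_comm]
      exact dvd_mul_right _ _
    have h := (Nat.factorization_le_iff_dvd Nat.card_pos.ne'
      (Nat.mul_ne_zero Nat.card_pos.ne' Nat.card_pos.ne')).2 hdvd p
    rwa [Nat.factorization_mul Nat.card_pos.ne' Nat.card_pos.ne', Finsupp.add_apply,
      Nat.factorization_eq_zero_of_not_dvd (not_dvd_card_sigmaCore hps), add_zero, hY,
      hp.out.factorization_self] at h
  have hpH : p ∣ Nat.card ↥(M ⊓ Subgroup.normalizer (Tg : Set G)) := by
    have hcov := le_betaCore_sup_normalizer hG hM hqM (T.subtype hTM)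
    rw [Sylow.coe_subtype, Subgroup.map_subgroupOf_eq_of_le hTM] at hcov
    set B := Cfsg.piCoreOf (Cfsg.beta M) M with hB
    have hBn : M ⊓ Subgroup.normalizer (Tg : Set G) ≤ Subgroup.normalizer (B : Set G) := by
      refine inf_le_left.trans ?_
      rw [hB, Cfsg.piCoreOf, ← Subgroup.normal_subgroupOf_iff_le_normalizer (Subgroup.map_subtype_le _),
        Subgroup.subgroupOf, Subgroup.comap_map_eq_self_of_injective M.subtype_injective]
      infer_instance
    have h := ZJ.card_sup_mul_card_inf_of_le_normalizer hBn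
    have h2 : p ∣ Nat.card ↥(M ⊓ Subgroup.normalizer (Tg : Set G) ⊔ B) :=
      (hY ▸ Subgroup.card_dvd_of_le hYM).trans (Subgroup.card_dvd_of_le (hcov.trans (sup_comm _ _).le))
    refine (hp.out.dvd_mul.1 (h ▸ h2.trans (dvd_mul_right _ _))).resolve_right fun hB' => hps ?_
    exact mem_sigma_of_alpha hG hM ((betaCore_hallOf hG hM).2.1 p hp.out hB').1
  obtain ⟨⟨x, hx⟩, hxo⟩ := exists_prime_orderOf_dvd_card' p hpH
  rw [Subgroup.orderOf_mk] at hxo
  have hxK : x ∈ K := by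
    obtain ⟨S₁, hS₁⟩ := exists_max_ge (p := p) (X := Subgroup.zpowers x)
      (IsPGroup.of_card (n := 1) (by rw [Nat.card_zpowers, hxo, pow_one])) (Subgroup.zpowers_le.2 hx.1)
    obtain ⟨S₂, hS₂⟩ := exists_max_ge hYp hYM
    obtain ⟨m, hm, hme⟩ := exists_conj_sylow S₂ S₁
    have hYm : Y.map (MulAut.conj m).toMonoidHom ≤ (S₁ : Subgroup M).map M.subtype :=
      (Subgroup.map_mono hS₂).trans hme.le
    have hmem : x ∈ Y.map (MulAut.conj m).toMonoidHom :=
      mem_of_pow_eq_one (isCyclic_of_prank_one hG hrk (Subgroup.map_subtype_le _) (S₁.isPGroup'.map _)) hYm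
        (by rw [card_map_conj, hY]) (hS₁ (Subgroup.mem_zpowers x)) (hxo ▸ pow_orderOf_eq_one x)
    obtain ⟨y, hy, rfl⟩ := hmem
    exact (Subgroup.mem_normalizer_iff.1 (hKn hm) y).1 (Subgroup.mem_sup_right hy)
  have hxZ : x ∈ Z := ⟨hxK, hx.2⟩
  have hpZ : p ∣ Nat.card Z := hxo ▸ Subgroup.orderOf_dvd_natCard Z hxZ
  have hrs := hrM.2.1
  have hRZ : R ≤ Subgroup.normalizer (Z : Set G) :=
    (le_inf (hRM.trans hKn) (hRn.trans Subgroup.le_normalizer)).trans Subgroup.inf_normalizer_le_normalizer_inf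
  have hrp : r ≠ p := fun e => hrN.2.1 (e ▸ mem_sigma_of_alpha hG hN hpa)
  haveI : Group.IsSolvable Z := isSolvable_of_ne_top hG fun h => hM.1 (top_le_iff.1 (h ▸ inf_le_left.trans hKM))
  obtain ⟨S₀, hS₀⟩ := CoprimeAction.exists_invariant_sylow (A := R) (K := Z) hRZ (by
    rw [hR]
    exact (Nat.Prime.coprime_iff_not_dvd hr.out).2 fun h =>
      (hKdvd hr.out (h.trans (Subgroup.card_dvd_of_le inf_le_left))).elim hrp hrs) (Or.inr inferInstance) p
  set P₀ := (S₀ : Subgroup Z).map Z.subtype with hP₀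
  have hP₀c : Nat.card P₀ = p := by
    rw [hP₀, CoprimeAction.card_sylow_map]
    have h1 : (Nat.card Z).factorization p ≤ 1 := le_trans ((Nat.factorization_le_iff_dvd Nat.card_pos.ne'
      Nat.card_pos.ne').2 (Subgroup.card_dvd_of_le inf_le_left) p) hKp
    have h2 := hp.out.factorization_pos_of_dvd Nat.card_pos.ne' hpZ
    rw [show (Nat.card Z).factorization p = 1 by omega, pow_one]
  have hP₀p : IsPGroup p P₀ := S₀.isPGroup'.map _
  have hP₀Z : P₀ ≤ Z := Subgroup.map_subtype_le _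
  have hP₀K : P₀ ≤ K := hP₀Z.trans inf_le_left
  have hRσ : R ≤ Subgroup.normalizer (Cfsg.sigmaCore M : Set G) := hRM.trans (le_normalizer_sigmaCore M)
  have hP₀R : P₀ ≤ Subgroup.centralizer (R : Set G) := by
    rw [← Subgroup.commutator_eq_bot_iff_le_centralizer, eq_bot_iff]
    refine le_trans (le_inf (CoprimeAction.commutator_le_of_normalizer hS₀) ?_)
      (CoprimeAction.inf_eq_bot_of_coprime (A := P₀) (K := Cfsg.sigmaCore M) (by
        rw [hP₀c]
        exact (Nat.Prime.coprime_iff_not_dvd hp.out).2 (not_dvd_card_sigmaCore hps))).le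
    rw [Subgroup.commutator_le]
    intro k hk b hb
    have hk' := hP₀K hk
    rw [hK, sup_comm] at hk'
    obtain ⟨y, hy, s, hs, rfl⟩ := CoprimeAction.exists_mul_of_mem_sup hYσn hk'
    have hyb : y * b * y⁻¹ = b := by
      rw [← Subgroup.mem_centralizer_iff.1 (hYR hy) b hb, mul_inv_cancel_right]
    rw [show ⁅y * s, b⁆ = y * (s * (b * s⁻¹ * b⁻¹)) * y⁻¹ * ((y * b * y⁻¹) * b⁻¹) by
      rw [commutatorElement_def]; group, hyb, mul_inv_cancel, mul_one]
    exact (Subgroup.mem_normalizer_iff.1 (hYσn hy) _).1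
      (mul_mem hs ((Subgroup.mem_normalizer_iff.1 (hRσ hb) _).1 (inv_mem hs)))
  have hqMb : q ∉ Cfsg.beta M := not_beta_of_sigma hG hN hM (not_conj_symm hnc) hqN
  have hqp : q ≠ p := fun e => hps (e ▸ hqM)
  have hP₀T : P₀ ≤ Subgroup.centralizer (Tg : Set G) :=
    le_centralizer_of_derived hG hM hqMb T.isPGroup' hTM (hP₀K.trans hKd)
      (card_coprime (p := q) (q := p) hP₀p hqp.symm) (hP₀Z.trans inf_le_right)
  have hP₀N : P₀ ≤ N := hP₀T.trans ((Subgroup.centralizer_le_normalizer _).trans (hNT.trans inf_le_right))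
  -- an invariant Sylow subgroup in `N_α`
  have hKN : Cfsg.alphaCore N ≤ N := Subgroup.map_subtype_le _
  haveI : Group.IsSolvable ↥(Cfsg.alphaCore N) := isSolvable_of_ne_top hG fun h => hN.1 (top_le_iff.1 (h ▸ hKN))
  have hqa : q ∉ Cfsg.alpha N := not_alpha_of_sigma hG hM hN hnc hqM
  have hra : r ∉ Cfsg.alpha N := fun h => hrN.2.1 (mem_sigma_of_alpha hG hN h)
  set X := Tg ⊔ R with hX
  have hXc : (Nat.card X).Coprime (Nat.card ↥(Cfsg.alphaCore N)) := by
    refine Nat.coprime_of_dvd fun t ht h1 h2 => ?_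
    have ha := mem_alpha_of_dvd N ht h2
    have h := ZJ.card_sup_mul_card_inf_of_le_normalizer hRn
    rw [hX, sup_comm] at h1
    rcases ht.dvd_mul.1 (h ▸ h1.trans (dvd_mul_right _ _)) with h3 | h3
    · rw [hR] at h3
      exact hra ((Nat.prime_dvd_prime_iff_eq ht hr.out).1 h3 ▸ ha)
    · exact hqa (primes_of_pgroup hq.out T.isPGroup' t ht h3 ▸ ha)
  have hXP : X ≤ Subgroup.centralizer (P₀ : Set G) :=
    sup_le (Subgroup.le_centralizer_iff.1 hP₀T) (Subgroup.le_centralizer_iff.1 hP₀R)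
  obtain ⟨S₁, hPS, hXS⟩ := CoprimeAction.exists_invariant_sylow_ge (p := p) (A := X) (K := Cfsg.alphaCore N)
    ((sup_le hTN hRN).trans (le_normalizer_alphaCore N)) hXc (Or.inr inferInstance)
    (le_alphaCore hG hN hpa hP₀p hP₀N) hP₀p (hXP.trans (Subgroup.centralizer_le_normalizer _))
  obtain ⟨S, hSS₁⟩ := IsPGroup.exists_le_sylow (S₁.isPGroup'.map (Cfsg.alphaCore N).subtype)
  obtain ⟨P₂, hSP₂, hP₂N, -⟩ := exists_sylow (mem_sigma_of_alpha hG hN hpa) (S₁.isPGroup'.map (Cfsg.alphaCore N).subtype)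
    ((Subgroup.map_subtype_le _).trans hKN)
  have hP₂e : (P₂ : Subgroup G) = (S₁ : Subgroup ↥(Cfsg.alphaCore N)).map (Cfsg.alphaCore N).subtype :=
    sylow_map_max S₁ _ P₂.isPGroup' (le_alphaCore hG hN hpa P₂.isPGroup' hP₂N) hSP₂
  rw [← hP₂e] at hPS hXS
  set Sg := (P₂ : Subgroup G) with hSg
  have hP₀1 : P₀ ≠ ⊥ := fun h => hp.out.one_lt.ne (by rw [← hP₀c, h, Subgroup.card_bot])
  have hSc : ¬ IsCyclic ↥(Sg ⊓ Subgroup.centralizer (P₀ : Set G)) := by
    intro hc
    have hS1 : Sg ≠ ⊥ := fun h => hP₀1 (le_bot_iff.1 (hPS.trans h.le))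
    obtain ⟨z, hzS, hzo, hzc⟩ := exists_elem_pow P₂.isPGroup' hS1
    haveI : IsCyclic P₀ := isCyclic_of_prime_card hP₀c
    haveI : IsMulCommutative P₀ := IsCyclic.isMulCommutative
    have hzP : z ∈ P₀ := mem_of_pow_eq_one hc
      (le_inf hPS fun a ha => Subgroup.mem_centralizer_iff.2 fun b hb => setLike_mul_comm hb ha) hP₀c
      ⟨hzS, Subgroup.mem_centralizer_iff.2 fun a ha => hzc a (hPS ha)⟩ (hzo ▸ pow_orderOf_eq_one z)
    have hzPe : Subgroup.zpowers z = P₀ :=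
      Subgroup.eq_of_le_of_card_ge (Subgroup.zpowers_le.2 hzP) (by rw [Nat.card_zpowers, hzo, hP₀c])
    have hSS : Sg ≤ Sg ⊓ Subgroup.centralizer (P₀ : Set G) := le_inf le_rfl fun a ha => by
      rw [← hzPe, centralizer_zpowers]
      exact Subgroup.mem_centralizer_singleton_iff.2 (hzc a ha)
    obtain ⟨B, -, hB, hBc⟩ := exists_elem_of_not_prank hpa.2
    obtain ⟨B', hBB'⟩ := IsPGroup.exists_le_sylow (isPGroup_of_elementary hB)
    obtain ⟨a, ha⟩ := MulAction.exists_smul_eq G B' P₂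
    have hBS : B.map (MulAut.conj a).toMonoidHom ≤ Sg :=
      (Subgroup.map_mono hBB').trans (by rw [hSg, ← ha]; rfl)
    haveI := hc
    refine not_isCyclic_of_elementary (elementary_map_conj hB a) (p := p) ?_ (isCyclic_of_injective
      (Subgroup.inclusion (hBS.trans hSS)) (Subgroup.inclusion_injective _))
    rw [card_map_conj, hBc]
    exact lt_self_pow₀ hp.out.one_lt (by norm_num)
  have hp2 : p ≠ 2 := ne_two hG ((hY ▸ dvd_rfl : p ∣ Nat.card Y).trans (Subgroup.card_subgroup_dvd_card Y))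
  have hq2 : q ≠ 2 := ne_two hG (hqN.2.1.trans (Subgroup.card_subgroup_dvd_card N))
  obtain ⟨B, hBS, hBexp, hBn, A, hAB, hA, hAc⟩ := exists_exponent_subgroup hp2 (P₂.isPGroup'.to_le inf_le_left) hSc
  have hXB : X ≤ Subgroup.normalizer (B : Set G) :=
    ((le_inf hXS ((hXP.trans Subgroup.le_normalizer))).trans Subgroup.inf_normalizer_le_normalizer_inf).trans hBn
  have hTB : Tg ≤ Subgroup.centralizer (B : Set G) :=
    le_centralizer_of_cyclic_fixed (r := r) hP₀c hqp.symm hrp.symm (fun e => hrs (e ▸ hqM) : q ≠ r) hq2 T.isPGroup' hR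
      (commutator_eq_of_moving hG hM hN hnc hqM hqN T hNT hR hrM hRn) hRn (hBS.trans inf_le_right)
      (le_sup_left.trans hXP) (le_sup_right.trans hXP) hBexp (le_sup_left.trans hXB) (le_sup_right.trans hXB)
      (Z := Sg ⊓ Subgroup.centralizer (R : Set G))
      (isCyclic_centralizer_of_beta hG hN hb hrN.2.1 hrN.2.2.2.2 hR (P₂.isPGroup'.to_le inf_le_left) inf_le_right)
      (le_inf hPS hP₀R) (inf_le_inf (hBS.trans inf_le_left) le_rfl)
  exact elementary_card_contra hrk ((hAB.trans (Subgroup.le_centralizer_iff.1 hTB)).trans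
    ((Subgroup.centralizer_le_normalizer _).trans (hNT.trans inf_le_left))) hA hAc

omit hp in
/-- The moving line fixes a `β(M)`-element whose centralizer lies only in `M`. -/
theorem exists_beta_line (hG : Cfsg.IsMinSimpleOddOrder G) (hM : IsCoatom M) (hN : IsCoatom N)
    (hnc : ∀ g : G, N ≠ M.map (MulAut.conj g).toMonoidHom) (hqM : q ∈ Cfsg.sigma M) (hqN : q ∈ Cfsg.sigma N)
    (T : Sylow q G) (hNT : Subgroup.normalizer ((T : Subgroup G) : Set G) ≤ M ⊓ N)
    (hR : Nat.card R = r) (hrM : r ∈ Cfsg.tau1 M) (hRn : R ≤ Subgroup.normalizer ((T : Subgroup G) : Set G)) :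
    ∃ (u : ℕ) (Y : Subgroup G), u.Prime ∧ u ∈ Cfsg.beta M ∧ Nat.card Y = u ∧
      Y ≤ Cfsg.sigmaCore M ⊓ Subgroup.centralizer (R : Set G) ∧ Subgroup.normalizer (Y : Set G) ≤ M := by
  set Tg := (T : Subgroup G) with hTg
  have hTM : Tg ≤ M := Subgroup.le_normalizer.trans (hNT.trans inf_le_left)
  have hRM : R ≤ M := hRn.trans (hNT.trans inf_le_left)
  set B := Cfsg.piCoreOf (Cfsg.beta M) M with hB
  have hB1 : B ≠ ⊥ := by
    intro h
    have hcov := le_betaCore_sup_normalizer hG hM hqM (T.subtype hTM)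
    rw [Sylow.coe_subtype, Subgroup.map_subgroupOf_eq_of_le hTM, ← hB, h, bot_sup_eq] at hcov
    have hMN : M ≤ N := hcov.trans (inf_le_right.trans (hNT.trans inf_le_right))
    rcases eq_or_lt_of_le hMN with e | hlt
    · exact hnc 1 (by rw [map_conj_one, e])
    · exact hN.1 (hM.2 N hlt)
  obtain ⟨u, hu, hud⟩ := Nat.exists_prime_and_dvd (fun e => hB1 (Subgroup.card_eq_one.1 e))
  haveI := Fact.mk hu
  have hub : u ∈ Cfsg.beta M := (betaCore_hallOf hG hM).2.1 u hu hud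
  have hKM : Cfsg.alphaCore M ≤ M := Subgroup.map_subtype_le _
  haveI : Group.IsSolvable ↥(Cfsg.alphaCore M) := isSolvable_of_ne_top hG fun h => hM.1 (top_le_iff.1 (h ▸ hKM))
  set X := Tg ⊔ R with hX
  have hqa : q ∉ Cfsg.alpha M := not_alpha_of_sigma hG hN hM (not_conj_symm hnc) hqN
  have hra : r ∉ Cfsg.alpha M := fun h => hrM.2.1 (mem_sigma_of_alpha hG hM h)
  have hXc : (Nat.card X).Coprime (Nat.card ↥(Cfsg.alphaCore M)) := by
    refine Nat.coprime_of_dvd fun t ht h1 h2 => ?_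
    have ha := mem_alpha_of_dvd M ht h2
    have h := ZJ.card_sup_mul_card_inf_of_le_normalizer hRn
    rw [hX, sup_comm] at h1
    rcases ht.dvd_mul.1 (h ▸ h1.trans (dvd_mul_right _ _)) with h3 | h3
    · rw [hR] at h3
      exact hra ((Nat.prime_dvd_prime_iff_eq ht hr.out).1 h3 ▸ ha)
    · exact hqa (primes_of_pgroup hq.out T.isPGroup' t ht h3 ▸ ha)
  obtain ⟨S₁, hXS⟩ := CoprimeAction.exists_invariant_sylow (A := X) (K := Cfsg.alphaCore M)
    ((sup_le hTM hRM).trans (le_normalizer_alphaCore M)) hXc (Or.inr inferInstance) u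
  set S := (S₁ : Subgroup ↥(Cfsg.alphaCore M)).map (Cfsg.alphaCore M).subtype with hS
  have hSM : S ≤ M := (Subgroup.map_subtype_le _).trans hKM
  have hfix : S ⊓ Subgroup.centralizer (R : Set G) ≠ ⊥ := by
    intro h
    have hur : u ≠ r := fun e => hra (e ▸ hub.1)
    have huq : u ≠ q := fun e => hqa (e ▸ hub.1)
    have hq2 : q ≠ 2 := ne_two hG (hqN.2.1.trans (Subgroup.card_subgroup_dvd_card N))
    have hc := PrimeAction.commutator_le_centralizer hu hq.out hr.out huq hur (fun e => hrM.2.1 (e ▸ hqM) : q ≠ r) hq2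
      T.isPGroup' hR (S₁.isPGroup'.map _) hRn (le_sup_left.trans hXS) (le_sup_right.trans hXS) h
    rw [commutator_eq_of_moving hG hM hN hnc hqM hqN T hNT hR hrM hRn, ← hTg, ← hS] at hc
    have hSN : S ≤ N := (Subgroup.le_centralizer_iff.1 hc).trans
      ((Subgroup.centralizer_le_normalizer _).trans (hNT.trans inf_le_right))
    have hcyc : IsCyclic S := isCyclic_of_ideal hG hN hub.2
      (fun hs => not_alpha_of_sigma hG hN hM (not_conj_symm hnc) hs hub.1) (S₁.isPGroup'.map _) hSN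
    obtain ⟨B', -, hB', hBc'⟩ := exists_elem_of_not_prank hub.1.2
    obtain ⟨P₂, hSP₂, hP₂M, -⟩ := exists_sylow (mem_sigma_of_alpha hG hM hub.1) (S₁.isPGroup'.map _) hSM
    have hP₂e : (P₂ : Subgroup G) = S := sylow_map_max S₁ _ P₂.isPGroup'
      (le_alphaCore hG hM hub.1 P₂.isPGroup' hP₂M) hSP₂
    obtain ⟨B'', hBB''⟩ := IsPGroup.exists_le_sylow (isPGroup_of_elementary hB')
    obtain ⟨a, ha⟩ := MulAction.exists_smul_eq G B'' P₂
    have hBS : B'.map (MulAut.conj a).toMonoidHom ≤ S :=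
      (Subgroup.map_mono hBB'').trans (by rw [← hP₂e, ← ha]; rfl)
    refine not_isCyclic_of_elementary (elementary_map_conj hB' a) (p := u) ?_ (isCyclic_of_injective
      (Subgroup.inclusion hBS) (Subgroup.inclusion_injective _))
    rw [card_map_conj, hBc']
    exact lt_self_pow₀ hu.one_lt (by norm_num)
  have hdvd : u ∣ Nat.card ↥(S ⊓ Subgroup.centralizer (R : Set G)) :=
    dvd_card_of_ne_bot ((S₁.isPGroup'.map _).to_le inf_le_left) hfix
  obtain ⟨⟨w, hw⟩, hwo⟩ := exists_prime_orderOf_dvd_card' u hdvd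
  rw [Subgroup.orderOf_mk] at hwo
  have hwM : w ∈ M := hSM hw.1
  obtain ⟨hU, hC⟩ := unique_centralizer_of_beta hG hM hub hwM hwo
  refine ⟨u, Subgroup.zpowers w, hu, hub, by rw [Nat.card_zpowers, hwo],
    Subgroup.zpowers_le.2 ⟨alphaCore_le_sigmaCore hG hM (Subgroup.map_subtype_le _ hw.1), hw.2⟩, ?_⟩
  have hw1 : w ≠ 1 := fun h => hu.one_lt.ne (by rw [← hwo, h, orderOf_one])
  obtain ⟨L, hL, hNL⟩ := exists_coatom_ge (normalizer_zpowers_ne_top hG hw1)
  have hCL : Subgroup.centralizer ({w} : Set G) ≤ L := by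
    rw [← centralizer_zpowers]
    exact (Subgroup.centralizer_le_normalizer _).trans hNL
  exact hU.unique ⟨hM, hC⟩ ⟨hL, hCL⟩ ▸ hNL

omit hp in
/-- Two maximal subgroups over the normalizer of a common Sylow subgroup are conjugate. -/
theorem false_of_shared_normalizer (hG : Cfsg.IsMinSimpleOddOrder G) (hM : IsCoatom M) (hN : IsCoatom N)
    (hnc : ∀ g : G, N ≠ M.map (MulAut.conj g).toMonoidHom) (hqM : q ∈ Cfsg.sigma M) (hqN : q ∈ Cfsg.sigma N)
    (T : Sylow q G) (hNT : Subgroup.normalizer ((T : Subgroup G) : Set G) ≤ M ⊓ N) : False := by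
  obtain ⟨t, R, ht, htM, htN, hR, hRn⟩ := exists_moving_line hG hM hN hnc hqM hqN T hNT
  haveI := Fact.mk ht
  obtain ⟨u, Y, hu, hub, hY, hYR, hNY⟩ := exists_beta_line hG hM hN hnc hqM hqN T hNT hR htM hRn
  obtain ⟨u', Y', hu', hub', hY', hYR', hNY'⟩ := exists_beta_line hG hN hM (not_conj_symm hnc) hqN hqM T
    (by rwa [inf_comm]) hR htN hRn
  haveI := Fact.mk hu
  haveI := Fact.mk hu'
  have hRM : R ≤ M := hRn.trans (hNT.trans inf_le_left)
  obtain ⟨L, hL, hNL, -, hncL, -⟩ := exists_max_normalizer hG hM htM.2.1 htM.2.2.2.2 hR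
  have hY1 : Y ≠ ⊥ := fun h => hu.one_lt.ne (by rw [← hY, h, Subgroup.card_bot])
  have hrL : t ∈ Cfsg.sigma L := mem_sigma_neighbour hG hM htM.2.1 htM.2.2.2.2 hR hRM
    (fun h => hY1 (le_bot_iff.1 (hYR.trans h.le))) hL hNL
  have hncL' : ∀ g : G, L ≠ N.map (MulAut.conj g).toMonoidHom := by
    rintro g rfl
    exact htN.2.1 ((mem_sigma_conj_iff g).1 hrL)
  set C := Subgroup.centralizer (R : Set G) with hC
  have hCL : C ≤ L := (Subgroup.centralizer_le_normalizer _).trans hNL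
  have hus : u ∉ Cfsg.sigma L := fun h => not_alpha_of_sigma hG hL hM (not_conj_symm hncL) h hub.1
  have hus' : u' ∉ Cfsg.sigma L := fun h => not_alpha_of_sigma hG hL hN (not_conj_symm hncL') h hub'.1
  have huk : Cfsg.PRankLE u 1 ↥L := by
    by_contra h
    exact not_ideal hG hL hus h hub.2
  have huk' : Cfsg.PRankLE u' 1 ↥L := by
    by_contra h
    exact not_ideal hG hL hus' h hub'.2
  have hYC : Y ≤ C := hYR.trans inf_le_right
  have hYC' : Y' ≤ C := hYR'.trans inf_le_right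
  have hYp : IsPGroup u Y := IsPGroup.of_card (n := 1) (by rw [hY, pow_one])
  have hYp' : IsPGroup u' Y' := IsPGroup.of_card (n := 1) (by rw [hY', pow_one])
  haveI : Group.IsSolvable C := isSolvable_of_ne_top hG fun h => hL.1 (top_le_iff.1 (h ▸ hCL))
  -- a conjugate of `Y'` under `C_G(R)` normalizing `Y`, or conversely
  have hstep : ∀ (π : Set ℕ), (∀ s, s = u ∨ s = u' → s ∈ π) →
      ∃ (F : Subgroup G) (c : G), c ∈ C ∧ Y ≤ F ∧ Y'.map (MulAut.conj c).toMonoidHom ≤ F ∧ F ≤ L ∧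
        ∀ s : ℕ, s.Prime → s ∣ Nat.card F → s ∈ π := by
    intro π hπ
    obtain ⟨F, hYF, hF, hconj⟩ := exists_hall_over (π := π) hYC fun s hs hd =>
      hπ s (Or.inl (primes_of_pgroup hu hYp s hs hd))
    obtain ⟨c, hc, hcF⟩ := hconj Y' hYC' fun s hs hd => hπ s (Or.inr (primes_of_pgroup hu' hYp' s hs hd))
    exact ⟨F, c, hc, hYF, hcF, hF.1.trans hCL, fun s hs hd => hF.2.1 s hs hd⟩
  have hline : ∀ {s : ℕ} [Fact s.Prime] {E Z : Subgroup G}, Cfsg.IsComplIn E (Cfsg.sigmaCore L) L → s ∉ Cfsg.sigma L →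
      Cfsg.PRankLE s 1 ↥L → Nat.card Z = s → Z ≤ E → s ∣ Nat.card ↥⁅L, L⁆ → E ≤ Subgroup.normalizer (Z : Set G) := by
    intro s _ E Z hE hss hsk hZ hZE hd
    have hZd := le_derived_of_dvd hG hL hE hss hsk hd (IsPGroup.of_card (n := 1) (by rw [hZ, pow_one])) hZE
    intro e he
    refine mem_normalizer_of_map_le ?_
    have hn := le_normalizer_sigmaCore_sup_line hG hL hss hsk hZ hZd (hE.1 he)
    rintro _ ⟨z, hz, rfl⟩
    have h : e * z * e⁻¹ ∈ Cfsg.sigmaCore L ⊔ Z := (Subgroup.mem_normalizer_iff.1 hn z).1 (Subgroup.mem_sup_right hz)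
    rw [sup_comm] at h
    obtain ⟨a, ha, b, hb, hab⟩ := CoprimeAction.exists_mul_of_mem_sup
      ((hZE.trans hE.1).trans (le_normalizer_sigmaCore L)) h
    have hbE : b ∈ E := by
      have h' : a⁻¹ * (e * z * e⁻¹) ∈ E := mul_mem (inv_mem (hZE ha)) (mul_mem (mul_mem he (hZE hz)) (inv_mem he))
      rwa [← hab, inv_mul_cancel_left] at h'
    have hb1 : b = 1 := Subgroup.mem_bot.1 (hE.2.2.1.le (Subgroup.mem_inf.2 ⟨hbE, hb⟩))
    show e * z * e⁻¹ ∈ Z
    rw [← hab, hb1, mul_one]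
    exact ha
  have hR1 : ∀ {s : ℕ} (Z : Subgroup G), Nat.card Z = s → ∀ c : G, Nat.card ↥(Z.map (MulAut.conj c).toMonoidHom) = s :=
    fun Z hZ c => by rw [card_map_conj, hZ]
  have hcase1 : (∃ c ∈ C, Y'.map (MulAut.conj c).toMonoidHom ≤ Subgroup.normalizer (Y : Set G)) → False := by
    rintro ⟨c, hc, hle⟩
    exact false_of_shared_line (r := t) hG hM hN hnc hqM hqN T hNT hub' hR htM htN hRn (hR1 Y' hY' c)
      (hle.trans hNY) (by
        rintro _ ⟨y, hy, rfl⟩
        exact mul_mem (mul_mem hc (hYC' hy)) (inv_mem hc))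
  have hcase2 : (∃ c ∈ C, Y.map (MulAut.conj c).toMonoidHom ≤ Subgroup.normalizer (Y' : Set G)) → False := by
    rintro ⟨c, hc, hle⟩
    exact false_of_shared_line (r := t) hG hN hM (not_conj_symm hnc) hqN hqM T (by rwa [inf_comm]) hub hR htN htM hRn
      (hR1 Y hY c) (hle.trans hNY') (by
        rintro _ ⟨y, hy, rfl⟩
        exact mul_mem (mul_mem hc (hYC hy)) (inv_mem hc))
  by_cases hd : u ∣ Nat.card ↥⁅L, L⁆
  · obtain ⟨F, c, hc, hYF, hcF, hFL, hFπ⟩ := hstep {s | s ∉ Cfsg.sigma L} (by rintro s (rfl | rfl) <;> assumption)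
    obtain ⟨E, hFE, hE⟩ := exists_complement_ge hG hL hFL hFπ
    exact hcase1 ⟨c, hc, (hcF.trans hFE).trans (hline hE hus huk hY (hYF.trans hFE) hd)⟩
  by_cases hd' : u' ∣ Nat.card ↥⁅L, L⁆
  · obtain ⟨F, c, hc, hYF, hcF, hFL, hFπ⟩ := hstep {s | s ∉ Cfsg.sigma L} (by rintro s (rfl | rfl) <;> assumption)
    obtain ⟨E, hFE, hE⟩ := exists_complement_ge hG hL hFL hFπ
    have hn := (hYF.trans hFE).trans (hline hE hus' huk' (hR1 Y' hY' c) (hcF.trans hFE) hd')
    refine hcase2 ⟨c⁻¹, inv_mem hc, fun x hx => ?_⟩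
    obtain ⟨y, hy, rfl⟩ := hx
    refine mem_normalizer_of_map_le ?_
    rintro _ ⟨a, ha, rfl⟩
    have h := (Subgroup.mem_normalizer_iff.1 (hn hy) (c * a * c⁻¹)).1 ⟨a, ha, rfl⟩
    obtain ⟨b, hb, hbe⟩ := h
    show c⁻¹ * y * c⁻¹⁻¹ * a * (c⁻¹ * y * c⁻¹⁻¹)⁻¹ ∈ Y'
    have he : c * b * c⁻¹ = y * (c * a * c⁻¹) * y⁻¹ := hbe
    have h2 : c⁻¹ * y * c⁻¹⁻¹ * a * (c⁻¹ * y * c⁻¹⁻¹)⁻¹ = b := by
      calc c⁻¹ * y * c⁻¹⁻¹ * a * (c⁻¹ * y * c⁻¹⁻¹)⁻¹ = c⁻¹ * (y * (c * a * c⁻¹) * y⁻¹) * c := by group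
        _ = c⁻¹ * (c * b * c⁻¹) * c := by rw [he]
        _ = b := by group
    rw [h2]
    exact hb
  · have h1 : u ∈ Cfsg.tau1 L := ⟨hu, hus, hY ▸ Subgroup.card_dvd_of_le (hYC.trans hCL), hd, huk⟩
    have h2 : u' ∈ Cfsg.tau1 L := ⟨hu', hus', hY' ▸ Subgroup.card_dvd_of_le (hYC'.trans hCL), hd', huk'⟩
    obtain ⟨F, c, hc, hYF, hcF, hFL, hFπ⟩ := hstep (Cfsg.tau1 L) (by rintro s (rfl | rfl) <;> assumption)
    haveI : IsCyclic F := isCyclic_of_tau_one_group hG hL hFL hFπ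
    haveI : IsMulCommutative F := IsCyclic.isMulCommutative
    refine hcase1 ⟨c, hc, hcF.trans (fun x hx => Subgroup.centralizer_le_normalizer _ ?_)⟩
    exact Subgroup.mem_centralizer_iff.2 fun y hy => setLike_mul_comm (hYF hy) hx

omit hp hr in
/-- B&G 13.9. -/
theorem sigma_disjoint (hG : Cfsg.IsMinSimpleOddOrder G) (hM : IsCoatom M) (hN : IsCoatom N)
    (hnc : ∀ g : G, N ≠ M.map (MulAut.conj g).toMonoidHom) (hqM : q ∈ Cfsg.sigma M) : q ∉ Cfsg.sigma N := by
  intro hqN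
  obtain ⟨T, -, hTM, hNTM⟩ := exists_sylow hqM (IsPGroup.of_bot (p := q) (G := G)) bot_le
  obtain ⟨T', -, hTN, hNTN⟩ := exists_sylow hqN (IsPGroup.of_bot (p := q) (G := G)) bot_le
  obtain ⟨g, hg⟩ := MulAction.exists_smul_eq G T' T
  have he : (T : Subgroup G) = (T' : Subgroup G).map (MulAut.conj g).toMonoidHom := by rw [← hg]; rfl
  set N' := N.map (MulAut.conj g).toMonoidHom with hN'
  have hNT : Subgroup.normalizer ((T : Subgroup G) : Set G) ≤ N' := by
    rw [he, show Subgroup.normalizer (((T' : Subgroup G).map (MulAut.conj g).toMonoidHom : Subgroup G) : Set G) =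
      (Subgroup.normalizer ((T' : Subgroup G) : Set G)).map (MulAut.conj g).toMonoidHom from
        (Subgroup.map_equiv_normalizer_eq _ (MulAut.conj g)).symm]
    exact Subgroup.map_mono hNTN
  have hnc' : ∀ h : G, N' ≠ M.map (MulAut.conj h).toMonoidHom := fun h e => hnc (g⁻¹ * h) (by
    rw [← map_conj_map, ← e, hN', map_conj_map, inv_mul_cancel, map_conj_one])
  exact false_of_shared_normalizer hG hM (isCoatom_map _ hN) hnc' hqM (mem_sigma_conj hqN g) T (le_inf hNTM hNT)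

end CfsgLib.SigmaGroups
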