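import Cfsg.Agent.Sigma.TauOneTools

/-!
For `p ∈ τ₁(M)`, a line `P ≤ M` of order `p` and a maximal `N ⊇ N_G(P)`, the sets `σ(M)` and `σ(N)`
are disjoint.
-/

set_option autoImplicit false
set_option linter.unusedSectionVars false
set_option linter.style.haveILetI false

namespace CfsgLib.SigmaGroups

open CfsgLib.BenderUnique CfsgLib.Uniq
open scoped commutatorElement

universe u

variable {G : Type u} [Group G] [Finite G] {p : ℕ} [hp : Fact p.Prime] {M N P : Subgroup G}

theorem centralizer_of_bot {R Y : Subgroup G} (h : R = ⊥) : Y ≤ Subgroup.centralizer (R : Set G) := by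
  subst h
  exact fun y _ => Subgroup.mem_centralizer_iff.2 fun t ht => by
    rw [SetLike.mem_coe, Subgroup.mem_bot] at ht
    rw [ht, one_mul, mul_one]

/-- A shared `σ`-Sylow centralized by the line. -/
theorem exists_shared_sylow (hG : Cfsg.IsMinSimpleOddOrder G) (hM : IsCoatom M) (hN : IsCoatom N)
    (hnc : ∀ g : G, N ≠ M.map (MulAut.conj g).toMonoidHom) (hps : p ∉ Cfsg.sigma M) (hpN : p ∈ Cfsg.sigma N)
    (hP : Nat.card P = p) (hPM : P ≤ M) (hNP : Subgroup.normalizer (P : Set G) ≤ N) {q : ℕ} [hq : Fact q.Prime]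
    (hqM : q ∈ Cfsg.sigma M) (hqN : q ∈ Cfsg.sigma N) :
    ∃ T : Sylow q G, (T : Subgroup G) ≤ Subgroup.centralizer (P : Set G) ∧ (T : Subgroup G) ≤ M ∧
      (T : Subgroup G) ≤ N ∧ Subgroup.normalizer ((T : Subgroup G) : Set G) ≤ M ⊓ N := by
  have hqp : q ≠ p := fun e => hps (e ▸ hqM)
  have hPp : IsPGroup p P := IsPGroup.of_card (n := 1) (by rw [hP, pow_one])
  haveI : Group.IsSolvable ↥(Cfsg.sigmaCore M) :=
    isSolvable_of_ne_top hG fun h => hM.1 (top_le_iff.1 (h ▸ Subgroup.map_subtype_le _))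
  obtain ⟨S, hS⟩ := CoprimeAction.exists_invariant_sylow (A := P) (K := Cfsg.sigmaCore M)
    (hPM.trans (le_normalizer_sigmaCore M))
    (by rw [hP]; exact (Nat.Prime.coprime_iff_not_dvd hp.out).2 (not_dvd_card_sigmaCore hps))
    (Or.inr inferInstance) q
  obtain ⟨T, hT, hTM, hNTM⟩ := exists_sylow_of_sigmaCore hG hM hqM S
  rw [← hT] at hS
  obtain ⟨T₀, -, hT₀N, hNT₀⟩ := exists_sylow hqN (IsPGroup.of_bot (p := q) (G := G)) bot_le
  obtain ⟨g, hg⟩ := MulAction.exists_smul_eq G T₀ T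
  have he : (T : Subgroup G) = (T₀ : Subgroup G).map (MulAut.conj g).toMonoidHom := by rw [← hg]; rfl
  set N' := N.map (MulAut.conj g).toMonoidHom with hN'
  have hNTN' : Subgroup.normalizer ((T : Subgroup G) : Set G) ≤ N' := by
    rw [he, show Subgroup.normalizer (((T₀ : Subgroup G).map (MulAut.conj g).toMonoidHom : Subgroup G) : Set G) =
      (Subgroup.normalizer ((T₀ : Subgroup G) : Set G)).map (MulAut.conj g).toMonoidHom from
        (Subgroup.map_equiv_normalizer_eq _ (MulAut.conj g)).symm]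
    exact Subgroup.map_mono hNT₀
  have hN'c : IsCoatom N' := isCoatom_map _ hN
  have hnc' : ∀ h : G, N' ≠ M.map (MulAut.conj h).toMonoidHom := fun h e => hnc (g⁻¹ * h) (by
    rw [← map_conj_map, ← e, hN', map_conj_map, inv_mul_cancel, map_conj_one])
  have hPT : P ≤ Subgroup.centralizer ((T : Subgroup G) : Set G) :=
    le_centralizer_of_derived hG hN'c (not_beta_of_sigma hG hM hN'c hnc' hqM) T.isPGroup'
      (Subgroup.le_normalizer.trans hNTN')
      ((le_sigmaCore hG hN'c (mem_sigma_conj hpN g) hPp (hS.trans hNTN')).trans (sigmaCore_le_derived hG hN'c))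
      (card_coprime (p := q) (q := p) hPp hqp.symm) hS
  have hTC : (T : Subgroup G) ≤ Subgroup.centralizer (P : Set G) := Subgroup.le_centralizer_iff.1 hPT
  have hTN : (T : Subgroup G) ≤ N := (hTC.trans (Subgroup.centralizer_le_normalizer _)).trans hNP
  obtain ⟨T₁, hTT₁, -, hNT₁⟩ := exists_sylow hqN T.isPGroup' hTN
  rw [T.is_maximal' T₁.isPGroup' hTT₁] at hNT₁
  exact ⟨T, hTC, hTM, hTN, le_inf hNTM hNT₁⟩

/-- The case `p ∉ β(N)`. -/
theorem false_of_shared_not_beta (hG : Cfsg.IsMinSimpleOddOrder G) (hM : IsCoatom M) (hN : IsCoatom N)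
    (hnc : ∀ g : G, N ≠ M.map (MulAut.conj g).toMonoidHom) (hd : ¬ p ∣ Nat.card ↥⁅M, M⁆)
    (hpN : p ∈ Cfsg.sigma N) (hb : p ∉ Cfsg.beta N) (hP : Nat.card P = p) {q : ℕ} [hq : Fact q.Prime]
    (hqp : q ≠ p) (hqM : q ∈ Cfsg.sigma M) (hqN : q ∈ Cfsg.sigma N) (T : Sylow q G)
    (hTP : (T : Subgroup G) ≤ Subgroup.centralizer (P : Set G)) (hTN : (T : Subgroup G) ≤ N)
    (hPN : P ≤ N) (hNT : Subgroup.normalizer ((T : Subgroup G) : Set G) ≤ M ⊓ N) : False := by
  haveI := PCore.pPrimeCore_characteristic q ↥(commutator N)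
  haveI := isSolvable_of_ne_top hG hN.1
  have hqb := not_beta_of_sigma hG hM hN hnc hqM
  set K0 : Subgroup N := (Cfsg.pPrimeCore q ↥(commutator N)).map (commutator N).subtype with hK0
  haveI : K0.Normal := inferInstance
  set K := K0.map N.subtype with hK
  have hKN : K ≤ N := Subgroup.map_subtype_le _
  have hKn : N ≤ Subgroup.normalizer (K : Set G) := by
    rw [← Subgroup.normal_subgroupOf_iff_le_normalizer (Subgroup.map_subtype_le _), Subgroup.subgroupOf,
      Subgroup.comap_map_eq_self_of_injective N.subtype_injective]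
    infer_instance
  have hKq : ¬ q ∣ Nat.card K := by
    rw [hK, Subgroup.card_map_of_injective N.subtype_injective, hK0,
      Subgroup.card_map_of_injective (commutator N).subtype_injective]
    exact PCore.not_dvd_card_pPrimeCore q _
  have hle : ∀ U : Subgroup G, IsPGroup p U → U ≤ ⁅N, N⁆ → U ≤ K := by
    intro U hU hU'
    have hUN : U ≤ N := hU'.trans (Subgroup.commutator_le_self N)
    have hU'' : U.subgroupOf N ≤ commutator N := by
      rw [← Subgroup.map_le_map_iff_of_injective N.subtype_injective, Subgroup.map_subgroupOf_eq_of_le hUN,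
        Subgroup.map_subtype_commutator]
      exact hU'
    rw [← Subgroup.map_subgroupOf_eq_of_le hUN, ← Subgroup.map_subgroupOf_eq_of_le hU'']
    refine Subgroup.map_mono (Subgroup.map_mono ((structure_of_not_beta hG hN hqN.2.1 hqb).2.2 _ ?_))
    rw [Nat.card_congr (Subgroup.subgroupOfEquivOfLe hU'').toEquiv,
      Nat.card_congr (Subgroup.subgroupOfEquivOfLe hUN).toEquiv]
    exact card_coprime (p := q) (q := p) hU hqp.symm
  have hPp : IsPGroup p P := IsPGroup.of_card (n := 1) (by rw [hP, pow_one])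
  haveI : Group.IsSolvable K := isSolvable_of_ne_top hG fun h => hN.1 (top_le_iff.1 (h ▸ hKN))
  obtain ⟨S, hPS, hTS⟩ := CoprimeAction.exists_invariant_sylow_ge (p := p) (K := K) (A := (T : Subgroup G))
    (hTN.trans hKn) (by
      obtain ⟨n, hn⟩ := T.isPGroup'.exists_card_eq
      rw [hn]
      exact ((Nat.Prime.coprime_iff_not_dvd hq.out).2 hKq).pow_left n)
    (Or.inr inferInstance) (hle P hPp ((le_sigmaCore hG hN hpN hPp hPN).trans (sigmaCore_le_derived hG hN))) hPp
    (hTP.trans ((Subgroup.centralizer_le_normalizer _)))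
  set S' := (S : Subgroup K).map K.subtype with hS'
  have hS'p : IsPGroup p S' := S.isPGroup'.map _
  have hS'N : S' ≤ N := (Subgroup.map_subtype_le _).trans hKN
  obtain ⟨P₀, hSP₀, hP₀N, -⟩ := exists_sylow hpN hS'p hS'N
  have heq : (P₀ : Subgroup G) = S' := sylow_map_max S _ P₀.isPGroup'
    (hle _ P₀.isPGroup' (sylow_le_derived_sigma hG hN hpN P₀ hP₀N)) hSP₀
  have hTd : (T : Subgroup G) ≤ ⁅N, N⁆ := sylow_le_derived_sigma hG hN hqN T hTN
  have hTC := le_centralizer_of_derived hG hN hb hS'p hS'N hTd (card_coprime (p := p) (q := q) T.isPGroup' hqp) hTS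
  have hSM : S' ≤ N ⊓ Subgroup.normalizer ((T : Subgroup G) : Set G) :=
    le_inf hS'N ((Subgroup.le_centralizer_iff.1 hTC).trans (Subgroup.centralizer_le_normalizer _))
  have hcov := le_betaCore_sup_normalizer hG hN hqN (T.subtype hTN)
  rw [Sylow.coe_subtype, Subgroup.map_subgroupOf_eq_of_le hTN] at hcov
  set B := Cfsg.piCoreOf (Cfsg.beta N) N with hB
  have hBn : N ≤ Subgroup.normalizer (B : Set G) := by
    rw [hB, Cfsg.piCoreOf, ← Subgroup.normal_subgroupOf_iff_le_normalizer (Subgroup.map_subtype_le _),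
      Subgroup.subgroupOf, Subgroup.comap_map_eq_self_of_injective N.subtype_injective]
    infer_instance
  have hBp : ¬ p ∣ Nat.card B := fun h => hb ((betaCore_hallOf hG hN).2.1 p hp.out h)
  refine not_dvd_derived_of_sup (D := N ⊓ M) (inf_le_left.trans hBn)
    (hcov.trans (sup_le_sup le_rfl (inf_le_inf le_rfl (hNT.trans inf_le_left)))) hBp
    (fun h => hd (h.trans (Subgroup.card_dvd_of_le (Subgroup.commutator_mono inf_le_right inf_le_right)))) ?_
  have hS1 : S' ≠ ⊥ := fun h => by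
    have := Subgroup.card_le_of_le (hPS.trans h.le)
    rw [hP, Subgroup.card_bot] at this
    exact absurd this (not_le.2 hp.out.one_lt)
  exact (dvd_card_of_ne_bot hS'p hS1).trans
    (Subgroup.card_dvd_of_le (heq ▸ sylow_le_derived_sigma hG hN hpN P₀ hP₀N))

/-- The case `p ∈ β(N)`. -/
theorem false_of_shared_beta (hG : Cfsg.IsMinSimpleOddOrder G) (hM : IsCoatom M) (hN : IsCoatom N)
    (hnc : ∀ g : G, N ≠ M.map (MulAut.conj g).toMonoidHom) (hps : p ∉ Cfsg.sigma M)
    (hr1 : Cfsg.PRankLE p 1 ↥M) (hd : ¬ p ∣ Nat.card ↥⁅M, M⁆)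
    (hb : p ∈ Cfsg.beta N) (hP : Nat.card P = p) (hPM : P ≤ M) (hPN : P ≤ N) {q : ℕ} [hq : Fact q.Prime]
    (hqp : q ≠ p) (hqM : q ∈ Cfsg.sigma M) (hqN : q ∈ Cfsg.sigma N) (T : Sylow q G)
    (hTP : (T : Subgroup G) ≤ Subgroup.centralizer (P : Set G)) (hTM : (T : Subgroup G) ≤ M)
    (hTN : (T : Subgroup G) ≤ N) (hNT : Subgroup.normalizer ((T : Subgroup G) : Set G) ≤ M ⊓ N) : False := by
  set Tg := (T : Subgroup G) with hTg
  have hne : N ≠ M := fun h => hnc 1 (by rw [map_conj_one, h])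
  have hqMb : q ∉ Cfsg.beta M := not_beta_of_sigma hG hN hM (not_conj_symm hnc) hqN
  have hqNb : q ∉ Cfsg.beta N := not_beta_of_sigma hG hM hN hnc hqM
  haveI hTab : IsMulCommutative Tg := by
    by_contra h
    exact hne ((nonabelian_unique hG T.isPGroup' h).unique ⟨hN, hTN⟩ ⟨hM, hTM⟩)
  have hT1 : Tg ≠ ⊥ := fun h => by
    have := T.dvd_card_of_dvd_card (hqN.2.1.trans (Subgroup.card_subgroup_dvd_card N))
    rw [← hTg, h, Subgroup.card_bot] at this
    exact hq.out.not_dvd_one this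
  set W := Subgroup.normalizer (Tg : Set G) with hW
  have hWM : W ≤ M := hNT.trans inf_le_left
  have hWN : W ≤ N := hNT.trans inf_le_right
  have hPp : IsPGroup p P := IsPGroup.of_card (n := 1) (by rw [hP, pow_one])
  set C := Subgroup.centralizer (Tg : Set G) with hC
  have hCW : C ≤ W := Subgroup.centralizer_le_normalizer _
  have hTC : Tg ≤ C := fun a ha => Subgroup.mem_centralizer_iff.2 fun b hb' => setLike_mul_comm hb' ha
  have hPC : P ≤ C := Subgroup.le_centralizer_iff.1 hTP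
  -- `N(T) = C(T) (N(T) ∩ C(P))`
  have hcover : ∀ w ∈ W, ∃ c ∈ C, c * w ∈ W ⊓ Subgroup.centralizer (P : Set G) := by
    intro w hw
    obtain ⟨S₁, hPS₁⟩ := exists_max_ge hPp hPC
    set U := (S₁ : Subgroup C).map C.subtype with hU
    have hUC : U ≤ C := Subgroup.map_subtype_le _
    have hUp : IsPGroup p U := S₁.isPGroup'.map _
    have hwC : w ∈ Subgroup.normalizer (C : Set G) :=
      Components.normalizer_le_normalizer_centralizer _ hw
    have hU' : U.map (MulAut.conj w).toMonoidHom ≤ C := by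
      rintro _ ⟨u, hu, rfl⟩
      exact (Subgroup.mem_normalizer_iff.1 hwC u).1 (hUC hu)
    obtain ⟨S₂, hS₂⟩ := exists_max_ge (hUp.map _) hU'
    obtain ⟨c, hc, hce⟩ := exists_conj_sylow S₂ S₁
    refine ⟨c, hc, mul_mem (hCW hc) hw, ?_⟩
    refine mem_centralizer_of_not_dvd_derived hP hPM hd (hWM (mul_mem (hCW hc) hw)) ?_
    have hfix : U.map (MulAut.conj (c * w)).toMonoidHom ≤ U := by
      rw [← map_conj_map]
      exact (Subgroup.map_mono hS₂).trans hce.le
    have hUcyc : IsCyclic U := isCyclic_of_prank_one hG hr1 (hUC.trans (hCW.trans hWM)) hUp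
    refine mem_normalizer_of_map_le ?_
    rintro _ ⟨x, hx, rfl⟩
    refine mem_of_pow_eq_one hUcyc hPS₁ hP (hfix ⟨x, hPS₁ hx, rfl⟩) ?_
    have hxp := pow_card_eq_one' (x := (⟨x, hx⟩ : P))
    rw [hP] at hxp
    rw [← map_pow, show x ^ p = 1 from congrArg Subtype.val hxp, map_one]
  set W' := W ⊓ Subgroup.centralizer (P : Set G) with hW'
  have hW'M : W' ≤ M := inf_le_left.trans hWM
  haveI : Group.IsSolvable W' := isSolvable_of_ne_top hG fun h => hM.1 (top_le_iff.1 (h ▸ hW'M))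
  obtain ⟨V, hV⟩ := Hall.exists_isPiHallOf W' {t | t.Prime ∧ t ≠ q ∧ t ∉ Cfsg.alpha N}
  have hVW : V ≤ W := hV.1.trans inf_le_left
  have hVP : V ≤ Subgroup.centralizer (P : Set G) := hV.1.trans inf_le_right
  -- an `α(N)`- or `q`-element of `W'` centralizes `T`
  have hkill : ∀ {r : ℕ} [Fact r.Prime] (U : Subgroup G), IsPGroup r U → U ≤ W' →
      (r = q ∨ r ∈ Cfsg.sigma N ∨ r ∈ Cfsg.sigma M) → U ≤ C := by
    intro r _ U hU hUW hr'
    have hUn : U ≤ W := hUW.trans inf_le_left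
    by_cases hrq : r = q
    · subst hrq
      exact (le_sup_left.trans (T.is_maximal' (IsPGroup.to_sup_of_normal_right' hU T.isPGroup' hUn) le_sup_right).le).trans hTC
    rcases hr'.resolve_left hrq with h | h
    · exact le_centralizer_of_derived hG hN hqNb T.isPGroup' hTN
        ((le_sigmaCore hG hN h hU (hUn.trans hWN)).trans (sigmaCore_le_derived hG hN))
        (card_coprime (p := q) (q := r) hU hrq) hUn
    · exact le_centralizer_of_derived hG hM hqMb T.isPGroup' hTM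
        ((le_sigmaCore hG hM h hU (hUn.trans hWM)).trans (sigmaCore_le_derived hG hM))
        (card_coprime (p := q) (q := r) hU hrq) hUn
  have hW'le : W' ≤ V ⊔ (C ⊓ W') := by
    rw [← Subgroup.relIndex_eq_one]
    refine Nat.eq_one_iff_not_exists_prime_dvd.2 fun t ht hdt => ?_
    haveI := Fact.mk ht
    by_cases htπ : t ≠ q ∧ t ∉ Cfsg.alpha N
    · refine hV.2.2 t ht ⟨ht, htπ.1, htπ.2⟩ (hdt.trans (Subgroup.index_dvd_of_le ?_))
      exact Subgroup.comap_mono le_sup_left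
    · obtain ⟨Q⟩ : Nonempty (Sylow t W') := inferInstance
      refine Q.not_dvd_index (hdt.trans (Subgroup.index_dvd_of_le fun x hx => ?_))
      refine Subgroup.mem_sup_right (Subgroup.mem_inf.2 ⟨?_, x.2⟩)
      refine hkill _ (Q.isPGroup'.map W'.subtype) (Subgroup.map_subtype_le _) ?_ ⟨x, hx, rfl⟩
      by_cases htq : t = q
      · exact Or.inl htq
      · exact Or.inr (Or.inl (mem_sigma_of_alpha hG hN (not_not.1 fun h => htπ ⟨htq, h⟩)))
  -- `T = [T, V]`
  have hTV : Tg ≤ ⁅Tg, V⁆ := by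
    obtain ⟨V₀, hV₀⟩ := exists_normalizer_complement T
    refine (sylow_eq_commutator hG T V₀ hV₀).le.trans (Subgroup.commutator_le.2 fun t ht w hw => ?_)
    obtain ⟨c, hc, hcw⟩ := hcover w (hV₀.2.1 hw)
    have hnC : V ≤ Subgroup.normalizer (C : Set G) :=
      hVW.trans (Components.normalizer_le_normalizer_centralizer _)
    have hmem : w ∈ V ⊔ C := by
      have h1 : c * w ∈ V ⊔ C := (sup_le_sup le_rfl inf_le_left : V ⊔ (C ⊓ W') ≤ V ⊔ C) (hW'le hcw)
      have h2 := mul_mem (inv_mem (Subgroup.mem_sup_right hc : c ∈ V ⊔ C)) h1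
      rwa [inv_mul_cancel_left] at h2
    obtain ⟨v, hv, k, hk, rfl⟩ := CoprimeAction.exists_mul_of_mem_sup hnC hmem
    have htk : k * t⁻¹ * k⁻¹ = t⁻¹ := by
      rw [← Subgroup.mem_centralizer_iff.1 hk t⁻¹ (inv_mem ht), mul_inv_cancel_right]
    rw [show ⁅t, v * k⁆ = t * (v * (k * t⁻¹ * k⁻¹) * v⁻¹) by rw [commutatorElement_def]; group, htk,
      show t * (v * t⁻¹ * v⁻¹) = ⁅t, v⁆ by rw [commutatorElement_def]; group]
    exact Subgroup.commutator_mem_commutator ht hv
  -- an invariant Sylow `p`-subgroup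
  have hKc : Cfsg.alphaCore N ≤ N := Subgroup.map_subtype_le _
  haveI : Group.IsSolvable ↥(Cfsg.alphaCore N) := isSolvable_of_ne_top hG fun h => hN.1 (top_le_iff.1 (h ▸ hKc))
  have hqa : q ∉ Cfsg.alpha N := not_alpha_of_sigma hG hM hN hnc hqM
  set X := Tg ⊔ V with hX
  have hXW : X ≤ W := sup_le Subgroup.le_normalizer hVW
  have hXc : (Nat.card X).Coprime (Nat.card ↥(Cfsg.alphaCore N)) := by
    refine Nat.coprime_of_dvd fun t ht h1 h2 => ?_
    have ha := mem_alpha_of_dvd N ht h2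
    have h := ZJ.card_sup_mul_card_inf_of_le_normalizer (A := V) (B := Tg) hVW
    rw [hX, sup_comm] at h1
    rcases ht.dvd_mul.1 (h ▸ h1.trans (dvd_mul_right _ _)) with h3 | h3
    · exact (hV.2.1 t ht h3).2.2 ha
    · obtain ⟨n, hn⟩ := T.isPGroup'.exists_card_eq
      rw [← hTg] at hn
      rw [hn] at h3
      exact hqa ((Nat.prime_dvd_prime_iff_eq ht hq.out).1 (ht.dvd_of_dvd_pow h3) ▸ ha)
  have hXP : X ≤ Subgroup.centralizer (P : Set G) := sup_le hTP hVP
  obtain ⟨S₀, hPS, hXS⟩ := CoprimeAction.exists_invariant_sylow_ge (p := p) (A := X) (K := Cfsg.alphaCore N)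
    ((hXW.trans hWN).trans (le_normalizer_alphaCore N)) hXc (Or.inr inferInstance)
    (le_alphaCore hG hN hb.1 hPp hPN) hPp (hXP.trans (Subgroup.centralizer_le_normalizer _))
  set S := (S₀ : Subgroup ↥(Cfsg.alphaCore N)).map (Cfsg.alphaCore N).subtype with hS
  have hSp : IsPGroup p S := S₀.isPGroup'.map _
  have hSN : S ≤ N := (Subgroup.map_subtype_le _).trans hKc
  set S₁ := S ⊓ Subgroup.centralizer (P : Set G) with hS₁
  have hS₁c : ¬ IsCyclic S₁ := by
    intro hc
    -- then `S` centralizes `P` and is cyclic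
    obtain ⟨B, hBN, hB, hBc⟩ := exists_elem_of_not_prank hb.1.2
    obtain ⟨P₀, hSP₀, hP₀N, -⟩ := exists_sylow (mem_sigma_of_alpha hG hN hb.1) hSp hSN
    have hPe : (P₀ : Subgroup G) = S := sylow_map_max S₀ _ P₀.isPGroup'
      (le_alphaCore hG hN hb.1 P₀.isPGroup' hP₀N) hSP₀
    obtain ⟨B', hBB'⟩ := IsPGroup.exists_le_sylow (isPGroup_of_elementary hB)
    obtain ⟨g, hg⟩ := MulAction.exists_smul_eq G B' P₀
    have hBS : B.map (MulAut.conj g).toMonoidHom ≤ S :=
      (Subgroup.map_mono hBB').trans (by rw [← hPe, ← hg]; rfl)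
    have hS1 : S ≠ ⊥ := fun h => by
      have := Subgroup.card_le_of_le (hPS.trans h.le)
      rw [hP, Subgroup.card_bot] at this
      exact absurd this (not_le.2 hp.out.one_lt)
    obtain ⟨z, hzS, hzo, hzc⟩ := exists_elem_pow hSp hS1
    have hz : z ∈ S₁ := ⟨hzS, Subgroup.mem_centralizer_iff.2 fun x hx => hzc x (hPS hx)⟩
    haveI : IsCyclic P := isCyclic_of_prime_card hP
    haveI : IsMulCommutative P := IsCyclic.isMulCommutative
    have hzP : z ∈ P := mem_of_pow_eq_one hc (le_inf hPS fun x hx => Subgroup.mem_centralizer_iff.2 fun y hy =>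
      setLike_mul_comm hy hx) hP hz (hzo ▸ pow_orderOf_eq_one z)
    have hzPe : Subgroup.zpowers z = P :=
      Subgroup.eq_of_le_of_card_ge (Subgroup.zpowers_le.2 hzP) (by rw [Nat.card_zpowers, hzo, hP])
    have hSS : S ≤ S₁ := le_inf le_rfl fun x hx => by
      rw [← hzPe, centralizer_zpowers]
      exact Subgroup.mem_centralizer_singleton_iff.2 (hzc x hx)
    haveI := hc
    refine not_isCyclic_of_elementary (elementary_map_conj hB g) (p := p) ?_ (isCyclic_of_injective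
      (Subgroup.inclusion (hBS.trans hSS)) (Subgroup.inclusion_injective _))
    rw [card_map_conj, hBc]
    exact lt_self_pow₀ hp.out.one_lt (by norm_num)
  have hp2 : p ≠ 2 := ne_two hG ((hP ▸ dvd_rfl : p ∣ Nat.card P).trans (Subgroup.card_subgroup_dvd_card P))
  have hq2 : q ≠ 2 := ne_two hG (hqN.2.1.trans (Subgroup.card_subgroup_dvd_card N))
  obtain ⟨B, hBS, hBexp, hBn, A, hAB, hA, hAc⟩ := exists_exponent_subgroup hp2 (hSp.to_le inf_le_left) hS₁c
  have hXB : X ≤ Subgroup.normalizer (B : Set G) :=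
    ((le_inf hXS ((hXP.trans Subgroup.le_normalizer))).trans Subgroup.inf_normalizer_le_normalizer_inf).trans hBn
  set U := Tg ⊓ Subgroup.centralizer (B : Set G) with hU
  have hVU : V ≤ Subgroup.normalizer (U : Set G) :=
    (le_inf hVW ((le_sup_right.trans hXB).trans (Components.normalizer_le_normalizer_centralizer _))).trans
      Subgroup.inf_normalizer_le_normalizer_inf
  let H : Subgroup G :=
    { carrier := {v | v ∈ Subgroup.normalizer (U : Set G) ∧ ∀ t ∈ Tg, t * v * t⁻¹ * v⁻¹ ∈ U}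
      one_mem' := ⟨one_mem _, fun t _ => by simp⟩
      mul_mem' := fun {v w} hv hw => ⟨mul_mem hv.1 hw.1, fun t ht => by
        rw [show t * (v * w) * t⁻¹ * (v * w)⁻¹ = (t * v * t⁻¹ * v⁻¹) * (v * (t * w * t⁻¹ * w⁻¹) * v⁻¹) by group]
        exact mul_mem (hv.2 t ht) ((Subgroup.mem_normalizer_iff.1 hv.1 _).1 (hw.2 t ht))⟩
      inv_mem' := fun {v} hv => ⟨inv_mem hv.1, fun t ht => by
        rw [show t * v⁻¹ * t⁻¹ * v⁻¹⁻¹ = v⁻¹ * (t * v * t⁻¹ * v⁻¹)⁻¹ * v by group]
        exact (Subgroup.mem_normalizer_iff''.1 hv.1 _).1 (inv_mem (hv.2 t ht))⟩ }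
  have hVH : V ≤ H := by
    refine le_of_prime_subgroups fun r hr R hR hRV v hv => ⟨hVU (hRV hv), fun t ht => ?_⟩
    haveI := Fact.mk hr
    by_cases hv1 : v = 1
    · subst hv1; simp
    have hR1 : R ≠ ⊥ := fun h => hv1 (Subgroup.mem_bot.1 (h ▸ hv))
    have hrd : r ∣ Nat.card V := (dvd_card_of_ne_bot hR hR1).trans (Subgroup.card_dvd_of_le hRV)
    obtain ⟨-, hrq, hra⟩ := hV.2.1 r hr hrd
    have hrp : r ≠ p := fun e => hra (e ▸ hb.1)
    have hRW' : R ≤ W' := hRV.trans hV.1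
    have hc : R ≤ C → t * v * t⁻¹ * v⁻¹ ∈ U := fun h => by
      rw [Subgroup.mem_centralizer_iff.1 (h hv) t ht, mul_inv_cancel_right, mul_inv_cancel]
      exact one_mem _
    by_cases hrN : r ∈ Cfsg.sigma N
    · exact hc (hkill R hR hRW' (Or.inr (Or.inl hrN)))
    by_cases hrM : r ∈ Cfsg.sigma M
    · exact hc (hkill R hR hRW' (Or.inr (Or.inr hrM)))
    have hrkN : Cfsg.PRankLE r 1 ↥N := by
      by_contra h
      obtain ⟨A', hA'N, hA', hA'c⟩ := exists_elem_of_not_prank h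
      exact false_of_shared_sigma hG hM hN hnc hqM hqN hA'N hA' hA'c hrN
    have hrkM : Cfsg.PRankLE r 1 ↥M := by
      by_contra h
      obtain ⟨A', hA'M, hA', hA'c⟩ := exists_elem_of_not_prank h
      exact false_of_shared_sigma hG hN hM (not_conj_symm hnc) hqN hqM hA'M hA' hA'c hrM
    obtain ⟨R₀, hR₀, hR₀R⟩ : ∃ R₀ : Subgroup G, Nat.card R₀ = r ∧ R₀ ≤ R := by
      obtain ⟨⟨x, hx⟩, hxo⟩ := exists_prime_orderOf_dvd_card' (G := R) r (dvd_card_of_ne_bot hR hR1)
      rw [Subgroup.orderOf_mk] at hxo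
      exact ⟨_, by rw [Nat.card_zpowers, hxo], Subgroup.zpowers_le.2 hx⟩
    obtain ⟨⟨v₀, hv₀⟩, hv₀o⟩ := exists_prime_orderOf_dvd_card' (G := R₀) r (dvd_of_eq hR₀.symm)
    rw [Subgroup.orderOf_mk] at hv₀o
    have hv₀1 : v₀ ≠ 1 := fun h => hr.one_lt.ne (by rw [← hv₀o, h, orderOf_one])
    have hR₀W : R₀ ≤ W := hR₀R.trans (hRV.trans hVW)
    have hR₀T : R₀ ≤ Subgroup.normalizer (Tg : Set G) := hR₀W
    have hcop : (Nat.card R₀).Coprime (Nat.card Tg) := by
      rw [hR₀]
      obtain ⟨n, hn⟩ := T.isPGroup'.exists_card_eq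
      rw [← hTg] at hn
      rw [hn]
      exact ((Nat.coprime_primes hr hq.out).2 hrq).pow_right n
    haveI : IsCyclic R₀ := isCyclic_of_prime_card hR₀
    haveI : IsMulCommutative R₀ := IsCyclic.isMulCommutative
    have hsolv : Group.IsSolvable R₀ := Group.isSolvable_of_comm mul_comm'
    obtain ⟨n, hn, c, ⟨hcT, hcR⟩, rfl⟩ := CoprimeAction.exists_commutator_mul_centralizer hR₀T hcop (Or.inl hsolv) ht
    -- `n` centralizes `B`
    have hnT : ⁅Tg, R₀⁆ ≤ Tg := CoprimeAction.commutator_le_of_normalizer hR₀T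
    have hR₀n : R₀ ≤ Subgroup.normalizer ((⁅Tg, R₀⁆ : Subgroup G) : Set G) :=
      CoprimeAction.le_normalizer_commutator hR₀T
    have hR₀P : R₀ ≤ Subgroup.centralizer (P : Set G) := hR₀R.trans (hRV.trans hVP)
    have hnB : ⁅Tg, R₀⁆ ≤ Subgroup.centralizer (B : Set G) := by
      refine le_centralizer_of_cyclic_fixed (r := r) hP hqp.symm hrp.symm hrq.symm hq2 (T.isPGroup'.to_le hnT) hR₀
        (CoprimeAction.commutator_commutator_eq hR₀T hcop (Or.inl hsolv)) hR₀n (hBS.trans inf_le_right)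
        (hnT.trans hTP) hR₀P hBexp (hnT.trans (le_sup_left.trans hXB))
        ((hR₀R.trans hRV).trans (le_sup_right.trans hXB)) (Z := S ⊓ Subgroup.centralizer (R₀ : Set G))
        (isCyclic_centralizer_of_beta hG hN hb hrN hrkN hR₀ (hSp.to_le inf_le_left) inf_le_right)
        (le_inf hPS (Subgroup.le_centralizer_iff.1 hR₀P)) (inf_le_inf (hBS.trans inf_le_left) le_rfl)
    -- `c` commutes with `v`
    have hcv : c * v = v * c := by
      have := prime_action_of_rank_one hG hM hrM hrkM hR (hRW'.trans hW'M) (hR₀R hv₀) hv₀1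
        (Subgroup.mem_inf.2 ⟨le_sigmaCore hG hM hqM T.isPGroup' hTM hcT,
          le_centralizer_singleton_of hcR hv₀⟩)
      exact (Subgroup.mem_centralizer_iff.1 this v hv).symm
    have hnU : n ∈ U := ⟨hnT hn, hnB hn⟩
    rw [show n * c * v * (n * c)⁻¹ * v⁻¹ = n * (c * v * c⁻¹) * n⁻¹ * v⁻¹ by group, hcv, mul_inv_cancel_right,
      show n * v * n⁻¹ * v⁻¹ = n * (v * n⁻¹ * v⁻¹) by group]
    exact mul_mem hnU ((Subgroup.mem_normalizer_iff.1 (hVU (hRV hv)) _).1 (inv_mem hnU))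
  have hTB : Tg ≤ Subgroup.centralizer (B : Set G) :=
    (hTV.trans (Subgroup.commutator_le.2 fun t ht v hv => (hVH hv).2 t ht)).trans inf_le_right
  exact elementary_card_contra hr1
    ((hAB.trans (Subgroup.le_centralizer_iff.1 hTB)).trans (hCW.trans hWM)) hA hAc

/-- For `p ∈ τ₁(M)` the maximal subgroups over `N_G(P)` share no `σ`-prime with `M`. -/
theorem sigma_disjoint_of_tau_one (hG : Cfsg.IsMinSimpleOddOrder G) (hM : IsCoatom M) (hN : IsCoatom N)
    (hnc : ∀ g : G, N ≠ M.map (MulAut.conj g).toMonoidHom) (ht : p ∈ Cfsg.tau1 M)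
    (hP : Nat.card P = p) (hPM : P ≤ M) (hNP : Subgroup.normalizer (P : Set G) ≤ N) {q : ℕ} [hq : Fact q.Prime]
    (hqM : q ∈ Cfsg.sigma M) : q ∉ Cfsg.sigma N := by
  intro hqN
  obtain ⟨-, hps, -, hd, hr1⟩ := ht
  have hqp : q ≠ p := fun e => hps (e ▸ hqM)
  by_cases hpN : p ∈ Cfsg.sigma N
  · obtain ⟨T, hTP, hTM, hTN, hNT⟩ := exists_shared_sylow hG hM hN hnc hps hpN hP hPM hNP hqM hqN
    by_cases hb : p ∈ Cfsg.beta N
    · exact false_of_shared_beta hG hM hN hnc hps hr1 hd hb hP hPM (Subgroup.le_normalizer.trans hNP) hqp hqM hqN T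
        hTP hTM hTN hNT
    · exact false_of_shared_not_beta hG hM hN hnc hd hpN hb hP hqp hqM hqN T hTP hTN
        (Subgroup.le_normalizer.trans hNP) hNT
  · obtain ⟨A, hAN, hA, hAc⟩ := exists_elem_of_not_prank (normalizer_in_maximal hG hN hpN hP hNP).1.2
    exact false_of_shared_sigma hG hM hN hnc hqM hqN hAN hA hAc hpN

end CfsgLib.SigmaGroups
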