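import Cfsg.Agent.Sigma.PrimeActionSylow
import Cfsg.Agent.PrimeAction.Basic
import Cfsg.Agent.CoprimeAction.Factorization

/-!
Tools for B&G 13.4: Thompson's lemma on a cyclic fixed point subgroup, and small covering facts.
-/

set_option autoImplicit false
set_option linter.unusedSectionVars false
set_option linter.style.haveILetI false

namespace CfsgLib.SigmaGroups

open CfsgLib.BenderUnique CfsgLib.Uniq
open scoped commutatorElement

universe u

variable {G : Type u} [Group G] [Finite G] {p : ℕ} [hp : Fact p.Prime]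

theorem not_conj_symm {M N : Subgroup G} (h : ∀ g : G, N ≠ M.map (MulAut.conj g).toMonoidHom) (g : G) :
    M ≠ N.map (MulAut.conj g).toMonoidHom := fun e => h g⁻¹ (by
  rw [e, map_conj_map, inv_mul_cancel, map_conj_one])

/-- An element of a cyclic group of order dividing `p` lies in its subgroup of order `p`. -/
theorem mem_of_pow_eq_one {Z P : Subgroup G} (hZ : IsCyclic Z) (hPZ : P ≤ Z) (hP : Nat.card P = p) {x : G}
    (hx : x ∈ Z) (hxp : x ^ p = 1) : x ∈ P := by
  by_contra hne
  haveI := hZ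
  haveI : IsMulCommutative Z := IsCyclic.isMulCommutative
  set X := Subgroup.zpowers x with hX
  have hXZ : X ≤ Z := Subgroup.zpowers_le.2 hx
  have hx1 : x ≠ 1 := fun h => hne (h ▸ one_mem _)
  have hP1 : Cfsg.IsElementaryAbelian p P :=
    ⟨⟨⟨fun a b => Subtype.ext (setLike_mul_comm (hPZ a.2) (hPZ b.2))⟩⟩, fun a ha => by
      have h := pow_card_eq_one' (x := (⟨a, ha⟩ : P))
      rw [hP] at h
      exact congrArg Subtype.val h⟩
  have hel := NormalEl.elementary_sup hP1 (elementary_zpowers hxp) fun a ha b hb =>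
    setLike_mul_comm (hPZ ha) (hXZ hb)
  refine not_isCyclic_of_elementary hel ?_ (isCyclic_of_injective
    (Subgroup.inclusion (sup_le hPZ hXZ)) (Subgroup.inclusion_injective _))
  rw [← hP]
  exact card_lt_of_lt (lt_of_le_of_ne le_sup_left fun h => hne (h ▸ Subgroup.mem_sup_right (Subgroup.mem_zpowers x)))

/-- A noncyclic `p`-group has an exponent `p` subgroup of rank two, invariant under its normalizer. -/
theorem exists_exponent_subgroup (hp2 : p ≠ 2) {S : Subgroup G} (hS : IsPGroup p S) (hc : ¬ IsCyclic S) :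
    ∃ B : Subgroup G, B ≤ S ∧ (∀ x ∈ B, x ^ p = 1) ∧
      Subgroup.normalizer (S : Set G) ≤ Subgroup.normalizer (B : Set G) ∧
      ∃ A : Subgroup G, A ≤ B ∧ Cfsg.IsElementaryAbelian p A ∧ Nat.card A = p ^ 2 := by
  set Z := Subgroup.centralizer (S : Set G) with hZ
  have hpow : ∀ x y : G, x ∈ S → y ∈ S → y * x * y⁻¹ * x⁻¹ ∈ Z → x ^ p = 1 → y ^ p = 1 → (x * y) ^ p = 1 := by
    intro x y hx hy hcz hxp hyp
    set c := y * x * y⁻¹ * x⁻¹ with hc'
    have hcx : Commute c x := (Subgroup.mem_centralizer_iff.1 hcz x hx).symm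
    have hcy : Commute c y := (Subgroup.mem_centralizer_iff.1 hcz y hy).symm
    have hyx : y * x = c * x * y := by rw [hc']; group
    have hcp : c ^ p = 1 := by
      have h : (c * x) ^ p = 1 := by
        rw [show c * x = y * x * y⁻¹ by rw [hc']; group, conj_pow, hxp, mul_one, mul_inv_cancel]
      rwa [hcx.mul_pow, hxp, mul_one] at h
    have hyn : ∀ n : ℕ, y ^ n * x = c ^ n * x * y ^ n := by
      intro n
      induction n with
      | zero => simp
      | succ n ih =>
        calc y ^ (n + 1) * x = y * (y ^ n * x) := by rw [pow_succ']; group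
          _ = (y * c ^ n) * x * y ^ n := by rw [ih]; group
          _ = c ^ n * (y * x) * y ^ n := by rw [(hcy.pow_left n).symm.eq]; group
          _ = c ^ (n + 1) * x * y ^ (n + 1) := by rw [hyx, pow_succ c, pow_succ' y]; group
    have hmul : ∀ n : ℕ, (x * y) ^ n = c ^ (n.choose 2) * x ^ n * y ^ n := by
      intro n
      induction n with
      | zero => simp
      | succ n ih =>
        have hch : (n + 1).choose 2 = n.choose 2 + n := by
          rw [Nat.choose_succ_succ', Nat.choose_one_right]; ring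
        calc (x * y) ^ (n + 1) = c ^ (n.choose 2) * x ^ n * (y ^ n * x) * y := by
              rw [pow_succ, ih]; group
          _ = c ^ (n.choose 2) * (x ^ n * c ^ n) * x * y ^ n * y := by rw [hyn]; group
          _ = c ^ (n.choose 2) * (c ^ n * x ^ n) * x * y ^ n * y := by
              rw [(hcx.pow_pow n n).symm.eq]
          _ = c ^ ((n + 1).choose 2) * x ^ (n + 1) * y ^ (n + 1) := by
              rw [hch, pow_add, pow_succ x, pow_succ y]; group
    rw [hmul p, hxp, hyp, mul_one, mul_one]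
    obtain ⟨k, hk⟩ : p ∣ p.choose 2 := hp.out.dvd_choose_self two_ne_zero (lt_of_le_of_ne hp.out.two_le hp2.symm)
    rw [hk, pow_mul, hcp, one_pow]
  let B : Subgroup G :=
    { carrier := {x | x ∈ S ∧ x ^ p = 1 ∧ ∀ s ∈ S, x * s * x⁻¹ * s⁻¹ ∈ Z}
      one_mem' := ⟨one_mem _, one_pow p, fun s _ => by simp⟩
      mul_mem' := fun {x y} hx hy => ⟨mul_mem hx.1 hy.1, hpow x y hx.1 hy.1 (hy.2.2 x hx.1) hx.2.1 hy.2.1,
        fun s hs => by
          have h : x * y * s * (x * y)⁻¹ * s⁻¹ = x * (y * s * y⁻¹ * s⁻¹) * x⁻¹ * (x * s * x⁻¹ * s⁻¹) := by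
            group
          rw [h, Subgroup.mem_centralizer_iff.1 (hy.2.2 s hs) x hx.1, mul_inv_cancel_right]
          exact mul_mem (hy.2.2 s hs) (hx.2.2 s hs)⟩
      inv_mem' := fun {x} hx => ⟨inv_mem hx.1, by rw [inv_pow, hx.2.1, inv_one], fun s hs => by
        have h : x⁻¹ * s * x⁻¹⁻¹ * s⁻¹ = x⁻¹ * (x * s * x⁻¹ * s⁻¹)⁻¹ * x := by group
        rw [h, ← Subgroup.mem_centralizer_iff.1 (inv_mem (hx.2.2 s hs)) x⁻¹ (inv_mem hx.1) |>.symm,
          inv_mul_cancel_right]
        exact inv_mem (hx.2.2 s hs)⟩ }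
  refine ⟨B, fun x hx => hx.1, fun x hx => hx.2.1, fun g hg => ?_, ?_⟩
  · refine mem_normalizer_of_map_le ?_
    rintro _ ⟨x, hx, rfl⟩
    have hgS := fun {a : G} => Subgroup.mem_normalizer_iff.1 hg a
    have hgZ := Components.normalizer_le_normalizer_centralizer _ hg
    refine ⟨(hgS).1 hx.1, by rw [← map_pow, hx.2.1, map_one], fun s hs => ?_⟩
    have hs' : g⁻¹ * s * g ∈ S := (Subgroup.mem_normalizer_iff''.1 hg s).1 hs
    have h := (Subgroup.mem_normalizer_iff.1 hgZ _).1 (hx.2.2 _ hs')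
    show g * x * g⁻¹ * s * (g * x * g⁻¹)⁻¹ * s⁻¹ ∈ Z
    convert h using 1
    group
  · obtain ⟨U, hUn, hU, hUc⟩ := exists_normal_elem_sq hp2 hS (not_prank_one_of_noncyclic hp2 hS hc)
    haveI := hU.1
    refine ⟨U.map S.subtype, ?_, ⟨inferInstance, ?_⟩, by
      rw [Subgroup.card_map_of_injective S.subtype_injective, hUc]⟩
    · rintro _ ⟨u, hu, rfl⟩
      refine ⟨u.2, by rw [← map_pow, hU.2 u hu, map_one], fun s hs => ?_⟩
      set D := ⁅U.map S.subtype, S⁆ with hD
      have hUS : U.map S.subtype ≤ S := Subgroup.map_subtype_le _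
      have hSn : S ≤ Subgroup.normalizer ((U.map S.subtype : Subgroup G) : Set G) := by
        rw [← Subgroup.normal_subgroupOf_iff_le_normalizer hUS, Subgroup.subgroupOf,
          Subgroup.comap_map_eq_self_of_injective S.subtype_injective]
        infer_instance
      have hDU : D ≤ U.map S.subtype := CoprimeAction.commutator_le_of_normalizer hSn
      have hSD : S ≤ Subgroup.normalizer (D : Set G) := CoprimeAction.le_normalizer_commutator hSn
      have hmem : (u : G) * s * (u : G)⁻¹ * s⁻¹ ∈ D := by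
        rw [← commutatorElement_def]
        exact Subgroup.commutator_mem_commutator ⟨u, hu, rfl⟩ hs
      have hne : D ≠ U.map S.subtype := by
        intro he
        haveI : Group.IsNilpotent S := hS.isNilpotent
        obtain ⟨n, hn⟩ := Factorization.exists_lcs_eq_bot S
        have hle : ∀ i, U.map S.subtype ≤ Factorization.lcs S i := by
          intro i
          induction i with
          | zero => exact hUS
          | succ i ih => exact he.ge.trans (Subgroup.commutator_mono ih le_rfl)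
        have := Subgroup.card_le_of_le ((hle n).trans hn.le)
        rw [Subgroup.card_map_of_injective S.subtype_injective, hUc, Subgroup.card_bot] at this
        exact absurd this (not_le.2 (Nat.one_lt_pow two_ne_zero hp.out.one_lt))
      have hcard : Nat.card D ∣ p ^ 2 := by
        rw [← hUc, ← Subgroup.card_map_of_injective S.subtype_injective]
        exact Subgroup.card_dvd_of_le hDU
      obtain ⟨k, hk, hkc⟩ := (Nat.dvd_prime_pow hp.out).1 hcard
      rcases k with _ | _ | k
      · rw [pow_zero, Subgroup.card_eq_one] at hkc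
        rw [hkc, Subgroup.mem_bot] at hmem
        show (u : G) * s * (u : G)⁻¹ * s⁻¹ ∈ Z
        rw [hmem]
        exact one_mem _
      · show (u : G) * s * (u : G)⁻¹ * s⁻¹ ∈ Z
        refine Subgroup.mem_centralizer_iff.2 fun t ht => ?_
        obtain ⟨m, hm⟩ := hS ⟨t, ht⟩
        exact (Subgroup.mem_centralizer_iff.1 (mem_centralizer_of_normalizes_line (p := p) (by rw [hkc, zero_add, pow_one])
          (hSD ht) (show t ^ p ^ m = 1 from congrArg Subtype.val hm)) _ hmem).symm
      · refine absurd (Subgroup.eq_of_le_of_card_ge hDU ?_) hne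
        rw [Subgroup.card_map_of_injective S.subtype_injective, hUc, hkc]
        exact Nat.pow_le_pow_right hp.out.pos (by omega)
    · rintro _ ⟨u, hu, rfl⟩
      rw [← map_pow, hU.2 u hu, map_one]

/-- Thompson's lemma: fixed points of `R` inside a cyclic group over the line `P` force `Q` to centralize `B`. -/
theorem le_centralizer_of_cyclic_fixed {P B Q R : Subgroup G} (hP : Nat.card P = p) {q r : ℕ} [hq : Fact q.Prime]
    [hr : Fact r.Prime] (hpq : p ≠ q) (hpr : p ≠ r) (hqr : q ≠ r) (hq2 : q ≠ 2) (hQ : IsPGroup q Q)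
    (hR : Nat.card R = r) (hQR : ⁅Q, R⁆ = Q) (hRQ : R ≤ Subgroup.normalizer (Q : Set G))
    (hBP : B ≤ Subgroup.centralizer (P : Set G)) (hQP : Q ≤ Subgroup.centralizer (P : Set G))
    (hRP : R ≤ Subgroup.centralizer (P : Set G)) (hBexp : ∀ x ∈ B, x ^ p = 1)
    (hQB : Q ≤ Subgroup.normalizer (B : Set G)) (hRB : R ≤ Subgroup.normalizer (B : Set G))
    {Z : Subgroup G} (hZc : IsCyclic Z) (hPZ : P ≤ Z) (hBZ : B ⊓ Subgroup.centralizer (R : Set G) ≤ Z) :
    Q ≤ Subgroup.centralizer (B : Set G) := by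
  set H := Subgroup.centralizer (P : Set G) with hH
  set K := P.subgroupOf H with hK
  haveI : K.Normal := ⟨fun n hn g => by
    have hc : (g : G) * n = n * g := (Subgroup.mem_centralizer_iff.1 g.2 n hn).symm
    show (g : G) * n * (g : G)⁻¹ ∈ P
    rw [hc, mul_inv_cancel_right]
    exact hn⟩
  set f := QuotientGroup.mk' K with hf
  have hker : ∀ x : H, f x = 1 ↔ (x : G) ∈ P := fun x => QuotientGroup.eq_one_iff x
  set Q' := (Q.subgroupOf H).map f with hQ'
  set R' := (R.subgroupOf H).map f with hR'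
  set B' := (B.subgroupOf H).map f with hB'
  have hnorm : ∀ (U V : Subgroup G), U ≤ Subgroup.normalizer (V : Set G) →
      (U.subgroupOf H).map f ≤ Subgroup.normalizer (((V.subgroupOf H).map f : Subgroup _) : Set (H ⧸ K)) := by
    intro U V hUV
    refine le_trans (Subgroup.map_mono ?_) (Subgroup.le_normalizer_map f)
    intro x hx
    refine Subgroup.mem_normalizer_iff.2 fun v => ?_
    exact Subgroup.mem_normalizer_iff.1 (hUV hx) v
  have hR'c : Nat.card R' = r := by
    have hinj : Function.Injective (f.comp (R.subgroupOf H).subtype) := by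
      rw [injective_iff_map_eq_one]
      intro x hx
      have h1 : ((x : H) : G) ∈ R ⊓ P := ⟨x.2, (hker x).1 hx⟩
      rw [CoprimeAction.inf_eq_bot_of_coprime (by rw [hR, hP]; exact (Nat.coprime_primes hr.out hp.out).2 hpr.symm),
        Subgroup.mem_bot] at h1
      exact Subtype.ext (Subtype.ext h1)
    rw [hR', show (R.subgroupOf H).map f = (f.comp (R.subgroupOf H).subtype).range by
      rw [MonoidHom.range_comp, Subgroup.range_subtype], ← Nat.card_congr (MonoidHom.ofInjective hinj).toEquiv,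
      Nat.card_congr (Subgroup.subgroupOfEquivOfLe hRP).toEquiv, hR]
  have hfix : B' ⊓ Subgroup.centralizer (R' : Set (H ⧸ K)) = ⊥ := by
    rw [eq_bot_iff]
    rintro _ ⟨⟨b, hb, rfl⟩, hbc⟩
    rw [Subgroup.mem_bot, hker]
    have hbR : (b : G) ∈ Subgroup.centralizer (R : Set G) := by
      refine Subgroup.mem_centralizer_iff.2 fun x hx => ?_
      set z := x * b * x⁻¹ * (b : G)⁻¹ with hz
      have hzP : z ∈ P := by
        refine (hker (⟨x, hRP hx⟩ * b * (⟨x, hRP hx⟩ : H)⁻¹ * b⁻¹)).1 ?_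
        have := Subgroup.mem_centralizer_iff.1 hbc (f ⟨x, hRP hx⟩) ⟨⟨x, hRP hx⟩, hx, rfl⟩
        rw [map_mul, map_mul, map_mul, map_inv, map_inv, this, mul_inv_cancel_right, mul_inv_cancel]
      have hxz : Commute x z := (Subgroup.mem_centralizer_iff.1 (hRP hx) z hzP).symm
      have hn : ∀ n : ℕ, x ^ n * b * (x ^ n)⁻¹ = z ^ n * b := by
        intro n
        induction n with
        | zero => simp
        | succ n ih =>
          calc x ^ (n + 1) * b * (x ^ (n + 1))⁻¹ = x * (x ^ n * b * (x ^ n)⁻¹) * x⁻¹ := by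
                rw [pow_succ']; group
            _ = x * z ^ n * b * x⁻¹ := by rw [ih]; group
            _ = z ^ n * x * b * x⁻¹ := by rw [(hxz.pow_right n).eq]
            _ = z ^ (n + 1) * b := by rw [pow_succ, hz]; group
      have hxr : x ^ r = 1 := by
        have h := pow_card_eq_one' (x := (⟨x, hx⟩ : R))
        rw [hR] at h
        exact congrArg Subtype.val h
      have hzr : z ^ r = 1 := by
        have := hn r
        rw [hxr, one_mul, inv_one, mul_one] at this
        exact mul_eq_right.1 this.symm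
      have hzp : z ^ p = 1 := by
        have h := pow_card_eq_one' (x := (⟨z, hzP⟩ : P))
        rw [hP] at h
        exact congrArg Subtype.val h
      have hz1 : z = 1 := orderOf_eq_one_iff.1 (Nat.dvd_one.1 ((Nat.coprime_primes hp.out hr.out).2 hpr ▸
        Nat.dvd_gcd (orderOf_dvd_of_pow_eq_one hzp) (orderOf_dvd_of_pow_eq_one hzr)))
      exact mul_inv_eq_iff_eq_mul.1 (mul_inv_eq_one.1 hz1)
    exact mem_of_pow_eq_one hZc hPZ hP (hBZ ⟨hb, hbR⟩) (hBexp _ hb)
  have hp' : IsPGroup p B := fun x => ⟨1, Subtype.ext (by simpa using hBexp x x.2)⟩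
  have hmain := PrimeAction.commutator_le_centralizer (G := H ⧸ K) hp.out hq.out hr.out hpq hpr hqr hq2
    ((hQ.of_equiv (Subgroup.subgroupOfEquivOfLe hQP).symm).map f) hR'c
    ((hp'.of_equiv (Subgroup.subgroupOfEquivOfLe hBP).symm).map f)
    (hnorm R Q hRQ) (hnorm Q B hQB) (hnorm R B hRB) hfix
  have hQR' : ⁅Q', R'⁆ = Q' := by
    rw [hQ', hR', ← Subgroup.map_commutator]
    congr 1
    refine Subgroup.map_injective H.subtype_injective ?_
    rw [Subgroup.map_commutator, Subgroup.map_subgroupOf_eq_of_le hQP, Subgroup.map_subgroupOf_eq_of_le hRP, hQR]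
  rw [hQR'] at hmain
  refine CoprimeAction.le_centralizer_of_chain (N := P) (K := B) ?_ hQP ?_
  · obtain ⟨n, hn⟩ := hQ.exists_card_eq
    rw [hn, hP]
    exact ((Nat.coprime_primes hq.out hp.out).2 hpq.symm).pow_left n
  · rw [Subgroup.commutator_le]
    intro b hb x hx
    have h := Subgroup.mem_centralizer_iff.1 (hmain ⟨⟨x, hQP hx⟩, hx, rfl⟩) (f ⟨b, hBP hb⟩) ⟨⟨b, hBP hb⟩, hb, rfl⟩
    refine (hker (⁅(⟨b, hBP hb⟩ : H), (⟨x, hQP hx⟩ : H)⁆)).1 ?_
    rw [commutatorElement_def, map_mul, map_mul, map_mul, map_inv, map_inv, h, mul_inv_cancel_right, mul_inv_cancel]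

/-- For `p ∈ β(N)`, the centralizer of a rank one `σ(N)'`-element has cyclic `p`-subgroups. -/
theorem isCyclic_centralizer_of_beta (hG : Cfsg.IsMinSimpleOddOrder G) {N : Subgroup G} (hN : IsCoatom N)
    (hb : p ∈ Cfsg.beta N) {r : ℕ} [hr : Fact r.Prime] (hrs : r ∉ Cfsg.sigma N) (hrk : Cfsg.PRankLE r 1 ↥N)
    {Y : Subgroup G} (hY : Nat.card Y = r) {U : Subgroup G} (hU : IsPGroup p U)
    (hUY : U ≤ Subgroup.centralizer (Y : Set G)) : IsCyclic U := by
  obtain ⟨L, hL, hLY, -, hnc, -⟩ := exists_max_normalizer hG hN hrs hrk hY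
  refine isCyclic_of_ideal hG hL hb.2 (fun hs => ?_) hU ((hUY.trans (Subgroup.centralizer_le_normalizer _)).trans hLY)
  exact not_alpha_of_sigma hG hL hN (not_conj_symm hnc) hs hb.1

/-- An element normalizing a line outside `L'` centralizes it. -/
theorem mem_centralizer_of_not_dvd_derived {L P : Subgroup G} (hP : Nat.card P = p) (hPL : P ≤ L)
    (hd : ¬ p ∣ Nat.card ↥⁅L, L⁆) {n : G} (hnL : n ∈ L) (hn : n ∈ Subgroup.normalizer (P : Set G)) :
    n ∈ Subgroup.centralizer (P : Set G) := by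
  refine Subgroup.mem_centralizer_iff.2 fun x hx => ?_
  by_contra hne
  have h1 : ⁅n, x⁆ ∈ ⁅L, L⁆ := Subgroup.commutator_mem_commutator hnL (hPL hx)
  have h2 : ⁅n, x⁆ ∈ P := mul_mem ((Subgroup.mem_normalizer_iff.1 hn x).1 hx) (inv_mem hx)
  have hc : ⁅n, x⁆ ≠ 1 := fun h => hne (commutatorElement_eq_one_iff_mul_comm.1 h).symm
  have hzP := Subgroup.orderOf_dvd_natCard P h2
  rw [hP] at hzP
  rcases (Nat.dvd_prime hp.out).1 hzP with h | h
  · exact hc (orderOf_eq_one_iff.1 h)
  · exact hd (h ▸ Subgroup.orderOf_dvd_natCard _ h1)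

/-- Commutators in a product with a normal subgroup. -/
theorem commutator_sup_le {K D : Subgroup G} (hD : D ≤ Subgroup.normalizer (K : Set G)) :
    ⁅K ⊔ D, K ⊔ D⁆ ≤ ⁅D, D⁆ ⊔ K := by
  rw [Subgroup.commutator_le]
  intro a ha b hb
  have hS : K ≤ ⁅D, D⁆ ⊔ K := le_sup_right
  rw [sup_comm] at ha hb
  obtain ⟨e, he, n, hn, rfl⟩ := CoprimeAction.exists_mul_of_mem_sup hD ha
  obtain ⟨f, hf, m, hm, rfl⟩ := CoprimeAction.exists_mul_of_mem_sup hD hb
  have hSn : ∀ g ∈ D ⊔ K, ∀ x ∈ K, g * x * g⁻¹ ∈ K := fun g hg x hx =>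
    (Subgroup.mem_normalizer_iff.1 ((sup_le hD Subgroup.le_normalizer) hg) x).1 hx
  have h1 : e * (n * ((f * m) * n⁻¹ * (f * m)⁻¹)) * e⁻¹ ∈ K :=
    hSn e (Subgroup.mem_sup_left he) _ (mul_mem hn (hSn _ hb _ (inv_mem hn)))
  have h2 : f * ((e * m * e⁻¹) * m⁻¹) * f⁻¹ ∈ K :=
    hSn f (Subgroup.mem_sup_left hf) _ (mul_mem (hSn e (Subgroup.mem_sup_left he) m hm) (inv_mem hm))
  have h3 : ⁅e * n, f * m⁆ = (e * (n * ((f * m) * n⁻¹ * (f * m)⁻¹)) * e⁻¹) * ⁅e, f⁆ *
      (f * ((e * m * e⁻¹) * m⁻¹) * f⁻¹) := by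
    simp only [commutatorElement_def]
    group
  rw [h3]
  exact mul_mem (mul_mem (hS h1) (Subgroup.mem_sup_left (Subgroup.commutator_mem_commutator he hf))) (hS h2)

theorem not_dvd_derived_of_sup {L K D : Subgroup G} (hD : D ≤ Subgroup.normalizer (K : Set G))
    (hL : L ≤ K ⊔ D) (hK : ¬ p ∣ Nat.card K) (hd : ¬ p ∣ Nat.card ↥⁅D, D⁆) : ¬ p ∣ Nat.card ↥⁅L, L⁆ := by
  intro h
  have h1 := (h.trans (Subgroup.card_dvd_of_le ((Subgroup.commutator_mono hL hL).trans (commutator_sup_le hD))))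
  have h2 := ZJ.card_sup_mul_card_inf_of_le_normalizer ((Subgroup.commutator_le_self D).trans hD)
  exact (hp.out.dvd_mul.1 (h2 ▸ h1.trans (dvd_mul_right _ _))).elim hd hK

theorem exists_normalizer_complement (P : Sylow p G) :
    ∃ V : Subgroup G, Cfsg.IsComplIn (P : Subgroup G) V (Subgroup.normalizer ((P : Subgroup G) : Set G)) := by
  set N := Subgroup.normalizer ((P : Subgroup G) : Set G) with hN
  haveI : ((P : Subgroup G).subgroupOf N).Normal := Subgroup.normal_in_normalizer
  have hPN : (P : Subgroup G) ≤ N := Subgroup.le_normalizer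
  obtain ⟨V', hV'⟩ := Subgroup.exists_right_complement'_of_coprime
    (N := (P : Subgroup G).subgroupOf N) (P.subtype hPN).card_coprime_index
  refine ⟨V'.map N.subtype, hPN, Subgroup.map_subtype_le _, ?_, fun m hm => ?_⟩
  · rw [eq_bot_iff]
    rintro _ ⟨hz1, z, hz2, rfl⟩
    have h4 : z ∈ (⊥ : Subgroup N) := hV'.disjoint.le_bot ⟨hz1, hz2⟩
    rw [Subgroup.mem_bot.1 h4, map_one]; exact one_mem _
  · obtain ⟨⟨a, b⟩, hab⟩ := hV'.2 (⟨m, hm⟩ : N)
    exact ⟨_, a.2, _, ⟨b, b.2, rfl⟩, (congrArg Subtype.val hab).symm⟩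

end CfsgLib.SigmaGroups
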