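import Cfsg.Agent.Sigma.TauTwoSylow
import Cfsg.Agent.Sigma.FixedPoints
import Cfsg.Agent.CA.TICent.Reduce
import Cfsg.Agent.S1450
import Cfsg.Agent.ZJ.Fpf

/-!
B&G 12.5 (d), (f), (a): fixed points of `A` on `M_σ`, the intersections `M_σ ∩ M ^ g`, nilpotency of `M_σ`.
-/

set_option autoImplicit false
set_option linter.unusedSectionVars false
set_option linter.style.haveILetI false

namespace CfsgLib.SigmaGroups

open CfsgLib.BenderUnique CfsgLib.Uniq
open scoped commutatorElement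

universe u

variable {G : Type u} [Group G] [Finite G] {p : ℕ} [hp : Fact p.Prime] {M L A : Subgroup G}

theorem ne_bot_of_card_sq (hAc : Nat.card A = p ^ 2) : A ≠ ⊥ := fun h => by
  rw [h, Subgroup.card_bot] at hAc
  exact (Nat.one_lt_pow two_ne_zero hp.out.one_lt).ne hAc

theorem not_isCyclic_of_card_sq (hA : Cfsg.IsElementaryAbelian p A) (hAc : Nat.card A = p ^ 2) : ¬ IsCyclic A :=
  not_isCyclic_of_elementary hA (hAc ▸ lt_self_pow₀ hp.out.one_lt one_lt_two)

theorem sup_lines_eq (hA : Cfsg.IsElementaryAbelian p A) (hAc : Nat.card A = p ^ 2) {X Y : Subgroup G}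
    (hX : X ≤ A) (hY : Y ≤ A) (hXc : Nat.card X = p) (hYc : Nat.card Y = p) (hne : X ≠ Y) : X ⊔ Y = A := by
  refine Subgroup.eq_of_le_of_card_ge (sup_le hX hY) ?_
  have hlt : X < X ⊔ Y := lt_of_le_of_ne le_sup_left fun h =>
    hne (Subgroup.eq_of_le_of_card_ge (h ▸ le_sup_right : Y ≤ X) (hXc.trans hYc.symm).le).symm
  obtain ⟨k, hk⟩ := (isPGroup_of_elementary (elementary_of_le hA (sup_le hX hY))).exists_card_eq
  have h1 := card_lt_of_lt hlt
  rw [hXc, hk] at h1
  rw [hAc, hk]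
  exact Nat.pow_le_pow_right hp.out.pos ((Nat.pow_lt_pow_iff_right hp.out.one_lt).1 (by rwa [pow_one]))

theorem card_coprime {q : ℕ} [Fact q.Prime] {Y : Subgroup G} (hY : IsPGroup q Y) (hqp : q ≠ p) :
    (Nat.card Y).Coprime p := by
  obtain ⟨n, hn⟩ := hY.exists_card_eq
  rw [hn]
  exact ((Nat.coprime_primes Fact.out hp.out).2 hqp).pow_left n

theorem coprime_card_of_not_dvd (hAc : Nat.card A = p ^ 2) {K : Subgroup G} (h : ¬ p ∣ Nat.card K) :
    (Nat.card A).Coprime (Nat.card K) := by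
  rw [hAc]
  exact (PCore.coprime_of_not_dvd h).symm.pow_left 2

/-- A subgroup of `M` whose primes lie in `σ(M)` is in `M_σ`. -/
theorem le_sigmaCore_of_pi (hG : Cfsg.IsMinSimpleOddOrder G) (hM : IsCoatom M) {Y : Subgroup G} (hYM : Y ≤ M)
    (hπ : ∀ t : ℕ, t.Prime → t ∣ Nat.card Y → t ∈ Cfsg.sigma M) : Y ≤ Cfsg.sigmaCore M := by
  refine le_of_prime_subgroups fun t ht T hT hTY => ?_
  haveI := Fact.mk ht
  by_cases hT1 : T = ⊥
  · exact hT1 ▸ bot_le
  exact le_sigmaCore hG hM (hπ t ht ((dvd_card_of_ne_bot hT hT1).trans (Subgroup.card_dvd_of_le hTY))) hT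
    (hTY.trans hYM)

theorem centralizer_le_of_noncyclic (hG : Cfsg.IsMinSimpleOddOrder G) (hM : IsCoatom M) {Q : Subgroup G}
    (hQ : IsPGroup p Q) (hQM : Q ≤ M) (hc : ¬ IsCyclic Q) : Subgroup.centralizer (Q : Set G) ≤ M := by
  have hQ1 : Q ≠ ⊥ := fun h => hc (by rw [h]; exact isCyclic_of_subsingleton)
  obtain ⟨E, hEQ, hE, hEc⟩ := exists_elem_sq
    (ne_two hG ((dvd_card_of_ne_bot hQ hQ1).trans (Subgroup.card_subgroup_dvd_card Q))) hQ hc
  exact (Subgroup.centralizer_le hEQ).trans (centralizer_le_maximal hG hM (hEQ.trans hQM) hE hEc)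

/-- B&G 12.2 (a). -/
theorem normalizer_le_of_noncyclic (hG : Cfsg.IsMinSimpleOddOrder G) (hM : IsCoatom M) (hs : p ∈ Cfsg.sigma M)
    {Q : Subgroup G} (hQ : IsPGroup p Q) (hQM : Q ≤ M) (hc : ¬ IsCyclic Q) :
    Subgroup.normalizer (Q : Set G) ≤ M := fun g hg =>
  mem_of_conj_mem hG hM hs hQ (fun h => hc (by rw [h]; exact isCyclic_of_subsingleton)) hQM
    (centralizer_le_of_noncyclic hG hM hQ hQM hc) ((map_conj_eq_of_normalizer hg).trans_le hQM)

theorem normalizer_le_normalizer_of_cyclic {Q W : Subgroup G} [IsCyclic Q] (hWQ : W ≤ Q) :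
    Subgroup.normalizer (Q : Set G) ≤ Subgroup.normalizer (W : Set G) := fun g hg => by
  rw [Subgroup.mem_normalizer_iff_map_conj_eq]
  exact Chev.Ree.GL0.eq_of_card_eq (A := Q)
    ((Subgroup.map_mono hWQ).trans (map_conj_eq_of_normalizer hg).le) hWQ (card_map_conj W g)

theorem le_normalizer_of_commute {X Y : Subgroup G} (h : X ≤ Subgroup.centralizer (Y : Set G)) :
    X ≤ Subgroup.normalizer (Y : Set G) := h.trans (Subgroup.centralizer_le_normalizer _)

/-- `A ≤ L_σ` centralizes the `A`-invariant subgroups for primes outside `β(L)`. -/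
theorem centralizes_of_not_beta (hG : Cfsg.IsMinSimpleOddOrder G) (hL : IsCoatom L) (hsL : p ∈ Cfsg.sigma L)
    (hAL : A ≤ L) (hA : Cfsg.IsElementaryAbelian p A) {q : ℕ} [Fact q.Prime] (hqp : q ≠ p)
    (hb : q ∉ Cfsg.beta L) {Q : Subgroup G} (hQ : IsPGroup q Q) (hQL : Q ≤ L)
    (hAQ : A ≤ Subgroup.normalizer (Q : Set G)) : Q ≤ Subgroup.centralizer (A : Set G) := by
  have hAσ := le_sigmaCore hG hL hsL (isPGroup_of_elementary hA) hAL
  by_cases hqs : q ∈ Cfsg.sigma L
  · refine Subgroup.le_centralizer_iff.1 (le_centralizer_of_not_beta hG hL hqs hb hQ hQL ?_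
      (card_coprime (p := q) (q := p) (isPGroup_of_elementary hA) (Ne.symm hqp)) hAQ)
    refine hAσ.trans ?_
    rw [Cfsg.sigmaCore, ← Subgroup.map_subtype_commutator]
    exact Subgroup.map_mono (piCore_le_commutator hG hL subset_rfl)
  · rw [← Subgroup.commutator_eq_bot_iff_le_centralizer]
    by_contra hne
    have hle : ⁅Q, A⁆ ≤ Q := CoprimeAction.commutator_le_of_normalizer hAQ
    have hleσ : ⁅Q, A⁆ ≤ Cfsg.sigmaCore L := by
      refine (Subgroup.commutator_mono hQL hAσ).trans ?_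
      rw [Subgroup.commutator_comm]
      exact CoprimeAction.commutator_le_of_normalizer (le_normalizer_sigmaCore L)
    exact hqs (mem_sigma_of_dvd L Fact.out
      ((dvd_card_of_ne_bot (hQ.to_le hle) hne).trans (Subgroup.card_dvd_of_le hleσ)))

/-- `A ≤ L_σ` centralizes the `A`-invariant subgroups for primes of `σ(M)`. -/
theorem centralizes_of_sigma (hG : Cfsg.IsMinSimpleOddOrder G) (hM : IsCoatom M) (hps : p ∉ Cfsg.sigma M)
    (hL : IsCoatom L) (hsL : p ∈ Cfsg.sigma L) (hAL : A ≤ L) (hA : Cfsg.IsElementaryAbelian p A)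
    {q : ℕ} [Fact q.Prime] (hqs : q ∈ Cfsg.sigma M) {Q : Subgroup G} (hQ : IsPGroup q Q) (hQL : Q ≤ L)
    (hAQ : A ≤ Subgroup.normalizer (Q : Set G)) : Q ≤ Subgroup.centralizer (A : Set G) := by
  refine centralizes_of_not_beta hG hL hsL hAL hA (fun e => hps (e ▸ hqs)) (fun hb => ?_) hQ hQL hAQ
  obtain ⟨B, -, hB, hBc⟩ := exists_elem_of_not_prank hb.1.2
  obtain ⟨g, rfl⟩ := exists_conj_eq_of_alpha hG hM hL (mem_alpha_of_elementary hqs hB hBc) hb.1
  exact hps ((mem_sigma_conj_iff g).1 hsL)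

theorem exists_normalizer_not_mem (hG : Cfsg.IsMinSimpleOddOrder G) (hM : IsCoatom M) (hps : p ∉ Cfsg.sigma M)
    (hAM : A ≤ M) (hA : Cfsg.IsElementaryAbelian p A) (hAc : Nat.card A = p ^ 2) :
    ∃ g ∈ Subgroup.normalizer (A : Set G), g ∉ M := by
  obtain ⟨S, hS⟩ := exists_max_ge (isPGroup_of_elementary hA) hAM
  have hpM : p ∣ Nat.card M := (dvd_card_of_ne_bot (isPGroup_of_elementary hA) (ne_bot_of_card_sq hAc)).trans
    (Subgroup.card_dvd_of_le hAM)
  have hO := mem_iff_pow_eq_one hG hM hps hA hAc S hS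
  by_contra hno
  push Not at hno
  refine hps ⟨hp.out, hpM, S, fun g hg => hno g (mem_normalizer_of_map_le ?_)⟩
  rintro _ ⟨a, ha, rfl⟩
  exact (hO _ ((Subgroup.mem_normalizer_iff.1 hg a).1 (hS ha))).1 (by rw [← MulAut.conj_apply, ← map_pow, hA.2 a ha, map_one])

/-- A maximal subgroup containing `N(A)` has `p` in `σ`. -/
theorem sigma_of_normalizer_elementary (hG : Cfsg.IsMinSimpleOddOrder G)
    (hA : Cfsg.IsElementaryAbelian p A) (hAc : Nat.card A = p ^ 2)
    (hL : IsCoatom L) (hNL : Subgroup.normalizer (A : Set G) ≤ L) : p ∈ Cfsg.sigma L := by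
  by_contra hsL
  have hAL : A ≤ L := Subgroup.le_normalizer.trans hNL
  obtain ⟨S, hS⟩ := exists_max_ge (isPGroup_of_elementary hA) hAL
  have hpL : p ∣ Nat.card L := (dvd_card_of_ne_bot (isPGroup_of_elementary hA) (ne_bot_of_card_sq hAc)).trans
    (Subgroup.card_dvd_of_le hAL)
  have hO := mem_iff_pow_eq_one hG hL hsL hA hAc S hS
  refine hsL ⟨hp.out, hpL, S, fun g hg => hNL (mem_normalizer_of_map_le ?_)⟩
  rintro _ ⟨a, ha, rfl⟩
  exact (hO _ ((Subgroup.mem_normalizer_iff.1 hg a).1 (hS ha))).1 (by rw [← MulAut.conj_apply, ← map_pow, hA.2 a ha, map_one])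

/-- A Sylow subgroup of `M_σ` is one of `G`, with normalizer in `M`. -/
theorem exists_sylow_of_sigmaCore (hG : Cfsg.IsMinSimpleOddOrder G) (hM : IsCoatom M) (hs : p ∈ Cfsg.sigma M)
    (S : Sylow p ↥(Cfsg.sigmaCore M)) :
    ∃ P : Sylow p G, (P : Subgroup G) = (S : Subgroup ↥(Cfsg.sigmaCore M)).map (Cfsg.sigmaCore M).subtype ∧
      (P : Subgroup G) ≤ M ∧ Subgroup.normalizer ((P : Subgroup G) : Set G) ≤ M := by
  obtain ⟨P, hP, hPM, hN⟩ := exists_sylow hs (S.isPGroup'.map (Cfsg.sigmaCore M).subtype)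
    ((Subgroup.map_subtype_le _).trans (Subgroup.map_subtype_le _))
  exact ⟨P, sylow_map_max S _ P.isPGroup' (le_sigmaCore hG hM hs P.isPGroup' hPM) hP, hPM, hN⟩

theorem not_dvd_card_sigmaCore (hps : p ∉ Cfsg.sigma M) : ¬ p ∣ Nat.card ↥(Cfsg.sigmaCore M) := fun h =>
  hps (mem_sigma_of_dvd M hp.out h)

/-- An invariant Sylow subgroup of `G` in `M` over an invariant `r`-subgroup. -/
theorem exists_invariant_sigma_sylow (hG : Cfsg.IsMinSimpleOddOrder G) (hM : IsCoatom M)
    (hps : p ∉ Cfsg.sigma M) (hAM : A ≤ M) (hA : Cfsg.IsElementaryAbelian p A) (hAc : Nat.card A = p ^ 2)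
    {r : ℕ} [Fact r.Prime] (hrs : r ∈ Cfsg.sigma M) {Y : Subgroup G} (hY : IsPGroup r Y) (hYM : Y ≤ M)
    (hAY : A ≤ Subgroup.normalizer (Y : Set G)) :
    ∃ P : Sylow r G, Y ≤ (P : Subgroup G) ∧ (P : Subgroup G) ≤ M ∧
      Subgroup.normalizer ((P : Subgroup G) : Set G) ≤ M ∧
      A ≤ Subgroup.normalizer ((P : Subgroup G) : Set G) := by
  haveI := hA.1
  obtain ⟨S, hYS, hAS⟩ := CoprimeAction.exists_invariant_sylow_ge (p := r)
    (hAM.trans (le_normalizer_sigmaCore M)) (coprime_card_of_not_dvd hAc (not_dvd_card_sigmaCore hps))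
    (Or.inl (Group.isSolvable_of_comm mul_comm')) (le_sigmaCore hG hM hrs hY hYM) hY hAY
  obtain ⟨P, hP, hPM, hN⟩ := exists_sylow_of_sigmaCore hG hM hrs S
  exact ⟨P, hP ▸ hYS, hPM, hN, hP ▸ hAS⟩

/-- B&G 12.5 (d). -/
theorem sigmaCore_inf_centralizer_eq_bot (hG : Cfsg.IsMinSimpleOddOrder G) (hM : IsCoatom M)
    (hps : p ∉ Cfsg.sigma M) (hAM : A ≤ M) (hA : Cfsg.IsElementaryAbelian p A) (hAc : Nat.card A = p ^ 2) :
    Cfsg.sigmaCore M ⊓ Subgroup.centralizer (A : Set G) = ⊥ := by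
  set D := Cfsg.sigmaCore M ⊓ Subgroup.centralizer (A : Set G) with hD
  by_contra hne
  have hCA := centralizer_le_maximal hG hM hAM hA hAc
  have hDM : D ≤ M := inf_le_right.trans hCA
  have hND : Subgroup.normalizer (A : Set G) ≤ Subgroup.normalizer (D : Set G) := fun g hg => by
    refine mem_normalizer_of_map_le ?_
    have h2 : D.map (MulAut.conj g).toMonoidHom ≤ Subgroup.centralizer (A : Set G) := by
      rintro _ ⟨x, hx, rfl⟩
      exact (Subgroup.mem_normalizer_iff.1 (Components.normalizer_le_normalizer_centralizer _ hg) x).1 hx.2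
    refine le_inf (le_sigmaCore_of_pi hG hM (h2.trans hCA) fun t ht hd => ?_) h2
    rw [card_map_conj] at hd
    exact mem_sigma_of_dvd M ht (hd.trans (Subgroup.card_dvd_of_le inf_le_left))
  haveI := isSolvable_of_ne_top hG (ne_top_of_le_ne_top hM.1 hDM)
  haveI : Nontrivial D := (Subgroup.nontrivial_iff_ne_bot _).2 hne
  obtain ⟨q, hq, hqW⟩ := TICent.exists_pCore_ne_bot (G := ↥D) _ ⊤ rfl inferInstance top_ne_bot inferInstance
  haveI := Fact.mk hq
  haveI := PCore.pCore_characteristic q ↥D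
  set W := (Cfsg.pCore q ↥D).map D.subtype with hW
  have hW1 : W ≠ ⊥ := fun h => hqW ((Subgroup.map_eq_bot_iff_of_injective _ D.subtype_injective).1 h)
  have hNW : Subgroup.normalizer (A : Set G) ≤ Subgroup.normalizer (W : Set G) :=
    hND.trans (le_normalizer_map_subtype_of_char _)
  obtain ⟨S⟩ : Nonempty (Sylow q ↥D) := inferInstance
  set Q₀ := (S : Subgroup ↥D).map D.subtype with hQ₀
  have hQ₀D : Q₀ ≤ D := Subgroup.map_subtype_le _
  have hQ₀p : IsPGroup q Q₀ := S.isPGroup'.map _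
  have hWQ₀ : W ≤ Q₀ := Subgroup.map_mono (PCore.pCore_le_sylow S)
  have hqs : q ∈ Cfsg.sigma M := mem_sigma_of_dvd M hq ((dvd_card_of_ne_bot (hQ₀p.to_le hWQ₀) hW1).trans
    (Subgroup.card_dvd_of_le (hWQ₀.trans (hQ₀D.trans inf_le_left))))
  have hfr : ∀ g ∈ Subgroup.normalizer (A : Set G), ∃ c ∈ D, c * g ∈ Subgroup.normalizer (Q₀ : Set G) := by
    intro g hg
    have hle : Q₀.map (MulAut.conj g).toMonoidHom ≤ D :=
      (Subgroup.map_mono hQ₀D).trans (map_conj_eq_of_normalizer (hND hg)).le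
    obtain ⟨T, hT⟩ := exists_max_ge (hQ₀p.map (MulAut.conj g).toMonoidHom) hle
    obtain ⟨c, hc, hce⟩ := exists_conj_sylow T S
    have heq : Q₀.map (MulAut.conj g).toMonoidHom = (T : Subgroup ↥D).map D.subtype :=
      Subgroup.eq_of_le_of_card_ge hT (le_of_eq (by rw [card_map_conj, ← card_map_conj ((T : Subgroup ↥D).map D.subtype) c, hce]))
    refine ⟨c, hc, ?_⟩
    rw [Subgroup.mem_normalizer_iff_map_conj_eq]
    show Q₀.map (MulAut.conj (c * g)).toMonoidHom = Q₀
    rw [← map_conj_map, heq, hce]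
  obtain ⟨g, hg, hgM⟩ := exists_normalizer_not_mem hG hM hps hAM hA hAc
  by_cases hc : IsCyclic Q₀
  · obtain ⟨L, hL, hNL⟩ := exists_coatom_ge (normalizer_ne_top hG hW1
      (pgroup_ne_top hG (hQ₀p.to_le hWQ₀)))
    have hsL := sigma_of_normalizer_elementary hG hA hAc hL (hNW.trans hNL)
    have hAQ₀ : A ≤ Subgroup.normalizer (Q₀ : Set G) :=
      le_normalizer_of_commute (Subgroup.le_centralizer_iff.1 (hQ₀D.trans inf_le_right))
    obtain ⟨P, hQ₀P, hPM, hNP, hAP⟩ := exists_invariant_sigma_sylow hG hM hps hAM hA hAc hqs hQ₀p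
      (hQ₀D.trans hDM) hAQ₀
    set Q := (P : Subgroup G) ⊓ Subgroup.normalizer (Q₀ : Set G) with hQ
    have hAQ : A ≤ Subgroup.normalizer (Q : Set G) :=
      (le_inf hAP (hAQ₀.trans Subgroup.le_normalizer)).trans Subgroup.inf_normalizer_le_normalizer_inf
    have hQC := centralizes_of_sigma hG hM hps hL hsL (Subgroup.le_normalizer.trans (hNW.trans hNL)) hA hqs
      (P.isPGroup'.to_le inf_le_left) (inf_le_right.trans ((normalizer_le_normalizer_of_cyclic hWQ₀).trans hNL)) hAQ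
    have hQeq : Q = Q₀ := sylow_map_max S Q (P.isPGroup'.to_le inf_le_left)
      (le_inf (le_sigmaCore hG hM hqs (P.isPGroup'.to_le inf_le_left) (inf_le_left.trans hPM)) hQC)
      (le_inf hQ₀P Subgroup.le_normalizer)
    have hPQ : (P : Subgroup G) = Q₀ := by
      by_contra hne'
      exact (exists_lt_mem_normalizer P.isPGroup' (lt_of_le_of_ne hQ₀P (Ne.symm hne'))).ne hQeq.symm
    obtain ⟨c, hc', hcg⟩ := hfr g hg
    rw [← hPQ] at hcg
    exact hgM (by simpa using M.mul_mem (M.inv_mem (hDM hc')) (hNP hcg))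
  · obtain ⟨c, hc', hcg⟩ := hfr g hg
    have h1 := M.mul_mem (M.inv_mem (hDM hc'))
      (normalizer_le_of_noncyclic hG hM hqs hQ₀p (hQ₀D.trans hDM) hc hcg)
    exact hgM (by simpa using h1)

/-- A prime order group moved by a `p`-element. -/
theorem dvd_sub_one_of_moves {r : ℕ} [Fact r.Prime] {K : Subgroup G} (hK : Nat.card K = r) {x : G}
    (hx : x ∈ Subgroup.normalizer (K : Set G)) (hxp : x ^ p = 1) (hxC : x ∉ Subgroup.centralizer (K : Set G)) :
    p ∣ r - 1 := by
  haveI : IsCyclic K := isCyclic_of_prime_card hK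
  by_contra hd
  refine hxC ?_
  set φ := K.normalizerMonoidHom with hφ
  have h1 : orderOf (φ ⟨x, hx⟩) ∣ p := orderOf_dvd_of_pow_eq_one (by
    rw [← map_pow, show (⟨x, hx⟩ : Subgroup.normalizer (K : Set G)) ^ p = 1 from Subtype.ext hxp, map_one])
  have h2 : orderOf (φ ⟨x, hx⟩) ∣ r - 1 := by
    have h := orderOf_dvd_natCard (φ ⟨x, hx⟩)
    rwa [IsCyclic.card_mulAut, hK, Nat.totient_prime Fact.out] at h
  have h3 : φ ⟨x, hx⟩ = 1 :=
    orderOf_eq_one_iff.1 (Nat.eq_one_of_dvd_coprimes (hp.out.coprime_iff_not_dvd.2 hd) h1 h2)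
  have h4 : (⟨x, hx⟩ : Subgroup.normalizer (K : Set G)) ∈ φ.ker := h3
  rwa [hφ, Subgroup.normalizerMonoidHom_ker, Subgroup.mem_subgroupOf] at h4

theorem lt_of_moves_line {r : ℕ} [Fact r.Prime] (hA : Cfsg.IsElementaryAbelian p A) {K : Subgroup G}
    (hK : Nat.card K = r) (hAK : A ≤ Subgroup.normalizer (K : Set G))
    (hAC : ¬ A ≤ Subgroup.centralizer (K : Set G)) : p < r := by
  obtain ⟨a, ha, haC⟩ := SetLike.not_le_iff_exists.1 hAC
  have hr := (Fact.out : r.Prime).two_le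
  have := Nat.le_of_dvd (by omega) (dvd_sub_one_of_moves hK (hAK ha) (hA.2 a ha) haC)
  omega

/-- For `p < r` the `r`-subgroups of `L` lie in `O_{p'}(L)`. -/
theorem le_pPrimeCore_of_lt (hG : Cfsg.IsMinSimpleOddOrder G) (hL : IsCoatom L) (hpsL : p ∉ Cfsg.sigma L)
    (hAL : A ≤ L) (hAc : Nat.card A = p ^ 2) {r : ℕ} [Fact r.Prime] (hpr : p < r) {Y : Subgroup G}
    (hY : IsPGroup r Y) (hYL : Y ≤ L) : Y ≤ (Cfsg.pPrimeCore p ↥L).map L.subtype := by
  haveI := isSolvable_of_ne_top hG hL.1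
  have hpL : p ∣ Nat.card L :=
    (hAc ▸ dvd_pow_self p two_ne_zero : p ∣ Nat.card A).trans (Subgroup.card_dvd_of_le hAL)
  have hi : ¬ r ∣ (Cfsg.pPrimeCore p ↥L).index := fun h =>
    absurd ((Cfsg.Agent.S1450.result (odd_card hG L) p hpL (prankLE_two_of_not_sigma hG hL hpsL)).1 r Fact.out h)
      (not_le.2 hpr)
  intro y hy
  obtain ⟨n, hn⟩ := hY ⟨y, hy⟩
  exact ⟨⟨y, hYL hy⟩, OddFitting.mem_of_coprime_pow (H := Cfsg.pPrimeCore p ↥L)
    ((PCore.coprime_of_not_dvd hi).symm.pow_left n) (Subtype.ext (by simpa using congrArg Subtype.val hn))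
    ((Cfsg.pPrimeCore p ↥L).pow_index_mem _), rfl⟩

/-- The maximal `A`-invariant `r`-subgroups of `L` are conjugate under `C(A)`. -/
theorem exists_conj_invariant (hG : Cfsg.IsMinSimpleOddOrder G) (hL : IsCoatom L) (hpsL : p ∉ Cfsg.sigma L)
    (hAL : A ≤ L) (hA : Cfsg.IsElementaryAbelian p A) (hAc : Nat.card A = p ^ 2) {r : ℕ} [Fact r.Prime]
    (hpr : p < r) {Y₁ Y₂ : Subgroup G} (hY₁ : IsPGroup r Y₁) (hY₁L : Y₁ ≤ L)
    (hAY₁ : A ≤ Subgroup.normalizer (Y₁ : Set G)) (hY₂ : IsPGroup r Y₂) (hY₂L : Y₂ ≤ L)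
    (hAY₂ : A ≤ Subgroup.normalizer (Y₂ : Set G)) :
    ∃ T₁ T₂ : Subgroup G, IsPGroup r T₁ ∧ IsPGroup r T₂ ∧ T₁ ≤ L ∧ T₂ ≤ L ∧ Y₁ ≤ T₁ ∧ Y₂ ≤ T₂ ∧
      A ≤ Subgroup.normalizer (T₁ : Set G) ∧
      ∃ c ∈ Subgroup.centralizer (A : Set G), T₁.map (MulAut.conj c).toMonoidHom = T₂ := by
  haveI := hA.1
  haveI := PCore.pPrimeCore_characteristic p ↥L
  set H := (Cfsg.pPrimeCore p ↥L).map L.subtype with hH
  have hAH : A ≤ Subgroup.normalizer (H : Set G) :=
    (hAL.trans Subgroup.le_normalizer).trans (le_normalizer_map_subtype_of_char _)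
  have hcop : (Nat.card A).Coprime (Nat.card H) := coprime_card_of_not_dvd hAc (by
    rw [hH, Subgroup.card_map_of_injective L.subtype_injective]
    exact PCore.not_dvd_card_pPrimeCore p _)
  have hs : Group.IsSolvable A ∨ Group.IsSolvable H := Or.inl (Group.isSolvable_of_comm mul_comm')
  obtain ⟨T₁, h1, hA1⟩ := CoprimeAction.exists_invariant_sylow_ge (p := r) hAH hcop hs
    (le_pPrimeCore_of_lt hG hL hpsL hAL hAc hpr hY₁ hY₁L) hY₁ hAY₁
  obtain ⟨T₂, h2, hA2⟩ := CoprimeAction.exists_invariant_sylow_ge (p := r) hAH hcop hs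
    (le_pPrimeCore_of_lt hG hL hpsL hAL hAc hpr hY₂ hY₂L) hY₂ hAY₂
  obtain ⟨c, hc, hce⟩ := CoprimeAction.invariant_sylow_conj hAH hcop hs T₁ T₂ hA1 hA2
  refine ⟨_, _, T₁.isPGroup'.map _, T₂.isPGroup'.map _, (Subgroup.map_subtype_le _).trans
    (Subgroup.map_subtype_le _), (Subgroup.map_subtype_le _).trans (Subgroup.map_subtype_le _), h1, h2, hA1,
    c, hc, ?_⟩
  rw [← hce, CoprimeAction.sylow_map_conj]
  rfl

theorem commute_of_not_sigma (hG : Cfsg.IsMinSimpleOddOrder G) (hL : IsCoatom L) (hpsL : p ∉ Cfsg.sigma L)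
    {T : Subgroup G} (hT : IsPGroup p T) (hTL : T ≤ L) : ∀ x ∈ T, ∀ y ∈ T, x * y = y * x := by
  intro x hx y hy
  by_cases hc : IsCyclic T
  · haveI := hc
    haveI : IsMulCommutative T := IsCyclic.isMulCommutative
    exact congrArg Subtype.val (mul_comm' (⟨x, hx⟩ : T) ⟨y, hy⟩)
  · obtain ⟨B, hBT, hB, hBc⟩ := exists_elem_sq (ne_two hG ((dvd_card_of_ne_bot hT fun h =>
      hc (by rw [h]; exact isCyclic_of_subsingleton)).trans (Subgroup.card_subgroup_dvd_card T))) hT hc
    obtain ⟨S, hS⟩ := exists_max_ge hT hTL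
    exact sylow_commute_of_elementary hG hL hpsL hB hBc S (hBT.trans hS) x (hS hx) y (hS hy)

/-- The fixed points of a line in a Sylow subgroup have their centralizer in `M`. -/
theorem centralizer_fixed_le (hG : Cfsg.IsMinSimpleOddOrder G) (hM : IsCoatom M) (P : Sylow p G)
    (hPM : (P : Subgroup G) ≤ M) (hNP : Subgroup.normalizer ((P : Subgroup G) : Set G) ≤ M)
    {Z : Subgroup G} (hZ : Nat.card Z = p) (hZP : Z ≤ (P : Subgroup G)) :
    Subgroup.centralizer (((P : Subgroup G) ⊓ Subgroup.centralizer (Z : Set G) : Subgroup G) : Set G) ≤ M := by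
  set Q := (P : Subgroup G) ⊓ Subgroup.centralizer (Z : Set G) with hQ
  by_cases hc : IsCyclic Q
  · haveI := hc
    obtain ⟨z, hzP, hzo, hzc⟩ := exists_elem_pow P.isPGroup' fun h => by
      rw [le_bot_iff.1 (hZP.trans h.le), Subgroup.card_bot] at hZ
      exact hp.out.one_lt.ne hZ
    have hzZ : z ∈ Subgroup.centralizer (Z : Set G) := Subgroup.mem_centralizer_iff.2 fun t ht => hzc t (hZP ht)
    haveI : IsCyclic Z := isCyclic_of_prime_card hZ
    haveI : IsMulCommutative Z := IsCyclic.isMulCommutative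
    have he : Subgroup.zpowers z = Z := Chev.Ree.GL0.eq_of_card_eq (A := Q)
      (Subgroup.zpowers_le.2 ⟨hzP, hzZ⟩) (le_inf hZP (Subgroup.le_centralizer Z))
      (by rw [Nat.card_zpowers, hzo, hZ])
    have hQP : Q = (P : Subgroup G) := by
      refine inf_eq_left.2 (Subgroup.le_centralizer_iff.1 ?_)
      rw [← he]
      exact Subgroup.zpowers_le.2 (Subgroup.mem_centralizer_iff.2 hzc)
    rw [hQP]
    exact (Subgroup.centralizer_le_normalizer _).trans hNP
  · exact centralizer_le_of_noncyclic hG hM (P.isPGroup'.to_le inf_le_left) (inf_le_left.trans hPM) hc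

theorem mem_of_le_conj (hG : Cfsg.IsMinSimpleOddOrder G) (hM : IsCoatom M) (hs : p ∈ Cfsg.sigma M)
    {X : Subgroup G} (hX : IsPGroup p X) (hX1 : X ≠ ⊥) (hXM : X ≤ M)
    (hC : Subgroup.centralizer (X : Set G) ≤ M) {g : G} (hXg : X ≤ M.map (MulAut.conj g).toMonoidHom) :
    g ∈ M := by
  refine inv_mem_iff.1 (mem_of_conj_mem hG hM hs hX hX1 hXM hC ((Subgroup.map_mono hXg).trans (le_of_eq ?_)))
  rw [map_conj_map, inv_mul_cancel, map_conj_one]

/-- `M_β ∩ M ^ g = 1` for `g ∉ M`. -/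
theorem betaCore_inf_conj_eq_bot (hG : Cfsg.IsMinSimpleOddOrder G) (hM : IsCoatom M) {g : G} (hg : g ∉ M) :
    Cfsg.piCoreOf (Cfsg.beta M) M ⊓ M.map (MulAut.conj g).toMonoidHom = ⊥ := by
  by_contra hne
  obtain ⟨s, hs, hd⟩ := Nat.exists_prime_and_dvd (fun e => hne (Subgroup.card_eq_one.1 e))
  haveI := Fact.mk hs
  obtain ⟨⟨w, hw⟩, hwo⟩ := exists_prime_orderOf_dvd_card' s hd
  rw [Subgroup.orderOf_mk] at hwo
  have hb : s ∈ Cfsg.beta M :=
    (betaCore_hallOf hG hM).2.1 s hs (hd.trans (Subgroup.card_dvd_of_le inf_le_left))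
  have hwM : w ∈ M := (betaCore_hallOf hG hM).1 hw.1
  refine hg (mem_of_le_conj hG hM (mem_sigma_of_alpha hG hM hb.1) (X := Subgroup.zpowers w)
    (IsPGroup.of_card (n := 1) (by rw [Nat.card_zpowers, hwo, pow_one]))
    (fun h => hs.one_lt.ne (by rw [← hwo, Subgroup.zpowers_eq_bot.1 h, orderOf_one])) (Subgroup.zpowers_le.2 hwM)
    ?_ (Subgroup.zpowers_le.2 hw.2))
  rw [centralizer_zpowers]
  exact (unique_centralizer_of_beta hG hM hb hwM hwo).2

/-- A prime order operator without fixed points makes the commutator act trivially. -/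
theorem commutator_le_centralizer_of_free {q : ℕ} [Fact q.Prime] (hq2 : q ≠ 2) (hqp : q ≠ p)
    {S X K : Subgroup G} (hS : IsPGroup q S) (hX : Nat.card X = p) (hXS : X ≤ Subgroup.normalizer (S : Set G))
    (hSK : S ≤ Subgroup.normalizer (K : Set G)) (hXK : X ≤ Subgroup.normalizer (K : Set G))
    (hqK : ¬ q ∣ Nat.card K) (hpK : ¬ p ∣ Nat.card K) (hK : Group.IsSolvable K)
    (hfix : K ⊓ Subgroup.centralizer (X : Set G) = ⊥) : ⁅S, X⁆ ≤ Subgroup.centralizer (K : Set G) := by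
  rw [Subgroup.le_centralizer_iff, ← Subgroup.relIndex_eq_one]
  refine Nat.eq_one_iff_not_exists_prime_dvd.2 fun l hl hd => ?_
  haveI := Fact.mk hl
  have hlK : l ∣ Nat.card K := hd.trans (Subgroup.index_dvd_card _)
  have hlq : l ≠ q := fun e => hqK (e ▸ hlK)
  have hlp : l ≠ p := fun e => hpK (e ▸ hlK)
  have hcop : (Nat.card ↥(S ⊔ X)).Coprime (Nat.card K) := by
    refine Nat.coprime_of_dvd fun t ht h1 h2 => ?_
    obtain ⟨n, hn⟩ := hS.exists_card_eq
    have h3 : t ∣ Nat.card X * Nat.card S := h1.trans (by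
      rw [sup_comm, ← ZJ.card_sup_mul_card_inf_of_le_normalizer hXS]; exact dvd_mul_right _ _)
    rw [hX, hn] at h3
    rcases ht.dvd_mul.1 h3 with h | h
    · exact hpK ((Nat.prime_dvd_prime_iff_eq ht hp.out).1 h ▸ h2)
    · exact hqK ((Nat.prime_dvd_prime_iff_eq ht Fact.out).1 (ht.dvd_of_dvd_pow h) ▸ h2)
  obtain ⟨P, hP⟩ := CoprimeAction.exists_invariant_sylow (p := l) (sup_le hSK hXK) hcop (Or.inr hK)
  have hle : ⁅S, X⁆ ≤ Subgroup.centralizer ((P : Subgroup K).map K.subtype : Set G) :=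
    commutator_le_centralizer_of_fixed hl Fact.out hp.out hlq hlp hqp hq2 hS hX (P.isPGroup'.map _) hXS
      (le_sup_left.trans hP) (le_sup_right.trans hP)
      ((inf_le_inf_right _ (Subgroup.map_subtype_le _)).trans (hfix.le.trans bot_le))
  refine P.not_dvd_index (hd.trans (Subgroup.index_dvd_of_le fun x hx => ?_))
  exact Subgroup.mem_subgroupOf.2 (Subgroup.le_centralizer_iff.1 hle ⟨x, hx, rfl⟩)

theorem mem_of_sq_mem (hG : Cfsg.IsMinSimpleOddOrder G) {g : G} (h : g ^ 2 ∈ M) : g ∈ M := by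
  have hodd : Odd (orderOf g) := by
    have := odd_card hG (Subgroup.zpowers g)
    rwa [Nat.card_zpowers] at this
  obtain ⟨k, hk⟩ := hodd
  have he : g = (g ^ 2) ^ (k + 1) := by
    rw [← pow_mul, show 2 * (k + 1) = orderOf g + 1 by omega, pow_succ, pow_orderOf_eq_one, one_mul]
  rw [he]
  exact pow_mem h _

theorem le_of_conj_of_normalizer (hAM : A ≤ M) {g : G} (hg : g ∈ Subgroup.normalizer (A : Set G)) :
    A ≤ M.map (MulAut.conj g).toMonoidHom :=
  (map_conj_eq_of_normalizer hg).ge.trans (Subgroup.map_mono hAM)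

theorem centralizer_conj_le {X : Subgroup G} (h : Subgroup.normalizer (X : Set G) ≤ M) (g : G) :
    Subgroup.centralizer ((X.map (MulAut.conj g).toMonoidHom : Subgroup G) : Set G) ≤
      M.map (MulAut.conj g).toMonoidHom := by
  refine (Subgroup.centralizer_le_normalizer _).trans (le_trans (le_of_eq ?_) (Subgroup.map_mono h))
  exact (Subgroup.map_equiv_normalizer_eq X (MulAut.conj g)).symm

/-- B&G 12.5 (e) for the conjugates of `M`. -/
theorem sigmaCore_inf_conj_eq_bot (hG : Cfsg.IsMinSimpleOddOrder G) (hM : IsCoatom M) (hps : p ∉ Cfsg.sigma M)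
    (hAM : A ≤ M) (hA : Cfsg.IsElementaryAbelian p A) (hAc : Nat.card A = p ^ 2) {g : G}
    (hgA : g ∈ Subgroup.normalizer (A : Set G)) (hgM : g ∉ M) :
    Cfsg.sigmaCore M ⊓ M.map (MulAut.conj g).toMonoidHom = ⊥ := by
  haveI := hA.1
  set M₁ := M.map (MulAut.conj g).toMonoidHom with hM₁
  have hM₁c : IsCoatom M₁ := isCoatom_map _ hM
  have hps₁ : p ∉ Cfsg.sigma M₁ := fun h => hps ((mem_sigma_conj_iff g).1 h)
  have hAM₁ : A ≤ M₁ := le_of_conj_of_normalizer hAM hgA
  set D := Cfsg.sigmaCore M ⊓ M₁ with hD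
  by_contra hne
  obtain ⟨r, hr, hrd⟩ := Nat.exists_prime_and_dvd (fun e => hne (Subgroup.card_eq_one.1 e))
  haveI := Fact.mk hr
  have hrs : r ∈ Cfsg.sigma M := mem_sigma_of_dvd M hr (hrd.trans (Subgroup.card_dvd_of_le inf_le_left))
  have hrs₁ : r ∈ Cfsg.sigma M₁ := (mem_sigma_conj_iff g).2 hrs
  have hrp : r ≠ p := fun e => hps (e ▸ hrs)
  have hAD : A ≤ Subgroup.normalizer (D : Set G) :=
    (le_inf (hAM.trans (le_normalizer_sigmaCore M)) (hAM₁.trans Subgroup.le_normalizer)).trans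
      Subgroup.inf_normalizer_le_normalizer_inf
  obtain ⟨S, hAS⟩ := CoprimeAction.exists_invariant_sylow hAD (coprime_card_of_not_dvd hAc fun h =>
    not_dvd_card_sigmaCore hps (h.trans (Subgroup.card_dvd_of_le inf_le_left)))
    (Or.inl (Group.isSolvable_of_comm mul_comm')) r
  set R := (S : Subgroup ↥D).map D.subtype with hR
  have hRp : IsPGroup r R := S.isPGroup'.map _
  have hRD : R ≤ D := Subgroup.map_subtype_le _
  have hRM : R ≤ M := hRD.trans (inf_le_left.trans (Subgroup.map_subtype_le _))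
  have hR1 : R ≠ ⊥ := fun h => by
    have := S.dvd_card_of_dvd_card hrd
    rw [← Subgroup.card_map_of_injective D.subtype_injective (K := (S : Subgroup ↥D)), ← hR, h,
      Subgroup.card_bot] at this
    exact hr.one_lt.ne' (Nat.dvd_one.1 this)
  haveI hRc : IsCyclic R := by
    by_contra hc
    exact hgM (mem_of_le_conj hG hM hrs hRp hR1 hRM (centralizer_le_of_noncyclic hG hM hRp hRM hc)
      (hRD.trans inf_le_right))
  obtain ⟨z, hzR, hzo, -⟩ := exists_elem_pow hRp hR1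
  set Z := Subgroup.zpowers z with hZdef
  have hZR : Z ≤ R := Subgroup.zpowers_le.2 hzR
  have hZc : Nat.card Z = r := by rw [hZdef, Nat.card_zpowers, hzo]
  have hZp : IsPGroup r Z := hRp.to_le hZR
  have hZ1 : Z ≠ ⊥ := fun h => by
    rw [h, Subgroup.card_bot] at hZc
    exact hr.one_lt.ne hZc
  have hAZ : A ≤ Subgroup.normalizer (Z : Set G) := hAS.trans (normalizer_le_normalizer_of_cyclic hZR)
  have hnC : ¬ Z ≤ Subgroup.centralizer (A : Set G) := fun h => hZ1 (le_bot_iff.1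
    ((le_inf (hZR.trans (hRD.trans inf_le_left)) h).trans
      (sigmaCore_inf_centralizer_eq_bot hG hM hps hAM hA hAc).le))
  have hpr : p < r := lt_of_moves_line hA hZc hAZ fun h => hnC (Subgroup.le_centralizer_iff.1 h)
  have hCZ : ¬ Subgroup.centralizer (Z : Set G) ≤ M := fun h => hgM (mem_of_le_conj hG hM hrs hZp hZ1
    (hZR.trans hRM) h (hZR.trans (hRD.trans inf_le_right)))
  obtain ⟨L, hL, hNL⟩ := exists_coatom_ge (normalizer_ne_top hG hZ1 (pgroup_ne_top hG hZp))
  have hLM : L ≠ M := fun e => hCZ ((Subgroup.centralizer_le_normalizer _).trans (hNL.trans e.le))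
  have hAL : A ≤ L := hAZ.trans hNL
  have hpsL : p ∉ Cfsg.sigma L := fun h =>
    hnC (centralizes_of_sigma hG hM hps hL h hAL hA hrs hZp (Subgroup.le_normalizer.trans hNL) hAZ)
  have hCL : Subgroup.centralizer (Z : Set G) ≤ L := (Subgroup.centralizer_le_normalizer _).trans hNL
  obtain ⟨P, hZP, hPM, hNP, hAP⟩ := exists_invariant_sigma_sylow hG hM hps hAM hA hAc hrs hZp (hZR.trans hRM) hAZ
  set R' := (P : Subgroup G) ⊓ Subgroup.centralizer (Z : Set G) with hR'
  have hR'L : R' ≤ L := inf_le_right.trans hCL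
  have hR'p : IsPGroup r R' := P.isPGroup'.to_le inf_le_left
  have hAC : A ≤ Subgroup.normalizer (Subgroup.centralizer (Z : Set G) : Set G) :=
    hAZ.trans (Components.normalizer_le_normalizer_centralizer _)
  have hAR' : A ≤ Subgroup.normalizer (R' : Set G) :=
    (le_inf hAP hAC).trans Subgroup.inf_normalizer_le_normalizer_inf
  have hCR' := centralizer_fixed_le hG hM P hPM hNP hZc hZP
  haveI : IsCyclic Z := isCyclic_of_prime_card hZc
  haveI : IsMulCommutative Z := IsCyclic.isMulCommutative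
  have hZR' : Z ≤ R' := le_inf hZP (Subgroup.le_centralizer Z)
  by_cases hrL : r ∈ Cfsg.sigma L
  · -- a Sylow subgroup of `G` with normalizer in `M ∩ L`
    obtain ⟨Q, hR'Q, hQL, hNQ⟩ := exists_sylow hrL hR'p hR'L
    obtain ⟨h, hh⟩ := MulAction.exists_smul_eq G Q P
    have hhQ : (Q : Subgroup G).map (MulAut.conj h).toMonoidHom = (P : Subgroup G) :=
      congrArg Sylow.toSubgroup hh
    have hhM : h ∈ M := mem_of_conj_mem hG hM hrs hR'p (fun e => hZ1 (le_bot_iff.1 (hZR'.trans e.le)))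
      (inf_le_left.trans hPM) hCR' ((Subgroup.map_mono hR'Q).trans (hhQ.le.trans hPM))
    have hQM : (Q : Subgroup G) ≤ M := by
      intro x hx
      have h1 : h * x * h⁻¹ ∈ M := hPM (hhQ.le ⟨x, hx, rfl⟩)
      simpa [mul_assoc] using M.mul_mem (M.mul_mem (M.inv_mem hhM) h1) hhM
    have hNQM : Subgroup.normalizer ((Q : Subgroup G) : Set G) ≤ M := by
      have := normalizer_sylow_le hrs (Q.subtype hQM)
      rwa [Sylow.coe_subtype, Subgroup.map_subgroupOf_eq_of_le hQM] at this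
    have hrb : r ∉ Cfsg.beta M := fun hb => hCZ (by
      rw [hZdef, centralizer_zpowers]
      exact (unique_centralizer_of_beta hG hM hb (hRM hzR) hzo).2)
    set K := Cfsg.piCoreOf (Cfsg.beta M) M with hK
    have hKhall := betaCore_hallOf hG hM
    have hMK : M ≤ Subgroup.normalizer (K : Set G) := by
      rw [← Subgroup.normal_subgroupOf_iff_le_normalizer hKhall.1, Cfsg.piCoreOf, Subgroup.subgroupOf,
        Subgroup.comap_map_eq_self_of_injective M.subtype_injective]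
      infer_instance
    have hKσ : K ≤ Cfsg.sigmaCore M := le_sigmaCore_of_pi hG hM hKhall.1 fun t ht hd =>
      haveI := Fact.mk ht
      mem_sigma_of_alpha hG hM (hKhall.2.1 t ht hd).1
    set U := (M ⊓ L) ⊔ K with hU
    have hQU : (Q : Subgroup G) ≤ U := (le_inf hQM hQL).trans le_sup_left
    have hQσ := le_sigmaCore hG hM hrs Q.isPGroup' hQM
    have hσU : Cfsg.sigmaCore M ≤ U := by
      rw [← Subgroup.relIndex_eq_one]
      refine Nat.eq_one_iff_not_exists_prime_dvd.2 fun s hs hd => ?_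
      haveI := Fact.mk hs
      have hsd : s ∣ Nat.card ↥(Cfsg.sigmaCore M) := hd.trans (Subgroup.index_dvd_card _)
      have hss := mem_sigma_of_dvd M hs hsd
      by_cases hsb : s ∈ Cfsg.beta M
      · refine hKhall.2.2 s hs hsb (hd.trans ((Subgroup.relIndex_dvd_of_le_left _ le_sup_right).trans ?_))
        exact ⟨_, (Subgroup.relIndex_mul_relIndex _ _ _ hKσ (Subgroup.map_subtype_le _)).symm⟩
      by_cases hsr : s = r
      · subst hsr
        refine Q.not_dvd_index (hd.trans ((Subgroup.relIndex_dvd_of_le_left _ hQU).trans ?_))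
        exact ⟨_, (Subgroup.relIndex_mul_index hQσ).symm⟩
      obtain ⟨S₀, N₀, hN₀, hc⟩ := complement_sigmaCore hG hM (hrs.2.1) hrb
      haveI := hN₀
      set N := N₀.map (Cfsg.sigmaCore M).subtype with hN
      have hσN : Cfsg.sigmaCore M ≤ Subgroup.normalizer (N : Set G) := by
        rw [← Subgroup.normal_subgroupOf_iff_le_normalizer (Subgroup.map_subtype_le _), Subgroup.subgroupOf,
          Subgroup.comap_map_eq_self_of_injective (Cfsg.sigmaCore M).subtype_injective]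
        exact hN₀
      have hcop : (Nat.card (Q : Subgroup G)).Coprime (Nat.card N) := by
        obtain ⟨n, hn⟩ := Q.isPGroup'.exists_card_eq
        rw [hn, hN, Subgroup.card_map_of_injective (Cfsg.sigmaCore M).subtype_injective, ← hc.index_eq_card]
        exact (PCore.coprime_of_not_dvd S₀.not_dvd_index).symm.pow_left n
      obtain ⟨T, hT⟩ := CoprimeAction.exists_invariant_sylow (p := s) (hQσ.trans hσN) hcop
        (Or.inl (haveI := Q.isPGroup'.isNilpotent; inferInstance))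
      set T' := (T : Subgroup N).map N.subtype with hT'
      have hT'σ : T' ≤ Cfsg.sigmaCore M := (Subgroup.map_subtype_le _).trans (Subgroup.map_subtype_le _)
      have hQC := le_centralizer_of_not_beta hG hM hss hsb (R := T') (Y := (Q : Subgroup G)) (T.isPGroup'.map _)
        (hT'σ.trans (Subgroup.map_subtype_le _)) (hQσ.trans (by
          rw [Cfsg.sigmaCore, ← Subgroup.map_subtype_commutator]
          exact Subgroup.map_mono (piCore_le_commutator hG hM subset_rfl)))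
        (card_coprime (p := s) (q := r) Q.isPGroup' (Ne.symm hsr)) hT
      have hT'U : T' ≤ U := ((Subgroup.le_centralizer_iff.1 hQC).trans
        ((Subgroup.centralizer_le_normalizer _).trans (le_inf hNQM hNQ))).trans le_sup_left
      have h1 := hd.trans (Subgroup.relIndex_dvd_of_le_left _ hT'U)
      rw [← Subgroup.relIndex_mul_relIndex T' N _ (Subgroup.map_subtype_le _) (Subgroup.map_subtype_le _)] at h1
      rcases hs.dvd_mul.1 h1 with h | h
      · rw [hT', Subgroup.relIndex, Subgroup.subgroupOf,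
          Subgroup.comap_map_eq_self_of_injective N.subtype_injective] at h
        exact T.not_dvd_index h
      · rw [hN, Subgroup.relIndex, Subgroup.subgroupOf,
          Subgroup.comap_map_eq_self_of_injective (Cfsg.sigmaCore M).subtype_injective, hc.symm.index_eq_card] at h
        obtain ⟨n, hn⟩ := S₀.isPGroup'.exists_card_eq
        rw [hn] at h
        exact hsr ((Nat.prime_dvd_prime_iff_eq hs hr).1 (hs.dvd_of_dvd_pow h))
    have hMU : M ≤ U := by
      intro m hm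
      have hle : ((m • Q : Sylow r G) : Subgroup G) ≤ Cfsg.sigmaCore M :=
        (Subgroup.map_mono hQσ).trans (map_conj_eq_of_normalizer (le_normalizer_sigmaCore M hm)).le
      obtain ⟨c, hc, hce⟩ := exists_conj_sylow ((m • Q).subtype hle) (Q.subtype hQσ)
      rw [Sylow.coe_subtype, Sylow.coe_subtype, Subgroup.map_subgroupOf_eq_of_le hle,
        Subgroup.map_subgroupOf_eq_of_le hQσ] at hce
      have hcm : c * m ∈ Subgroup.normalizer ((Q : Subgroup G) : Set G) := by
        rw [Subgroup.mem_normalizer_iff_map_conj_eq]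
        show (Q : Subgroup G).map (MulAut.conj (c * m)).toMonoidHom = Q
        rw [← map_conj_map]
        exact hce
      have h2 : c * m ∈ U := Subgroup.mem_sup_left ⟨hNQM hcm, hNQ hcm⟩
      simpa using U.mul_mem (U.inv_mem (hσU hc)) h2
    have hKL : ¬ K ≤ L := fun h => hLM (eq_of_coatom_le hL hM ((hMU.trans (sup_le inf_le_right h)))).symm
    have hZK : ¬ Z ≤ Subgroup.centralizer (K : Set G) := fun h =>
      hKL ((Subgroup.le_centralizer_iff.1 h).trans hCL)
    obtain ⟨A₀, hA₀A, hA₀c, hA₀N, -⟩ := exists_unique_line hG hM hps hAM hA hAc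
    have hg2 : g ^ 2 ∈ Subgroup.normalizer (A : Set G) := pow_mem hgA 2
    have hg2M : g ^ 2 ∉ M := fun h => hgM (mem_of_sq_mem hG h)
    have hline : ∀ y ∈ Subgroup.normalizer (A : Set G), A₀.map (MulAut.conj y).toMonoidHom ≤ A := fun y hy =>
      (Subgroup.map_mono hA₀A).trans (map_conj_eq_of_normalizer hy).le
    have hcent : ∀ y ∈ Subgroup.normalizer (A : Set G), y ∉ M →
        A₀.map (MulAut.conj y).toMonoidHom ≤ Subgroup.centralizer (Z : Set G) := by
      intro y hy hyM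
      by_contra hC
      have hXA := hline y hy
      have h := commutator_le_centralizer_of_free (p := p) (q := r) (S := Z)
        (ne_two hG (hrd.trans (Subgroup.card_subgroup_dvd_card D))) hrp hZp
        ((card_map_conj A₀ y).trans hA₀c) (hXA.trans hAZ) ((hZR.trans hRM).trans hMK) ((hXA.trans hAM).trans hMK)
        (fun hd => hrb (hKhall.2.1 r hr hd))
        (fun hd => hps (alpha_subset_sigma hG hM (hKhall.2.1 p hp.out hd).1))
        (haveI := isSolvable_of_ne_top hG hM.1;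
          Group.isSolvable_of_isSolvable_injective (Subgroup.inclusion_injective hKhall.1))
        (le_bot_iff.1 ((inf_le_inf_left K (centralizer_conj_le hA₀N y)).trans
          (betaCore_inf_conj_eq_bot hG hM hyM).le))
      rw [commutator_eq_self_of_prime (A := A₀.map (MulAut.conj y).toMonoidHom) (by rw [hZc]; exact hr)
        (hXA.trans hAZ) (fun h' => hC (Subgroup.le_centralizer_iff.1 h'))] at h
      exact hZK h
    have hneq : A₀.map (MulAut.conj g).toMonoidHom ≠ A₀.map (MulAut.conj (g ^ 2)).toMonoidHom := fun h => by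
      have h' := congrArg (Subgroup.map (MulAut.conj g⁻¹).toMonoidHom) h
      rw [map_conj_map, map_conj_map, inv_mul_cancel, map_conj_one, pow_two, inv_mul_cancel_left] at h'
      exact hgM (hA₀N (Subgroup.mem_normalizer_iff_map_conj_eq.2 h'.symm))
    have hsup := sup_lines_eq hA hAc (hline g hgA) (hline _ hg2) ((card_map_conj A₀ g).trans hA₀c)
      ((card_map_conj A₀ _).trans hA₀c) hneq
    exact hnC (Subgroup.le_centralizer_iff.1
      (hsup.ge.trans (sup_le (hcent g hgA hgM) (hcent _ hg2 hg2M))))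
  · -- `r ∉ σ(L)`: the invariant Sylow subgroups of `L` lie in `M ∩ M₁`
    obtain ⟨P₁, hZP₁, hP₁M, hNP₁, hAP₁⟩ := exists_invariant_sigma_sylow hG hM₁c hps₁ hAM₁ hA hAc hrs₁ hZp
      (hZR.trans (hRD.trans inf_le_right)) hAZ
    obtain ⟨T₁, T₂, hT₁, hT₂, hT₁L, hT₂L, hR'T₁, hR''T₂, -, c, hc, hce⟩ := exists_conj_invariant hG hL hpsL
      hAL hA hAc hpr hR'p hR'L hAR' (P₁.isPGroup'.to_le inf_le_left)
      ((inf_le_right : (P₁ : Subgroup G) ⊓ Subgroup.centralizer (Z : Set G) ≤ _).trans hCL)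
      ((le_inf hAP₁ hAC).trans Subgroup.inf_normalizer_le_normalizer_inf)
    have hT₁C : T₁ ≤ Subgroup.centralizer (R' : Set G) := fun x hx => Subgroup.mem_centralizer_iff.2 fun y hy =>
      commute_of_not_sigma hG hL hrL hT₁ hT₁L y (hR'T₁ hy) x hx
    have hT₂C : T₂ ≤ M₁ := by
      refine le_trans ?_ (centralizer_fixed_le hG hM₁c P₁ hP₁M hNP₁ hZc hZP₁)
      exact fun x hx => Subgroup.mem_centralizer_iff.2 fun y hy =>
        commute_of_not_sigma hG hL hrL hT₂ hT₂L y (hR''T₂ hy) x hx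
    have hcM₁ : c ∈ M₁ := centralizer_le_maximal hG hM₁c hAM₁ hA hAc hc
    have hT₁M₁ : T₁ ≤ M₁ := by
      intro x hx
      have h1 : c * x * c⁻¹ ∈ M₁ := hT₂C (hce.le ⟨x, hx, rfl⟩)
      simpa [mul_assoc] using M₁.mul_mem (M₁.mul_mem (M₁.inv_mem hcM₁) h1) hcM₁
    exact hgM (mem_of_le_conj hG hM hrs hT₁ (fun e => hZ1 (le_bot_iff.1 (hZR'.trans (hR'T₁.trans e.le))))
      (hT₁C.trans hCR') ((Subgroup.centralizer_le hR'T₁).trans hCR') hT₁M₁)

/-- B&G 12.5 (f). -/
theorem exists_free_line (hG : Cfsg.IsMinSimpleOddOrder G) (hM : IsCoatom M) (hps : p ∉ Cfsg.sigma M)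
    (hAM : A ≤ M) (hA : Cfsg.IsElementaryAbelian p A) (hAc : Nat.card A = p ^ 2) :
    ∃ A₁ : Subgroup G, A₁ ≤ A ∧ Nat.card A₁ = p ∧
      Cfsg.sigmaCore M ⊓ Subgroup.centralizer (A₁ : Set G) = ⊥ := by
  obtain ⟨A₀, hA₀A, hA₀c, hA₀N, -⟩ := exists_unique_line hG hM hps hAM hA hAc
  obtain ⟨g, hg, hgM⟩ := exists_normalizer_not_mem hG hM hps hAM hA hAc
  exact ⟨A₀.map (MulAut.conj g).toMonoidHom, (Subgroup.map_mono hA₀A).trans (map_conj_eq_of_normalizer hg).le,
    (card_map_conj A₀ g).trans hA₀c, le_bot_iff.1 ((inf_le_inf_left _ (centralizer_conj_le hA₀N g)).trans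
      (sigmaCore_inf_conj_eq_bot hG hM hps hAM hA hAc hg hgM).le)⟩

/-- B&G 12.5 (a). -/
theorem sigmaCore_nilpotent (hG : Cfsg.IsMinSimpleOddOrder G) (hM : IsCoatom M) (hps : p ∉ Cfsg.sigma M)
    (hAM : A ≤ M) (hA : Cfsg.IsElementaryAbelian p A) (hAc : Nat.card A = p ^ 2) :
    Group.IsNilpotent (Cfsg.sigmaCore M) := by
  obtain ⟨A₁, hA₁A, hA₁c, hfree⟩ := exists_free_line hG hM hps hAM hA hAc
  obtain ⟨a, ha, ha1⟩ := (Subgroup.bot_or_exists_ne_one A₁).resolve_left fun h => by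
    rw [h, Subgroup.card_bot] at hA₁c
    exact hp.out.one_lt.ne hA₁c
  have hz : Subgroup.zpowers a = A₁ := Subgroup.eq_of_le_of_card_ge (Subgroup.zpowers_le.2 ha)
    (le_of_eq (by rw [hA₁c, Nat.card_zpowers, orderOf_eq_prime (hA.2 a (hA₁A ha)) ha1]))
  have haN : a ∈ Subgroup.normalizer (Cfsg.sigmaCore M : Set G) := le_normalizer_sigmaCore M (hAM (hA₁A ha))
  refine ZJ.isNilpotent_of_fixedPointFree hp.out
    (α := (Cfsg.sigmaCore M).normalizerMonoidHom ⟨a, haN⟩) (fun x hx => ?_) ?_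
  · have hxe : a * (x : G) * a⁻¹ = x := congrArg Subtype.val hx
    have hxC : (x : G) ∈ Cfsg.sigmaCore M ⊓ Subgroup.centralizer (A₁ : Set G) := ⟨x.2, by
      rw [← hz, centralizer_zpowers]
      exact Subgroup.mem_centralizer_singleton_iff.2 (mul_inv_eq_iff_eq_mul.1 hxe).symm⟩
    rw [hfree, Subgroup.mem_bot] at hxC
    exact Subtype.ext hxC
  · rw [← map_pow, show (⟨a, haN⟩ : Subgroup.normalizer (Cfsg.sigmaCore M : Set G)) ^ p = 1 from
      Subtype.ext (hA.2 a (hA₁A ha)), map_one]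

end CfsgLib.SigmaGroups
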